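import Cfsg.Agent.Lib.Blocks.PrincipalSum
import Cfsg.Agent.Lib.Transfer.Fusion
import Cfsg.Agent.Lib.Basic.Core

/-!
# The principal 2-block of a group with Klein four Sylow 2-subgroups and one class of involutions
-/

set_option autoImplicit false
set_option linter.unusedSectionVars false

namespace Cfsg.Agent.Lib.Blocks

open Cfsg Cfsg.Agent.Lib.Char
open scoped ComplexConjugate

universe u

section Complement

/-- From a normal complement to the index of the core. -/
theorem index_pPrimeCore_of_hasNormalPComplement {H : Type u} [Group H] [Finite H] {p : ℕ} [hp : Fact p.Prime]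
    (h : HasNormalPComplement p H) : ∃ k : ℕ, (pPrimeCore p H).index = p ^ k := by
  obtain ⟨P, N, hN, hc⟩ := h
  have h1 : N.index = Nat.card P := hc.symm.index_eq_card
  have h2 : Nat.card N = (P : Subgroup H).index := hc.index_eq_card.symm
  have hcop : (Nat.card N).Coprime p := by
    rw [h2]
    exact Nat.Coprime.symm ((Nat.Prime.coprime_iff_not_dvd hp.out).mpr P.not_dvd_index)
  have hle := Cfsg.Agent.Lib.Basic.le_pPrimeCore hN hcop
  have h3 : (pPrimeCore p H).index ∣ N.index := Subgroup.index_dvd_of_le hle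
  obtain ⟨m, hm⟩ := IsPGroup.iff_card.mp P.isPGroup'
  rw [h1, hm] at h3
  obtain ⟨k, -, hk⟩ := (Nat.dvd_prime_pow hp.out).mp h3
  exact ⟨k, hk⟩

end Complement

section KleinGroup

/-- Burnside's criterion applies when a central involution lies in a Klein four Sylow 2-subgroup. -/
theorem normalizer_le_centralizer_klein {H : Type u} [Group H] [Finite H] (Q : Sylow 2 H)
    (hsq : ∀ x ∈ (Q : Subgroup H), x ^ 2 = 1) (hcomm : ∀ x ∈ (Q : Subgroup H), ∀ y ∈ (Q : Subgroup H), x * y = y * x)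
    (hcard : Nat.card (Q : Subgroup H) = 4) {u : H} (huQ : u ∈ (Q : Subgroup H)) (hu1 : u ≠ 1)
    (huZ : ∀ h : H, h * u = u * h) :
    Subgroup.normalizer ((Q : Subgroup H) : Set H) ≤ Subgroup.centralizer ((Q : Subgroup H) : Set H) := by
  classical
  letI : Fintype H := Fintype.ofFinite H
  intro h hh
  rw [Subgroup.mem_centralizer_iff]
  intro t ht
  by_cases ht1 : t = 1
  · rw [ht1, one_mul, mul_one]
  by_cases htu : t = u
  · rw [htu]
    exact (huZ h).symm
  have htQ : t ∈ (Q : Subgroup H) := ht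
  -- the four elements
  have hmem : ∀ c ∈ (Q : Subgroup H), c = 1 ∨ c = u ∨ c = t ∨ c = t * u := by
    letI : Fintype (Q : Subgroup H) := Fintype.ofFinite _
    let A : Finset (Q : Subgroup H) := {1, ⟨u, huQ⟩, ⟨t, htQ⟩, ⟨t * u, (Q : Subgroup H).mul_mem htQ huQ⟩}
    have hne1 : (1 : (Q : Subgroup H)) ≠ ⟨u, huQ⟩ := fun e => hu1 (congrArg Subtype.val e).symm
    have hne2 : (1 : (Q : Subgroup H)) ≠ ⟨t, htQ⟩ := fun e => ht1 (congrArg Subtype.val e).symm
    have hne3 : (1 : (Q : Subgroup H)) ≠ ⟨t * u, (Q : Subgroup H).mul_mem htQ huQ⟩ := by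
      intro e
      have e' : (1 : H) = t * u := congrArg Subtype.val e
      apply htu
      have h2 := hsq u huQ
      calc t = t * (u * u) * u⁻¹ * u := by rw [show u * u = u ^ 2 by rw [pow_two], h2]; group
        _ = (t * u) * u * u⁻¹ * u := by group
        _ = u := by rw [← e']; group
    have hne4 : (⟨u, huQ⟩ : (Q : Subgroup H)) ≠ ⟨t, htQ⟩ := fun e => htu (congrArg Subtype.val e).symm
    have hne5 : (⟨u, huQ⟩ : (Q : Subgroup H)) ≠ ⟨t * u, (Q : Subgroup H).mul_mem htQ huQ⟩ := by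
      intro e
      have e' : u = t * u := congrArg Subtype.val e
      exact ht1 (by simpa using e'.symm)
    have hne6 : (⟨t, htQ⟩ : (Q : Subgroup H)) ≠ ⟨t * u, (Q : Subgroup H).mul_mem htQ huQ⟩ := by
      intro e
      have e' : t = t * u := congrArg Subtype.val e
      exact hu1 (by simpa using e'.symm)
    have hAcard : A.card = 4 := by
      simp only [A]
      rw [Finset.card_insert_of_notMem, Finset.card_insert_of_notMem, Finset.card_insert_of_notMem,
        Finset.card_singleton]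
      · simpa using hne6
      · simp only [Finset.mem_insert, Finset.mem_singleton, not_or]
        exact ⟨hne4, hne5⟩
      · simp only [Finset.mem_insert, Finset.mem_singleton, not_or]
        exact ⟨hne1, hne2, hne3⟩
    have hA : A = Finset.univ := by
      apply Finset.eq_univ_of_card
      rw [hAcard, ← hcard, Nat.card_eq_fintype_card]
    intro c hc
    have h1 : (⟨c, hc⟩ : (Q : Subgroup H)) ∈ A := by
      rw [hA]
      exact Finset.mem_univ _
    simp only [A, Finset.mem_insert, Finset.mem_singleton] at h1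
    rcases h1 with h1 | h1 | h1 | h1
    · exact Or.inl (congrArg Subtype.val h1)
    · exact Or.inr (Or.inl (congrArg Subtype.val h1))
    · exact Or.inr (Or.inr (Or.inl (congrArg Subtype.val h1)))
    · exact Or.inr (Or.inr (Or.inr (congrArg Subtype.val h1)))
  have hc : h * t * h⁻¹ ∈ (Q : Subgroup H) := (Subgroup.mem_normalizer_iff.mp hh t).mp htQ
  have huconj : h * u * h⁻¹ = u := by rw [huZ]; group
  -- `h ^ 2` commutes with `t`
  have hsq2 : (h * h) * t * (h * h)⁻¹ = t := by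
    rcases hmem _ hc with h1 | h1 | h1 | h1
    · exfalso
      apply ht1
      have : t = h⁻¹ * (h * t * h⁻¹) * h := by group
      rw [this, h1]
      group
    · exfalso
      apply htu
      have h2 : t = h⁻¹ * (h * t * h⁻¹) * h := by group
      rw [h2, h1, huZ h⁻¹]
      group
    · calc (h * h) * t * (h * h)⁻¹ = h * (h * t * h⁻¹) * h⁻¹ := by group
        _ = t := by rw [h1, h1]
    · calc (h * h) * t * (h * h)⁻¹ = h * (h * t * h⁻¹) * h⁻¹ := by group
        _ = h * (t * u) * h⁻¹ := by rw [h1]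
        _ = (h * t * h⁻¹) * (h * u * h⁻¹) := by group
        _ = t * u * u := by rw [h1, huconj]
        _ = t * (u * u) := by group
        _ = t := by rw [show u * u = u ^ 2 by rw [pow_two], hsq u huQ, mul_one]
  -- the `2`-part of `h` lies in `Q`
  obtain ⟨s, r, hr, hord⟩ := Nat.exists_eq_two_pow_mul_odd (orderOf_pos h).ne'
  have h1 : (h ^ r) ^ (2 ^ s) = 1 := by
    rw [← pow_mul, mul_comm, ← hord, pow_orderOf_eq_one]
  obtain ⟨k, -, hk⟩ := (Nat.dvd_prime_pow Nat.prime_two).mp (orderOf_dvd_of_pow_eq_one h1)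
  have h2 : IsPGroup 2 (Subgroup.zpowers (h ^ r)) := isPGroup_zpowers ⟨k, hk⟩
  have h3 : h ^ r ∈ Subgroup.normalizer ((Q : Subgroup H) : Set H) := Subgroup.pow_mem _ hh r
  have h4 : h ^ r ∈ (Q : Subgroup H) := by
    have h5 := IsPGroup.inf_normalizer_sylow h2 Q
    have h6 : h ^ r ∈ Subgroup.zpowers (h ^ r) ⊓ (Q : Subgroup H) := h5.le ⟨Subgroup.mem_zpowers _, h3⟩
    exact h6.2
  have h5 : h ^ r * t = t * h ^ r := hcomm _ h4 _ htQ
  obtain ⟨n, hn⟩ := hr
  have h6 : Commute (h * h) t := by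
    have : (h * h) * t * (h * h)⁻¹ = t := hsq2
    show (h * h) * t = t * (h * h)
    calc (h * h) * t = ((h * h) * t * (h * h)⁻¹) * (h * h) := by group
      _ = t * (h * h) := by rw [this]
  have h7 : Commute ((h * h) ^ n) t := h6.pow_left n
  have h8 : h ^ r = (h * h) ^ n * h := by
    rw [hn, pow_succ, pow_mul, pow_two]
  rw [h8] at h5
  have h9 : (h * h) ^ n * (h * t) = (h * h) ^ n * (t * h) := by
    calc (h * h) ^ n * (h * t) = (h * h) ^ n * h * t := by group
      _ = t * ((h * h) ^ n * h) := h5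
      _ = (t * (h * h) ^ n) * h := by group
      _ = ((h * h) ^ n * t) * h := by rw [h7.eq]
      _ = (h * h) ^ n * (t * h) := by group
  exact (mul_left_cancel h9).symm

variable {G : Type u} [Group G] [Finite G]

/-- Properties of the Sylow 2-subgroups. -/
theorem sylow_klein_props (P : Sylow 2 G) (hP : IsKleinFour (P : Subgroup G)) (P' : Sylow 2 G) :
    (∀ x ∈ (P' : Subgroup G), x ^ 2 = 1) ∧
      (∀ x ∈ (P' : Subgroup G), ∀ y ∈ (P' : Subgroup G), x * y = y * x) ∧ Nat.card (P' : Subgroup G) = 4 := by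
  have hexp : ∀ x ∈ (P : Subgroup G), x ^ 2 = 1 := by
    intro x hx
    have h1 := Monoid.pow_exponent_eq_one (⟨x, hx⟩ : (P : Subgroup G))
    rw [IsKleinFour.exponent_two] at h1
    simpa using congrArg Subtype.val h1
  have hcomm0 : ∀ x ∈ (P : Subgroup G), ∀ y ∈ (P : Subgroup G), x * y = y * x := by
    intro x hx y hy
    have h1 : IsMulCommutative (P : Subgroup G) := IsKleinFour.isMulCommutative
    have h2 := h1.is_comm.comm ⟨x, hx⟩ ⟨y, hy⟩
    exact congrArg Subtype.val h2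
  obtain ⟨g, rfl⟩ := MulAction.exists_smul_eq G P P'
  have hmem : ∀ x ∈ ((g • P : Sylow 2 G) : Subgroup G), ∃ x₀ ∈ (P : Subgroup G), x = g * x₀ * g⁻¹ := by
    intro x hx
    rw [Sylow.coe_subgroup_smul, Subgroup.mem_smul_pointwise_iff_exists] at hx
    obtain ⟨x₀, hx₀, rfl⟩ := hx
    exact ⟨x₀, hx₀, rfl⟩
  refine ⟨?_, ?_, ?_⟩
  · intro x hx
    obtain ⟨x₀, hx₀, rfl⟩ := hmem x hx
    rw [conj_pow, hexp x₀ hx₀]
    group
  · intro x hx y hy
    obtain ⟨x₀, hx₀, rfl⟩ := hmem x hx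
    obtain ⟨y₀, hy₀, rfl⟩ := hmem y hy
    calc g * x₀ * g⁻¹ * (g * y₀ * g⁻¹) = g * (x₀ * y₀) * g⁻¹ := by group
      _ = g * (y₀ * x₀) * g⁻¹ := by rw [hcomm0 x₀ hx₀ y₀ hy₀]
      _ = g * y₀ * g⁻¹ * (g * x₀ * g⁻¹) := by group
  · have h1 : Nat.card ((g • P : Sylow 2 G) : Subgroup G) = Nat.card (P : Subgroup G) := by
      rw [Sylow.card_eq_multiplicity, Sylow.card_eq_multiplicity]
    rw [h1]
    exact IsKleinFour.card_four

/-- In such a group, `2`-elements square to one. -/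
theorem pow_two_eq_one_of_two_element (P : Sylow 2 G) (hP : IsKleinFour (P : Subgroup G)) {g : G} {k : ℕ}
    (hg : orderOf g = 2 ^ k) : g ^ 2 = 1 := by
  letI : Fintype G := Fintype.ofFinite G
  obtain ⟨S, hS⟩ := IsPGroup.exists_le_sylow (isPGroup_zpowers (p := 2) ⟨k, hg⟩)
  exact (sylow_klein_props P hP S).1 g (hS (Subgroup.mem_zpowers g))

/-- The centralizer of an involution has a normal `2`-complement. -/
theorem exists_index_core_centralizer (P : Sylow 2 G) (hP : IsKleinFour (P : Subgroup G)) {u : G}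
    (hu : orderOf u = 2) :
    (∃ k : ℕ, (pPrimeCore 2 (Subgroup.centralizer ({u} : Set G))).index = 2 ^ k) ∧
      ∃ Q : Sylow 2 (Subgroup.centralizer ({u} : Set G)),
        Nat.card (Q : Subgroup (Subgroup.centralizer ({u} : Set G))) = 4 := by
  letI : Fintype G := Fintype.ofFinite G
  have hu1 : orderOf u = 2 ^ 1 := by simpa using hu
  obtain ⟨S, hS⟩ := IsPGroup.exists_le_sylow (isPGroup_zpowers (p := 2) ⟨1, hu1⟩)
  have huS : u ∈ (S : Subgroup G) := hS (Subgroup.mem_zpowers u)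
  obtain ⟨hsq, hcomm, hcard⟩ := sylow_klein_props P hP S
  have hle : (S : Subgroup G) ≤ Subgroup.centralizer ({u} : Set G) := by
    intro x hx
    exact mem_centralizer_singleton_of_commute (hcomm x hx u huS)
  let Q : Sylow 2 (Subgroup.centralizer ({u} : Set G)) := S.subtype hle
  have hQmem : ∀ x : Subgroup.centralizer ({u} : Set G), x ∈ (Q : Subgroup (Subgroup.centralizer ({u} : Set G))) ↔ (x : G) ∈ (S : Subgroup G) := by
    intro x
    simp only [Q, Sylow.coe_subtype]
    exact Subgroup.mem_subgroupOf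
  have hQcard : Nat.card (Q : Subgroup (Subgroup.centralizer ({u} : Set G))) = 4 := by
    rw [← hcard]
    refine Nat.card_congr ⟨fun x => ⟨(x.1 : G), (hQmem _).mp x.2⟩, fun x => ⟨⟨x.1, hle x.2⟩, (hQmem _).mpr x.2⟩, ?_, ?_⟩
    · intro x; rfl
    · intro x; rfl
  refine ⟨?_, Q, hQcard⟩
  apply index_pPrimeCore_of_hasNormalPComplement
  refine Cfsg.Agent.Lib.Transfer.hasNormalPComplement_of_normalizer_le Q ?_
  refine normalizer_le_centralizer_klein Q ?_ ?_ hQcard (u := ⟨u, mem_centralizer_singleton_of_commute (Commute.refl u)⟩) ?_ ?_ ?_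
  · intro x hx
    apply Subtype.ext
    simpa using hsq _ ((hQmem x).mp hx)
  · intro x hx y hy
    apply Subtype.ext
    exact hcomm _ ((hQmem x).mp hx) _ ((hQmem y).mp hy)
  · exact (hQmem _).mpr huS
  · intro h
    have : u = 1 := congrArg Subtype.val h
    rw [this, orderOf_one] at hu
    omega
  · intro h
    apply Subtype.ext
    exact commute_of_mem_centralizer_singleton h.2

end KleinGroup

section Main

variable {G : Type u} [Group G] [Fintype G] {M : Ideal AlgInt}

/-- The multiplicity of the principal character in the restriction to a subgroup with one class of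
nonidentity elements. -/
theorem exists_nat_of_subgroup_conj (χ : IrrCharacter G) (A : Subgroup G) {z : G}
    (hA : ∀ x ∈ A, x ≠ 1 → IsConj x z) :
    ∃ n : ℕ, (χ : G → ℂ) 1 + ((Nat.card A : ℂ) - 1) * (χ : G → ℂ) z = (Nat.card A : ℂ) * n := by
  classical
  letI : Fintype A := Fintype.ofFinite A
  have hres : IsCharacter A (fun a : A => (χ : G → ℂ) a) := isCharacter_resFun A (irr_isCharacter χ)
  obtain ⟨n, hn⟩ := IsCharacter.classInner_nat hres (IsIrrCharacter.isCharacter isIrrCharacter_one)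
  refine ⟨n, ?_⟩
  have hA0 : (Nat.card A : ℂ) ≠ 0 := by exact_mod_cast Nat.card_pos.ne'
  rw [← hn, classInner, ← mul_assoc, mul_inv_cancel₀ hA0, one_mul]
  simp only [map_one, mul_one]
  rw [← Finset.add_sum_erase _ _ (Finset.mem_univ (1 : A))]
  congr 1
  have h1 : ∀ a ∈ (Finset.univ : Finset A).erase 1, (χ : G → ℂ) a = (χ : G → ℂ) z := by
    intro a ha
    have ha1 : a ≠ 1 := (Finset.mem_erase.mp ha).1
    have h2 : IsConj (a : G) z := hA a a.2 (fun h => ha1 (Subtype.ext h))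
    obtain ⟨c, hc⟩ := isConj_iff.mp h2
    rw [← hc, irr_isClassFunction χ _ c]
  rw [Finset.sum_congr rfl h1, Finset.sum_const, Finset.card_erase_of_mem (Finset.mem_univ _), Finset.card_univ,
    nsmul_eq_mul, Nat.card_eq_fintype_card]
  have h3 : 1 ≤ Fintype.card A := Fintype.card_pos
  push_cast [h3]
  ring

/-- The main theorem. -/
theorem klein_principal_block (hM : IsPModular 2 M) (P : Sylow 2 G) (hP : IsKleinFour (P : Subgroup G))
    (hone : ∀ s t : G, orderOf s = 2 → orderOf t = 2 → IsConj s t) :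
    ∃ ζ₂ ζ₃ ζ₄ : IrrCharacter G, ∃ ε : ℤ, (ε = 1 ∨ ε = -1) ∧ (ζ₂ : G → ℂ) ≠ (fun _ => 1) ∧
      (ζ₃ : G → ℂ) ≠ (fun _ => 1) ∧ ζ₂ ≠ ζ₃ ∧ ζ₂ ≠ ζ₄ ∧ ζ₃ ≠ ζ₄ ∧
      principalBlock M G = {χ : IrrCharacter G | (χ : G → ℂ) = (fun _ => 1) ∨ χ = ζ₂ ∨ χ = ζ₃ ∨ χ = ζ₄} ∧
      (∀ z : G, orderOf z = 2 → (ζ₂ : G → ℂ) z = 1 ∧ (ζ₃ : G → ℂ) z = (ε : ℂ) ∧ (ζ₄ : G → ℂ) z = -1) ∧
      (4 : ℤ) ∣ (charDegree (ζ₂ : G → ℂ) : ℤ) - 1 ∧ (4 : ℤ) ∣ (charDegree (ζ₃ : G → ℂ) : ℤ) - ε ∧
      (4 : ℤ) ∣ (charDegree (ζ₄ : G → ℂ) : ℤ) + 1 ∧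
      ∀ y : G, Odd (orderOf y) → 1 + (ζ₂ : G → ℂ) y + (ε : ℂ) * (ζ₃ : G → ℂ) y - (ζ₄ : G → ℂ) y = 0 := by
  classical
  have := isPrime_of_modular hM
  -- an involution
  have hPcard : Nat.card (P : Subgroup G) = 4 := IsKleinFour.card_four
  obtain ⟨hsq, hcomm, -⟩ := sylow_klein_props P hP P
  obtain ⟨x₀, hx₀⟩ : ∃ x : (P : Subgroup G), x ≠ 1 := by
    have : Nontrivial (P : Subgroup G) := by
      rw [← Finite.one_lt_card_iff_nontrivial, hPcard]
      norm_num
    exact exists_ne 1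
  set z : G := (x₀ : G) with hzdef
  have hz1 : z ≠ 1 := fun h => hx₀ (Subtype.ext h)
  have hz2 : z ^ 2 = 1 := hsq _ x₀.2
  have hzord : orderOf z = 2 := orderOf_eq_prime hz2 hz1
  have hzord' : ∃ k, orderOf z = 2 ^ k := ⟨1, by simpa using hzord⟩
  -- all nonidentity `2`-elements are conjugate to `z`
  have hconj : ∀ g : G, (∃ k, orderOf g = 2 ^ k) → g ≠ 1 → IsConj g z := by
    rintro g ⟨k, hk⟩ hg
    exact hone g z (orderOf_eq_prime (pow_two_eq_one_of_two_element P hP hk) hg) hzord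
  have hval_conj : ∀ (χ : IrrCharacter G) (g : G), IsConj g z → (χ : G → ℂ) g = (χ : G → ℂ) z := by
    intro χ g hg
    obtain ⟨c, hc⟩ := isConj_iff.mp hg
    rw [← hc, irr_isClassFunction χ _ c]
  -- integrality
  have hint : ∀ χ : IrrCharacter G, ∃ a : ℤ, (χ : G → ℂ) z = a := by
    intro χ
    have hA : ∀ x ∈ Subgroup.zpowers z, x ≠ 1 → IsConj x z := by
      intro x hx hx1
      obtain ⟨k, rfl⟩ := Subgroup.mem_zpowers_iff.mp hx
      have h1 : (z ^ k) ^ 2 = 1 := by
        rw [← zpow_natCast, ← zpow_mul, mul_comm, zpow_mul, zpow_natCast, hz2, one_zpow]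
      exact hone _ _ (orderOf_eq_prime h1 hx1) hzord
    obtain ⟨n, hn⟩ := exists_nat_of_subgroup_conj χ _ hA
    rw [Nat.card_zpowers, hzord, apply_one_eq_charDegree (irr_isCharacter χ)] at hn
    refine ⟨2 * n - charDegree (χ : G → ℂ), ?_⟩
    push_cast at hn ⊢
    linear_combination hn
  choose a ha using hint
  have hdeg : ∀ χ : IrrCharacter G, (χ : G → ℂ) 1 = (charDegree (χ : G → ℂ) : ℂ) :=
    fun χ => apply_one_eq_charDegree (irr_isCharacter χ)
  -- the congruence modulo `4`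
  have hcong : ∀ χ : IrrCharacter G, (4 : ℤ) ∣ (charDegree (χ : G → ℂ) : ℤ) - a χ := by
    intro χ
    have hA : ∀ x ∈ (P : Subgroup G), x ≠ 1 → IsConj x z := by
      intro x hx hx1
      exact hone _ _ (orderOf_eq_prime (hsq x hx) hx1) hzord
    obtain ⟨n, hn⟩ := exists_nat_of_subgroup_conj χ _ hA
    rw [hPcard, hdeg, ha] at hn
    have h1 : (charDegree (χ : G → ℂ) : ℤ) + 3 * a χ = 4 * n := by
      have h2 : (((charDegree (χ : G → ℂ) : ℤ) + 3 * a χ : ℤ) : ℂ) = ((4 * n : ℤ) : ℂ) := by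
        push_cast at hn ⊢
        linear_combination hn
      exact Int.cast_injective h2
    exact ⟨n - a χ, by linarith⟩
  -- the principal block
  let one : IrrCharacter G := oneIrr G
  have hPB : IsPBlock M (principalBlock M G) := ⟨one, rfl⟩
  have hone_mem : one ∈ principalBlock M G := self_mem_blockOf one
  have hone_val : ∀ g, (one : G → ℂ) g = 1 := fun _ => rfl
  have haone : a one = 1 := by
    have h1 := ha one
    rw [hone_val] at h1
    exact_mod_cast h1.symm
  have hzsing : 2 ∣ orderOf z := by rw [hzord]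
  -- characters of the principal block are constant on singular elements
  have hsing : ∀ χ ∈ principalBlock M G, ∀ g : G, 2 ∣ orderOf g → (χ : G → ℂ) g = (χ : G → ℂ) z := by
    intro χ hχ g hg
    obtain ⟨α, hα⟩ := exists_isPExp G 2
    obtain ⟨y, huy, hc, ⟨k, hk⟩, hy⟩ := hα.isPPart g
    set u := g ^ α with hu
    have hu1 : u ≠ 1 := by
      intro h
      rw [h, one_mul] at huy
      rw [huy] at hy
      exact hy hg
    have huord : orderOf u = 2 := orderOf_eq_prime (pow_two_eq_one_of_two_element P hP hk) hu1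
    obtain ⟨⟨m, hm⟩, -⟩ := exists_index_core_centralizer P hP huord
    letI : Fintype (Subgroup.centralizer ({u} : Set G)) := Fintype.ofFinite _
    have hyC : y ∈ Subgroup.centralizer ({u} : Set G) := mem_centralizer_singleton_of_commute hc.symm
    have hyreg : ¬ 2 ∣ orderOf (⟨y, hyC⟩ : Subgroup.centralizer ({u} : Set G)) := by
      rwa [Subgroup.orderOf_mk]
    have hv : y ∈ centralizerPPrimeCore 2 u :=
      ⟨⟨y, hyC⟩, mem_of_regular_of_index hm hyreg, rfl⟩
    have h1 := principal_apply_mul_core hM ⟨k, hk⟩ hv hχ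
    rw [huy] at h1
    rw [h1]
    exact hval_conj χ u (hone u z huord hzord)
  let S : Finset (IrrCharacter G) := Finset.univ.filter (· ∈ principalBlock M G)
  have hSmem : ∀ χ, χ ∈ S ↔ χ ∈ principalBlock M G := by
    intro χ
    simp [S]
  have hfin : ∀ {β : Type} [AddCommMonoid β] (f : IrrCharacter G → β),
      ∑ᶠ χ ∈ principalBlock M G, f χ = ∑ χ ∈ S, f χ := by
    intro β _ f
    have h1 : principalBlock M G = ((S : Finset (IrrCharacter G)) : Set (IrrCharacter G)) := by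
      ext χ
      simp [S]
    conv_lhs => rw [h1]
    exact finsum_mem_coe_finset _ _
  -- the sum of squares
  have hsum4 : ∑ χ ∈ S, (a χ) ^ 2 = 4 := by
    obtain ⟨⟨k, hk⟩, Q, hQ⟩ := exists_index_core_centralizer P hP hzord
    letI : Fintype (Subgroup.centralizer ({z} : Set G)) := Fintype.ofFinite _
    have h1 := sum_principal_section_norm (p := 2) (M := M) hM hzord' (y := 1) (by simp)
    have hcop := Cfsg.Agent.Lib.Basic.pPrimeCore_coprime (G := Subgroup.centralizer ({z} : Set G)) 2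
    have hnd : ¬ 2 ∣ Nat.card (pPrimeCore 2 (Subgroup.centralizer ({z} : Set G))) := by
      intro h
      have := Nat.Coprime.eq_one_of_dvd hcop.symm h
      omega
    have h2 := sum_principal_norm_of_normal_complement (G := Subgroup.centralizer ({z} : Set G)) (p := 2) (M := M)
      hM hnd hk (y := 1) (by simp)
    have h3 : (2 : ℕ) ^ k = 4 := by
      have h4 := Subgroup.index_mul_card (pPrimeCore 2 (Subgroup.centralizer ({z} : Set G)))
      rw [hk] at h4
      have h5 : (Nat.card (Subgroup.centralizer ({z} : Set G))).factorization 2 = k := by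
        rw [← h4, Nat.factorization_mul (pow_ne_zero _ (by norm_num)) Nat.card_pos.ne',
          Nat.factorization_pow, Finsupp.add_apply, Finsupp.smul_apply, Nat.prime_two.factorization_self,
          Nat.factorization_eq_zero_of_not_dvd hnd]
        simp
      rw [← hQ, Sylow.card_eq_multiplicity, h5]
    rw [h3] at h2
    rw [h2] at h1
    simp only [OneMemClass.coe_one, mul_one] at h1
    rw [hfin] at h1
    have h4 : ∑ χ ∈ S, ((a χ : ℝ)) ^ 2 = 4 := by
      rw [← Nat.cast_ofNat (R := ℝ), ← h1]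
      refine Finset.sum_congr rfl fun χ _ => ?_
      rw [ha, Complex.norm_intCast, sq_abs]
    have h5 : ((∑ χ ∈ S, (a χ) ^ 2 : ℤ) : ℝ) = ((4 : ℤ) : ℝ) := by
      push_cast
      exact h4
    exact Int.cast_injective h5
  -- no zeros
  have hne : ∀ χ ∈ S, a χ ≠ 0 := by
    intro χ hχ h0
    have hχ' := (hSmem χ).mp hχ
    have hvan : ∀ y : G, 2 ∣ orderOf y → (χ : G → ℂ) y = 0 := by
      intro y hy
      rw [hsing χ hχ' y hy, ha, h0, Int.cast_zero]
    have h1 := pow_dvd_degree_of_vanish χ hvan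
    have h2 : ¬ 2 ∣ Nat.card G / charDegree (χ : G → ℂ) := by
      intro h3
      obtain ⟨m, hm⟩ := charDegree_dvd_card χ.2
      have hd0 : 0 < charDegree (χ : G → ℂ) := charDegree_pos χ.2
      rw [hm, Nat.mul_div_cancel_left _ hd0] at h3
      have h4 : 2 ^ ((Nat.card G).factorization 2 + 1) ∣ Nat.card G := by
        rw [pow_succ]
        calc _ ∣ charDegree (χ : G → ℂ) * m := Nat.mul_dvd_mul h1 h3
          _ = Nat.card G := hm.symm
      have h5 := (Nat.prime_two.pow_dvd_iff_le_factorization Nat.card_pos.ne').mp h4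
      omega
    have h3 := (not_dvd_iff_blockOf_singleton hM χ).mp h2
    have h4 := blockOf_eq_of_mem hPB hχ'
    rw [h3] at h4
    rw [h4] at hone_mem
    have h5 : one = χ := hone_mem
    rw [← h5, haone] at h0
    exact one_ne_zero h0
  have honeS : one ∈ S := (hSmem one).mpr hone_mem
  -- the other three
  let S' := S.erase one
  have hS'sum : ∑ χ ∈ S', (a χ) ^ 2 = 3 := by
    have h1 := Finset.add_sum_erase S (fun χ => (a χ) ^ 2) honeS
    simp only [haone] at h1
    have h2 : ∑ χ ∈ S', (a χ) ^ 2 = ∑ χ ∈ S.erase one, (a χ) ^ 2 := rfl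
    rw [h2]
    rw [hsum4] at h1
    linarith
  have hS'sq : ∀ χ ∈ S', (a χ) ^ 2 = 1 := by
    intro χ hχ
    have h1 : (a χ) ^ 2 ≤ ∑ χ ∈ S', (a χ) ^ 2 :=
      Finset.single_le_sum (f := fun χ => (a χ) ^ 2) (fun _ _ => sq_nonneg _) hχ
    rw [hS'sum] at h1
    have h2 := hne χ (Finset.mem_of_mem_erase hχ)
    have h3 : a χ ≤ 1 := by nlinarith
    have h4 : -1 ≤ a χ := by nlinarith
    have h5 : a χ = 1 ∨ a χ = -1 := by omega
    rcases h5 with h5 | h5 <;> rw [h5] <;> norm_num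
  have hS'card : S'.card = 3 := by
    have h1 : ∑ χ ∈ S', (a χ) ^ 2 = ∑ χ ∈ S', (1 : ℤ) := Finset.sum_congr rfl hS'sq
    rw [hS'sum, Finset.sum_const, nsmul_eq_mul, mul_one] at h1
    have h2 : ((S'.card : ℕ) : ℤ) = 3 := h1.symm
    exact_mod_cast h2
  have hS'val : ∀ χ ∈ S', a χ = 1 ∨ a χ = -1 := by
    intro χ hχ
    have h1 := hS'sq χ hχ
    have h3 : a χ ≤ 1 := by nlinarith
    have h4 : -1 ≤ a χ := by nlinarith
    have h2 := hne χ (Finset.mem_of_mem_erase hχ)
    omega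
  -- weak block orthogonality
  have hw : ∀ y : G, ¬ 2 ∣ orderOf y → ∑ χ ∈ S, (χ : G → ℂ) y * (a χ : ℂ) = 0 := by
    intro y hy
    have h1 := weak_block_orthogonality hM hPB hy hzsing
    rw [hfin] at h1
    rw [← h1]
    refine Finset.sum_congr rfl fun χ _ => ?_
    rw [ha, map_intCast]
  have hwd : ∑ χ ∈ S, (charDegree (χ : G → ℂ) : ℤ) * a χ = 0 := by
    have h1 := hw 1 (by simp)
    have h2 : ((∑ χ ∈ S, (charDegree (χ : G → ℂ) : ℤ) * a χ : ℤ) : ℂ) = ((0 : ℤ) : ℂ) := by
      push_cast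
      rw [← h1]
      refine Finset.sum_congr rfl fun χ _ => ?_
      rw [hdeg]
    exact Int.cast_injective h2
  have hone_deg : charDegree ((one : IrrCharacter G) : G → ℂ) = 1 := by
    have h1 := hdeg one
    rw [hone_val] at h1
    exact_mod_cast h1.symm
  have hwd' : 1 + ∑ χ ∈ S', (charDegree (χ : G → ℂ) : ℤ) * a χ = 0 := by
    have h1 := Finset.add_sum_erase S (fun χ => (charDegree (χ : G → ℂ) : ℤ) * a χ) honeS
    simp only [hone_deg, haone, Nat.cast_one, mul_one] at h1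
    rw [hwd] at h1
    exact h1
  have hdpos : ∀ χ : IrrCharacter G, (1 : ℤ) ≤ charDegree (χ : G → ℂ) := by
    intro χ
    exact_mod_cast charDegree_pos χ.2
  -- signs
  obtain ⟨ζ₄, hζ₄, h₄⟩ : ∃ χ ∈ S', a χ = -1 := by
    by_contra hcon
    push Not at hcon
    have h1 : ∀ χ ∈ S', a χ = 1 := fun χ hχ => (hS'val χ hχ).resolve_right (hcon χ hχ)
    have h2 : 0 ≤ ∑ χ ∈ S', (charDegree (χ : G → ℂ) : ℤ) * a χ := by
      refine Finset.sum_nonneg fun χ hχ => ?_
      rw [h1 χ hχ, mul_one]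
      exact Nat.cast_nonneg _
    omega
  obtain ⟨ζ₂, hζ₂, h₂⟩ : ∃ χ ∈ S', a χ = 1 := by
    by_contra hcon
    push Not at hcon
    have h1 : ∀ χ ∈ S', a χ = -1 := fun χ hχ => (hS'val χ hχ).resolve_left (hcon χ hχ)
    have h2 : ∑ χ ∈ S', (charDegree (χ : G → ℂ) : ℤ) * a χ ≤ ∑ χ ∈ S', (-1 : ℤ) := by
      refine Finset.sum_le_sum fun χ hχ => ?_
      rw [h1 χ hχ]
      have := hdpos χ
      linarith
    rw [Finset.sum_const, hS'card] at h2
    simp only [nsmul_eq_mul, Nat.cast_ofNat, mul_neg, mul_one] at h2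
    omega
  have h24 : ζ₂ ≠ ζ₄ := by
    intro h
    rw [h, h₄] at h₂
    norm_num at h₂
  obtain ⟨ζ₃, hζ₃⟩ : ∃ χ, (S'.erase ζ₂).erase ζ₄ = {χ} := by
    apply Finset.card_eq_one.mp
    rw [Finset.card_erase_of_mem (Finset.mem_erase.mpr ⟨h24.symm, hζ₄⟩), Finset.card_erase_of_mem hζ₂, hS'card]
  have hζ₃mem : ζ₃ ∈ (S'.erase ζ₂).erase ζ₄ := by
    rw [hζ₃]
    exact Finset.mem_singleton_self _
  have h34 : ζ₃ ≠ ζ₄ := (Finset.mem_erase.mp hζ₃mem).1
  have h23 : ζ₃ ≠ ζ₂ := (Finset.mem_erase.mp (Finset.mem_erase.mp hζ₃mem).2).1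
  have hζ₃S' : ζ₃ ∈ S' := (Finset.mem_erase.mp (Finset.mem_erase.mp hζ₃mem).2).2
  have hSeq : ∀ χ, χ ∈ S ↔ χ = one ∨ χ = ζ₂ ∨ χ = ζ₃ ∨ χ = ζ₄ := by
    intro χ
    constructor
    · intro hχ
      by_cases h1 : χ = one
      · exact Or.inl h1
      by_cases h2 : χ = ζ₂
      · exact Or.inr (Or.inl h2)
      by_cases h4 : χ = ζ₄
      · exact Or.inr (Or.inr (Or.inr h4))
      have h5 : χ ∈ (S'.erase ζ₂).erase ζ₄ :=
        Finset.mem_erase.mpr ⟨h4, Finset.mem_erase.mpr ⟨h2, Finset.mem_erase.mpr ⟨h1, hχ⟩⟩⟩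
      rw [hζ₃] at h5
      exact Or.inr (Or.inr (Or.inl (Finset.mem_singleton.mp h5)))
    · rintro (rfl | rfl | rfl | rfl)
      · exact honeS
      · exact Finset.mem_of_mem_erase hζ₂
      · exact Finset.mem_of_mem_erase hζ₃S'
      · exact Finset.mem_of_mem_erase hζ₄
  have hsumS : ∀ f : IrrCharacter G → ℂ, ∑ χ ∈ S, f χ = f one + f ζ₂ + f ζ₄ + f ζ₃ := by
    intro f
    rw [← Finset.add_sum_erase S f honeS, ← Finset.add_sum_erase (S.erase one) f hζ₂,
      ← Finset.add_sum_erase ((S.erase one).erase ζ₂) f (Finset.mem_erase.mpr ⟨h24.symm, hζ₄⟩)]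
    have : ((S.erase one).erase ζ₂).erase ζ₄ = {ζ₃} := hζ₃
    rw [this, Finset.sum_singleton]
    ring
  have hne_one : ∀ χ ∈ S', (χ : G → ℂ) ≠ fun _ => 1 := by
    intro χ hχ h
    exact (Finset.mem_erase.mp hχ).1 (Subtype.ext h)
  refine ⟨ζ₂, ζ₃, ζ₄, a ζ₃, hS'val ζ₃ hζ₃S', hne_one ζ₂ hζ₂, hne_one ζ₃ hζ₃S', h23.symm, h24, h34, ?_, ?_, ?_, ?_, ?_, ?_⟩
  · ext χ
    rw [← hSmem, hSeq]
    simp only [Set.mem_ofPred_eq]
    constructor
    · rintro (h | h)
      · left
        rw [h]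
        rfl
      · exact Or.inr h
    · rintro (h | h)
      · left
        exact Subtype.ext h
      · exact Or.inr h
  · intro w hw'
    have hc := hone w z hw' hzord
    refine ⟨?_, ?_, ?_⟩
    · rw [hval_conj _ _ hc, ha, h₂, Int.cast_one]
    · rw [hval_conj _ _ hc, ha]
    · rw [hval_conj _ _ hc, ha, h₄]
      simp
  · have := hcong ζ₂
    rwa [h₂] at this
  · exact hcong ζ₃
  · have := hcong ζ₄
    rw [h₄] at this
    simpa using this
  · intro y hy
    have hy' : ¬ 2 ∣ orderOf y := by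
      rw [← even_iff_two_dvd]
      exact Nat.not_even_iff_odd.mpr hy
    have h1 := hw y hy'
    rw [hsumS] at h1
    simp only [hone_val, haone, h₂, h₄, Int.cast_one, Int.cast_neg] at h1
    linear_combination h1

end Main

end Cfsg.Agent.Lib.Blocks
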