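import Cfsg.Agent.Lib.Blocks.Third

/-!
# Principal blocks for two primes
-/

set_option autoImplicit false
set_option linter.unusedSectionVars false

namespace Cfsg.Agent.Lib.Blocks

open Cfsg Cfsg.Agent.Lib.Char
open scoped ComplexConjugate

universe u

section

variable {G : Type u} [Group G] [Fintype G]

theorem classInner_sum_irr (c : IrrCharacter G → ℂ) (ψ : IrrCharacter G) :
    classInner (fun g => ∑ χ : IrrCharacter G, c χ * (χ : G → ℂ) g) (ψ : G → ℂ) = c ψ := by
  classical
  have h1 : ∀ χ : IrrCharacter G, ∑ g : G, (χ : G → ℂ) g * conj ((ψ : G → ℂ) g) =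
      (Nat.card G : ℂ) * (if χ = ψ then 1 else 0) := by
    intro χ
    have h2 := classInner_irr χ.2 ψ.2
    rw [classInner] at h2
    have hG : (Nat.card G : ℂ) ≠ 0 := by exact_mod_cast Nat.card_pos.ne'
    have h3 : (if (χ : G → ℂ) = (ψ : G → ℂ) then (1 : ℂ) else 0) = if χ = ψ then 1 else 0 := by
      simp only [Subtype.ext_iff]
    rw [← h3, ← h2]
    field_simp
  rw [classInner]
  have h4 : ∑ g : G, (∑ χ : IrrCharacter G, c χ * (χ : G → ℂ) g) * conj ((ψ : G → ℂ) g) =
      ∑ χ : IrrCharacter G, c χ * ∑ g : G, (χ : G → ℂ) g * conj ((ψ : G → ℂ) g) := by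
    simp only [Finset.sum_mul, Finset.mul_sum]
    rw [Finset.sum_comm]
    refine Finset.sum_congr rfl fun χ _ => Finset.sum_congr rfl fun g _ => ?_
    ring
  rw [h4]
  simp only [h1]
  rw [Finset.sum_eq_single ψ]
  · have hG : (Nat.card G : ℂ) ≠ 0 := by exact_mod_cast Nat.card_pos.ne'
    simp only [if_true]
    field_simp
  · intro χ _ hχ
    simp [hχ]
  · simp

variable {M M' : Ideal AlgInt} {p q : ℕ} [hp : Fact p.Prime] [hq : Fact q.Prime]

/-- For elements `x` of order `p`, `y` of order `q` in a group without elements of order `p q`: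
the sum of `χ x⁻¹ χ y` over the intersection of a `p`-block and a `q`-block vanishes. -/
theorem sum_inter_blocks_eq_zero (hM : IsPModular p M) (hM' : IsPModular q M') (hpq : p ≠ q)
    (hno : ∀ g : G, orderOf g ≠ p * q) {x y : G} (hx : orderOf x = p) (hy : orderOf y = q)
    {B B' : Set (IrrCharacter G)} (hB : IsPBlock M B) (hB' : IsPBlock M' B') :
    ∑ χ : IrrCharacter G, indic B' χ * (indic B χ * (χ : G → ℂ) x⁻¹ * (χ : G → ℂ) y) = 0 := by
  classical
  have := isPrime_of_modular hM'
  have hpp : p.Prime := hp.out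
  have hqq : q.Prime := hq.out
  obtain ⟨α, hα⟩ := exists_isPExp G p
  obtain ⟨β, hβ⟩ := exists_isPExp G q
  let c : IrrCharacter G → ℂ := fun χ => indic B χ * (χ : G → ℂ) x⁻¹
  let f : G → ℂ := fun g => ∑ χ : IrrCharacter G, c χ * (χ : G → ℂ) g
  have hfc : IsClassFunction G f := by
    intro g k
    simp only [f]
    refine Finset.sum_congr rfl fun χ _ => ?_
    rw [irr_isClassFunction χ g k]
  have hx1 : x ^ α = x := hα.pow_of_pPow (k := 1) (by simpa using hx)
  have hy1 : y ^ β = y := hβ.pow_of_pPow (k := 1) (by simpa using hy)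
  have hf0 : ∀ z : G, IsConj (z ^ β) (y ^ β) → f z = 0 := by
    intro z hz
    rw [hy1] at hz
    have hfz : f z = ∑ χ : IrrCharacter G, indic B χ * ((χ : G → ℂ) z * (χ : G → ℂ) x⁻¹) := by
      simp only [f, c]
      refine Finset.sum_congr rfl fun χ _ => ?_
      ring
    rw [hfz]
    refine sum_block_mul_eq_zero hM hα hB ?_
    rw [hx1]
    intro h
    -- the `p`-part of `z` is not trivial, the `q`-part of `z` is not trivial.
    have hzp : z ^ α ≠ 1 := by
      intro h1
      rw [h1] at h
      have := isConj_one_left.mp h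
      rw [this, orderOf_one] at hx
      exact hpp.one_lt.ne hx
    have hzq : z ^ β ≠ 1 := by
      intro h1
      rw [h1] at hz
      have := isConj_one_right.mp hz
      rw [this, orderOf_one] at hy
      exact hqq.one_lt.ne hy
    have hpz : p ∣ orderOf z := by
      by_contra h2
      exact hzp (hα.pow_eq_one_iff.mpr h2)
    have hqz : q ∣ orderOf z := by
      by_contra h2
      exact hzq (hβ.pow_eq_one_iff.mpr h2)
    have hd : p * q ∣ orderOf z :=
      (Nat.Prime.coprime_iff_not_dvd hpp).mpr (fun h3 => hpq ((Nat.prime_dvd_prime_iff_eq hpp hqq).mp h3))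
        |>.mul_dvd_of_dvd_of_dvd hpz hqz
    obtain ⟨t, ht⟩ := hd
    have hne : orderOf z ≠ 0 := (orderOf_pos z).ne'
    have h5 : orderOf (z ^ t) = p * q := by
      rw [orderOf_pow' z (by
        rintro rfl
        simp [ht] at hne)]
      rw [ht]
      rw [Nat.gcd_eq_right (Dvd.intro_left _ rfl)]
      have hpos : 0 < t := by
        rcases Nat.eq_zero_or_pos t with h0 | h0
        · rw [h0, mul_zero] at ht
          exact absurd ht hne
        · exact h0
      exact Nat.mul_div_cancel _ hpos
    exact hno _ h5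
  have h1 := projOp_eq_zero_of_section hM' hβ (indic_mem_zS hB') (indic_mul_self B') hfc (z := y) hf0
  rw [projOp_eq_sum _ hfc] at h1
  have h2 : ∀ χ : IrrCharacter G, classInner f (χ : G → ℂ) = c χ := fun χ => classInner_sum_irr c χ
  simp only [h2] at h1
  exact h1

/-- **Brauer**: two principal blocks for different primes have a non-principal character in common
in the absence of elements of order `p q`. -/
theorem exists_common_principal (hM : IsPModular p M) (hM' : IsPModular q M') (hpq : p ≠ q)
    (hpG : p ∣ Nat.card G) (hqG : q ∣ Nat.card G) (hno : ∀ g : G, orderOf g ≠ p * q) :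
    ∃ χ : IrrCharacter G, (χ : G → ℂ) ≠ (fun _ => 1) ∧ χ ∈ principalBlock M G ∧
      χ ∈ principalBlock M' G := by
  classical
  have := isPrime_of_modular hM
  have := isPrime_of_modular hM'
  obtain ⟨x, hx⟩ := exists_prime_orderOf_dvd_card' p hpG
  obtain ⟨y, hy⟩ := exists_prime_orderOf_dvd_card' q hqG
  have h1 := sum_inter_blocks_eq_zero hM hM' hpq hno hx hy (isPBlock_blockOf (oneIrr G))
    (isPBlock_blockOf (oneIrr G))
  by_contra hcon
  push Not at hcon
  rw [Finset.sum_eq_single (oneIrr G)] at h1
  · have h2 : oneIrr G ∈ blockOf M ((oneIrr G : IrrCharacter G) : G → ℂ) := self_mem_blockOf _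
    have h3 : oneIrr G ∈ blockOf M' ((oneIrr G : IrrCharacter G) : G → ℂ) := self_mem_blockOf _
    rw [indic_apply_of_mem h2, indic_apply_of_mem h3] at h1
    have h4 : ((oneIrr G : IrrCharacter G) : G → ℂ) = fun _ => 1 := rfl
    simp [h4] at h1
  · intro χ _ hχ
    by_cases hB : χ ∈ blockOf M ((oneIrr G : IrrCharacter G) : G → ℂ)
    · by_cases hB' : χ ∈ blockOf M' ((oneIrr G : IrrCharacter G) : G → ℂ)
      · exfalso
        exact hχ (Subtype.ext (by
          by_contra hne
          exact hcon χ hne hB hB'))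
      · rw [indic_apply_of_notMem hB', zero_mul]
    · rw [indic_apply_of_notMem hB]
      simp
  · simp

end

end Cfsg.Agent.Lib.Blocks
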