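import Cfsg.Agent.Lib.Blocks.KleinFour
import Cfsg.Agent.Lib.Blocks.TwoPrimes
import Cfsg.Agent.Lib.Char.Exceptional
import Mathlib.GroupTheory.FiniteAbelian.Duality

/-!
# Brauer's theorem on the principal block of a group with an abelian Sylow subgroup on which the
normalizer acts fixed-point-freely
-/

set_option autoImplicit false
set_option linter.unusedSectionVars false
set_option linter.unusedVariables false

namespace Cfsg.Agent.Lib.Blocks

open Cfsg Cfsg.Agent.Lib.Char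
open scoped ComplexConjugate

universe u

section Dual

variable {A : Type u} [Group A] [Fintype A]

/-- Value of a linear character as a complex number. -/
def linVal (ψ : A →* ℂˣ) (y : A) : ℂ := ((ψ y : ℂˣ) : ℂ)

@[simp] theorem linVal_one (ψ : A →* ℂˣ) : linVal ψ 1 = 1 := by simp [linVal]

theorem linVal_mul (ψ : A →* ℂˣ) (a b : A) : linVal ψ (a * b) = linVal ψ a * linVal ψ b := by
  simp [linVal]

theorem linVal_isIrr (ψ : A →* ℂˣ) : IsIrrCharacter A (linVal ψ) := isIrrCharacter_of_monoidHom ψ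

theorem linVal_ne_zero (ψ : A →* ℂˣ) (a : A) : linVal ψ a ≠ 0 := Units.ne_zero _

theorem linVal_inv (ψ : A →* ℂˣ) (a : A) : linVal ψ a⁻¹ = conj (linVal ψ a) :=
  irr_apply_inv ⟨linVal ψ, linVal_isIrr ψ⟩ a

theorem linVal_injective : Function.Injective (linVal : (A →* ℂˣ) → A → ℂ) := by
  intro ψ ψ' h
  ext a
  exact congrFun h a

open scoped Classical in
theorem sum_linVal_mul_conj (ψ₁ ψ₂ : A →* ℂˣ) :
    ∑ y : A, linVal ψ₁ y * conj (linVal ψ₂ y) = if ψ₁ = ψ₂ then (Nat.card A : ℂ) else 0 := by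
  classical
  have h := classInner_irr (linVal_isIrr ψ₁) (linVal_isIrr ψ₂)
  rw [classInner] at h
  have hc : (Nat.card A : ℂ) ≠ 0 := by exact_mod_cast Nat.card_pos.ne'
  have h2 : ∑ y : A, linVal ψ₁ y * conj (linVal ψ₂ y) =
      (Nat.card A : ℂ) * (if linVal ψ₁ = linVal ψ₂ then 1 else 0) := by
    rw [← h]
    field_simp
  rw [h2]
  by_cases h3 : ψ₁ = ψ₂
  · simp [h3]
  · have h4 : linVal ψ₁ ≠ linVal ψ₂ := fun e => h3 (linVal_injective e)
    simp [h3, h4]

variable [Fintype (A →* ℂˣ)]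

theorem card_dual (hcomm : ∀ a b : A, a * b = b * a) : Nat.card (A →* ℂˣ) = Nat.card A := by
  letI : CommGroup A := { (inferInstance : Group A) with mul_comm := hcomm }
  haveI : NeZero (Monoid.exponent A) := ⟨Monoid.exponent_ne_zero_of_finite⟩
  exact CommGroup.card_monoidHom_of_hasEnoughRootsOfUnity A ℂ

theorem exists_dual_ne_one (hcomm : ∀ a b : A, a * b = b * a) {y : A} (hy : y ≠ 1) :
    ∃ ψ : A →* ℂˣ, ψ y ≠ 1 := by
  letI : CommGroup A := { (inferInstance : Group A) with mul_comm := hcomm }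
  haveI : NeZero (Monoid.exponent A) := ⟨Monoid.exponent_ne_zero_of_finite⟩
  exact CommGroup.exists_apply_ne_one_of_hasEnoughRootsOfUnity A ℂ hy

open scoped Classical in
/-- The dual orthogonality relation. -/
theorem sum_dual_apply (hcomm : ∀ a b : A, a * b = b * a) (y : A) :
    ∑ ψ : A →* ℂˣ, linVal ψ y = if y = 1 then (Nat.card A : ℂ) else 0 := by
  classical
  by_cases hy : y = 1
  · subst hy
    simp only [linVal_one, Finset.sum_const, Finset.card_univ, nsmul_eq_mul, mul_one, if_true]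
    rw [← Nat.card_eq_fintype_card, card_dual hcomm]
  · rw [if_neg hy]
    obtain ⟨φ, hφ⟩ := exists_dual_ne_one hcomm hy
    have h1 : ∑ ψ : A →* ℂˣ, linVal ψ y = linVal φ y * ∑ ψ : A →* ℂˣ, linVal ψ y := by
      rw [Finset.mul_sum]
      refine (Fintype.sum_equiv (Equiv.mulLeft φ) (fun ψ => linVal φ y * linVal ψ y) (fun ψ => linVal ψ y) fun ψ => ?_).symm
      simp [linVal]
    have h2 : (1 - linVal φ y) * ∑ ψ : A →* ℂˣ, linVal ψ y = 0 := by
      rw [sub_mul, one_mul, ← h1, sub_self]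
    have h3 : (1 - linVal φ y) ≠ 0 := by
      intro h
      apply hφ
      have h4 : linVal φ y = 1 := (sub_eq_zero.mp h).symm
      exact Units.ext h4
    exact (mul_eq_zero.mp h2).resolve_left h3

open scoped Classical in
/-- The sum of the non-principal characters at a non-identity element. -/
theorem sum_dual_ne_one (hcomm : ∀ a b : A, a * b = b * a) {y : A} (hy : y ≠ 1) :
    ∑ ψ ∈ Finset.univ.filter (fun ψ : A →* ℂˣ => ψ ≠ 1), linVal ψ y = -1 := by
  classical
  have h := sum_dual_apply hcomm y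
  rw [if_neg hy, ← Finset.sum_filter_add_sum_filter_not Finset.univ (fun ψ : A →* ℂˣ => ψ ≠ 1)] at h
  have h2 : Finset.univ.filter (fun ψ : A →* ℂˣ => ¬ ψ ≠ 1) = {1} := by
    ext ψ
    simp
  rw [h2, Finset.sum_singleton] at h
  have h3 : linVal (1 : A →* ℂˣ) y = 1 := by simp [linVal]
  rw [h3] at h
  linear_combination h

/-- Fourier inversion on an abelian group. -/
theorem fourier_inversion (hcomm : ∀ a b : A, a * b = b * a) (f : A → ℂ) (y : A) :
    ∑ ψ : A →* ℂˣ, ((Nat.card A : ℂ)⁻¹ * ∑ t : A, f t * conj (linVal ψ t)) * linVal ψ y = f y := by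
  classical
  have hc : (Nat.card A : ℂ) ≠ 0 := by exact_mod_cast Nat.card_pos.ne'
  have h1 : ∀ ψ : A →* ℂˣ, ((Nat.card A : ℂ)⁻¹ * ∑ t : A, f t * conj (linVal ψ t)) * linVal ψ y =
      (Nat.card A : ℂ)⁻¹ * ∑ t : A, f t * linVal ψ (t⁻¹ * y) := by
    intro ψ
    rw [mul_assoc, Finset.sum_mul]
    congr 1
    refine Finset.sum_congr rfl fun t _ => ?_
    rw [linVal_mul, linVal_inv, mul_assoc]
  rw [Finset.sum_congr rfl (fun ψ _ => h1 ψ), ← Finset.mul_sum, Finset.sum_comm]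
  have h2 : ∀ t : A, ∑ ψ : A →* ℂˣ, f t * linVal ψ (t⁻¹ * y) = if t = y then f t * (Nat.card A : ℂ) else 0 := by
    intro t
    rw [← Finset.mul_sum, sum_dual_apply hcomm]
    by_cases h3 : t = y
    · subst h3
      simp
    · have h4 : t⁻¹ * y ≠ 1 := fun e => h3 (inv_mul_eq_one.mp e)
      simp [h3, h4]
  rw [Finset.sum_congr rfl (fun t _ => h2 t), Finset.sum_ite_eq' Finset.univ y]
  simp only [Finset.mem_univ, if_true]
  field_simp

end Dual

section Twist

variable {G : Type u} [Group G] (Q : Subgroup G)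

/-- Conjugation on a subgroup by an element of its normalizer. -/
def conjQ (n : Subgroup.normalizer (Q : Set G)) : Q →* Q where
  toFun y := ⟨(n : G) * (y : G) * (n : G)⁻¹, (Subgroup.mem_normalizer_iff.mp n.2 y).mp y.2⟩
  map_one' := by
    apply Subtype.ext
    simp
  map_mul' a b := by
    apply Subtype.ext
    simp only [Subgroup.coe_mul]
    group

@[simp] theorem coe_conjQ (n : Subgroup.normalizer (Q : Set G)) (y : Q) :
    ((conjQ Q n y : Q) : G) = (n : G) * (y : G) * (n : G)⁻¹ := rfl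

/-- The conjugate of a linear character. -/
def twist (n : Subgroup.normalizer (Q : Set G)) (ψ : Q →* ℂˣ) : Q →* ℂˣ := ψ.comp (conjQ Q n⁻¹)

theorem twist_apply (n : Subgroup.normalizer (Q : Set G)) (ψ : Q →* ℂˣ) (y : Q) :
    twist Q n ψ y = ψ (conjQ Q n⁻¹ y) := rfl

theorem twist_mul (n₁ n₂ : Subgroup.normalizer (Q : Set G)) (ψ : Q →* ℂˣ) :
    twist Q (n₁ * n₂) ψ = twist Q n₁ (twist Q n₂ ψ) := by
  ext y
  have h : conjQ Q (n₁ * n₂)⁻¹ y = conjQ Q n₂⁻¹ (conjQ Q n₁⁻¹ y) := by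
    apply Subtype.ext
    simp only [coe_conjQ, Subgroup.coe_inv, Subgroup.coe_mul]
    group
  simp only [twist_apply]
  rw [h]

theorem twist_one (ψ : Q →* ℂˣ) : twist Q 1 ψ = ψ := by
  ext y
  have h : conjQ Q (1 : Subgroup.normalizer (Q : Set G))⁻¹ y = y := by
    apply Subtype.ext
    simp [coe_conjQ]
  simp only [twist_apply]
  rw [h]

theorem twist_inv_twist (n : Subgroup.normalizer (Q : Set G)) (ψ : Q →* ℂˣ) :
    twist Q n⁻¹ (twist Q n ψ) = ψ := by
  rw [← twist_mul, inv_mul_cancel, twist_one]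

theorem twist_twist_inv (n : Subgroup.normalizer (Q : Set G)) (ψ : Q →* ℂˣ) :
    twist Q n (twist Q n⁻¹ ψ) = ψ := by
  rw [← twist_mul, mul_inv_cancel, twist_one]

theorem twist_one_char (n : Subgroup.normalizer (Q : Set G)) : twist Q n (1 : Q →* ℂˣ) = 1 := by
  ext y
  simp [twist_apply]

theorem twist_ne_one {ψ : Q →* ℂˣ} (hψ : ψ ≠ 1) (n : Subgroup.normalizer (Q : Set G)) :
    twist Q n ψ ≠ 1 := by
  intro h
  apply hψ
  rw [← twist_inv_twist Q n ψ, h, twist_one_char]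

theorem twist_apply_conj (n : Subgroup.normalizer (Q : Set G)) (ψ : Q →* ℂˣ) (y : Q) :
    twist Q n ψ (conjQ Q n y) = ψ y := by
  rw [twist_apply]
  congr 1
  apply Subtype.ext
  simp only [coe_conjQ, Subgroup.coe_inv]
  group

theorem apply_conj_eq_twist (n : Subgroup.normalizer (Q : Set G)) (ψ : Q →* ℂˣ) (y : Q) :
    ψ (conjQ Q n y) = twist Q n⁻¹ ψ y := by
  rw [twist_apply, inv_inv]

/-- The relation used in the statements is the twist. -/
theorem eq_twist_iff (n : Subgroup.normalizer (Q : Set G)) (ψ ψ' : Q →* ℂˣ) :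
    (∀ w w' : Q, (w' : G) = (n : G) * (w : G) * (n : G)⁻¹ → ψ' w' = ψ w) ↔ ψ' = twist Q n ψ := by
  constructor
  · intro h
    ext y
    have h1 := h (conjQ Q n⁻¹ y) y (by
      simp only [coe_conjQ, Subgroup.coe_inv]
      group)
    rw [h1]
    rfl
  · rintro rfl w w' hw
    have h1 : w' = conjQ Q n w := Subtype.ext hw
    rw [h1, twist_apply_conj]

theorem centralizer_le_normalizer_coe : Subgroup.centralizer (Q : Set G) ≤ Subgroup.normalizer (Q : Set G) := by
  intro c hc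
  rw [Subgroup.mem_normalizer_iff]
  intro h
  constructor
  · intro hh
    have : c * h = h * c := (Subgroup.mem_centralizer_iff.mp hc h hh).symm
    rw [this]
    simpa using hh
  · intro hh
    have h1 := (Subgroup.mem_centralizer_iff.mp hc _ hh)
    have h3 : h = c * h * c⁻¹ := by
      calc h = c⁻¹ * ((c * h * c⁻¹) * c) := by group
        _ = c⁻¹ * (c * (c * h * c⁻¹)) := by rw [h1]
        _ = c * h * c⁻¹ := by group
    rw [h3]
    exact hh

theorem twist_of_mem_centralizer {n : Subgroup.normalizer (Q : Set G)} (hn : (n : G) ∈ Subgroup.centralizer (Q : Set G))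
    (ψ : Q →* ℂˣ) : twist Q n ψ = ψ := by
  ext y
  have h : conjQ Q n⁻¹ y = y := by
    apply Subtype.ext
    have h1 := Subgroup.mem_centralizer_iff.mp hn (y : G) y.2
    simp only [coe_conjQ, Subgroup.coe_inv, inv_inv]
    rw [mul_assoc, h1]
    group
  rw [twist_apply, h]

variable {Q}

/-- The stabilizer of a non-principal linear character is the centralizer. -/
theorem mem_centralizer_of_twist_eq [Finite Q]
    (hcomm : ∀ a ∈ Q, ∀ b ∈ Q, a * b = b * a)
    (hfrob : ∀ y : G, y ∈ Q → y ≠ 1 →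
      Subgroup.centralizer ({y} : Set G) ⊓ Subgroup.normalizer (Q : Set G) = Subgroup.centralizer (Q : Set G))
    {ψ : Q →* ℂˣ} (hψ : ψ ≠ 1) {n : Subgroup.normalizer (Q : Set G)} (h : twist Q n ψ = ψ) :
    (n : G) ∈ Subgroup.centralizer (Q : Set G) := by
  by_contra hn
  have hcomm' : ∀ a b : Q, a * b = b * a := fun a b => Subtype.ext (hcomm a a.2 b b.2)
  let f : Q → Q := fun y => y⁻¹ * conjQ Q n⁻¹ y
  have hfinj : Function.Injective f := by
    intro a b hab
    by_contra hne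
    have h1 : conjQ Q n⁻¹ (a * b⁻¹) = a * b⁻¹ := by
      have h2 : a⁻¹ * conjQ Q n⁻¹ a = b⁻¹ * conjQ Q n⁻¹ b := hab
      rw [map_mul, map_inv]
      have h3 : conjQ Q n⁻¹ a = a * (b⁻¹ * conjQ Q n⁻¹ b) := by
        rw [← h2]
        group
      rw [h3]
      group
    have hy1 : a * b⁻¹ ≠ 1 := fun e => hne (mul_inv_eq_one.mp e)
    have hy1' : (((a * b⁻¹ : Q)) : G) ≠ 1 := fun e => hy1 (Subtype.ext e)
    have h3 : (n : G)⁻¹ ∈ Subgroup.centralizer (Q : Set G) := by
      rw [← hfrob _ (a * b⁻¹).2 hy1']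
      refine Subgroup.mem_inf.mpr ⟨?_, Subgroup.inv_mem _ n.2⟩
      rw [Subgroup.mem_centralizer_singleton_iff]
      have h4 := congrArg Subtype.val h1
      simp only [coe_conjQ, Subgroup.coe_inv, inv_inv] at h4
      have h5 : ((n : G)⁻¹ * ((a * b⁻¹ : Q) : G) * (n : G)) * (n : G)⁻¹ = (n : G)⁻¹ * ((a * b⁻¹ : Q) : G) := by group
      rw [h4] at h5
      exact h5.symm
    exact hn (by simpa using Subgroup.inv_mem _ h3)
  have hfsurj : Function.Surjective f := Finite.injective_iff_surjective.mp hfinj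
  apply hψ
  ext x
  obtain ⟨y, rfl⟩ := hfsurj x
  have h1 : ψ (f y) = 1 := by
    simp only [f, map_mul, map_inv]
    have h2 := DFunLike.congr_fun h y
    rw [twist_apply] at h2
    rw [h2]
    simp
  rw [h1]
  simp

end Twist

section TwistCount

/-- The size of a fibre of the map `n ↦ ψⁿ`. -/
theorem card_filter_twist {G : Type u} [Group G] {Q : Subgroup G} [Finite Q]
    [Fintype (Subgroup.normalizer (Q : Set G))]
    (hcomm : ∀ a ∈ Q, ∀ b ∈ Q, a * b = b * a)
    (hfrob : ∀ y : G, y ∈ Q → y ≠ 1 →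
      Subgroup.centralizer ({y} : Set G) ⊓ Subgroup.normalizer (Q : Set G) = Subgroup.centralizer (Q : Set G))
    {ψ : Q →* ℂˣ} (hψ : ψ ≠ 1) (n₀ : Subgroup.normalizer (Q : Set G))
    [DecidablePred (fun n : Subgroup.normalizer (Q : Set G) => twist Q n ψ = twist Q n₀ ψ)] :
    (Finset.univ.filter (fun n : Subgroup.normalizer (Q : Set G) => twist Q n ψ = twist Q n₀ ψ)).card =
      Nat.card (Subgroup.centralizer (Q : Set G)) := by
  rw [← Fintype.card_subtype, ← Nat.card_eq_fintype_card]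
  apply Nat.card_congr
  have hmem : ∀ n : {n : Subgroup.normalizer (Q : Set G) // twist Q n ψ = twist Q n₀ ψ},
      (n₀⁻¹ * n.1 : Subgroup.normalizer (Q : Set G)).1 ∈ Subgroup.centralizer (Q : Set G) := by
    intro n
    apply mem_centralizer_of_twist_eq hcomm hfrob hψ
    rw [twist_mul, n.2, twist_inv_twist]
  refine ⟨fun n => ⟨_, hmem n⟩, fun c => ⟨n₀ * ⟨c.1, centralizer_le_normalizer_coe Q c.2⟩, ?_⟩, ?_, ?_⟩
  · rw [twist_mul, twist_of_mem_centralizer Q (n := ⟨c.1, centralizer_le_normalizer_coe Q c.2⟩) c.2]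
  · intro n
    apply Subtype.ext
    apply Subtype.ext
    simp
  · intro c
    apply Subtype.ext
    simp

variable {G : Type u} [Group G] {Q : Subgroup G} [Fintype Q] [Fintype (Q →* ℂˣ)]
  [Fintype (Subgroup.normalizer (Q : Set G))]

/-- The value of an orbit sum, computed over the normalizer. -/
noncomputable def orbVal (ψ : Q →* ℂˣ) (y : Q) : ℂ :=
  (Nat.card (Subgroup.centralizer (Q : Set G)) : ℂ)⁻¹ *
    ∑ x : Subgroup.normalizer (Q : Set G), linVal ψ (conjQ Q x y)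

open scoped Classical in
/-- The orbit sum is the sum over the orbit. -/
theorem orbVal_eq (hcomm : ∀ a ∈ Q, ∀ b ∈ Q, a * b = b * a)
    (hfrob : ∀ y : G, y ∈ Q → y ≠ 1 →
      Subgroup.centralizer ({y} : Set G) ⊓ Subgroup.normalizer (Q : Set G) = Subgroup.centralizer (Q : Set G))
    {ψ : Q →* ℂˣ} (hψ : ψ ≠ 1) (y : Q) :
    orbVal ψ y = ∑ ψ' ∈ Finset.univ.filter (fun ψ' : Q →* ℂˣ => ∃ n, twist Q n ψ = ψ'), linVal ψ' y := by
  have hcard : (Nat.card (Subgroup.centralizer (Q : Set G)) : ℂ) ≠ 0 := by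
    have : Finite (Subgroup.centralizer (Q : Set G)) := Finite.of_injective
      (fun c => (⟨c.1, centralizer_le_normalizer_coe Q c.2⟩ : Subgroup.normalizer (Q : Set G)))
      (fun a b h => Subtype.ext (congrArg (fun x => (x : Subgroup.normalizer (Q : Set G)).1) h))
    exact_mod_cast Nat.card_pos.ne'
  have h1 : ∑ x : Subgroup.normalizer (Q : Set G), linVal ψ (conjQ Q x y) =
      ∑ x : Subgroup.normalizer (Q : Set G), linVal (twist Q x ψ) y := by
    refine Fintype.sum_equiv (Equiv.inv _) _ _ fun x => ?_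
    simp only [linVal, Equiv.inv_apply]
    rw [apply_conj_eq_twist]
  rw [orbVal, h1]
  rw [← Finset.sum_fiberwise_of_maps_to (s := Finset.univ) (t := Finset.univ.filter (fun ψ' : Q →* ℂˣ => ∃ n, twist Q n ψ = ψ'))
    (g := fun x => twist Q x ψ) (fun x _ => Finset.mem_filter.mpr ⟨Finset.mem_univ _, x, rfl⟩)]
  rw [Finset.mul_sum]
  refine Finset.sum_congr rfl fun ψ' hψ' => ?_
  obtain ⟨n₀, hn₀⟩ := (Finset.mem_filter.mp hψ').2
  have h2 : ∀ x ∈ Finset.univ.filter (fun x : Subgroup.normalizer (Q : Set G) => twist Q x ψ = ψ'), linVal (twist Q x ψ) y = linVal ψ' y := by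
    intro x hx
    rw [(Finset.mem_filter.mp hx).2]
  rw [Finset.sum_congr rfl h2, Finset.sum_const, nsmul_eq_mul]
  subst hn₀
  rw [card_filter_twist hcomm hfrob hψ n₀]
  field_simp

end TwistCount

section Columns

variable {G : Type u} [Group G] [Fintype G] {p : ℕ} [hp : Fact p.Prime] {M : Ideal AlgInt}

/-- The hypotheses of Brauer's theorem. -/
structure FrobSetup (p : ℕ) [hp : Fact p.Prime] (M : Ideal AlgInt) (Q : Subgroup G) : Prop where
  modular : IsPModular p M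
  sylow : ∃ P : Sylow p G, (P : Subgroup G) = Q
  comm : ∀ a ∈ Q, ∀ b ∈ Q, a * b = b * a
  frob : ∀ y : G, y ∈ Q → y ≠ 1 →
    Subgroup.centralizer ({y} : Set G) ⊓ Subgroup.normalizer (Q : Set G) = Subgroup.centralizer (Q : Set G)

variable {Q : Subgroup G}

theorem FrobSetup.hasNormalPComplement (h : FrobSetup p M Q) {y : G} (hy : y ∈ Q) (hy1 : y ≠ 1) :
    HasNormalPComplement p (Subgroup.centralizer ({y} : Set G)) := by
  obtain ⟨P, rfl⟩ := h.sylow
  have hle : (P : Subgroup G) ≤ Subgroup.centralizer ({y} : Set G) := fun x hx =>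
    mem_centralizer_singleton_of_commute (h.comm x hx y hy)
  let S : Sylow p (Subgroup.centralizer ({y} : Set G)) := P.subtype hle
  have hSmem : ∀ x : Subgroup.centralizer ({y} : Set G), x ∈ (S : Subgroup (Subgroup.centralizer ({y} : Set G))) ↔ (x : G) ∈ (P : Subgroup G) := by
    intro x
    simp only [S, Sylow.coe_subtype]
    exact Subgroup.mem_subgroupOf
  refine Cfsg.Agent.Lib.Transfer.hasNormalPComplement_of_normalizer_le S ?_
  intro x hx
  have hxN : (x : G) ∈ Subgroup.normalizer (((P : Subgroup G)) : Set G) := by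
    rw [Subgroup.mem_normalizer_iff]
    intro t
    constructor
    · intro ht
      have h1 := (Subgroup.mem_normalizer_iff.mp hx ⟨t, hle ht⟩).mp ((hSmem _).mpr ht)
      exact (hSmem _).mp h1
    · intro ht
      have ht' : (x : G) * t * (x : G)⁻¹ ∈ Subgroup.centralizer ({y} : Set G) := hle ht
      have htC : t ∈ Subgroup.centralizer ({y} : Set G) := by
        have h2 := Subgroup.mul_mem _ (Subgroup.mul_mem _ (Subgroup.inv_mem _ x.2) ht') x.2
        have h3 : (x : G)⁻¹ * ((x : G) * t * (x : G)⁻¹) * (x : G) = t := by group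
        rwa [h3] at h2
      have h1 : (⟨t, htC⟩ : Subgroup.centralizer ({y} : Set G)) ∈ (S : Subgroup (Subgroup.centralizer ({y} : Set G))) := by
        apply (Subgroup.mem_normalizer_iff.mp hx ⟨t, htC⟩).mpr
        apply (hSmem _).mpr
        exact ht
      exact (hSmem _).mp h1
  have hxC : (x : G) ∈ Subgroup.centralizer (((P : Subgroup G)) : Set G) := by
    rw [← h.frob y hy hy1]
    exact Subgroup.mem_inf.mpr ⟨x.2, hxN⟩
  rw [Subgroup.mem_centralizer_iff]
  intro t ht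
  apply Subtype.ext
  exact Subgroup.mem_centralizer_iff.mp hxC t ((hSmem t).mp ht)

theorem FrobSetup.index_core (h : FrobSetup p M Q) {y : G} (hy : y ∈ Q) (hy1 : y ≠ 1) :
    (pPrimeCore p (Subgroup.centralizer ({y} : Set G))).index = Nat.card Q := by
  obtain ⟨P, rfl⟩ := h.sylow
  have hpp : p.Prime := hp.out
  obtain ⟨k, hk⟩ := index_pPrimeCore_of_hasNormalPComplement (h.hasNormalPComplement hy hy1)
  have hle : (P : Subgroup G) ≤ Subgroup.centralizer ({y} : Set G) := fun x hx =>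
    mem_centralizer_singleton_of_commute (h.comm x hx y hy)
  have hcard : (pPrimeCore p (Subgroup.centralizer ({y} : Set G))).index * Nat.card (pPrimeCore p (Subgroup.centralizer ({y} : Set G))) = Nat.card (Subgroup.centralizer ({y} : Set G)) :=
    Subgroup.index_mul_card _
  have hcop : (Nat.card (pPrimeCore p (Subgroup.centralizer ({y} : Set G)))).Coprime p :=
    Cfsg.Agent.Lib.Basic.pPrimeCore_coprime p
  rw [hk]
  apply Nat.dvd_antisymm
  · apply P.pow_dvd_card_of_pow_dvd_card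
    rw [← hk]
    have h1 : (pPrimeCore p (Subgroup.centralizer ({y} : Set G))).index ∣ Nat.card (Subgroup.centralizer ({y} : Set G)) := ⟨_, hcard.symm⟩
    exact h1.trans (Subgroup.card_subgroup_dvd_card _)
  · have h1 : Nat.card (P : Subgroup G) ∣ Nat.card (Subgroup.centralizer ({y} : Set G)) := Subgroup.card_dvd_of_le hle
    rw [← hcard, hk] at h1
    obtain ⟨e, he⟩ := (IsPGroup.iff_card.mp P.isPGroup')
    have h2 : Nat.Coprime (Nat.card (P : Subgroup G)) (Nat.card (pPrimeCore p (Subgroup.centralizer ({y} : Set G)))) := by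
      rw [he]
      exact Nat.Coprime.pow_left _ hcop.symm
    exact h2.dvd_of_dvd_mul_right h1

theorem ofReal_finsum_norm_sq {H : Type u} [Group H] [Fintype H] (B : Set (IrrCharacter H)) (f : IrrCharacter H → ℂ) :
    ((∑ᶠ χ ∈ B, ‖f χ‖ ^ 2 : ℝ) : ℂ) = ∑ᶠ χ ∈ B, f χ * conj (f χ) := by
  classical
  rw [finsum_mem_eq_sum_indic, finsum_mem_def, finsum_eq_sum_of_fintype, Complex.ofReal_sum]
  refine Finset.sum_congr rfl fun χ _ => ?_
  by_cases hχ : χ ∈ B
  · rw [indic_apply_of_mem hχ, Set.indicator_of_mem hχ, one_mul, Complex.mul_conj, Complex.normSq_eq_norm_sq]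
  · rw [indic_apply_of_notMem hχ, Set.indicator_of_notMem hχ, zero_mul, Complex.ofReal_zero]

/-- Brauer's norm computation on the section of a non-identity element of `Q`. -/
theorem FrobSetup.sum_norm (h : FrobSetup p M Q) {y : G} (hy : y ∈ Q) (hy1 : y ≠ 1) :
    ∑ χ : IrrCharacter G, indic (principalBlock M G) χ * ((χ : G → ℂ) y * conj ((χ : G → ℂ) y)) = (Nat.card Q : ℂ) := by
  classical
  obtain ⟨P, rfl⟩ := h.sylow
  have hM := h.modular
  have := isPrime_of_modular hM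
  have hne1 : ¬ p = 1 := (hp.out).ne_one
  have hypow : ∃ k, orderOf y = p ^ k := by
    obtain ⟨k, hk⟩ := (IsPGroup.iff_orderOf.mp P.isPGroup') ⟨y, hy⟩
    exact ⟨k, by rw [← hk, Subgroup.orderOf_mk]⟩
  letI : Fintype (Subgroup.centralizer ({y} : Set G)) := Fintype.ofFinite _
  have h1 := sum_principal_section (M := M) hM hypow (y := 1) (h := 1) (by simpa using hne1) (by simpa using hne1)
  simp only [OneMemClass.coe_one, mul_one] at h1
  rw [finsum_mem_eq_sum_indic] at h1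
  rw [h1]
  have hN : ¬ p ∣ Nat.card (pPrimeCore p (Subgroup.centralizer ({y} : Set G))) := by
    have hcop : (Nat.card (pPrimeCore p (Subgroup.centralizer ({y} : Set G)))).Coprime p :=
      Cfsg.Agent.Lib.Basic.pPrimeCore_coprime p
    exact (hp.out.coprime_iff_not_dvd).mp hcop.symm
  obtain ⟨k, hk⟩ := index_pPrimeCore_of_hasNormalPComplement (h.hasNormalPComplement hy hy1)
  haveI hnormal : (pPrimeCore p (Subgroup.centralizer ({y} : Set G))).Normal := Cfsg.Agent.Lib.Basic.pPrimeCore_normal p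
  have h3 := sum_principal_norm_of_normal_complement (G := Subgroup.centralizer ({y} : Set G)) (M := M) hM hN hk (y := 1) (by simpa using hne1)
  have h4 := h.index_core hy hy1
  rw [← ofReal_finsum_norm_sq, h3, ← hk, h4]
  simp


/-- Values of characters of the principal block on a section. -/
theorem FrobSetup.apply_eq_of_isPPart (h : FrobSetup p M Q) {z y : G} (hzy : IsPPart p z y) (hy : y ∈ Q) (hy1 : y ≠ 1)
    {χ : IrrCharacter G} (hχ : χ ∈ principalBlock M G) : (χ : G → ℂ) z = (χ : G → ℂ) y := by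
  obtain ⟨v, rfl, hc, hk, hv⟩ := hzy
  refine principal_apply_mul_core h.modular hk ?_ hχ
  letI : Fintype (Subgroup.centralizer ({y} : Set G)) := Fintype.ofFinite _
  obtain ⟨k, hidx⟩ := index_pPrimeCore_of_hasNormalPComplement (h.hasNormalPComplement hy hy1)
  haveI hnormal : (pPrimeCore p (Subgroup.centralizer ({y} : Set G))).Normal := Cfsg.Agent.Lib.Basic.pPrimeCore_normal p
  have hv' : v ∈ Subgroup.centralizer ({y} : Set G) := mem_centralizer_singleton_of_commute hc.symm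
  have h1 : (⟨v, hv'⟩ : Subgroup.centralizer ({y} : Set G)) ∈ pPrimeCore p (Subgroup.centralizer ({y} : Set G)) :=
    mem_of_regular_of_index hidx (by
      rw [Subgroup.orderOf_mk]
      exact hv)
  exact ⟨_, h1, rfl⟩

/-- Column orthogonality on `Q`. -/
theorem FrobSetup.column (h : FrobSetup p M Q) {y y' : G} (hy : y ∈ Q) (hy' : y' ∈ Q) (hy1 : y ≠ 1) :
    open scoped Classical in
    ∑ χ : IrrCharacter G, indic (principalBlock M G) χ * ((χ : G → ℂ) y' * conj ((χ : G → ℂ) y)) =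
      if IsConj y' y then (Nat.card Q : ℂ) else 0 := by
  classical
  obtain ⟨P, rfl⟩ := h.sylow
  have hM := h.modular
  have := isPrime_of_modular hM
  have hB : IsPBlock M (principalBlock M G) := ⟨oneIrr G, rfl⟩
  obtain ⟨α, hα⟩ := exists_isPExp (G := G) (p := p)
  by_cases hc : IsConj y' y
  · rw [if_pos hc, ← h.sum_norm hy hy1]
    obtain ⟨c, hc⟩ := isConj_iff.mp hc
    refine Finset.sum_congr rfl fun χ _ => ?_
    rw [← hc, irr_isClassFunction]
  · rw [if_neg hc]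
    obtain ⟨k, hk⟩ := (IsPGroup.iff_orderOf.mp P.isPGroup') ⟨y, hy⟩
    obtain ⟨k', hk'⟩ := (IsPGroup.iff_orderOf.mp P.isPGroup') ⟨y', hy'⟩
    rw [Subgroup.orderOf_mk] at hk hk'
    have h1 := sum_block_mul_eq_zero hM hα hB (g := y') (h := y) (by
      rw [hα.pow_of_pPow hk, hα.pow_of_pPow hk']
      exact fun e => hc e.symm)
    rw [← h1]
    refine Finset.sum_congr rfl fun χ _ => ?_
    rw [irr_apply_inv]

/-- The sum over `Q` at the identity: a non-identity element is orthogonal to the identity. -/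
theorem FrobSetup.column_one (h : FrobSetup p M Q) {y : G} (hy : y ∈ Q) (hy1 : y ≠ 1) :
    ∑ χ : IrrCharacter G, indic (principalBlock M G) χ * ((χ : G → ℂ) y * conj ((χ : G → ℂ) 1)) = 0 := by
  classical
  obtain ⟨P, rfl⟩ := h.sylow
  have hM := h.modular
  have := isPrime_of_modular hM
  have hB : IsPBlock M (principalBlock M G) := ⟨oneIrr G, rfl⟩
  obtain ⟨α, hα⟩ := exists_isPExp (G := G) (p := p)
  obtain ⟨k, hk⟩ := (IsPGroup.iff_orderOf.mp P.isPGroup') ⟨y, hy⟩
  rw [Subgroup.orderOf_mk] at hk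
  have h1 := sum_block_mul_eq_zero hM hα hB (g := y) (h := 1) (by
    rw [hα.pow_of_pPow hk, one_pow]
    intro e
    exact hy1 (isConj_one_right.mp e))
  rw [← h1]
  refine Finset.sum_congr rfl fun χ _ => ?_
  rw [inv_one, ← irr_apply_inv, inv_one]

/-- A regular element is orthogonal to a non-identity element of `Q`. -/
theorem FrobSetup.column_regular (h : FrobSetup p M Q) {y g : G} (hy : y ∈ Q) (hy1 : y ≠ 1) (hg : ¬ p ∣ orderOf g) :
    ∑ χ : IrrCharacter G, indic (principalBlock M G) χ * ((χ : G → ℂ) y * (χ : G → ℂ) g) = 0 := by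
  classical
  obtain ⟨P, rfl⟩ := h.sylow
  have hM := h.modular
  have := isPrime_of_modular hM
  have hB : IsPBlock M (principalBlock M G) := ⟨oneIrr G, rfl⟩
  obtain ⟨α, hα⟩ := exists_isPExp (G := G) (p := p)
  obtain ⟨k, hk⟩ := (IsPGroup.iff_orderOf.mp P.isPGroup') ⟨y, hy⟩
  rw [Subgroup.orderOf_mk] at hk
  have h1 := sum_block_mul_eq_zero hM hα hB (g := y) (h := g⁻¹) (by
    rw [hα.pow_of_pPow hk, hα.pow_of_regular (by simpa using hg)]
    intro e
    exact hy1 (isConj_one_right.mp e))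
  rw [← h1]
  refine Finset.sum_congr rfl fun χ _ => ?_
  rw [inv_inv]

variable [Fintype Q] [Fintype (Subgroup.normalizer (Q : Set G))]

/-- Fusion in `Q` is controlled by the normalizer: counting conjugates. -/
theorem FrobSetup.sum_conj_fiber (h : FrobSetup p M Q) (f : Q → ℂ) (v : Q) (hv : v ≠ 1) :
    open scoped Classical in
    ∑ x : Subgroup.normalizer (Q : Set G), f (conjQ Q x v) =
      (Nat.card (Subgroup.centralizer (Q : Set G)) : ℂ) * ∑ v' : Q, if IsConj (v' : G) (v : G) then f v' else 0 := by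
  classical
  have hv1 : (v : G) ≠ 1 := fun e => hv (Subtype.ext e)
  rw [← Finset.sum_fiberwise Finset.univ (fun x : Subgroup.normalizer (Q : Set G) => conjQ Q x v) (fun x => f (conjQ Q x v)), Finset.mul_sum]
  refine Finset.sum_congr rfl fun v' _ => ?_
  rw [Finset.sum_congr rfl (fun x hx => by rw [(Finset.mem_filter.mp hx).2])]
  rw [Finset.sum_const, nsmul_eq_mul]
  by_cases hc : IsConj (v' : G) (v : G)
  · rw [if_pos hc]
    congr 1
    obtain ⟨P, hP⟩ := h.sylow
    obtain ⟨g, hg⟩ := isConj_iff.mp hc.symm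
    haveI : IsMulCommutative (P : Subgroup G) := ⟨⟨fun a b => Subtype.ext (h.comm a (hP ▸ a.2) b (hP ▸ b.2))⟩⟩
    obtain ⟨n, hn, hng⟩ := Cfsg.Agent.Lib.Transfer.exists_normalizer_conj_of_abelian P (x := (v : G)) (hP ▸ v.2) g (by
      rw [hg, hP]; exact v'.2)
    rw [hP] at hn
    rw [hg] at hng
    rw [← Fintype.card_subtype, ← Nat.card_eq_fintype_card]
    congr 1
    apply Nat.card_congr
    have hmem : ∀ x : {x : Subgroup.normalizer (Q : Set G) // conjQ Q x v = v'},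
        (n⁻¹ * ((x.1 : Subgroup.normalizer (Q : Set G)) : G)) ∈ Subgroup.centralizer (Q : Set G) := by
      intro x
      rw [← h.frob v v.2 hv1]
      refine Subgroup.mem_inf.mpr ⟨?_, Subgroup.mul_mem _ (Subgroup.inv_mem _ hn) x.1.2⟩
      rw [Subgroup.mem_centralizer_singleton_iff]
      have hx : ((x.1 : Subgroup.normalizer (Q : Set G)) : G) * (v : G) * ((x.1 : Subgroup.normalizer (Q : Set G)) : G)⁻¹ = n * (v : G) * n⁻¹ := by
        have := congrArg Subtype.val x.2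
        rw [hng]
        exact this
      have h5 : ((x.1 : Subgroup.normalizer (Q : Set G)) : G) * (v : G) = n * (v : G) * n⁻¹ * ((x.1 : Subgroup.normalizer (Q : Set G)) : G) := by
        rw [← hx]
        group
      calc n⁻¹ * ((x.1 : Subgroup.normalizer (Q : Set G)) : G) * (v : G) = n⁻¹ * (((x.1 : Subgroup.normalizer (Q : Set G)) : G) * (v : G)) := by group
        _ = (v : G) * (n⁻¹ * ((x.1 : Subgroup.normalizer (Q : Set G)) : G)) := by rw [h5]; group
    refine ⟨fun x => ⟨n⁻¹ * ((x.1 : Subgroup.normalizer (Q : Set G)) : G), hmem x⟩, fun y => ⟨⟨n * (y : G), Subgroup.mul_mem _ hn (centralizer_le_normalizer_coe Q y.2)⟩, ?_⟩, ?_, ?_⟩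
    · apply Subtype.ext
      show (n * (y : G)) * (v : G) * (n * (y : G))⁻¹ = (v' : G)
      have hy : (y : G) * (v : G) = (v : G) * (y : G) := (Subgroup.mem_centralizer_iff.mp y.2 (v : G) v.2).symm
      rw [← hng]
      calc (n * (y : G)) * (v : G) * (n * (y : G))⁻¹ = n * ((y : G) * (v : G)) * (y : G)⁻¹ * n⁻¹ := by group
        _ = n * (v : G) * n⁻¹ := by rw [hy]; group
    · intro x
      apply Subtype.ext
      apply Subtype.ext
      simp
    · intro y
      apply Subtype.ext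
      simp
  · rw [if_neg hc, mul_zero]
    have h2 : Finset.filter (fun x : Subgroup.normalizer (Q : Set G) => conjQ Q x v = v') Finset.univ = ∅ := by
      apply Finset.filter_eq_empty_iff.mpr
      intro x _ hx
      apply hc
      have := congrArg Subtype.val hx
      exact (isConj_iff.mpr ⟨(x : G), this⟩).symm
    rw [h2, Finset.card_empty, Nat.cast_zero, zero_mul]

end Columns

section Coef

variable {G : Type u} [Group G] [Fintype G] {p : ℕ} [hp : Fact p.Prime] {M : Ideal AlgInt}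
  {Q : Subgroup G} [Fintype Q] [Fintype (Subgroup.normalizer (Q : Set G))] [Fintype (Q →* ℂˣ)]

/-- The multiplicity of a linear character of `Q` in the restriction of a character of `G`. -/
noncomputable def coefL (χ : IrrCharacter G) (ψ : Q →* ℂˣ) : ℂ :=
  (Nat.card Q : ℂ)⁻¹ * ∑ y : Q, (χ : G → ℂ) y * conj (linVal ψ y)

theorem coefL_eq_classInner (χ : IrrCharacter G) (ψ : Q →* ℂˣ) :
    coefL χ ψ = classInner (Cfsg.Agent.Lib.Char.resFun Q (χ : G → ℂ)) (linVal ψ) := rfl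

theorem exists_coefL_eq_nat (χ : IrrCharacter G) (ψ : Q →* ℂˣ) : ∃ n : ℕ, coefL χ ψ = n := by
  rw [coefL_eq_classInner]
  exact IsCharacter.classInner_irr_eq_nat (isCharacter_resFun Q (IsIrrCharacter.isCharacter χ.2)) (linVal_isIrr ψ)

/-- The multiplicity as a natural number. -/
noncomputable def coefN (χ : IrrCharacter G) (ψ : Q →* ℂˣ) : ℕ := (exists_coefL_eq_nat χ ψ).choose

theorem coefN_spec (χ : IrrCharacter G) (ψ : Q →* ℂˣ) : ((coefN χ ψ : ℕ) : ℂ) = coefL χ ψ :=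
  (exists_coefL_eq_nat χ ψ).choose_spec.symm

theorem coefL_twist (χ : IrrCharacter G) (ψ : Q →* ℂˣ) (n : Subgroup.normalizer (Q : Set G)) :
    coefL χ (twist Q n ψ) = coefL χ ψ := by
  rw [coefL, coefL]
  congr 1
  refine (Fintype.sum_equiv (Equiv.ofBijective (conjQ Q n) ?_) _ _ fun y => ?_).symm
  · refine ⟨?_, ?_⟩
    · intro a b hab
      have h2 : (n : G) * (a : G) * (n : G)⁻¹ = (n : G) * (b : G) * (n : G)⁻¹ := congrArg Subtype.val hab
      apply Subtype.ext
      exact mul_left_cancel (mul_right_cancel h2)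
    · intro y
      refine ⟨conjQ Q n⁻¹ y, ?_⟩
      apply Subtype.ext
      simp only [coe_conjQ, Subgroup.coe_inv]
      group
  · have h1 : linVal (twist Q n ψ) (conjQ Q n y) = linVal ψ y := by
      rw [linVal, twist_apply_conj]
      rfl
    show (χ : G → ℂ) y * conj (linVal ψ y) = (χ : G → ℂ) (conjQ Q n y) * conj (linVal (twist Q n ψ) (conjQ Q n y))
    rw [h1, coe_conjQ, irr_isClassFunction]

theorem coefN_twist (χ : IrrCharacter G) (ψ : Q →* ℂˣ) (n : Subgroup.normalizer (Q : Set G)) :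
    coefN χ (twist Q n ψ) = coefN χ ψ := by
  have h := coefL_twist χ ψ n
  rw [← coefN_spec, ← coefN_spec] at h
  exact_mod_cast h

/-- The restriction to `Q` of a character, in terms of the multiplicities. -/
theorem apply_eq_sum_coefL (hcomm : ∀ a ∈ Q, ∀ b ∈ Q, a * b = b * a) (χ : IrrCharacter G) (y : Q) :
    (χ : G → ℂ) y = ∑ ψ : Q →* ℂˣ, coefL χ ψ * linVal ψ y := by
  have hcomm' : ∀ a b : Q, a * b = b * a := fun a b => Subtype.ext (hcomm a a.2 b b.2)
  exact (fourier_inversion hcomm' (fun t : Q => (χ : G → ℂ) t) y).symm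

end Coef

section Phi

variable {G : Type u} [Group G] [Fintype G] {p : ℕ} [hp : Fact p.Prime] {M : Ideal AlgInt}
  {Q : Subgroup G} [Fintype Q] [Fintype (Subgroup.normalizer (Q : Set G))] [Fintype (Q →* ℂˣ)]

/-- The character attached to a linear character of `Q`. -/
noncomputable def phiB (M : Ideal AlgInt) (ψ : Q →* ℂˣ) (g : G) : ℂ :=
  ∑ χ : IrrCharacter G, (indic (principalBlock M G) χ * coefL χ ψ) * (χ : G → ℂ) g

theorem phiB_expand (ψ : Q →* ℂˣ) (g : G) :
    phiB M ψ g = (Nat.card Q : ℂ)⁻¹ * ∑ t : Q, conj (linVal ψ t) *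
      ∑ χ : IrrCharacter G, indic (principalBlock M G) χ * ((χ : G → ℂ) t * (χ : G → ℂ) g) := by
  rw [phiB, Finset.mul_sum]
  simp_rw [Finset.mul_sum]
  rw [Finset.sum_comm]
  refine Finset.sum_congr rfl fun χ _ => ?_
  rw [coefL, Finset.mul_sum, Finset.mul_sum, Finset.sum_mul]
  refine Finset.sum_congr rfl fun t _ => ?_
  ring

theorem FrobSetup.phiB_regular (h : FrobSetup p M Q) (ψ : Q →* ℂˣ) {g : G} (hg : ¬ p ∣ orderOf g) :
    phiB M ψ g = (Nat.card Q : ℂ)⁻¹ *
      ∑ χ : IrrCharacter G, indic (principalBlock M G) χ * ((χ : G → ℂ) 1 * (χ : G → ℂ) g) := by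
  classical
  rw [phiB_expand]
  congr 1
  rw [Finset.sum_eq_single (1 : Q)]
  · simp
  · intro t _ ht
    have ht1 : (t : G) ≠ 1 := fun e => ht (Subtype.ext e)
    rw [h.column_regular t.2 ht1 hg, mul_zero]
  · intro h
    exact absurd (Finset.mem_univ _) h

theorem FrobSetup.phiB_section (h : FrobSetup p M Q) (ψ : Q →* ℂˣ) {z : G} {y : Q} (hzy : IsPPart p z (y : G))
    (hy1 : (y : G) ≠ 1) : phiB M ψ z = orbVal ψ y := by
  classical
  have hcQ : (Nat.card Q : ℂ) ≠ 0 := by exact_mod_cast Nat.card_pos.ne'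
  have hcC : (Nat.card (Subgroup.centralizer (Q : Set G)) : ℂ) ≠ 0 := by
    have : Finite (Subgroup.centralizer (Q : Set G)) := Finite.of_injective
      (fun c => (⟨c.1, centralizer_le_normalizer_coe Q c.2⟩ : Subgroup.normalizer (Q : Set G)))
      (fun a b h => Subtype.ext (congrArg (fun x => (x : Subgroup.normalizer (Q : Set G)).1) h))
    exact_mod_cast Nat.card_pos.ne'
  have hy1' : y⁻¹ ≠ 1 := fun e => hy1 (by
    have := inv_eq_one.mp e
    rw [this]
    rfl)
  have hy2 : ((y⁻¹ : Q) : G) ≠ 1 := fun e => hy1' (Subtype.ext e)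
  have h1 : ∀ t : Q, ∑ χ : IrrCharacter G, indic (principalBlock M G) χ * ((χ : G → ℂ) t * (χ : G → ℂ) z) =
      if IsConj (t : G) ((y⁻¹ : Q) : G) then (Nat.card Q : ℂ) else 0 := by
    intro t
    rw [← h.column (y⁻¹ : Q).2 t.2 hy2]
    refine Finset.sum_congr rfl fun χ _ => ?_
    by_cases hχ : χ ∈ principalBlock M G
    · rw [h.apply_eq_of_isPPart hzy y.2 hy1 hχ, ← irr_apply_inv]
      simp
    · simp [indic_apply_of_notMem hχ]
  rw [phiB_expand]
  simp_rw [h1]
  have h2 := h.sum_conj_fiber (fun t : Q => conj (linVal ψ t)) y⁻¹ hy1'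
  have h3 : ∀ x : Subgroup.normalizer (Q : Set G), conj (linVal ψ (conjQ Q x y⁻¹)) = linVal ψ (conjQ Q x y) := by
    intro x
    rw [map_inv, linVal_inv, Complex.conj_conj]
  simp only [h3] at h2
  rw [orbVal, h2, ← mul_assoc, inv_mul_cancel₀ hcC, one_mul, Finset.mul_sum]
  refine Finset.sum_congr rfl fun t _ => ?_
  by_cases hc : IsConj (t : G) ((y⁻¹ : Q) : G)
  · simp only [hc, if_true]
    field_simp
  · simp only [hc, if_false, mul_zero]

/-- Gram matrix of the multiplicity vectors. -/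
noncomputable def kappaB (M : Ideal AlgInt) (Q : Subgroup G) [Fintype Q] [Fintype (Subgroup.normalizer (Q : Set G))] : ℂ :=
  (Nat.card Q : ℂ)⁻¹ * (Nat.card Q : ℂ)⁻¹ *
      ∑ χ : IrrCharacter G, indic (principalBlock M G) χ * ((χ : G → ℂ) 1 * conj ((χ : G → ℂ) 1)) -
    (Nat.card Q : ℂ)⁻¹ * (Nat.card (Subgroup.centralizer (Q : Set G)) : ℂ)⁻¹ * (Nat.card (Subgroup.normalizer (Q : Set G)) : ℂ)

open scoped Classical in
theorem FrobSetup.gram (h : FrobSetup p M Q) (ψ₁ ψ₂ : Q →* ℂˣ) :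
    ∑ χ : IrrCharacter G, indic (principalBlock M G) χ * (coefL χ ψ₁ * conj (coefL χ ψ₂)) =
      kappaB M Q + (Nat.card (Subgroup.centralizer (Q : Set G)) : ℂ)⁻¹ *
        ((Finset.univ.filter (fun x : Subgroup.normalizer (Q : Set G) => twist Q x ψ₁ = ψ₂)).card : ℂ) := by
  have hcQ : (Nat.card Q : ℂ) ≠ 0 := by exact_mod_cast Nat.card_pos.ne'
  have hcC : (Nat.card (Subgroup.centralizer (Q : Set G)) : ℂ) ≠ 0 := by
    have : Finite (Subgroup.centralizer (Q : Set G)) := Finite.of_injective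
      (fun c => (⟨c.1, centralizer_le_normalizer_coe Q c.2⟩ : Subgroup.normalizer (Q : Set G)))
      (fun a b h => Subtype.ext (congrArg (fun x => (x : Subgroup.normalizer (Q : Set G)).1) h))
    exact_mod_cast Nat.card_pos.ne'
  set A := ∑ χ : IrrCharacter G, indic (principalBlock M G) χ * ((χ : G → ℂ) 1 * conj ((χ : G → ℂ) 1)) with hA
  let T : Q → Q → ℂ := fun y y' => ∑ χ : IrrCharacter G, indic (principalBlock M G) χ * ((χ : G → ℂ) y * conj ((χ : G → ℂ) y'))
  let Hf : Q → ℂ := fun y' => ∑ x : Subgroup.normalizer (Q : Set G), conj (linVal ψ₁ (conjQ Q x y'))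
  -- expansion
  have h1 : ∑ χ : IrrCharacter G, indic (principalBlock M G) χ * (coefL χ ψ₁ * conj (coefL χ ψ₂)) =
      (Nat.card Q : ℂ)⁻¹ * (Nat.card Q : ℂ)⁻¹ * ∑ y' : Q, linVal ψ₂ y' * ∑ y : Q, conj (linVal ψ₁ y) * T y y' := by
    have e1 : ∀ χ : IrrCharacter G, indic (principalBlock M G) χ * (coefL χ ψ₁ * conj (coefL χ ψ₂)) =
        (Nat.card Q : ℂ)⁻¹ * (Nat.card Q : ℂ)⁻¹ * ∑ y' : Q, linVal ψ₂ y' * ∑ y : Q, conj (linVal ψ₁ y) *
          (indic (principalBlock M G) χ * ((χ : G → ℂ) y * conj ((χ : G → ℂ) y'))) := by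
      intro χ
      rw [coefL, coefL, map_mul, map_inv₀, Complex.conj_natCast, map_sum]
      have e2 : (∑ y : Q, (χ : G → ℂ) y * conj (linVal ψ₁ y)) * (∑ y' : Q, conj ((χ : G → ℂ) y' * conj (linVal ψ₂ y'))) =
          ∑ y' : Q, ∑ y : Q, ((χ : G → ℂ) y * conj (linVal ψ₁ y)) * conj ((χ : G → ℂ) y' * conj (linVal ψ₂ y')) := by
        rw [Finset.sum_mul_sum, Finset.sum_comm]
      calc _ = (Nat.card Q : ℂ)⁻¹ * (Nat.card Q : ℂ)⁻¹ * (indic (principalBlock M G) χ * ((∑ y : Q, (χ : G → ℂ) y * conj (linVal ψ₁ y)) * (∑ y' : Q, conj ((χ : G → ℂ) y' * conj (linVal ψ₂ y'))))) := by ring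
        _ = _ := by
          rw [e2, Finset.mul_sum]
          congr 1
          refine Finset.sum_congr rfl fun y' _ => ?_
          rw [Finset.mul_sum, Finset.mul_sum]
          refine Finset.sum_congr rfl fun y _ => ?_
          rw [map_mul, Complex.conj_conj]
          ring
    rw [Finset.sum_congr rfl (fun χ _ => e1 χ), ← Finset.mul_sum]
    congr 1
    rw [Finset.sum_comm]
    refine Finset.sum_congr rfl fun y' _ => ?_
    rw [← Finset.mul_sum, Finset.sum_comm]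
    congr 1
    refine Finset.sum_congr rfl fun y _ => ?_
    rw [← Finset.mul_sum]
  -- the inner sum
  have h2 : ∀ y' : Q, linVal ψ₂ y' * ∑ y : Q, conj (linVal ψ₁ y) * T y y' =
      linVal ψ₂ y' * ((Nat.card Q : ℂ) * (Nat.card (Subgroup.centralizer (Q : Set G)) : ℂ)⁻¹ * Hf y') +
        if y' = 1 then (A - (Nat.card Q : ℂ) * (Nat.card (Subgroup.centralizer (Q : Set G)) : ℂ)⁻¹ * (Nat.card (Subgroup.normalizer (Q : Set G)) : ℂ)) else 0 := by
    intro y'
    by_cases hy' : y' = 1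
    · subst hy'
      have e1 : ∑ y : Q, conj (linVal ψ₁ y) * T y 1 = A := by
        rw [Finset.sum_eq_single (1 : Q)]
        · simp [T, hA]
        · intro y _ hy
          have hy1 : (y : G) ≠ 1 := fun e => hy (Subtype.ext e)
          have : T y 1 = 0 := h.column_one y.2 hy1
          rw [this, mul_zero]
        · intro h
          exact absurd (Finset.mem_univ _) h
      have e2 : Hf 1 = (Nat.card (Subgroup.normalizer (Q : Set G)) : ℂ) := by
        simp [Hf, Nat.card_eq_fintype_card]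
      rw [e1, e2, if_pos rfl]
      simp only [linVal_one]
      ring
    · rw [if_neg hy', add_zero]
      congr 1
      have hy1 : (y' : G) ≠ 1 := fun e => hy' (Subtype.ext e)
      have e1 : ∀ y : Q, conj (linVal ψ₁ y) * T y y' = (Nat.card Q : ℂ) * if IsConj (y : G) (y' : G) then conj (linVal ψ₁ y) else 0 := by
        intro y
        have : T y y' = if IsConj (y : G) (y' : G) then (Nat.card Q : ℂ) else 0 := h.column y'.2 y.2 hy1
        rw [this]
        by_cases hc : IsConj (y : G) (y' : G)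
        · simp only [hc, if_true]
          ring
        · simp only [hc, if_false, mul_zero]
      rw [Finset.sum_congr rfl (fun y _ => e1 y), ← Finset.mul_sum]
      have e2 := h.sum_conj_fiber (fun t : Q => conj (linVal ψ₁ t)) y' hy'
      show _ = _ * _ * (∑ x : Subgroup.normalizer (Q : Set G), conj (linVal ψ₁ (conjQ Q x y')))
      rw [e2]
      field_simp
  -- the double sum
  have h3 : ∑ y' : Q, linVal ψ₂ y' * Hf y' = (Nat.card Q : ℂ) *
      ((Finset.univ.filter (fun x : Subgroup.normalizer (Q : Set G) => twist Q x ψ₁ = ψ₂)).card : ℂ) := by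
    simp only [Hf, Finset.mul_sum]
    rw [Finset.sum_comm]
    have e1 : ∀ x : Subgroup.normalizer (Q : Set G), ∑ y' : Q, linVal ψ₂ y' * conj (linVal ψ₁ (conjQ Q x y')) =
        if twist Q x⁻¹ ψ₁ = ψ₂ then (Nat.card Q : ℂ) else 0 := by
      intro x
      have e2 : ∀ y' : Q, linVal ψ₂ y' * conj (linVal ψ₁ (conjQ Q x y')) = linVal ψ₂ y' * conj (linVal (twist Q x⁻¹ ψ₁) y') := by
        intro y'
        have e3 : linVal ψ₁ (conjQ Q x y') = linVal (twist Q x⁻¹ ψ₁) y' := by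
          simp only [linVal]
          rw [apply_conj_eq_twist]
        rw [e3]
      rw [Finset.sum_congr rfl (fun y' _ => e2 y'), sum_linVal_mul_conj]
      by_cases hc : twist Q x⁻¹ ψ₁ = ψ₂
      · rw [if_pos hc, if_pos hc.symm]
      · rw [if_neg hc, if_neg (fun e => hc e.symm)]
    rw [Finset.sum_congr rfl (fun x _ => e1 x)]
    have e3 : ∑ x : Subgroup.normalizer (Q : Set G), (if twist Q x⁻¹ ψ₁ = ψ₂ then (Nat.card Q : ℂ) else 0) =
        ∑ x : Subgroup.normalizer (Q : Set G), (if twist Q x ψ₁ = ψ₂ then (Nat.card Q : ℂ) else 0) := by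
      refine Fintype.sum_equiv (Equiv.inv _) _ _ fun x => ?_
      simp
    rw [e3, Finset.sum_ite, Finset.sum_const_zero, add_zero, Finset.sum_const, nsmul_eq_mul, mul_comm]
  rw [h1, Finset.sum_congr rfl (fun y' _ => h2 y'), Finset.sum_add_distrib, Finset.sum_ite_eq' Finset.univ (1 : Q)]
  simp only [Finset.mem_univ, if_true]
  have h4 : ∑ y' : Q, linVal ψ₂ y' * ((Nat.card Q : ℂ) * (Nat.card (Subgroup.centralizer (Q : Set G)) : ℂ)⁻¹ * Hf y') =
      (Nat.card Q : ℂ) * (Nat.card (Subgroup.centralizer (Q : Set G)) : ℂ)⁻¹ * ∑ y' : Q, linVal ψ₂ y' * Hf y' := by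
    rw [Finset.mul_sum]
    refine Finset.sum_congr rfl fun y' _ => ?_
    ring
  rw [h4, h3, kappaB, ← hA]
  field_simp
  ring

end Phi

section GramFacts

variable {G : Type u} [Group G] [Fintype G] {p : ℕ} [hp : Fact p.Prime] {M : Ideal AlgInt}
  {Q : Subgroup G} [Fintype Q] [Fintype (Subgroup.normalizer (Q : Set G))] [Fintype (Q →* ℂˣ)]

theorem card_centralizer_ne_zero_coe (Q : Subgroup G) [Fintype (Subgroup.normalizer (Q : Set G))] :
    (Nat.card (Subgroup.centralizer (Q : Set G)) : ℂ) ≠ 0 := by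
  have : Finite (Subgroup.centralizer (Q : Set G)) := Finite.of_injective
    (fun c => (⟨c.1, centralizer_le_normalizer_coe Q c.2⟩ : Subgroup.normalizer (Q : Set G)))
    (fun a b h => Subtype.ext (congrArg (fun x => (x : Subgroup.normalizer (Q : Set G)).1) h))
  exact_mod_cast Nat.card_pos.ne'

open scoped Classical in
theorem FrobSetup.gram_ne_one (h : FrobSetup p M Q) {ψ₁ : Q →* ℂˣ} (hψ₁ : ψ₁ ≠ 1) (ψ₂ : Q →* ℂˣ) :
    ∑ χ : IrrCharacter G, indic (principalBlock M G) χ * (coefL χ ψ₁ * conj (coefL χ ψ₂)) =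
      kappaB M Q + if ∃ n, twist Q n ψ₁ = ψ₂ then 1 else 0 := by
  rw [h.gram]
  congr 1
  by_cases hex : ∃ n, twist Q n ψ₁ = ψ₂
  · obtain ⟨n₀, rfl⟩ := hex
    rw [if_pos ⟨n₀, rfl⟩, card_filter_twist h.comm h.frob hψ₁ n₀]
    exact inv_mul_cancel₀ (card_centralizer_ne_zero_coe Q)
  · rw [if_neg hex]
    have h1 : Finset.univ.filter (fun x : Subgroup.normalizer (Q : Set G) => twist Q x ψ₁ = ψ₂) = ∅ := by
      apply Finset.filter_eq_empty_iff.mpr
      intro x _ hx
      exact hex ⟨x, hx⟩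
    rw [h1]
    simp

theorem FrobSetup.gram_one_ne (h : FrobSetup p M Q) {ψ₂ : Q →* ℂˣ} (hψ₂ : ψ₂ ≠ 1) :
    ∑ χ : IrrCharacter G, indic (principalBlock M G) χ * (coefL χ (1 : Q →* ℂˣ) * conj (coefL χ ψ₂)) = kappaB M Q := by
  classical
  rw [h.gram]
  have h1 : Finset.univ.filter (fun x : Subgroup.normalizer (Q : Set G) => twist Q x (1 : Q →* ℂˣ) = ψ₂) = ∅ := by
    apply Finset.filter_eq_empty_iff.mpr
    intro x _ hx
    rw [twist_one_char] at hx
    exact hψ₂ hx.symm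
  rw [h1]
  simp

theorem FrobSetup.gram_one_one (h : FrobSetup p M Q) :
    ∑ χ : IrrCharacter G, indic (principalBlock M G) χ * (coefL χ (1 : Q →* ℂˣ) * conj (coefL χ (1 : Q →* ℂˣ))) =
      kappaB M Q + (Nat.card (Subgroup.centralizer (Q : Set G)) : ℂ)⁻¹ * (Nat.card (Subgroup.normalizer (Q : Set G)) : ℂ) := by
  classical
  rw [h.gram]
  have h1 : Finset.univ.filter (fun x : Subgroup.normalizer (Q : Set G) => twist Q x (1 : Q →* ℂˣ) = 1) = Finset.univ := by
    apply Finset.filter_true_of_mem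
    intro x _
    exact twist_one_char Q x
  rw [h1, Finset.card_univ, ← Nat.card_eq_fintype_card]

theorem phiB_isClassFunction (ψ : Q →* ℂˣ) : IsClassFunction G (phiB M ψ) := by
  intro g x
  simp only [phiB]
  refine Finset.sum_congr rfl fun χ _ => ?_
  rw [irr_isClassFunction]

theorem classInner_phiB_irr (ψ : Q →* ℂˣ) (ξ : IrrCharacter G) :
    classInner (phiB M ψ) (ξ : G → ℂ) = indic (principalBlock M G) ξ * coefL ξ ψ :=
  classInner_sum_irr (fun χ => indic (principalBlock M G) χ * coefL χ ψ) ξ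

theorem isCharacter_phiB (ψ : Q →* ℂˣ) : IsCharacter G (phiB M ψ) := by
  classical
  refine isCharacter_of_classInner_nat (phiB_isClassFunction ψ) fun ξ hξ => ?_
  have h1 := classInner_phiB_irr (M := M) ψ ⟨ξ, hξ⟩
  rw [show ((⟨ξ, hξ⟩ : IrrCharacter G) : G → ℂ) = ξ from rfl] at h1
  rw [h1]
  by_cases h2 : (⟨ξ, hξ⟩ : IrrCharacter G) ∈ principalBlock M G
  · refine ⟨coefN ⟨ξ, hξ⟩ ψ, ?_⟩
    rw [indic_apply_of_mem h2, one_mul, coefN_spec]
  · refine ⟨0, ?_⟩
    rw [indic_apply_of_notMem h2, zero_mul, Nat.cast_zero]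

theorem classInner_phiB (ψ₁ ψ₂ : Q →* ℂˣ) :
    classInner (phiB M ψ₁) (phiB M ψ₂) =
      ∑ χ : IrrCharacter G, indic (principalBlock M G) χ * (coefL χ ψ₁ * conj (coefL χ ψ₂)) := by
  classical
  rw [classInner_eq_sum_coeffs _ _ (phiB_isClassFunction ψ₁) (phiB_isClassFunction ψ₂)]
  refine Finset.sum_congr rfl fun χ _ => ?_
  rw [classInner_phiB_irr, classInner_phiB_irr]
  by_cases h2 : χ ∈ principalBlock M G
  · simp [indic_apply_of_mem h2]
  · simp [indic_apply_of_notMem h2]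

theorem phiB_one_eq_of_regular (h : FrobSetup p M Q) (ψ ψ' : Q →* ℂˣ) {g : G} (hg : ¬ p ∣ orderOf g) :
    phiB M ψ g = phiB M ψ' g := by
  rw [h.phiB_regular ψ hg, h.phiB_regular ψ' hg]

open scoped Classical in
/-- The orbits of the normalizer on the non-principal linear characters. -/
theorem FrobSetup.exists_orbit_data (h : FrobSetup p M Q) (hQ : Nat.card Q ≠ 1) :
    ∃ (r : ℕ) (rep : Fin r → (Q →* ℂˣ)) (idx : (Q →* ℂˣ) → Fin r),
      (∀ i, rep i ≠ 1) ∧ (∀ i, idx (rep i) = i) ∧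
      (∀ ψ ψ', ψ ≠ 1 → ((ψ' ≠ 1 ∧ idx ψ' = idx ψ) ↔ ∃ n, twist Q n ψ = ψ')) ∧
      r * Nat.card (Subgroup.normalizer (Q : Set G)) = (Nat.card Q - 1) * Nat.card (Subgroup.centralizer (Q : Set G)) := by
  have hcomm' : ∀ a b : Q, a * b = b * a := fun a b => Subtype.ext (h.comm a a.2 b b.2)
  have hLcard : Nat.card (Q →* ℂˣ) = Nat.card Q := card_dual hcomm'
  obtain ⟨ψ₀, hψ₀⟩ : ∃ ψ₀ : Q →* ℂˣ, ψ₀ ≠ 1 := by
    haveI : Nontrivial (Q →* ℂˣ) := by
      rw [← Finite.one_lt_card_iff_nontrivial, hLcard]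
      have := Nat.card_pos (α := Q)
      omega
    exact exists_ne 1
  let S : Setoid {ψ : Q →* ℂˣ // ψ ≠ 1} :=
    { r := fun a b => ∃ n, twist Q n a.1 = b.1
      iseqv := ⟨fun a => ⟨1, twist_one Q a.1⟩,
        fun {a b} ⟨n, hn⟩ => ⟨n⁻¹, by rw [← hn, twist_inv_twist]⟩,
        fun {a b c} ⟨n, hn⟩ ⟨n', hn'⟩ => ⟨n' * n, by rw [twist_mul, hn, hn']⟩⟩ }
  letI : Fintype (Quotient S) := Fintype.ofFinite _
  let e := Fintype.equivFin (Quotient S)
  let rep : Fin (Fintype.card (Quotient S)) → (Q →* ℂˣ) := fun i => (Quotient.out (e.symm i)).1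
  let idx : (Q →* ℂˣ) → Fin (Fintype.card (Quotient S)) := fun ψ =>
    if hψ : ψ ≠ 1 then e (Quotient.mk S ⟨ψ, hψ⟩) else e (Quotient.mk S ⟨ψ₀, hψ₀⟩)
  have hrep : ∀ i, rep i ≠ 1 := fun i => (Quotient.out (e.symm i)).2
  have hidx : ∀ i, idx (rep i) = i := by
    intro i
    simp only [idx, dif_pos (hrep i)]
    have h1 : (Quotient.mk S ⟨rep i, hrep i⟩) = e.symm i := Quotient.out_eq (e.symm i)
    rw [h1, Equiv.apply_symm_apply]
  have hiff : ∀ ψ ψ', ψ ≠ 1 → ((ψ' ≠ 1 ∧ idx ψ' = idx ψ) ↔ ∃ n, twist Q n ψ = ψ') := by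
    intro ψ ψ' hψ
    constructor
    · rintro ⟨hψ', hi⟩
      simp only [idx, dif_pos hψ', dif_pos hψ] at hi
      have h1 := e.injective hi
      have h2 : S.r ⟨ψ, hψ⟩ ⟨ψ', hψ'⟩ := Quotient.exact h1.symm
      exact h2
    · rintro ⟨n, rfl⟩
      have hψ' := twist_ne_one Q hψ n
      refine ⟨hψ', ?_⟩
      simp only [idx, dif_pos hψ', dif_pos hψ]
      congr 1
      exact (Quotient.sound (s := S) (show S.r ⟨ψ, hψ⟩ ⟨twist Q n ψ, hψ'⟩ from ⟨n, rfl⟩)).symm
  refine ⟨Fintype.card (Quotient S), rep, idx, hrep, hidx, hiff, ?_⟩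
  -- the orbit sizes
  have hf : ∀ i, (Finset.univ.filter (fun ψ : Q →* ℂˣ => ψ ≠ 1 ∧ idx ψ = i)).card * Nat.card (Subgroup.centralizer (Q : Set G)) =
      Nat.card (Subgroup.normalizer (Q : Set G)) := by
    intro i
    have h1 := Finset.card_eq_sum_card_fiberwise (s := Finset.univ) (t := Finset.univ.filter (fun ψ : Q →* ℂˣ => ψ ≠ 1 ∧ idx ψ = i))
      (f := fun n : Subgroup.normalizer (Q : Set G) => twist Q n (rep i)) (by
        intro n _
        have h2 := (hiff (rep i) (twist Q n (rep i)) (hrep i)).mpr ⟨n, rfl⟩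
        simp only [Finset.coe_filter, Finset.mem_univ, true_and, Set.mem_ofPred_eq]
        exact ⟨h2.1, by rw [h2.2, hidx]⟩)
    have h5 : Nat.card (Subgroup.normalizer (Q : Set G)) = (Finset.univ : Finset (Subgroup.normalizer (Q : Set G))).card := by
      rw [Nat.card_eq_fintype_card, Finset.card_univ]
    rw [h5, h1]
    have h3 : ∀ ψ' ∈ Finset.univ.filter (fun ψ : Q →* ℂˣ => ψ ≠ 1 ∧ idx ψ = i),
        (Finset.univ.filter (fun n : Subgroup.normalizer (Q : Set G) => twist Q n (rep i) = ψ')).card =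
          Nat.card (Subgroup.centralizer (Q : Set G)) := by
      intro ψ' hψ'
      obtain ⟨-, hne, hi⟩ := Finset.mem_filter.mp hψ'
      obtain ⟨n₀, rfl⟩ := (hiff (rep i) ψ' (hrep i)).mp ⟨hne, by rw [hi, hidx]⟩
      exact card_filter_twist h.comm h.frob (hrep i) n₀
    rw [Finset.sum_congr rfl h3, Finset.sum_const, smul_eq_mul]
  have hsum : ∑ i : Fin (Fintype.card (Quotient S)), (Finset.univ.filter (fun ψ : Q →* ℂˣ => ψ ≠ 1 ∧ idx ψ = i)).card = Nat.card Q - 1 := by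
    have h1 := Finset.card_eq_sum_card_fiberwise (s := Finset.univ.filter (fun ψ : Q →* ℂˣ => ψ ≠ 1)) (t := Finset.univ)
      (f := idx) (fun _ _ => by simp)
    have h2 : (Finset.univ.filter (fun ψ : Q →* ℂˣ => ψ ≠ 1)).card = Nat.card Q - 1 := by
      rw [← hLcard, Nat.card_eq_fintype_card, ← Finset.card_univ]
      have h3 : Finset.univ.filter (fun ψ : Q →* ℂˣ => ψ ≠ 1) = Finset.univ.erase 1 := by
        ext ψ
        simp
      rw [h3, Finset.card_erase_of_mem (Finset.mem_univ _)]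
    rw [← h2, h1]
    refine Finset.sum_congr rfl fun i _ => ?_
    congr 1
    ext ψ
    simp [Finset.mem_filter]
  calc Fintype.card (Quotient S) * Nat.card (Subgroup.normalizer (Q : Set G))
      = ∑ i : Fin (Fintype.card (Quotient S)), Nat.card (Subgroup.normalizer (Q : Set G)) := by
        simp
    _ = ∑ i : Fin (Fintype.card (Quotient S)), (Finset.univ.filter (fun ψ : Q →* ℂˣ => ψ ≠ 1 ∧ idx ψ = i)).card * Nat.card (Subgroup.centralizer (Q : Set G)) :=
        Finset.sum_congr rfl fun i _ => (hf i).symm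
    _ = _ := by rw [← Finset.sum_mul, hsum]

end GramFacts

section Lattice

variable {G : Type u} [Group G] [Fintype G] {p : ℕ} [hp : Fact p.Prime] {M : Ideal AlgInt}
  {Q : Subgroup G} [Fintype Q] [Fintype (Subgroup.normalizer (Q : Set G))] [Fintype (Q →* ℂˣ)]

/-- The data provided by the isometry: orbit representatives and exceptional characters. -/
structure BrauerData (p : ℕ) [hp : Fact p.Prime] (M : Ideal AlgInt) (Q : Subgroup G) [Fintype Q]
    [Fintype (Subgroup.normalizer (Q : Set G))] [Fintype (Q →* ℂˣ)] (r : ℕ) where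
  setup : FrobSetup p M Q
  rep : Fin r → (Q →* ℂˣ)
  idx : (Q →* ℂˣ) → Fin r
  rep_ne : ∀ i, rep i ≠ 1
  idx_rep : ∀ i, idx (rep i) = i
  idx_iff : ∀ ψ ψ', ψ ≠ 1 → ((ψ' ≠ 1 ∧ idx ψ' = idx ψ) ↔ ∃ n, twist Q n ψ = ψ')
  i₀ : Fin r
  other : ∃ i, i ≠ i₀
  E : ℤ
  E_sign : E = 1 ∨ E = -1
  μ : Fin r → IrrCharacter G
  μ_inj : Function.Injective μ
  τ_eq : ∀ i g, phiB M (rep i) g - phiB M (rep i₀) g = (E : ℂ) * ((μ i : G → ℂ) g - (μ i₀ : G → ℂ) g)

theorem exists_brauerData (h : FrobSetup p M Q) {r : ℕ} (hr : 1 < r) (rep : Fin r → (Q →* ℂˣ))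
    (idx : (Q →* ℂˣ) → Fin r) (hrep : ∀ i, rep i ≠ 1) (hidx : ∀ i, idx (rep i) = i)
    (hiff : ∀ ψ ψ', ψ ≠ 1 → ((ψ' ≠ 1 ∧ idx ψ' = idx ψ) ↔ ∃ n, twist Q n ψ = ψ')) :
    Nonempty (BrauerData p M Q r) := by
  classical
  let i₀ : Fin r := ⟨0, by omega⟩
  let i₁ : Fin r := ⟨1, hr⟩
  have hother : ∃ i, i ≠ i₀ := ⟨i₁, fun e => by
    have := congrArg Fin.val e
    simp [i₀, i₁] at this⟩
  let τ : Fin r → G → ℂ := fun i => phiB M (rep i) - phiB M (rep i₀)
  have hgen : ∀ i, IsGeneralizedCharacter G (τ i) := fun i =>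
    ⟨_, _, isCharacter_phiB _, isCharacter_phiB _, rfl⟩
  have hone : ∀ i, τ i 1 = 0 := by
    intro i
    show phiB M (rep i) 1 - phiB M (rep i₀) 1 = 0
    rw [phiB_one_eq_of_regular h (rep i) (rep i₀) (g := 1) (by simpa using hp.out.ne_one), sub_self]
  have hG : ∀ i j, classInner (phiB M (rep i)) (phiB M (rep j)) = kappaB M Q + if i = j then 1 else 0 := by
    intro i j
    rw [classInner_phiB, h.gram_ne_one (hrep i)]
    congr 1
    by_cases hij : i = j
    · subst hij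
      rw [if_pos rfl, if_pos ⟨1, twist_one Q _⟩]
    · rw [if_neg hij, if_neg]
      intro hex
      have h1 := (hiff (rep i) (rep j) (hrep i)).mpr hex
      rw [hidx, hidx] at h1
      exact hij h1.2.symm
  have hgram : ∀ i j, i ≠ i₀ → j ≠ i₀ → classInner (τ i) (τ j) = if i = j then 2 else 1 := by
    intro i j hi hj
    show classInner (phiB M (rep i) - phiB M (rep i₀)) (phiB M (rep j) - phiB M (rep i₀)) = _
    rw [classInner_sub_left, classInner_sub_right, classInner_sub_right, hG, hG, hG, hG, if_neg hi, if_neg hj.symm, if_pos rfl]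
    by_cases hij : i = j
    · simp only [hij, if_true]
      ring
    · simp only [hij, if_false]
      ring
  obtain ⟨ε, hε, μ, hμ, hinj, hτ⟩ := exists_irr_of_gram i₀ τ (by
    funext g
    simp [τ]) hgen hone hgram
  let E : ℤ := if ε = 1 then 1 else -1
  have hEε : (E : ℂ) = ε := by
    rcases hε with rfl | rfl
    · simp [E]
    · have : (-1 : ℂ) ≠ 1 := by norm_num
      simp [E, this]
  refine ⟨⟨h, rep, idx, hrep, hidx, hiff, i₀, hother, E, ?_, fun i => ⟨μ i, hμ i⟩, ?_, ?_⟩⟩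
  · simp only [E]
    split_ifs
    · exact Or.inl rfl
    · exact Or.inr rfl
  · intro i j hij
    exact hinj (congrArg Subtype.val hij)
  · intro i g
    have := congrFun (hτ i) g
    rw [hEε]
    exact this

namespace BrauerData

variable {r : ℕ} (D : BrauerData p M Q r)

theorem E_ne_zero : (D.E : ℂ) ≠ 0 := by
  rcases D.E_sign with h | h <;> rw [h] <;> norm_num

theorem E_sq : (D.E : ℂ) * (D.E : ℂ) = 1 := by
  rcases D.E_sign with h | h <;> rw [h] <;> norm_num

theorem E_sq_int : D.E * D.E = 1 := by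
  rcases D.E_sign with h | h <;> rw [h] <;> norm_num

open scoped Classical in
theorem coef_rel' (χ : IrrCharacter G) (i : Fin r) :
    indic (principalBlock M G) χ * (coefL χ (D.rep i) - coefL χ (D.rep D.i₀)) =
      (D.E : ℂ) * ((if D.μ i = χ then 1 else 0) - (if D.μ D.i₀ = χ then 1 else 0)) := by
  have h1 : phiB M (D.rep i) - phiB M (D.rep D.i₀) = (D.E : ℂ) • ((D.μ i : G → ℂ) - (D.μ D.i₀ : G → ℂ)) := by
    funext g
    exact D.τ_eq i g
  have h2 : classInner (phiB M (D.rep i) - phiB M (D.rep D.i₀)) (χ : G → ℂ) = classInner ((D.E : ℂ) • ((D.μ i : G → ℂ) - (D.μ D.i₀ : G → ℂ))) (χ : G → ℂ) := by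
    rw [h1]
  rw [classInner_sub_left, classInner_phiB_irr, classInner_phiB_irr, classInner_smul_left, classInner_sub_left,
    classInner_irr (D.μ i).2 χ.2, classInner_irr (D.μ D.i₀).2 χ.2] at h2
  rw [mul_sub, h2]
  have e1 : ∀ x : IrrCharacter G, ((x : G → ℂ) = (χ : G → ℂ)) ↔ x = χ := fun x => Subtype.ext_iff.symm
  simp only [e1]

theorem μ_mem (j : Fin r) : D.μ j ∈ principalBlock M G := by
  classical
  by_contra hj
  have hE := D.E_ne_zero
  by_cases hj0 : j = D.i₀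
  · obtain ⟨i, hi⟩ := D.other
    have h1 := D.coef_rel' (D.μ j) i
    rw [indic_apply_of_notMem hj, zero_mul, if_neg (fun e => hi (D.μ_inj (e.trans (congrArg _ hj0)))), if_pos (by rw [hj0])] at h1
    apply hE
    have h2 : (D.E : ℂ) * (-1) = 0 := by
      rw [zero_sub] at h1
      exact h1.symm
    simpa using h2
  · have h1 := D.coef_rel' (D.μ j) j
    rw [indic_apply_of_notMem hj, zero_mul, if_pos rfl, if_neg (fun e => hj0 (D.μ_inj e).symm), sub_zero, mul_one] at h1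
    exact hE h1.symm

open scoped Classical in
theorem coef_rel {χ : IrrCharacter G} (hχ : χ ∈ principalBlock M G) (i : Fin r) :
    (coefN χ (D.rep i) : ℤ) - (coefN χ (D.rep D.i₀) : ℤ) =
      D.E * ((if D.μ i = χ then 1 else 0) - (if D.μ D.i₀ = χ then 1 else 0)) := by
  have h1 := D.coef_rel' χ i
  rw [indic_apply_of_mem hχ, one_mul, ← coefN_spec, ← coefN_spec] at h1
  have h2 : (((coefN χ (D.rep i) : ℤ) - (coefN χ (D.rep D.i₀) : ℤ) : ℤ) : ℂ) =
      ((D.E * ((if D.μ i = χ then 1 else 0) - (if D.μ D.i₀ = χ then 1 else 0)) : ℤ) : ℂ) := by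
    push_cast
    rw [h1]
  exact_mod_cast h2

open scoped Classical in
/-- The constant part of the multiplicities. -/
noncomputable def beta (χ : IrrCharacter G) : ℤ :=
  (coefN χ (D.rep D.i₀) : ℤ) - D.E * (if D.μ D.i₀ = χ then 1 else 0)

/-- The value on the non-identity elements. -/
noncomputable def valD (χ : IrrCharacter G) : ℤ :=
  (coefN χ (1 : Q →* ℂˣ) : ℤ) - D.beta χ

open scoped Classical in
theorem coef_eq {χ : IrrCharacter G} (hχ : χ ∈ principalBlock M G) {ψ : Q →* ℂˣ} (hψ : ψ ≠ 1) :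
    (coefN χ ψ : ℤ) = D.beta χ + D.E * (if D.μ (D.idx ψ) = χ then 1 else 0) := by
  obtain ⟨n, hn⟩ := (D.idx_iff (D.rep (D.idx ψ)) ψ (D.rep_ne _)).mp ⟨hψ, by rw [D.idx_rep]⟩
  have h1 : coefN χ ψ = coefN χ (D.rep (D.idx ψ)) := by
    conv_lhs => rw [← hn]
    exact coefN_twist _ _ _
  rw [h1, beta]
  have h2 := D.coef_rel hχ (D.idx ψ)
  linarith

open scoped Classical in
theorem apply_eq_sum {χ : IrrCharacter G} (hχ : χ ∈ principalBlock M G) (y : Q) (hy : y ≠ 1) :
    (χ : G → ℂ) y = (D.valD χ : ℂ) + (D.E : ℂ) *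
      ∑ ψ ∈ Finset.univ.filter (fun ψ : Q →* ℂˣ => ψ ≠ 1 ∧ D.μ (D.idx ψ) = χ), linVal ψ y := by
  have hcomm' : ∀ a b : Q, a * b = b * a := fun a b => Subtype.ext (D.setup.comm a a.2 b b.2)
  rw [apply_eq_sum_coefL D.setup.comm χ y, ← Finset.sum_filter_add_sum_filter_not Finset.univ (fun ψ : Q →* ℂˣ => ψ ≠ 1)]
  have h2 : Finset.univ.filter (fun ψ : Q →* ℂˣ => ¬ ψ ≠ 1) = {1} := by
    ext ψ
    simp
  rw [h2, Finset.sum_singleton]
  have h3 : linVal (1 : Q →* ℂˣ) y = 1 := by simp [linVal]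
  rw [h3, mul_one, ← coefN_spec]
  have h4 : ∀ ψ ∈ Finset.univ.filter (fun ψ : Q →* ℂˣ => ψ ≠ 1), coefL χ ψ * linVal ψ y =
      (D.beta χ : ℂ) * linVal ψ y + (D.E : ℂ) * (if D.μ (D.idx ψ) = χ then linVal ψ y else 0) := by
    intro ψ hψ
    have hψ1 := (Finset.mem_filter.mp hψ).2
    have h5 := congrArg (fun n : ℤ => (n : ℂ)) (D.coef_eq hχ hψ1)
    simp only [Int.cast_natCast] at h5
    rw [← coefN_spec, h5]
    by_cases h6 : D.μ (D.idx ψ) = χ
    · simp only [h6, if_true]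
      push_cast
      ring
    · simp only [h6, if_false]
      push_cast
      ring
  rw [Finset.sum_congr rfl h4, Finset.sum_add_distrib, ← Finset.mul_sum, ← Finset.mul_sum, sum_dual_ne_one hcomm' hy]
  have h7 : ∑ ψ ∈ Finset.univ.filter (fun ψ : Q →* ℂˣ => ψ ≠ 1), (if D.μ (D.idx ψ) = χ then linVal ψ y else 0) =
      ∑ ψ ∈ Finset.univ.filter (fun ψ : Q →* ℂˣ => ψ ≠ 1 ∧ D.μ (D.idx ψ) = χ), linVal ψ y := by
    rw [← Finset.sum_filter, Finset.filter_filter]
  rw [h7, valD]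
  push_cast
  ring

theorem apply_eq_of_notMem_range {χ : IrrCharacter G} (hχ : χ ∈ principalBlock M G) (hY : χ ∉ Set.range D.μ) (y : Q) (hy : y ≠ 1) :
    (χ : G → ℂ) y = (D.valD χ : ℂ) := by
  classical
  rw [D.apply_eq_sum hχ y hy]
  have h1 : Finset.univ.filter (fun ψ : Q →* ℂˣ => ψ ≠ 1 ∧ D.μ (D.idx ψ) = χ) = ∅ := by
    apply Finset.filter_eq_empty_iff.mpr
    rintro ψ _ ⟨_, h2⟩
    exact hY ⟨_, h2⟩
  rw [h1]
  simp

theorem apply_μ (j : Fin r) (y : Q) (hy : y ≠ 1) :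
    (D.μ j : G → ℂ) y = (D.valD (D.μ j) : ℂ) + (D.E : ℂ) * orbVal (D.rep j) y := by
  classical
  rw [D.apply_eq_sum (D.μ_mem j) y hy, orbVal_eq D.setup.comm D.setup.frob (D.rep_ne j)]
  congr 2
  apply Finset.sum_congr _ (fun _ _ => rfl)
  ext ψ
  simp only [Finset.mem_filter, Finset.mem_univ, true_and]
  rw [← D.idx_iff (D.rep j) ψ (D.rep_ne j), D.idx_rep]
  constructor
  · rintro ⟨h1, h2⟩
    exact ⟨h1, D.μ_inj h2⟩
  · rintro ⟨h1, h2⟩
    exact ⟨h1, by rw [h2]⟩

theorem isPPart_self_of_mem (y : Q) (h : FrobSetup p M Q) : IsPPart p (y : G) (y : G) := by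
  obtain ⟨P, rfl⟩ := h.sylow
  obtain ⟨k, hk⟩ := (IsPGroup.iff_orderOf.mp P.isPGroup') y
  refine ⟨1, by simp, Commute.one_right _, ⟨k, by rw [← hk, Subgroup.orderOf_coe]⟩, ?_⟩
  simpa using hp.out.ne_one

theorem valD_μ (j : Fin r) (y : Q) (hy : y ≠ 1) : D.valD (D.μ j) = D.valD (D.μ D.i₀) := by
  have hy1 : (y : G) ≠ 1 := fun e => hy (Subtype.ext e)
  have h1 := D.τ_eq j y
  rw [D.setup.phiB_section (D.rep j) (isPPart_self_of_mem y D.setup) hy1,
    D.setup.phiB_section (D.rep D.i₀) (isPPart_self_of_mem y D.setup) hy1,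
    D.apply_μ j y hy, D.apply_μ D.i₀ y hy] at h1
  have h2 := D.E_sq
  have h3 : (D.E : ℂ) * ((D.valD (D.μ j) : ℂ) - (D.valD (D.μ D.i₀) : ℂ)) = 0 := by
    linear_combination -h1 - (orbVal (D.rep j) y - orbVal (D.rep D.i₀) y) * h2
  have h4 := (mul_eq_zero.mp h3).resolve_left D.E_ne_zero
  have h5 : (((D.valD (D.μ j) - D.valD (D.μ D.i₀)) : ℤ) : ℂ) = 0 := by
    push_cast
    exact h4
  have h6 : D.valD (D.μ j) - D.valD (D.μ D.i₀) = 0 := by exact_mod_cast h5
  linarith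

theorem μ_regular (j j' : Fin r) {g : G} (hg : ¬ p ∣ orderOf g) : (D.μ j : G → ℂ) g = (D.μ j' : G → ℂ) g := by
  have h1 : ∀ i, (D.μ i : G → ℂ) g = (D.μ D.i₀ : G → ℂ) g := by
    intro i
    have h2 := D.τ_eq i g
    rw [phiB_one_eq_of_regular D.setup (D.rep i) (D.rep D.i₀) hg, sub_self] at h2
    have h3 := (mul_eq_zero.mp h2.symm).resolve_left D.E_ne_zero
    exact sub_eq_zero.mp h3
  rw [h1 j, h1 j']

open scoped Classical in
/-- The coefficient of `χ` in `m·1 - α`. -/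
noncomputable def fval (χ : IrrCharacter G) : ℤ :=
  D.valD χ - D.E * (if D.μ D.i₀ = χ then 1 else 0)

theorem coefN_sub {χ : IrrCharacter G} (hχ : χ ∈ principalBlock M G) :
    coefL χ (1 : Q →* ℂˣ) - coefL χ (D.rep D.i₀) = (D.fval χ : ℂ) := by
  classical
  rw [← coefN_spec, ← coefN_spec]
  have h1 : (coefN χ (D.rep D.i₀) : ℤ) = D.beta χ + D.E * (if D.μ D.i₀ = χ then 1 else 0) := by
    simp [beta]
  have h2 : D.fval χ = (coefN χ (1 : Q →* ℂˣ) : ℤ) - (coefN χ (D.rep D.i₀) : ℤ) := by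
    rw [h1, fval, valD]
    ring
  rw [h2]
  push_cast
  rfl

theorem sum_fval_sq : ∑ χ : IrrCharacter G, indic (principalBlock M G) χ * ((D.fval χ : ℂ) * (D.fval χ : ℂ)) =
    1 + (Nat.card (Subgroup.centralizer (Q : Set G)) : ℂ)⁻¹ * (Nat.card (Subgroup.normalizer (Q : Set G)) : ℂ) := by
  classical
  have h1 : ∀ χ : IrrCharacter G, indic (principalBlock M G) χ * ((D.fval χ : ℂ) * (D.fval χ : ℂ)) =
      indic (principalBlock M G) χ * (coefL χ (1 : Q →* ℂˣ) * conj (coefL χ (1 : Q →* ℂˣ))) -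
      indic (principalBlock M G) χ * (coefL χ (1 : Q →* ℂˣ) * conj (coefL χ (D.rep D.i₀))) -
      indic (principalBlock M G) χ * (coefL χ (D.rep D.i₀) * conj (coefL χ (1 : Q →* ℂˣ))) +
      indic (principalBlock M G) χ * (coefL χ (D.rep D.i₀) * conj (coefL χ (D.rep D.i₀))) := by
    intro χ
    by_cases hχ : χ ∈ principalBlock M G
    · have h2 := D.coefN_sub hχ
      have h3 : conj (coefL χ (1 : Q →* ℂˣ)) - conj (coefL χ (D.rep D.i₀)) = (D.fval χ : ℂ) := by
        rw [← map_sub, h2]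
        simp
      rw [← h2]
      nth_rewrite 2 [h2]
      rw [← h3]
      ring
    · simp [indic_apply_of_notMem hχ]
  rw [Finset.sum_congr rfl (fun χ _ => h1 χ), Finset.sum_add_distrib, Finset.sum_sub_distrib, Finset.sum_sub_distrib]
  rw [D.setup.gram_one_one, D.setup.gram_one_ne (D.rep_ne _), D.setup.gram_ne_one (D.rep_ne _), D.setup.gram_ne_one (D.rep_ne _)]
  rw [if_neg, if_pos ⟨1, twist_one Q _⟩]
  · ring
  · rintro ⟨n, hn⟩
    exact twist_ne_one Q (D.rep_ne D.i₀) n hn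

theorem sum_fval_regular {g : G} (hg : ¬ p ∣ orderOf g) :
    ∑ χ : IrrCharacter G, indic (principalBlock M G) χ * ((D.fval χ : ℂ) * (χ : G → ℂ) g) = 0 := by
  classical
  have h1 := phiB_one_eq_of_regular D.setup (1 : Q →* ℂˣ) (D.rep D.i₀) hg
  rw [phiB, phiB, ← sub_eq_zero, ← Finset.sum_sub_distrib] at h1
  rw [← h1]
  refine Finset.sum_congr rfl fun χ _ => ?_
  by_cases hχ : χ ∈ principalBlock M G
  · rw [← D.coefN_sub hχ]
    ring
  · simp [indic_apply_of_notMem hχ]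

open scoped Classical in
/-- The characters of the principal block outside the exceptional family. -/
noncomputable def Xf : Finset (IrrCharacter G) :=
  Finset.univ.filter (fun χ => χ ∈ principalBlock M G ∧ χ ∉ Set.range D.μ)

theorem mem_Xf {χ : IrrCharacter G} : χ ∈ D.Xf ↔ χ ∈ principalBlock M G ∧ χ ∉ Set.range D.μ := by
  classical
  simp [Xf]

theorem principal_eq : principalBlock M G = (D.Xf : Set (IrrCharacter G)) ∪ Set.range D.μ := by
  ext χ
  simp only [Set.mem_union, Finset.mem_coe, D.mem_Xf]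
  constructor
  · intro h
    by_cases h2 : χ ∈ Set.range D.μ
    · exact Or.inr h2
    · exact Or.inl ⟨h, h2⟩
  · rintro (h | ⟨j, rfl⟩)
    · exact h.1
    · exact D.μ_mem j

theorem disjoint_X_Y : Disjoint (D.Xf : Set (IrrCharacter G)) (Set.range D.μ) := by
  rw [Set.disjoint_left]
  intro χ h1 h2
  exact (D.mem_Xf.mp (Finset.mem_coe.mp h1)).2 h2

theorem sum_indic_split (F : IrrCharacter G → ℂ) :
    ∑ χ : IrrCharacter G, indic (principalBlock M G) χ * F χ = ∑ χ ∈ D.Xf, F χ + ∑ j, F (D.μ j) := by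
  classical
  have h1 : ∑ χ : IrrCharacter G, indic (principalBlock M G) χ * F χ =
      ∑ χ ∈ Finset.univ.filter (fun χ => χ ∈ principalBlock M G), F χ := by
    rw [Finset.sum_filter]
    refine Finset.sum_congr rfl fun χ _ => ?_
    by_cases hχ : χ ∈ principalBlock M G
    · simp [indic_apply_of_mem hχ, hχ]
    · simp [indic_apply_of_notMem hχ, hχ]
  have h2 : Finset.univ.filter (fun χ => χ ∈ principalBlock M G) = D.Xf ∪ Finset.image D.μ Finset.univ := by
    ext χ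
    simp only [Finset.mem_filter, Finset.mem_univ, true_and, Finset.mem_union, D.mem_Xf, Finset.mem_image]
    constructor
    · intro h
      by_cases h2 : χ ∈ Set.range D.μ
      · exact Or.inr h2
      · exact Or.inl ⟨h, h2⟩
    · rintro (h | ⟨j, rfl⟩)
      · exact h.1
      · exact D.μ_mem j
  rw [h1, h2, Finset.sum_union, Finset.sum_image (fun a _ b _ h => D.μ_inj h)]
  rw [Finset.disjoint_left]
  intro χ h3 h4
  obtain ⟨j, -, rfl⟩ := Finset.mem_image.mp h4
  exact (D.mem_Xf.mp h3).2 ⟨j, rfl⟩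

include D in
theorem exists_ne_one : ∃ y : Q, y ≠ 1 := by
  by_contra hall
  push Not at hall
  apply D.rep_ne D.i₀
  ext y
  rw [hall y]
  simp

theorem fval_of_mem_Xf {χ : IrrCharacter G} (hχ : χ ∈ D.Xf) : D.fval χ = D.valD χ := by
  classical
  have h := (D.mem_Xf.mp hχ).2
  rw [fval, if_neg (fun e => h ⟨_, e⟩)]
  ring

/-- The common value. -/
noncomputable def dval : ℤ := D.valD (D.μ D.i₀)

theorem valD_μ_eq (j : Fin r) : D.valD (D.μ j) = D.dval := by
  obtain ⟨y, hy⟩ := D.exists_ne_one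
  exact D.valD_μ j y hy

theorem fval_μ (j : Fin r) : D.fval (D.μ j) = D.dval - (if j = D.i₀ then D.E else 0) := by
  classical
  rw [fval, D.valD_μ_eq]
  by_cases hj : j = D.i₀
  · subst hj
    simp
  · rw [if_neg (fun e => hj (D.μ_inj e).symm), if_neg hj]
    ring

theorem sum_if_i₀ (F : Fin r → ℂ) (a b : ℂ) (h1 : F D.i₀ = a) (h2 : ∀ j, j ≠ D.i₀ → F j = b) :
    ∑ j, F j = a + ((r : ℂ) - 1) * b := by
  classical
  have hr : 1 ≤ r := by
    have := D.i₀.2
    omega
  rw [← Finset.add_sum_erase Finset.univ F (Finset.mem_univ D.i₀), h1]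
  have h3 : ∀ j ∈ Finset.univ.erase D.i₀, F j = b := fun j hj => h2 j (Finset.ne_of_mem_erase hj)
  rw [Finset.sum_congr rfl h3, Finset.sum_const, Finset.card_erase_of_mem (Finset.mem_univ _), Finset.card_univ, Fintype.card_fin, nsmul_eq_mul]
  congr 2
  rw [Nat.cast_sub hr]
  simp

/-- The norm identity. -/
theorem norm_identity {m : ℕ} (hm : Nat.card (Subgroup.normalizer (Q : Set G)) = m * Nat.card (Subgroup.centralizer (Q : Set G))) :
    (D.dval - D.E) ^ 2 + ((r : ℤ) - 1) * D.dval ^ 2 + ∑ χ ∈ D.Xf, D.valD χ ^ 2 = (m : ℤ) + 1 := by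
  classical
  have h1 := D.sum_fval_sq
  rw [D.sum_indic_split] at h1
  have h2 : (Nat.card (Subgroup.centralizer (Q : Set G)) : ℂ)⁻¹ * (Nat.card (Subgroup.normalizer (Q : Set G)) : ℂ) = m := by
    have := card_centralizer_ne_zero_coe Q
    rw [hm]
    push_cast
    field_simp
  rw [h2, D.sum_if_i₀ _ (((D.dval - D.E : ℤ) : ℂ) * ((D.dval - D.E : ℤ) : ℂ)) ((D.dval : ℂ) * (D.dval : ℂ))
    (by rw [D.fval_μ]; simp) (by
      intro j hj
      rw [D.fval_μ, if_neg hj]
      simp)] at h1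
  have h3 : ∑ χ ∈ D.Xf, ((D.fval χ : ℂ) * (D.fval χ : ℂ)) = ∑ χ ∈ D.Xf, (D.valD χ : ℂ) ^ 2 := by
    refine Finset.sum_congr rfl fun χ hχ => ?_
    rw [D.fval_of_mem_Xf hχ]
    ring
  rw [h3] at h1
  have h4 : (((D.dval - D.E) ^ 2 + ((r : ℤ) - 1) * D.dval ^ 2 + ∑ χ ∈ D.Xf, D.valD χ ^ 2 : ℤ) : ℂ) = (((m : ℤ) + 1 : ℤ) : ℂ) := by
    push_cast at h1 ⊢
    linear_combination h1
  exact_mod_cast h4

/-- The relation on the regular elements. -/
theorem regular_identity (j : Fin r) {g : G} (hg : ¬ p ∣ orderOf g) :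
    ((r : ℂ) * (D.dval : ℂ) - (D.E : ℂ)) * (D.μ j : G → ℂ) g + ∑ χ ∈ D.Xf, (D.valD χ : ℂ) * (χ : G → ℂ) g = 0 := by
  classical
  have h1 := D.sum_fval_regular hg
  rw [D.sum_indic_split] at h1
  rw [D.sum_if_i₀ _ (((D.dval - D.E : ℤ) : ℂ) * (D.μ j : G → ℂ) g) ((D.dval : ℂ) * (D.μ j : G → ℂ) g)
    (by rw [D.fval_μ, D.μ_regular D.i₀ j hg]; simp) (by
      intro j' hj'
      rw [D.fval_μ, if_neg hj', D.μ_regular j' j hg]
      simp)] at h1
  have h3 : ∑ χ ∈ D.Xf, ((D.fval χ : ℂ) * (χ : G → ℂ) g) = ∑ χ ∈ D.Xf, (D.valD χ : ℂ) * (χ : G → ℂ) g := by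
    refine Finset.sum_congr rfl fun χ hχ => ?_
    rw [D.fval_of_mem_Xf hχ]
  rw [h3] at h1
  push_cast at h1
  linear_combination h1

theorem coefL_one_irr {ψ : Q →* ℂˣ} (hψ : ψ ≠ 1) : coefL (oneIrr G) ψ = 0 := by
  classical
  have h1 := sum_linVal_mul_conj (1 : Q →* ℂˣ) ψ
  rw [if_neg (fun e => hψ e.symm)] at h1
  rw [coefL]
  have h2 : ∑ y : Q, ((oneIrr G : IrrCharacter G) : G → ℂ) y * conj (linVal ψ y) = 0 := by
    rw [← h1]
    refine Finset.sum_congr rfl fun y _ => ?_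
    simp [linVal, oneIrr]
  rw [h2, mul_zero]

theorem one_notMem_range : oneIrr G ∉ Set.range D.μ := by
  classical
  rintro ⟨j, hj⟩
  have hE := D.E_ne_zero
  have h0 : ∀ i, coefL (oneIrr G) (D.rep i) = 0 := fun i => coefL_one_irr (D.rep_ne i)
  have h1 : ∀ i, (D.E : ℂ) * ((if D.μ i = oneIrr G then 1 else 0) - (if D.μ D.i₀ = oneIrr G then 1 else 0)) = 0 := by
    intro i
    rw [← D.coef_rel' (oneIrr G) i, h0, h0]
    simp
  by_cases hj0 : j = D.i₀
  · obtain ⟨i, hi⟩ := D.other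
    have h2 := h1 i
    have h3 : D.μ D.i₀ = oneIrr G := by rw [← hj, hj0]
    have h4 : ¬ D.μ i = oneIrr G := fun e => hi (D.μ_inj (e.trans h3.symm))
    rw [if_neg h4, if_pos h3] at h2
    apply hE
    simpa using h2
  · have h2 := h1 j
    rw [if_pos hj, if_neg (fun e => hj0 (D.μ_inj (hj.trans e.symm))), sub_zero, mul_one] at h2
    exact hE h2

include D in
/-- Every `p`-singular element is conjugate to an element with non-identity `p`-part in `Q`. -/
theorem exists_conj_section {z : G} (hz : p ∣ orderOf z) :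
    ∃ (g : G) (y : Q), y ≠ 1 ∧ IsPPart p (g * z * g⁻¹) (y : G) := by
  classical
  obtain ⟨P, hP⟩ := D.setup.sylow
  obtain ⟨α, hα⟩ := exists_isPExp (G := G) (p := p)
  obtain ⟨v, hv, hc, ⟨k, hk⟩, hreg⟩ := hα.isPPart z
  set u := z ^ α with hu
  have hu1 : u ≠ 1 := fun e => (hα.pow_eq_one_iff.mp e) hz
  obtain ⟨S, hS⟩ := IsPGroup.exists_le_sylow (isPGroup_zpowers (p := p) ⟨k, hk⟩)
  have huS : u ∈ (S : Subgroup G) := hS (Subgroup.mem_zpowers u)
  obtain ⟨g, hg⟩ := MulAction.exists_smul_eq G S P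
  have huP : g * u * g⁻¹ ∈ Q := by
    rw [← hP, ← hg, Sylow.coe_subgroup_smul, Subgroup.mem_smul_pointwise_iff_exists]
    exact ⟨u, huS, rfl⟩
  refine ⟨g, ⟨g * u * g⁻¹, huP⟩, ?_, ?_⟩
  · intro e
    have h1 : g * u * g⁻¹ = 1 := congrArg Subtype.val e
    apply hu1
    have h2 : u = g⁻¹ * (g * u * g⁻¹) * g := by group
    rw [h2, h1]
    group
  · refine ⟨g * v * g⁻¹, ?_, ?_, ⟨k, ?_⟩, ?_⟩
    · show g * u * g⁻¹ * (g * v * g⁻¹) = g * z * g⁻¹
      rw [← hv]
      group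
    · show g * u * g⁻¹ * (g * v * g⁻¹) = g * v * g⁻¹ * (g * u * g⁻¹)
      have h3 : u * v = v * u := hc
      calc g * u * g⁻¹ * (g * v * g⁻¹) = g * (u * v) * g⁻¹ := by group
        _ = g * (v * u) * g⁻¹ := by rw [h3]
        _ = _ := by group
    · show orderOf (g * u * g⁻¹) = p ^ k
      rw [← hk]
      exact (MulEquiv.orderOf_eq (MulAut.conj g) u)
    · have h4 : orderOf (g * v * g⁻¹) = orderOf v := MulEquiv.orderOf_eq (MulAut.conj g) v
      rw [h4]
      exact hreg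

theorem valD_ne_zero {χ : IrrCharacter G} (hχ : χ ∈ D.Xf) : D.valD χ ≠ 0 := by
  classical
  intro h0
  obtain ⟨hB, hY⟩ := D.mem_Xf.mp hχ
  have hM := D.setup.modular
  have := isPrime_of_modular hM
  have hvan : ∀ z : G, p ∣ orderOf z → (χ : G → ℂ) z = 0 := by
    intro z hz
    obtain ⟨g, y, hy, hzy⟩ := D.exists_conj_section hz
    have hy1 : (y : G) ≠ 1 := fun e => hy (Subtype.ext e)
    have h1 : (χ : G → ℂ) (g * z * g⁻¹) = (χ : G → ℂ) z := irr_isClassFunction χ z g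
    rw [← h1, D.setup.apply_eq_of_isPPart hzy y.2 hy1 hB, D.apply_eq_of_notMem_range hB hY y hy, h0]
    simp
  have hd := pow_dvd_degree_of_vanish (p := p) χ hvan
  have hdvd := charDegree_dvd_card χ.2
  have hnd : ¬ p ∣ Nat.card G / charDegree (χ : G → ℂ) := by
    intro hp2
    have hpp : p.Prime := hp.out
    obtain ⟨k, hk⟩ := hp2
    have h1 : Nat.card G = charDegree (χ : G → ℂ) * (p * k) := by
      rw [← hk]
      exact (Nat.mul_div_cancel' hdvd).symm
    have h2 : p ^ ((Nat.card G).factorization p + 1) ∣ Nat.card G := by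
      have h2' : p ^ ((Nat.card G).factorization p + 1) ∣ charDegree (χ : G → ℂ) * (p * k) := by
        rw [pow_succ]
        exact mul_dvd_mul hd (dvd_mul_right p k)
      rwa [← h1] at h2'
    exact Nat.pow_succ_factorization_not_dvd Nat.card_pos.ne' hpp h2
  have hsing := (not_dvd_iff_blockOf_singleton hM χ).mp hnd
  have hBB : IsPBlock M (principalBlock M G) := ⟨oneIrr G, rfl⟩
  have h3 := blockOf_eq_of_mem hBB hB
  have h4 : oneIrr G ∈ principalBlock M G := self_mem_blockOf (oneIrr G)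
  rw [h3, hsing] at h4
  have h5 : oneIrr G = χ := Set.mem_singleton_iff.mp h4
  obtain ⟨y, hy⟩ := D.exists_ne_one
  have h6 := D.apply_eq_of_notMem_range hB hY y hy
  rw [h0, ← h5] at h6
  have h7 : ((oneIrr G : IrrCharacter G) : G → ℂ) (y : G) = 1 := rfl
  rw [h7] at h6
  simp at h6

open scoped Classical in
/-- The value on a section in terms of an arbitrary member of the orbit. -/
theorem apply_idx {ψ : Q →* ℂˣ} (hψ : ψ ≠ 1) (y : Q) (hy : y ≠ 1) :
    (D.μ (D.idx ψ) : G → ℂ) y = (D.dval : ℂ) + (D.E : ℂ) *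
      ∑ ψ' ∈ Finset.univ.filter (fun ψ' : Q →* ℂˣ => ∃ n, twist Q n ψ = ψ'), linVal ψ' y := by
  rw [D.apply_eq_sum (D.μ_mem _) y hy, D.valD_μ_eq]
  congr 2
  apply Finset.sum_congr _ (fun _ _ => rfl)
  ext ψ'
  simp only [Finset.mem_filter, Finset.mem_univ, true_and]
  rw [← D.idx_iff ψ ψ' hψ]
  constructor
  · rintro ⟨h1, h2⟩
    exact ⟨h1, D.μ_inj h2⟩
  · rintro ⟨h1, h2⟩
    exact ⟨h1, by rw [h2]⟩

/-- The set in the statement is the orbit. -/
theorem orbit_set_eq (ψ : Q →* ℂˣ) :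
    open scoped Classical in
    {ψ' : Q →* ℂˣ | ∃ n : G, n ∈ Subgroup.normalizer (Q : Set G) ∧ ∀ w w' : Q, (w' : G) = n * w * n⁻¹ → ψ' w' = ψ w} =
      ((Finset.univ.filter (fun ψ' : Q →* ℂˣ => ∃ n, twist Q n ψ = ψ') : Finset (Q →* ℂˣ)) : Set (Q →* ℂˣ)) := by
  classical
  ext ψ'
  simp only [Set.mem_ofPred_eq, Finset.coe_filter, Finset.mem_univ, true_and]
  constructor
  · rintro ⟨n, hn, h⟩
    exact ⟨⟨n, hn⟩, ((eq_twist_iff Q ⟨n, hn⟩ ψ ψ').mp h).symm⟩
  · rintro ⟨n, rfl⟩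
    exact ⟨n, n.2, (eq_twist_iff Q n ψ _).mpr rfl⟩

include D in
/-- **Brauer's theorem**, read off from the data. -/
theorem conclusion {m : ℕ} (hm : Nat.card (Subgroup.normalizer (Q : Set G)) = m * Nat.card (Subgroup.centralizer (Q : Set G))) :
    ∃ (s : ℕ) (X Y : Set (IrrCharacter G)), s ≤ m ∧ principalBlock M G = X ∪ Y ∧ Disjoint X Y ∧ Nat.card X = s ∧ Nat.card Y = r ∧
      (∃ χ₁ ∈ X, (χ₁ : G → ℂ) = fun _ => 1) ∧
      ∃ (a : IrrCharacter G → ℤ) (d δ : ℤ) (ζ : (Q →* ℂˣ) → IrrCharacter G), (δ = 1 ∨ δ = -1) ∧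
        (∀ χ ∈ X, a χ ≠ 0 ∧ ∀ z y : G, IsPPart p z y → y ∈ Q → y ≠ 1 → (χ : G → ℂ) z = (a χ : ℂ)) ∧
        (∀ ψ : Q →* ℂˣ, ψ ≠ 1 → ζ ψ ∈ Y) ∧
        (∀ η ∈ Y, ∃ ψ : Q →* ℂˣ, ψ ≠ 1 ∧ ζ ψ = η) ∧
        (∀ ψ ψ' : Q →* ℂˣ, ψ ≠ 1 → (∃ n : G, n ∈ Subgroup.normalizer (Q : Set G) ∧ ∀ w w' : Q, (w' : G) = n * w * n⁻¹ → ψ' w' = ψ w) → ζ ψ' = ζ ψ) ∧
        (∀ ψ : Q →* ℂˣ, ψ ≠ 1 → ∀ (z : G) (y : Q), IsPPart p z (y : G) → (y : G) ≠ 1 →
          (ζ ψ : G → ℂ) z = (d : ℂ) + (δ : ℂ) * ∑ᶠ ψ' ∈ {ψ' : Q →* ℂˣ | ∃ n : G, n ∈ Subgroup.normalizer (Q : Set G) ∧ ∀ w w' : Q, (w' : G) = n * w * n⁻¹ → ψ' w' = ψ w}, ((ψ' y : ℂˣ) : ℂ)) ∧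
        ((d - δ) ^ 2 + ((r : ℤ) - 1) * d ^ 2 + ∑ᶠ χ ∈ X, a χ ^ 2 = (m : ℤ) + 1) ∧
        (∀ η ∈ Y, ∀ η' ∈ Y, ∀ g : G, ¬ p ∣ orderOf g → (η : G → ℂ) g = (η' : G → ℂ) g) ∧
        (∀ η ∈ Y, ∀ g : G, ¬ p ∣ orderOf g → ((r : ℂ) * d - δ) * (η : G → ℂ) g + ∑ᶠ χ ∈ X, (a χ : ℂ) * (χ : G → ℂ) g = 0) := by
  classical
  have := isPrime_of_modular D.setup.modular
  have hnorm := D.norm_identity hm
  have hr : 2 ≤ r := by
    obtain ⟨i, hi⟩ := D.other
    have h1 := i.2
    have h2 := D.i₀.2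
    have h3 : (i : ℕ) ≠ D.i₀ := fun e => hi (Fin.ext e)
    omega
  have hXcard : (D.Xf.card : ℤ) ≤ ∑ χ ∈ D.Xf, D.valD χ ^ 2 := by
    rw [Finset.card_eq_sum_ones]
    push_cast
    refine Finset.sum_le_sum fun χ hχ => ?_
    have h1 := D.valD_ne_zero hχ
    have h2 : 0 < D.valD χ ^ 2 := by positivity
    omega
  have hrest : 1 ≤ (D.dval - D.E) ^ 2 + ((r : ℤ) - 1) * D.dval ^ 2 := by
    by_cases hd : D.dval = 0
    · rw [hd]
      have := D.E_sq_int
      nlinarith
    · have h1 : 0 < D.dval ^ 2 := by positivity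
      have h2 : (1 : ℤ) ≤ (r : ℤ) - 1 := by
        have : (2 : ℤ) ≤ (r : ℤ) := by exact_mod_cast hr
        omega
      nlinarith [sq_nonneg (D.dval - D.E)]
  refine ⟨D.Xf.card, (D.Xf : Set (IrrCharacter G)), Set.range D.μ, ?_, D.principal_eq, D.disjoint_X_Y, ?_, ?_, ?_, ?_⟩
  · have : (D.Xf.card : ℤ) ≤ (m : ℤ) := by linarith
    exact_mod_cast this
  · rw [Nat.card_coe_set_eq, Set.ncard_coe_finset]
  · rw [Nat.card_range_of_injective D.μ_inj]
    simp
  · refine ⟨oneIrr G, ?_, rfl⟩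
    exact Finset.mem_coe.mpr (D.mem_Xf.mpr ⟨self_mem_blockOf (oneIrr G), D.one_notMem_range⟩)
  refine ⟨D.valD, D.dval, D.E, fun ψ => D.μ (D.idx ψ), D.E_sign, ?_, ?_, ?_, ?_, ?_, ?_, ?_, ?_⟩
  · intro χ hχ
    have hχ' := Finset.mem_coe.mp hχ
    refine ⟨D.valD_ne_zero hχ', ?_⟩
    intro z y hzy hy hy1
    obtain ⟨hB, hY⟩ := D.mem_Xf.mp hχ'
    rw [D.setup.apply_eq_of_isPPart hzy hy hy1 hB]
    exact D.apply_eq_of_notMem_range hB hY ⟨y, hy⟩ (fun e => hy1 (congrArg Subtype.val e))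
  · intro ψ _
    exact ⟨_, rfl⟩
  · rintro η ⟨j, rfl⟩
    exact ⟨D.rep j, D.rep_ne j, by simp only; rw [D.idx_rep]⟩
  · rintro ψ ψ' hψ ⟨n, hn, hrel⟩
    have h1 : ψ' = twist Q ⟨n, hn⟩ ψ := (eq_twist_iff Q ⟨n, hn⟩ ψ ψ').mp hrel
    have h2 := (D.idx_iff ψ ψ' hψ).mpr ⟨⟨n, hn⟩, h1.symm⟩
    simp only
    rw [h2.2]
  · intro ψ hψ z y hzy hy1
    have hy : y ≠ 1 := fun e => hy1 (by rw [e]; rfl)
    simp only
    rw [D.setup.apply_eq_of_isPPart hzy y.2 hy1 (D.μ_mem _), D.apply_idx hψ y hy, orbit_set_eq, finsum_mem_coe_finset]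
    rfl
  · rw [finsum_mem_coe_finset]
    exact hnorm
  · rintro _ ⟨j, rfl⟩ _ ⟨j', rfl⟩ g hg
    exact D.μ_regular j j' hg
  · rintro _ ⟨j, rfl⟩ g hg
    rw [finsum_mem_coe_finset]
    exact D.regular_identity j hg

end BrauerData

/-- Existence of the data. -/
theorem exists_brauerData_of_sylow (hM : IsPModular p M) (P : Sylow p G) [Fintype (P : Subgroup G)]
    [Fintype (Subgroup.normalizer ((P : Subgroup G) : Set G))] [Fintype ((P : Subgroup G) →* ℂˣ)]
    (hab : IsMulCommutative P) (hP1 : Nat.card P ≠ 1) (m : ℕ) (hm1 : 1 < m) (hm2 : m + 1 < Nat.card P)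
    (hCN : (Subgroup.centralizer ((P : Subgroup G) : Set G)).relIndex (Subgroup.normalizer ((P : Subgroup G) : Set G)) = m)
    (hfrob : ∀ y : G, y ∈ (P : Subgroup G) → y ≠ 1 → Subgroup.centralizer ({y} : Set G) ⊓ Subgroup.normalizer ((P : Subgroup G) : Set G) = Subgroup.centralizer ((P : Subgroup G) : Set G)) :
    ∃ r : ℕ, 1 < r ∧ r * m = Nat.card P - 1 ∧
      Nat.card (Subgroup.normalizer ((P : Subgroup G) : Set G)) = m * Nat.card (Subgroup.centralizer ((P : Subgroup G) : Set G)) ∧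
      Nonempty (BrauerData p M (P : Subgroup G) r) := by
  classical
  have hsetup : FrobSetup p M (P : Subgroup G) := ⟨hM, ⟨P, rfl⟩, by
    intro a ha b hb
    have h1 := hab.is_comm.comm ⟨a, ha⟩ ⟨b, hb⟩
    exact congrArg Subtype.val h1, hfrob⟩
  obtain ⟨r, rep, idx, hrep, hidx, hiff, hcard⟩ := hsetup.exists_orbit_data hP1
  have hm : Nat.card (Subgroup.normalizer ((P : Subgroup G) : Set G)) = m * Nat.card (Subgroup.centralizer ((P : Subgroup G) : Set G)) := by
    have h1 := Subgroup.relIndex_mul_relIndex ⊥ (Subgroup.centralizer ((P : Subgroup G) : Set G)) (Subgroup.normalizer ((P : Subgroup G) : Set G)) bot_le (centralizer_le_normalizer_coe _)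
    rw [Subgroup.relIndex_bot_left, Subgroup.relIndex_bot_left, hCN] at h1
    rw [← h1, mul_comm]
  have hCpos : 0 < Nat.card (Subgroup.centralizer ((P : Subgroup G) : Set G)) := Nat.card_pos
  have hrm : r * m = Nat.card P - 1 := by
    rw [hm, ← mul_assoc] at hcard
    exact Nat.eq_of_mul_eq_mul_right hCpos hcard
  have hr : 1 < r := by
    by_contra hcon
    have h1 : r ≤ 1 := by omega
    have h2 : r * m ≤ 1 * m := Nat.mul_le_mul_right m h1
    have h3 : Nat.card P = Nat.card (P : Subgroup G) := rfl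
    omega
  exact ⟨r, hr, hrm, hm, exists_brauerData hsetup hr rep idx hrep hidx hiff⟩

end Lattice

end Cfsg.Agent.Lib.Blocks
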