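import Cfsg.Agent.Lib.H8Group.Subsection
import Cfsg.Agent.Lib.H8Group.StabBlock
import Cfsg.Agent.Lib.H8Group.BlockBasics
import Cfsg.Agent.Lib.Blocks.KleinFour

/-!
# Counting the characters of the principal block by subsections
-/

set_option autoImplicit false
set_option linter.unusedSectionVars false

namespace Cfsg.Agent.Lib.Blocks

open Cfsg Cfsg.Agent.Lib.Char
open scoped ComplexConjugate

universe u

section Transport

variable {G H : Type u} [Group G] [Group H] [Fintype G] [Fintype H] {p : ℕ}

/-- The regular rank is unchanged by an isomorphism. -/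
theorem blockRank_blockPull (e : H ≃* G) (B : Set (IrrCharacter G)) :
    blockRank p (H8Group.blockPull e B) = blockRank p B := by
  classical
  let L : (G → ℂ) ≃ₗ[ℂ] (H → ℂ) := LinearEquiv.funCongrLeft ℂ ℂ e.toEquiv
  have hL : ∀ f : G → ℂ, L f = f ∘ e := fun f => rfl
  have hreg : ∀ (f : G → ℂ), pRegularPart p (f ∘ e) = pRegularPart p f ∘ e := by
    intro f
    funext h
    simp only [pRegularPart, Function.comp_apply, IsPRegular, MulEquiv.orderOf_eq]
    congr
  have himg : (fun χ : IrrCharacter H => pRegularPart p (χ : H → ℂ)) '' H8Group.blockPull e B =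
      L '' ((fun χ : IrrCharacter G => pRegularPart p (χ : G → ℂ)) '' B) := by
    ext f
    constructor
    · rintro ⟨ξ, hξ, rfl⟩
      refine ⟨pRegularPart p ((H8Group.irrComp e.symm ξ : IrrCharacter G) : G → ℂ), ⟨_, hξ, rfl⟩, ?_⟩
      show L _ = _
      rw [hL, ← hreg]
      congr 1
      funext h
      simp [H8Group.irrComp]
    · rintro ⟨_, ⟨χ, hχ, rfl⟩, rfl⟩
      refine ⟨H8Group.irrComp e χ, (H8Group.mem_blockPull e).mpr hχ, ?_⟩
      show _ = L _
      rw [hL, ← hreg]
      rfl
  rw [blockRank, blockRank, himg]
  have h1 : Submodule.span ℂ (L '' ((fun χ : IrrCharacter G => pRegularPart p (χ : G → ℂ)) '' B)) =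
      (Submodule.span ℂ ((fun χ : IrrCharacter G => pRegularPart p (χ : G → ℂ)) '' B)).map (L : (G → ℂ) →ₗ[ℂ] (H → ℂ)) := by
    rw [Submodule.map_span]
    rfl
  rw [h1]
  exact LinearEquiv.finrank_map_eq L _

/-- The pull-back of the principal block. -/
theorem blockPull_principalBlock {M : Ideal AlgInt} [M.IsPrime] (e : H ≃* G) :
    H8Group.blockPull e (principalBlock M G) = principalBlock M H := by
  have h := H8Group.blockPull_blockOf (M := M) e (oneIrr G)
  have h2 : ((H8Group.irrComp e (oneIrr G) : IrrCharacter H) : H → ℂ) = fun _ => 1 := rfl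
  rw [h2] at h
  exact h

theorem blockRank_principal_equiv {M : Ideal AlgInt} [M.IsPrime] (e : H ≃* G) :
    blockRank p (principalBlock M H) = blockRank p (principalBlock M G) := by
  rw [← blockPull_principalBlock (M := M) e, blockRank_blockPull]

end Transport

section Count

variable {G : Type u} [Group G] [Fintype G] {M : Ideal AlgInt} {p : ℕ} [hp : Fact p.Prime]

/-- The centralizer of the identity is the whole group. -/
noncomputable def centOneEquiv (G : Type u) [Group G] : Subgroup.centralizer ({(1 : G)} : Set G) ≃* G :=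
  (MulEquiv.subgroupCongr (by
    ext x
    simp [Subgroup.mem_centralizer_iff])).trans Subgroup.topEquiv

/-- **Brauer's count for the principal block.** -/
theorem card_principal_eq_sum (hM : IsPModular p M) (X : Finset G) (hX : ∀ x ∈ X, ∃ k, orderOf x = p ^ k)
    (hXrep : ∀ g : G, (∃ k, orderOf g = p ^ k) → ∃! x, x ∈ X ∧ IsConj g x) :
    Nat.card (principalBlock M G) = ∑ x ∈ X, blockRank p (principalBlock M (Subgroup.centralizer ({x} : Set G))) := by
  classical
  have := isPrime_of_modular hM
  letI : ∀ x : G, Fintype (Subgroup.centralizer ({x} : Set G)) := fun _ => Fintype.ofFinite _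
  rw [H8Group.card_block_eq_sum hM (B := principalBlock M G) ⟨oneIrr G, rfl⟩ X hX hXrep]
  refine Finset.sum_congr rfl fun x hx => ?_
  have hset : {b : Set (IrrCharacter (Subgroup.centralizer ({x} : Set G))) |
      IsInducedBlock M (Subgroup.centralizer ({x} : Set G)) b (principalBlock M G)} =
      {principalBlock M (Subgroup.centralizer ({x} : Set G))} := by
    ext b
    simp only [Set.mem_ofPred_eq, Set.mem_singleton_iff]
    constructor
    · intro h
      exact (isInducedBlock_principal_iff hM _ ⟨_, h⟩).mp h
    · rintro rfl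
      obtain ⟨B, hB⟩ := H8Group.exists_isInducedBlock_sub (p := p) (x := H8Group.centElt x) hM
        (H8Group.mem_cent_iff x) (hX x hx) (H8Group.isPBlock_principalBlock M _)
      exact (isInducedBlock_principal_iff hM _ ⟨_, hB⟩).mpr rfl
  rw [hset, finsum_mem_singleton]

end Count

section KleinCentral

variable {G : Type u} [Group G] [Finite G]

/-- The centralizer of an involution has a normal `2`-complement when the Sylow `2`-subgroups of
`G` are four-groups. -/
theorem hasNormalPComplement_centralizer_klein (P : Sylow 2 G) (hP : IsKleinFour (P : Subgroup G)) {u : G}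
    (hu : orderOf u = 2) :
    HasNormalPComplement 2 (Subgroup.centralizer ({u} : Set G)) := by
  letI : Fintype G := Fintype.ofFinite G
  have hu1 : orderOf u = 2 ^ 1 := by simpa using hu
  obtain ⟨S, hS⟩ := IsPGroup.exists_le_sylow (isPGroup_zpowers (p := 2) ⟨1, hu1⟩)
  have huS : u ∈ (S : Subgroup G) := hS (Subgroup.mem_zpowers u)
  obtain ⟨hsq, hcomm, hcard⟩ := sylow_klein_props P hP S
  have hle : (S : Subgroup G) ≤ Subgroup.centralizer ({u} : Set G) := by
    intro x hx
    exact mem_centralizer_singleton_of_commute (hcomm x hx u huS)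
  let Q : Sylow 2 (Subgroup.centralizer ({u} : Set G)) := S.subtype hle
  have hQmem : ∀ x : Subgroup.centralizer ({u} : Set G), x ∈ (Q : Subgroup (Subgroup.centralizer ({u} : Set G))) ↔ (x : G) ∈ (S : Subgroup G) := by
    intro x
    simp only [Q, Sylow.coe_subtype]
    exact Subgroup.mem_subgroupOf
  have hQcard : Nat.card (Q : Subgroup (Subgroup.centralizer ({u} : Set G))) = 4 := by
    rw [← hcard]
    refine Nat.card_congr ⟨fun x => ⟨(x.1 : G), (hQmem _).mp x.2⟩, fun x => ⟨⟨x.1, hle x.2⟩, (hQmem _).mpr x.2⟩, ?_, ?_⟩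
    · intro x; rfl
    · intro x; rfl
  refine Cfsg.Agent.Lib.Transfer.hasNormalPComplement_of_normalizer_le Q ?_
  refine normalizer_le_centralizer_klein Q ?_ ?_ hQcard (u := ⟨u, mem_centralizer_singleton_of_commute (Commute.refl u)⟩) ?_ ?_ ?_
  · intro x hx
    apply Subtype.ext
    simpa using hsq _ ((hQmem x).mp hx)
  · intro x hx y hy
    apply Subtype.ext
    exact hcomm _ ((hQmem x).mp hx) _ ((hQmem y).mp hy)
  · exact (hQmem _).mpr huS
  · intro h
    have : u = 1 := congrArg Subtype.val h
    rw [this, orderOf_one] at hu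
    omega
  · intro h
    apply Subtype.ext
    exact commute_of_mem_centralizer_singleton h.2

end KleinCentral

end Cfsg.Agent.Lib.Blocks
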