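import Cfsg.Agent.Lib.Blocks.AlperinDade
import Cfsg.Agent.Lib.Char.Equiv
import Cfsg.Agent.Lib.H8Group.Extension
import Cfsg.Agent.Lib.Blocks.SubCount
import Cfsg.Agent.Lib.Char.Triple

set_option autoImplicit false
set_option linter.unusedSectionVars false
set_option linter.style.haveILetI false

namespace Cfsg.Agent.Lib.Blocks

open Cfsg Cfsg.Agent.Lib.Char Cfsg.Agent.Lib.H8Group Module
open scoped ComplexConjugate

universe u

section Scalar

variable {G : Type u} [Group G] [Fintype G] (N : Subgroup G) [hN : N.Normal] [Fintype N]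

/-- Schur's lemma for a character whose restriction to the normal subgroup is irreducible. -/
theorem adExt_sum_conj (ψ : IrrCharacter G) (θ : IrrCharacter N)
    (hext : ∀ n : N, (ψ : G → ℂ) n = (θ : N → ℂ) n) (y h : G) :
    (ψ : G → ℂ) 1 * ∑ u : N, (ψ : G → ℂ) ((u : G) * y * (u : G)⁻¹ * h) =
      (Nat.card N : ℂ) * (ψ : G → ℂ) y * (ψ : G → ℂ) h := by
  obtain ⟨ψ₀, d, ρ, hρ, rfl⟩ := ψ
  obtain ⟨θ₀, e, σ, hσ, rfl⟩ := θ
  simp only at hext ⊢
  let ρN : Representation ℂ N (Fin d → ℂ) := ρ.comp N.subtype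
  have hc : ρN.character = σ.character := funext fun n => hext n
  obtain ⟨φ⟩ := equiv_of_character_eq ρN σ hc
  let T : Module.End ℂ (Fin d → ℂ) := ∑ u : N, ρ ((u : G) * y * (u : G)⁻¹)
  have hT : ∀ n : N, T * ρ (n : G) = ρ (n : G) * T := by
    intro n
    simp only [T, Finset.sum_mul, Finset.mul_sum, ← map_mul]
    symm
    refine Fintype.sum_equiv (Equiv.mulLeft n) _ _ fun u => ?_
    simp only [Equiv.coe_mulLeft, Subgroup.coe_mul]
    congr 1
    group
  let L := φ.toLinearEquiv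
  have hL : ∀ n : N, (L : (Fin d → ℂ) →ₗ[ℂ] (Fin e → ℂ)) ∘ₗ ρN n = σ n ∘ₗ (L : (Fin d → ℂ) →ₗ[ℂ] (Fin e → ℂ)) :=
    fun n => φ.toIntertwiningMap.isIntertwining' n
  let E : (Fin e → ℂ) →ₗ[ℂ] (Fin e → ℂ) :=
    (L : (Fin d → ℂ) →ₗ[ℂ] (Fin e → ℂ)) ∘ₗ T ∘ₗ (L.symm : (Fin e → ℂ) →ₗ[ℂ] (Fin d → ℂ))
  have hE : ∀ n, E ∘ₗ σ n = σ n ∘ₗ E := by
    intro n
    refine LinearMap.ext fun v => ?_
    simp only [E, LinearMap.comp_apply, LinearEquiv.coe_coe]
    have h1 : L.symm (σ n v) = ρN n (L.symm v) := by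
      apply L.injective
      rw [L.apply_symm_apply]
      have := LinearMap.congr_fun (hL n) (L.symm v)
      simp only [LinearMap.comp_apply, LinearEquiv.coe_coe, L.apply_symm_apply] at this
      exact this.symm
    rw [h1]
    have h2 := LinearMap.congr_fun (hT n) (L.symm v)
    simp only [Module.End.mul_apply] at h2
    have h3 : T (ρN n (L.symm v)) = ρN n (T (L.symm v)) := h2
    rw [h3]
    have := LinearMap.congr_fun (hL n) (T (L.symm v))
    simpa only [LinearMap.comp_apply, LinearEquiv.coe_coe] using this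
  obtain ⟨c, hcE⟩ := schur_scalar σ E hE
  have hTc : T = c • (1 : Module.End ℂ (Fin d → ℂ)) := by
    refine LinearMap.ext fun w => ?_
    apply L.injective
    have h1 := LinearMap.congr_fun hcE (L w)
    simp only [E, LinearMap.comp_apply, LinearEquiv.coe_coe, L.symm_apply_apply, LinearMap.smul_apply, LinearMap.id_apply] at h1
    rw [h1]
    simp
  have htr : ρ.character y * (Nat.card N : ℂ) = c * (d : ℂ) := by
    have h1 := congrArg (LinearMap.trace ℂ (Fin d → ℂ)) hTc
    simp only [T, map_sum, map_smul] at h1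
    have h2 : ∀ u : N, LinearMap.trace ℂ (Fin d → ℂ) (ρ ((u : G) * y * (u : G)⁻¹)) = ρ.character y := fun u =>
      Representation.char_conj ρ y u
    simp only [h2, Finset.sum_const, Finset.card_univ, nsmul_eq_mul, smul_eq_mul] at h1
    have h3 : LinearMap.trace ℂ (Fin d → ℂ) (1 : Module.End ℂ (Fin d → ℂ)) = (d : ℂ) := by
      have := LinearMap.trace_id ℂ (Fin d → ℂ)
      simpa using this
    rw [h3, ← Nat.card_eq_fintype_card] at h1
    rw [mul_comm]
    exact h1
  have hsum : ∑ u : N, ρ.character ((u : G) * y * (u : G)⁻¹ * h) = c * ρ.character h := by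
    have h1 : ∀ u : N, ρ.character ((u : G) * y * (u : G)⁻¹ * h) =
        LinearMap.trace ℂ (Fin d → ℂ) (ρ ((u : G) * y * (u : G)⁻¹) * ρ h) := by
      intro u
      show LinearMap.trace ℂ _ _ = _
      rw [map_mul]
    simp only [h1]
    rw [← map_sum, ← Finset.sum_mul]
    show LinearMap.trace ℂ _ (T * ρ h) = _
    rw [hTc, smul_mul_assoc, one_mul, map_smul]
    rfl
  rw [hsum, Representation.char_one]
  have hfr : (finrank ℂ (Fin d → ℂ) : ℂ) = (d : ℂ) := by simp
  rw [hfr]
  linear_combination (-(ρ.character h)) * htr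

end Scalar

section Congr

variable {G : Type u} [Group G] [Fintype G] (N : Subgroup G) [hN : N.Normal] [Fintype N]
  {p : ℕ} [hp : Fact p.Prime] {M : Ideal AlgInt}

theorem adExt_inv (ψ : IrrCharacter G) (θ : IrrCharacter N)
    (hext : ∀ n : N, (ψ : G → ℂ) n = (θ : N → ℂ) n) (g : G) : conjIrr N g θ = θ := by
  apply Subtype.ext
  funext n
  simp only [conjIrr_coe, Cfsg.Agent.Lib.Char.conjFun_apply]
  rw [← hext, ← hext]
  simpa using irr_isClassFunction ψ (n : G) g⁻¹

theorem adExt_con (ψ : IrrCharacter G) (θ : IrrCharacter N)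
    (hext : ∀ n : N, (ψ : G → ℂ) n = (θ : N → ℂ) n) :
    classInner (fun n : N => (ψ : G → ℂ) n) (θ : N → ℂ) ≠ 0 := by
  have h : (fun n : N => (ψ : G → ℂ) n) = (θ : N → ℂ) := funext hext
  rw [h, classInner_irr_self θ.2]
  exact one_ne_zero

/-- The class sums of `N` act by scalars on an extension of an irreducible character. -/
theorem adOm_acts (ψ : IrrCharacter G) (θ : IrrCharacter N)
    (hext : ∀ n : N, (ψ : G → ℂ) n = (θ : N → ℂ) n) (y : G) :
    AdActsBy (ψ : G → ℂ) (adK N y) ((adD N y : ℂ) * (ψ : G → ℂ) y / (ψ : G → ℂ) 1) := by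
  intro h
  have h1 := adExt_sum_conj N ψ θ hext y h
  have h2 := sum_conj_eq N y (fun g => (ψ : G → ℂ) (g * h))
  have h3 := card_eq_mul_adD N y
  have h0 : (ψ : G → ℂ) 1 ≠ 0 := irr_apply_one_ne_zero ψ
  have hC : (Nat.card ((Subgroup.centralizer ({y} : Set G)).subgroupOf N) : ℂ) ≠ 0 :=
    Nat.cast_ne_zero.mpr Nat.card_pos.ne'
  rw [h2] at h1
  have h4 : (Nat.card N : ℂ) = (Nat.card ((Subgroup.centralizer ({y} : Set G)).subgroupOf N) : ℂ) * (adD N y : ℂ) := by
    exact_mod_cast h3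
  rw [h4] at h1
  simp only [adAct]
  field_simp
  apply mul_left_cancel₀ hC
  linear_combination h1

theorem memLocalRing_of_pow' [M.IsPrime] {z : ℂ} {n : ℕ} (hn : n ≠ 0) (h : MemLocalRing M (z ^ n)) :
    MemLocalRing M z := by
  obtain ⟨a, b, hb, hab⟩ := h
  have hb0 : (b : ℂ) ≠ 0 := by
    intro h0
    apply hb
    have : b = 0 := Subtype.ext h0
    rw [this]
    exact M.zero_mem
  obtain ⟨k, rfl⟩ := Nat.exists_eq_succ_of_ne_zero hn
  have h1 : (z * b) ^ (k + 1) = (a : ℂ) * (b : ℂ) ^ k := by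
    rw [mul_pow, ← hab]
    field_simp
    ring
  have h2 : IsIntegral ℤ ((z * b) ^ (k + 1)) := by
    rw [h1]
    exact (a.2).mul ((b.2).pow k)
  have h3 : IsIntegral ℤ (z * b) := IsIntegral.of_pow (Nat.succ_pos k) h2
  refine ⟨⟨z * b, h3⟩, b, hb, ?_⟩
  field_simp

/-- The scalar of a class sum on an extension of a character of the principal block is local. -/
theorem adOm_memLocalRing (hM : IsPModular p M) (ψ : IrrCharacter G) {θ : IrrCharacter N}
    (hext : ∀ n : N, (ψ : G → ℂ) n = (θ : N → ℂ) n) (hθ : θ ∈ principalBlock M N) (y : G) :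
    MemLocalRing M ((adD N y : ℂ) * (ψ : G → ℂ) y / (ψ : G → ℂ) 1) := by
  have := isPrime_of_modular hM
  set ω := (adD N y : ℂ) * (ψ : G → ℂ) y / (ψ : G → ℂ) 1 with hω
  have hact := adOm_acts N ψ θ hext y
  have h0 : (ψ : G → ℂ) 1 ≠ 0 := irr_apply_one_ne_zero ψ
  have key : ∀ k : ℕ, ∃ z : G → ℂ, AdInv N z ∧ (∀ g, MemLocalRing M (z g)) ∧
      (∀ g, z g ≠ 0 → (g : G ⧸ N) = ((y ^ (k + 1) : G) : G ⧸ N)) ∧
      AdActsBy (ψ : G → ℂ) z (ω ^ (k + 1)) := by
    intro k
    induction k with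
    | zero =>
      refine ⟨adK N y, adK_inv N y, fun g => adK_memLocalRing N y g, ?_, ?_⟩
      · simpa using adK_coset N y
      · simpa using hact
    | succ k ih =>
      obtain ⟨z, h1, h2, h3, h4⟩ := ih
      refine ⟨conv z (adK N y), adConv_inv N h1 (adK_inv N y),
        fun g => adConv_memLocalRing h2 (fun g => adK_memLocalRing N y g) g, ?_, ?_⟩
      · intro g hg
        have := adConv_coset N h3 (adK_coset N y) g hg
        rw [this, pow_succ y (k + 1), QuotientGroup.mk_mul]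
      · intro h
        rw [adAct_conv_of_left h4, hact h]
        ring
  obtain ⟨z, h1, h2, h3, h4⟩ := key (Nat.card G - 1)
  have hcard : Nat.card G - 1 + 1 = Nat.card G := Nat.sub_add_cancel Nat.card_pos
  rw [hcard, pow_card_eq_one'] at h3
  rw [hcard] at h4
  have hsupp : ∀ g, g ∉ N → z g = 0 := by
    intro g hg
    by_contra hne
    have h5 := h3 g hne
    exact hg ((QuotientGroup.eq_one_iff g).mp h5)
  have h5 := adZ_acts N θ (adExt_inv N ψ θ hext) (adExt_con N ψ θ hext) h1 hsupp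
  have h6 : ω ^ Nat.card G = adW N θ z := mul_right_cancel₀ h0 ((h4 1).symm.trans (h5 1))
  have h7 := adW_congr N hM hθ h1 h2 hsupp
  have h8 : MemLocalRing M (adW N θ z) := by
    have := MemLocalRing.add (MemLocalIdeal.memLocalRing h7) (MemLocalRing.sum Finset.univ (fun g _ => h2 g))
    simpa using this
  rw [← h6] at h8
  exact memLocalRing_of_pow' Nat.card_pos.ne' h8

/-- The character ratio is local on elements whose `N`-class has size prime to `p`. -/
theorem adC_memLocalRing (hM : IsPModular p M) (ψ : IrrCharacter G) {θ : IrrCharacter N}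
    (hext : ∀ n : N, (ψ : G → ℂ) n = (θ : N → ℂ) n) (hθ : θ ∈ principalBlock M N) {y : G}
    (hd : ¬ p ∣ adD N y) : MemLocalRing M ((ψ : G → ℂ) y / (ψ : G → ℂ) 1) := by
  have := isPrime_of_modular hM
  have h1 := adOm_memLocalRing N hM ψ hext hθ y
  have h2 := MemLocalRing.mul (inv_natCast_memLocalRing hM hd) h1
  have hd0 : (adD N y : ℂ) ≠ 0 := natCast_ne_zero_of_not_dvd hd
  convert h2 using 1
  field_simp

/-- The main congruence. -/
theorem ad_spec_coset (hM : IsPModular p M) (ψ : IrrCharacter G) {θ : IrrCharacter N}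
    (hext : ∀ n : N, (ψ : G → ℂ) n = (θ : N → ℂ) n) (hθ : θ ∈ principalBlock M N) {a : G → ℂ} {x : G}
    (ha : AdInv N a) (hS : ∀ g, MemLocalRing M (a g)) (hsupp : ∀ g, a g ≠ 0 → (g : G ⧸ N) = (x : G ⧸ N))
    (hd : ¬ p ∣ adD N x) :
    MemLocalIdeal M (spec a ψ - (∑ g, a g) * ((ψ : G → ℂ) x / (ψ : G → ℂ) 1)) := by
  have := isPrime_of_modular hM
  have h0 : (ψ : G → ℂ) 1 ≠ 0 := irr_apply_one_ne_zero ψ
  have hc := adC_memLocalRing N hM ψ hext hθ hd
  have hrel := adHom_relation N θ (adExt_inv N ψ θ hext) (adExt_con N ψ θ hext) x ha hsupp 1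
  rw [adOm_acts N ψ θ hext x 1] at hrel
  have hA : adAct (ψ : G → ℂ) a 1 = spec a ψ * (ψ : G → ℂ) 1 := by
    simp only [adAct, spec, mul_one]
    field_simp
  rw [hA] at hrel
  set κ := adW N θ (conv (adK N x⁻¹) (adK N x)) with hκ
  set W := adW N θ (conv a (adK N x⁻¹)) with hW
  set A := spec a ψ with hAdef
  set d := (adD N x : ℂ) with hddef
  set c := (ψ : G → ℂ) x / (ψ : G → ℂ) 1 with hcdef
  set S := ∑ g, a g with hSdef
  have hrel' : κ * A = W * (d * c) := by
    have h1 : d * (ψ : G → ℂ) x / (ψ : G → ℂ) 1 = d * c := by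
      rw [hcdef]; ring
    rw [h1] at hrel
    apply mul_right_cancel₀ h0
    linear_combination hrel
  have hκ1 : MemLocalIdeal M (κ - d ^ 2) := adKappa_congr N hM hθ x
  have hκ2 : ¬ MemLocalIdeal M κ := adKappa_unit N hM hθ hd
  have hκ0 : κ ≠ 0 := ne_zero_of_not_memLocalIdeal hκ2
  have hκ3 : MemLocalRing M κ⁻¹ := by
    have hl : MemLocalRing M κ := by
      have := MemLocalRing.add (MemLocalIdeal.memLocalRing hκ1) (MemLocalRing.pow (MemLocalRing.natCast (M := M) (adD N x)) 2)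
      rwa [sub_add_cancel] at this
    exact inv_memLocalRing hl hκ2
  have hW1 : MemLocalIdeal M (W - S * d) := by
    have h4 : AdInv N (conv a (adK N x⁻¹)) := adConv_inv N ha (adK_inv N _)
    have h5 : ∀ g, g ∉ N → conv a (adK N x⁻¹) g = 0 := by
      intro g hg
      by_contra hne
      have h1 := adConv_coset N hsupp (fun g h => adK_coset N x⁻¹ g h) g hne
      rw [QuotientGroup.mk_inv, mul_inv_cancel] at h1
      exact hg ((QuotientGroup.eq_one_iff g).mp h1)
    have h6 := adW_congr N hM hθ h4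
      (fun g => adConv_memLocalRing hS (fun g => adK_memLocalRing N _ g) g) h5
    rw [adSum_conv, sum_adK, adD_inv] at h6
    exact h6
  have hSl : MemLocalRing M S := MemLocalRing.sum _ fun g _ => hS g
  have hdl : MemLocalRing M d := MemLocalRing.natCast _
  have h7 : MemLocalIdeal M ((W - S * d) * d - (κ - d ^ 2) * S) :=
    MemLocalIdeal.sub (MemLocalIdeal.mul_right hW1 hdl) (MemLocalIdeal.mul_right hκ1 hSl)
  have h8 := MemLocalIdeal.mul_left (MemLocalRing.mul hκ3 hc) h7
  convert h8 using 1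
  have h9 : A = κ⁻¹ * (W * (d * c)) := by
    rw [← hrel']
    field_simp
  rw [h9]
  field_simp
  ring

/-- Multiplicativity of the ratio modulo the ideal. -/
theorem adC_mul (hM : IsPModular p M) (ψ : IrrCharacter G) {θ : IrrCharacter N}
    (hext : ∀ n : N, (ψ : G → ℂ) n = (θ : N → ℂ) n) (hθ : θ ∈ principalBlock M N) {y y' : G}
    (h1 : ¬ p ∣ adD N y) (h2 : ¬ p ∣ adD N y') (h3 : ¬ p ∣ adD N (y * y')) :
    MemLocalIdeal M ((ψ : G → ℂ) (y * y') / (ψ : G → ℂ) 1 -
      ((ψ : G → ℂ) y / (ψ : G → ℂ) 1) * ((ψ : G → ℂ) y' / (ψ : G → ℂ) 1)) := by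
  have := isPrime_of_modular hM
  have h0 : (ψ : G → ℂ) 1 ≠ 0 := irr_apply_one_ne_zero ψ
  have hact := adOm_acts N ψ θ hext y
  have hact' := adOm_acts N ψ θ hext y'
  have h4 := ad_spec_coset N hM ψ hext hθ (a := conv (adK N y) (adK N y')) (x := y * y')
    (adConv_inv N (adK_inv N _) (adK_inv N _))
    (fun g => adConv_memLocalRing (fun g => adK_memLocalRing N _ g) (fun g => adK_memLocalRing N _ g) g)
    (fun g hg => by
      have := adConv_coset N (adK_coset N y) (adK_coset N y') g hg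
      rw [this, QuotientGroup.mk_mul]) h3
  rw [adSum_conv, sum_adK, sum_adK] at h4
  have h5 : spec (conv (adK N y) (adK N y')) ψ =
      ((adD N y : ℂ) * (ψ : G → ℂ) y / (ψ : G → ℂ) 1) * ((adD N y' : ℂ) * (ψ : G → ℂ) y' / (ψ : G → ℂ) 1) := by
    have h6 := adAct_conv_of_left (b := adK N y') hact 1
    rw [hact' 1] at h6
    have h7 : adAct (ψ : G → ℂ) (conv (adK N y) (adK N y')) 1 =
        spec (conv (adK N y) (adK N y')) ψ * (ψ : G → ℂ) 1 := by
      simp only [adAct, spec, mul_one]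
      field_simp
    rw [h7] at h6
    apply mul_right_cancel₀ h0
    rw [h6]
    ring
  rw [h5] at h4
  have hd1 : (adD N y : ℂ) ≠ 0 := natCast_ne_zero_of_not_dvd h1
  have hd2 : (adD N y' : ℂ) ≠ 0 := natCast_ne_zero_of_not_dvd h2
  have h8 := MemLocalIdeal.mul_left (MemLocalRing.mul (inv_natCast_memLocalRing hM h1) (inv_natCast_memLocalRing hM h2)) h4
  have h9 := MemLocalIdeal.neg h8
  convert h9 using 1
  field_simp
  ring

/-- **Criterion**: an extension of a character of the principal block whose ratios on suitable coset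
representatives are trivial lies in the principal block. -/
theorem ad_ext_principal (hM : IsPModular p M) (ψ : IrrCharacter G) {θ : IrrCharacter N}
    (hext : ∀ n : N, (ψ : G → ℂ) n = (θ : N → ℂ) n) (hθ : θ ∈ principalBlock M N)
    (hY : ∀ g : G, ¬ p ∣ orderOf g → ∃ y : G, (y : G ⧸ N) = (g : G ⧸ N) ∧ ¬ p ∣ adD N y ∧
      MemLocalIdeal M ((ψ : G → ℂ) y / (ψ : G → ℂ) 1 - 1)) : ψ ∈ principalBlock M G := by
  classical
  have := isPrime_of_modular hM
  letI : Fintype (G ⧸ N) := Fintype.ofFinite _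
  rw [mem_principalBlock_iff hM]
  intro h
  have h1 : ∀ η : G ⧸ N, MemLocalIdeal M (spec (adR N η (regFun p G)) ψ - ∑ g, adR N η (regFun p G) g) := by
    intro η
    induction η using QuotientGroup.induction_on with
    | H g0 =>
      by_cases hreg : ∃ g1 : G, (g1 : G ⧸ N) = (g0 : G ⧸ N) ∧ ¬ p ∣ orderOf g1
      · obtain ⟨g1, hg1, hg1r⟩ := hreg
        obtain ⟨y, hy, hd, hc⟩ := hY g1 hg1r
        have hy' : (y : G ⧸ N) = (g0 : G ⧸ N) := hy.trans hg1
        have hl : ∀ g, MemLocalRing M (adR N (g0 : G ⧸ N) (regFun p G) g) :=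
          fun g => adR_memLocalRing N _ (fun g => regFun_memLocalRing g) g
        have h2 := ad_spec_coset N hM ψ hext hθ (a := adR N (g0 : G ⧸ N) (regFun p G)) (x := y)
          (adR_inv N _ (fun n _ g => regFun_isClassFunction g n)) hl
          (fun g hg => (adR_coset N _ _ g hg).trans hy'.symm) hd
        have h3 := MemLocalIdeal.mul_left (MemLocalRing.sum Finset.univ (fun g _ => hl g)) hc
        have h4 := MemLocalIdeal.add h2 h3
        convert h4 using 1
        ring
      · have h0 : adR N (g0 : G ⧸ N) (regFun p G) = 0 := by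
          funext g
          by_contra hne
          have hc := adR_coset N _ _ g hne
          apply hreg
          refine ⟨g, hc, ?_⟩
          intro hdv
          apply hne
          simp only [adR_apply, regFun, hdv, not_true_eq_false, if_false, Pi.zero_apply]
          simp
        rw [h0, spec_zero]
        simpa using memLocalIdeal_zero
  have h2 := MemLocalIdeal.sum Finset.univ (fun η _ => h1 η)
  have h3 : ∑ η : G ⧸ N, (spec (adR N η (regFun p G)) ψ - ∑ g, adR N η (regFun p G) g) =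
      spec (regFun p G) ψ - ∑ g, regFun p G g := by
    rw [Finset.sum_sub_distrib]
    congr 1
    · have h6 := congrFun (spec_sum Finset.univ (fun η => adR N η (regFun p G))) ψ
      rw [adR_sum, Finset.sum_apply] at h6
      exact h6.symm
    · rw [Finset.sum_comm]
      refine Finset.sum_congr rfl fun g _ => ?_
      have := congrFun (adR_sum N (regFun p G)) g
      rw [Finset.sum_apply] at this
      exact this
  rw [h3] at h2
  have h4 := MemLocalIdeal.sub h h2
  simp only [sub_sub_cancel] at h4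
  have h5 : ∑ g, regFun p G g = (regCount p G : ℂ) := by
    have := spec_regFun_one (p := p) (G := G)
    rw [← this]
    simp [spec, oneIrr]
  rw [h5] at h4
  exact natCast_not_memLocalIdeal hM regCount_not_dvd h4

end Congr

section Lift

variable {p : ℕ} [hp : Fact p.Prime] {M : Ideal AlgInt}

/-- A local number whose `p`-th power is `1` modulo the ideal is `1` modulo the ideal. -/
theorem ad_eq_one_of_pow_prime (hM : IsPModular p M) {b : ℂ} (hb : MemLocalRing M b)
    (h : MemLocalIdeal M (b ^ p - 1)) : MemLocalIdeal M (b - 1) := by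
  have := isPrime_of_modular hM
  have hpp : p.Prime := hp.out
  have hb1 : MemLocalRing M (b - 1) := MemLocalRing.sub hb memLocalRing_one
  obtain ⟨r, hr⟩ := exists_add_pow_prime_eq hpp (⟨b - 1, hb1⟩ : locRing M) (1 : locRing M)
  have h1 := congrArg (fun x : locRing M => (x : ℂ)) hr
  simp only [Subring.coe_add, Subring.coe_pow, Subring.coe_one, Subring.coe_mul, Subring.coe_natCast,
    one_pow, sub_add_cancel, mul_one] at h1
  have h2 : MemLocalIdeal M ((p : ℂ) * (b - 1) * (r : ℂ)) :=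
    MemLocalIdeal.mul_right (MemLocalIdeal.mul_right (p_memLocalIdeal hM) hb1) r.2
  have h3 := MemLocalIdeal.sub h h2
  have h4 : MemLocalIdeal M ((b - 1) ^ p) := by
    convert h3 using 1
    rw [h1]
    ring
  exact MemLocalIdeal.of_pow hb1 h4

theorem ad_eq_one_of_pow_prime_pow (hM : IsPModular p M) {b : ℂ} (hb : MemLocalRing M b) (a : ℕ)
    (h : MemLocalIdeal M (b ^ p ^ a - 1)) : MemLocalIdeal M (b - 1) := by
  have := isPrime_of_modular hM
  induction a with
  | zero => simpa using h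
  | succ a ih =>
    apply ih
    apply ad_eq_one_of_pow_prime hM (MemLocalRing.pow hb _)
    rw [← pow_mul, ← pow_succ]
    exact h

theorem ad_root_local [M.IsPrime] {ζ : ℂ} {m : ℕ} (hm : m ≠ 0) (h : ζ ^ m = 1) : MemLocalRing M ζ := by
  apply memLocalRing_of_isIntegral
  refine ⟨Polynomial.X ^ m - 1, Polynomial.monic_X_pow_sub_C 1 hm, ?_⟩
  simp [h]

/-- Roots of unity lift local numbers. -/
theorem ad_exists_root [M.IsPrime] {c : ℂ} (hc : MemLocalRing M c) {m : ℕ} (hm : m ≠ 0)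
    (h : MemLocalIdeal M (c ^ m - 1)) : ∃ ζ : ℂ, ζ ^ m = 1 ∧ MemLocalIdeal M (c - ζ) := by
  have hprim := Complex.isPrimitiveRoot_exp m hm
  have h1 := hprim.pow_sub_pow_eq_prod_sub_mul c 1 (Nat.pos_of_ne_zero hm)
  simp only [one_pow, mul_one] at h1
  rw [h1] at h
  by_contra hcon
  push Not at hcon
  have key : ∀ s : Finset ℂ, (∀ ζ ∈ s, ζ ^ m = 1) → ¬ MemLocalIdeal M (∏ ζ ∈ s, (c - ζ)) := by
    intro s
    induction s using Finset.cons_induction with
    | empty =>
      intro _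
      simpa using not_memLocalIdeal_one
    | cons a s ha ih =>
      intro hs
      rw [Finset.prod_cons]
      intro hh
      have hsa := hs a (by simp)
      have hs' : ∀ ζ ∈ s, ζ ^ m = 1 := fun ζ hζ => hs ζ (by simp [hζ])
      have hl : MemLocalRing M (∏ ζ ∈ s, (c - ζ)) :=
        MemLocalRing.prod s fun ζ hζ => MemLocalRing.sub hc (ad_root_local hm (hs' ζ hζ))
      rcases MemLocalIdeal.of_mul (MemLocalRing.sub hc (ad_root_local hm hsa)) hl hh with h2 | h2
      · exact hcon a hsa h2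
      · exact ih hs' h2
  refine key _ ?_ h
  intro ζ hζ
  exact (Polynomial.mem_nthRootsFinset (Nat.pos_of_ne_zero hm) 1).mp hζ

/-- Roots of unity of order prime to `p` are determined modulo the ideal. -/
theorem ad_root_unique (hM : IsPModular p M) {ζ ζ' : ℂ} {m : ℕ} (hm : ¬ p ∣ m) (h : ζ ^ m = 1)
    (h' : ζ' ^ m = 1) (hd : MemLocalIdeal M (ζ - ζ')) : ζ = ζ' := by
  have := isPrime_of_modular hM
  have hm0 : m ≠ 0 := by
    rintro rfl
    exact hm (dvd_zero p)
  have hz' : ζ' ≠ 0 := by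
    rintro rfl
    simp [hm0] at h'
  by_contra hne
  set η := ζ * ζ'⁻¹ with hη
  have hη1 : η ^ m = 1 := by
    rw [hη, mul_pow, inv_pow, h, h']
    simp
  have hηne : η ≠ 1 := by
    intro h1
    apply hne
    rw [hη] at h1
    field_simp at h1
    exact h1
  have hinv : MemLocalRing M ζ'⁻¹ := by
    have h2 : ζ'⁻¹ = ζ' ^ (m - 1) := by
      field_simp
      rw [← pow_succ', Nat.sub_add_cancel (Nat.pos_of_ne_zero hm0), h']
    rw [h2]
    exact MemLocalRing.pow (ad_root_local hm0 h') _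
  have hηl : MemLocalRing M η := ad_root_local hm0 hη1
  have h1 : MemLocalIdeal M (η - 1) := by
    have h2 := MemLocalIdeal.mul_right hd hinv
    convert h2 using 1
    rw [hη]
    field_simp
  have hgeom : ∑ i ∈ Finset.range m, η ^ i = 0 := by
    have h2 := mul_neg_geom_sum η m
    rw [hη1, sub_self] at h2
    rcases mul_eq_zero.mp h2 with h3 | h3
    · exact absurd (sub_eq_zero.mp h3).symm hηne
    · exact h3
  have h2 : ∀ i : ℕ, MemLocalIdeal M (η ^ i - 1) := by
    intro i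
    induction i with
    | zero => simpa using memLocalIdeal_zero
    | succ i ih =>
      have h3 := MemLocalIdeal.add (MemLocalIdeal.mul_right ih hηl) h1
      convert h3 using 1
      ring
  have h3 := MemLocalIdeal.sum (Finset.range m) (fun i _ => h2 i)
  rw [Finset.sum_sub_distrib, hgeom] at h3
  simp only [Finset.sum_const, Finset.card_range, nsmul_eq_mul, mul_one, zero_sub] at h3
  have h4 := MemLocalIdeal.neg h3
  rw [neg_neg] at h4
  exact natCast_not_memLocalIdeal hM hm h4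

variable {G : Type u} [Group G] [Finite G]

/-- **Lifting**: a local function multiplicative modulo the ideal on a subgroup covering `G` modulo
`N` and trivial on the intersection is congruent to a linear character of `G/N`. -/
theorem ad_exists_lift (hM : IsPModular p M) (N : Subgroup G) [hN : N.Normal] (Y : Subgroup G)
    (hcov : ∀ g : G, ∃ y ∈ Y, y⁻¹ * g ∈ N) (c : G → ℂ) (hloc : ∀ y ∈ Y, MemLocalRing M (c y))
    (hone : c 1 = 1) (hmul : ∀ y ∈ Y, ∀ y' ∈ Y, MemLocalIdeal M (c (y * y') - c y * c y'))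
    (htriv : ∀ y ∈ Y, y ∈ N → MemLocalIdeal M (c y - 1)) :
    ∃ lam : G →* ℂˣ, (∀ n ∈ N, lam n = 1) ∧ (∀ y ∈ Y, MemLocalIdeal M (c y - (lam y : ℂˣ))) ∧
      ∃ m : ℕ, ¬ p ∣ m ∧ ∀ g, lam g ^ m = 1 := by
  classical
  have := isPrime_of_modular hM
  have hpp : p.Prime := hp.out
  have hcard : Nat.card G ≠ 0 := Nat.card_pos.ne'
  obtain ⟨a, m, hm, hGm⟩ := Nat.exists_eq_pow_mul_and_not_dvd hcard p hpp.ne_one
  have hm0 : m ≠ 0 := by
    rintro rfl
    exact hm (dvd_zero p)
  have hpow : ∀ y ∈ Y, ∀ k : ℕ, MemLocalIdeal M (c (y ^ k) - c y ^ k) := by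
    intro y hy k
    induction k with
    | zero => simpa [hone] using memLocalIdeal_zero
    | succ k ih =>
      have h1 := hmul (y ^ k) (Y.pow_mem hy k) y hy
      have h2 := MemLocalIdeal.mul_right ih (hloc y hy)
      have h3 := MemLocalIdeal.add h1 h2
      convert h3 using 1
      rw [pow_succ, pow_succ]
      ring
  have hroot : ∀ y ∈ Y, ∃ ζ : ℂ, ζ ^ m = 1 ∧ MemLocalIdeal M (c y - ζ) := by
    intro y hy
    apply ad_exists_root (hloc y hy) hm0
    apply ad_eq_one_of_pow_prime_pow hM (MemLocalRing.pow (hloc y hy) m) a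
    have h1 := hpow y hy (Nat.card G)
    rw [pow_card_eq_one', hone, hGm] at h1
    have h2 := MemLocalIdeal.neg h1
    convert h2 using 1
    rw [← pow_mul, mul_comm m, ← hGm]
    ring
  -- the same coset: the same ratio
  have hsame : ∀ y ∈ Y, ∀ y' ∈ Y, y⁻¹ * y' ∈ N → MemLocalIdeal M (c y' - c y) := by
    intro y hy y' hy' hn
    have hz : y⁻¹ * y' ∈ Y := Y.mul_mem (Y.inv_mem hy) hy'
    have h1 := hmul y hy _ hz
    rw [mul_inv_cancel_left] at h1
    have h2 := MemLocalIdeal.mul_left (hloc y hy) (htriv _ hz hn)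
    have h3 := MemLocalIdeal.add h1 h2
    convert h3 using 1
    ring
  let R : G → ℂ → Prop := fun g ζ => ζ ^ m = 1 ∧ ∃ y ∈ Y, y⁻¹ * g ∈ N ∧ MemLocalIdeal M (c y - ζ)
  have hRex : ∀ g, ∃ ζ, R g ζ := by
    intro g
    obtain ⟨y, hy, hyg⟩ := hcov g
    obtain ⟨ζ, hζ, hc⟩ := hroot y hy
    exact ⟨ζ, hζ, y, hy, hyg, hc⟩
  have hRun : ∀ g ζ ζ', R g ζ → R g ζ' → ζ = ζ' := by
    rintro g ζ ζ' ⟨h1, y, hy, hg, hc⟩ ⟨h1', y', hy', hg', hc'⟩
    apply ad_root_unique hM hm h1 h1'
    have h2 : y⁻¹ * y' ∈ N := by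
      have h3 := N.mul_mem hg (N.inv_mem hg')
      convert h3 using 1
      group
    have h3 := hsame y hy y' hy' h2
    have h4 := MemLocalIdeal.sub (MemLocalIdeal.sub hc' h3) hc
    convert h4 using 1
    ring
  let Λ : G → ℂ := fun g => (hRex g).choose
  have hΛ : ∀ g, R g (Λ g) := fun g => (hRex g).choose_spec
  have hΛone : Λ 1 = 1 := by
    apply hRun 1 _ _ (hΛ 1)
    refine ⟨one_pow m, 1, Y.one_mem, by simpa using N.one_mem, ?_⟩
    rw [hone, sub_self]
    exact memLocalIdeal_zero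
  have hΛmul : ∀ g g', Λ (g * g') = Λ g * Λ g' := by
    intro g g'
    apply hRun (g * g') _ _ (hΛ _)
    obtain ⟨h1, y, hy, hg, hc⟩ := hΛ g
    obtain ⟨h1', y', hy', hg', hc'⟩ := hΛ g'
    refine ⟨by rw [mul_pow, h1, h1', one_mul], y * y', Y.mul_mem hy hy', ?_, ?_⟩
    · have h2 : (y * y')⁻¹ * (g * g') = (y'⁻¹ * (y⁻¹ * g) * y') * (y'⁻¹ * g') := by group
      rw [h2]
      exact N.mul_mem (by simpa using hN.conj_mem _ hg y'⁻¹) hg'
    · have h2 := hmul y hy y' hy'
      have h3 := MemLocalIdeal.mul_right hc (hloc y' hy')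
      have h4 := MemLocalIdeal.mul_left (ad_root_local hm0 h1) hc'
      have h5 := MemLocalIdeal.add (MemLocalIdeal.add h2 h3) h4
      convert h5 using 1
      ring
  let lam : G →* ℂˣ := MonoidHom.toHomUnits ⟨⟨Λ, hΛone⟩, hΛmul⟩
  have hlam : ∀ g, ((lam g : ℂˣ) : ℂ) = Λ g := fun g => rfl
  refine ⟨lam, ?_, ?_, m, hm, ?_⟩
  · intro n hn
    apply Units.ext
    rw [hlam, Units.val_one]
    apply hRun n _ _ (hΛ n)
    refine ⟨one_pow m, 1, Y.one_mem, by simpa using hn, ?_⟩
    rw [hone, sub_self]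
    exact memLocalIdeal_zero
  · intro y hy
    rw [hlam]
    obtain ⟨_, y₁, hy₁, hg, hc⟩ := hΛ y
    have h3 := hsame y₁ hy₁ y hy hg
    have h4 := MemLocalIdeal.add h3 hc
    convert h4 using 1
    ring
  · intro g
    apply Units.ext
    rw [Units.val_pow_eq_pow_val, hlam, Units.val_one]
    exact (hΛ g).1

end Lift

section Apply

variable {G : Type u} [Group G] [Fintype G] (N : Subgroup G) [hN : N.Normal] [Fintype N]
  {p : ℕ} [hp : Fact p.Prime] {M : Ideal AlgInt}

/-- A variant of `adD_not_dvd`: `Q` need only contain the `p`-part of `N`. -/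
theorem adD_not_dvd' (Q : Subgroup G) (hQN : Q ≤ N) {m : ℕ} (hm : Nat.card N = Nat.card Q * m)
    (hpm : ¬ p ∣ m) (x : G) (hx : Q ≤ Subgroup.centralizer ({x} : Set G)) : ¬ p ∣ adD N x := by
  intro hd
  apply hpm
  have h2 : Nat.card Q ∣ Nat.card ((Subgroup.centralizer ({x} : Set G)).subgroupOf N) := by
    have h3 : Q.subgroupOf N ≤ (Subgroup.centralizer ({x} : Set G)).subgroupOf N :=
      Subgroup.subgroupOf_mono _ hx |>.trans le_rfl
    have h4 := Subgroup.card_dvd_of_le h3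
    have h5 : Nat.card (Q.subgroupOf N) = Nat.card Q :=
      Nat.card_congr (Subgroup.subgroupOfEquivOfLe hQN).toEquiv
    rw [h5] at h4
    exact h4
  obtain ⟨t, ht⟩ := h2
  have h3 := card_eq_mul_adD N x
  rw [ht, hm] at h3
  have hQ0 : Nat.card Q ≠ 0 := Nat.card_pos.ne'
  have h4 : m = t * adD N x := by
    apply Nat.eq_of_mul_eq_mul_left (Nat.pos_of_ne_zero hQ0)
    rw [h3]
    ring
  rw [h4]
  exact Dvd.dvd.mul_left hd t

/-- The ratio is trivial on `N` for elements whose `N`-class has size prime to `p`. -/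
theorem adC_of_mem (hM : IsPModular p M) (ψ : IrrCharacter G) {θ : IrrCharacter N}
    (hext : ∀ n : N, (ψ : G → ℂ) n = (θ : N → ℂ) n) (hθ : θ ∈ principalBlock M N) {y : G}
    (hd : ¬ p ∣ adD N y) (hyN : y ∈ N) : MemLocalIdeal M ((ψ : G → ℂ) y / (ψ : G → ℂ) 1 - 1) := by
  have := isPrime_of_modular hM
  have h0 : (ψ : G → ℂ) 1 ≠ 0 := irr_apply_one_ne_zero ψ
  have h1 := ad_spec_coset N hM ψ hext hθ (a := adK N y) (x := 1) (adK_inv N y)
    (fun g => adK_memLocalRing N y g)
    (fun g hg => by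
      have := adK_coset N y g hg
      rw [this]
      exact (QuotientGroup.eq_one_iff y).mpr hyN) (by
      rw [adD_one]
      exact fun h => (Fact.out : p.Prime).one_lt.ne' (Nat.dvd_one.mp h))
  rw [sum_adK, div_self h0, mul_one] at h1
  have h2 : spec (adK N y) ψ = (adD N y : ℂ) * ((ψ : G → ℂ) y / (ψ : G → ℂ) 1) := by
    have h3 := sum_adK_mul N y (ψ : G → ℂ) (adChi_inv N ψ)
    simp only [spec]
    rw [h3]
    ring
  rw [h2] at h1
  have h3 := MemLocalIdeal.mul_left (inv_natCast_memLocalRing hM hd) h1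
  convert h3 using 1
  have hd0 : (adD N y : ℂ) ≠ 0 := natCast_ne_zero_of_not_dvd hd
  field_simp

/-- **Linear twist.** An extension of a character of the principal block can be twisted so as to
have trivial ratio on a supplement whose `N`-classes have size prime to `p`. -/
theorem ad_extend_twist (hM : IsPModular p M) (ψ : IrrCharacter G) {θ : IrrCharacter N}
    (hext : ∀ n : N, (ψ : G → ℂ) n = (θ : N → ℂ) n) (hθ : θ ∈ principalBlock M N) (Y : Subgroup G)
    (hcov : ∀ g : G, ∃ y ∈ Y, y⁻¹ * g ∈ N) (hY : ∀ y ∈ Y, ¬ p ∣ adD N y) :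
    ∃ lam : G →* ℂˣ, (∀ n ∈ N, lam n = 1) ∧
      (∀ y ∈ Y, MemLocalIdeal M ((ψ : G → ℂ) y / (ψ : G → ℂ) 1 - (lam y : ℂˣ))) ∧
      ∃ m : ℕ, ¬ p ∣ m ∧ ∀ g, lam g ^ m = 1 := by
  have := isPrime_of_modular hM
  have h0 : (ψ : G → ℂ) 1 ≠ 0 := irr_apply_one_ne_zero ψ
  apply ad_exists_lift hM N Y hcov (fun y => (ψ : G → ℂ) y / (ψ : G → ℂ) 1)
  · intro y hy
    exact adC_memLocalRing N hM ψ hext hθ (hY y hy)
  · exact div_self h0
  · intro y hy y' hy'
    exact adC_mul N hM ψ hext hθ (hY y hy) (hY y' hy') (hY _ (Y.mul_mem hy hy'))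
  · intro y hy hyN
    exact adC_of_mem N hM ψ hext hθ (hY y hy) hyN

/-- The ratio of the twisted character. -/
noncomputable def adTwist (lam : G →* ℂˣ) (ψ : IrrCharacter G) : IrrCharacter G :=
  ⟨fun g => ((lam⁻¹ g : ℂˣ) : ℂ) * (ψ : G → ℂ) g, isIrr_twist lam⁻¹ ψ.2⟩

theorem adTwist_apply (lam : G →* ℂˣ) (ψ : IrrCharacter G) (g : G) :
    (adTwist lam ψ : G → ℂ) g = ((lam⁻¹ g : ℂˣ) : ℂ) * (ψ : G → ℂ) g := rfl

/-- The criterion passes to intermediate subgroups. -/
theorem ad_restrict_principal (hM : IsPModular p M) (Q : Subgroup G) (hQN : Q ≤ N) {m : ℕ}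
    (hm : Nat.card N = Nat.card Q * m) (hpm : ¬ p ∣ m)
    (hcov : ∀ g : G, ∃ y ∈ Subgroup.centralizer (Q : Set G), y⁻¹ * g ∈ N)
    (χ : IrrCharacter G) {θ : IrrCharacter N}
    (hext : ∀ n : N, (χ : G → ℂ) n = (θ : N → ℂ) n) (hθ : θ ∈ principalBlock M N)
    (hrat : ∀ y ∈ Subgroup.centralizer (Q : Set G), MemLocalIdeal M ((χ : G → ℂ) y / (χ : G → ℂ) 1 - 1))
    (J : Subgroup G) (hNJ : N ≤ J) :
    ∃ ξ : IrrCharacter J, ξ ∈ principalBlock M J ∧ ∀ y : J, (ξ : J → ℂ) y = (χ : G → ℂ) y := by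
  classical
  have := isPrime_of_modular hM
  letI : Fintype J := Fintype.ofFinite _
  let N' : Subgroup J := N.subgroupOf J
  haveI hN' : N'.Normal := Subgroup.normal_subgroupOf
  letI : Fintype N' := Fintype.ofFinite _
  let e : N' ≃* N := Subgroup.subgroupOfEquivOfLe hNJ
  have he : ∀ n : N', ((e n : N) : G) = ((n : J) : G) := fun n => rfl
  let θ' : IrrCharacter N' := H8Group.irrComp e θ
  have hθ'B : θ' ∈ principalBlock M N' := by
    have h1 := blockPull_principalBlock (M := M) e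
    rw [← h1]
    exact (H8Group.mem_blockPull e).mpr hθ
  have hξ : IsIrrCharacter J (fun y : J => (χ : G → ℂ) y) := by
    apply isIrr_of_irr_res N'
    · exact IsCharacter.comp (IsIrrCharacter.isCharacter χ.2) J.subtype
    · have h1 : Cfsg.Agent.Lib.Char.resFun N' (fun y : J => (χ : G → ℂ) y) = (θ' : N' → ℂ) := by
        funext n
        show (χ : G → ℂ) ((n : J) : G) = (θ : N → ℂ) (e n)
        rw [← hext, he]
      rw [h1]
      exact θ'.2
  refine ⟨⟨_, hξ⟩, ?_, fun y => rfl⟩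
  have hext' : ∀ n : N', (⟨_, hξ⟩ : IrrCharacter J).1 n = (θ' : N' → ℂ) n := by
    intro n
    show (χ : G → ℂ) ((n : J) : G) = (θ : N → ℂ) (e n)
    rw [← hext, he]
  apply ad_ext_principal N' hM ⟨_, hξ⟩ hext' hθ'B
  intro g _
  obtain ⟨y, hy, hyg⟩ := hcov (g : G)
  have hyJ : y ∈ J := by
    have h1 : y = (g : G) * (y⁻¹ * (g : G))⁻¹ := by group
    rw [h1]
    exact J.mul_mem g.2 (J.inv_mem (hNJ hyg))
  refine ⟨⟨y, hyJ⟩, ?_, ?_, ?_⟩
  · rw [QuotientGroup.eq]
    exact hyg
  · have hQJ : Q ≤ J := hQN.trans hNJ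
    have hcQ : Nat.card (Q.subgroupOf J) = Nat.card Q :=
      Nat.card_congr (Subgroup.subgroupOfEquivOfLe hQJ).toEquiv
    have hcN : Nat.card N' = Nat.card N := Nat.card_congr e.toEquiv
    refine adD_not_dvd' N' (Q.subgroupOf J) ?_ (m := m) (by rw [hcQ, hcN, hm]) hpm _ ?_
    · exact Subgroup.subgroupOf_mono _ hQN
    · intro q hq
      rw [Subgroup.mem_centralizer_iff]
      intro z hz
      rw [Set.mem_singleton_iff] at hz
      subst hz
      apply Subtype.ext
      have h1 := (Subgroup.mem_centralizer_iff.mp hy) (q : G) (Subgroup.mem_subgroupOf.mp hq)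
      show y * (q : G) = (q : G) * y
      exact h1.symm
  · exact hrat y hy

/-- The main theorem on extensions for a supplement of the centralizer of a Sylow subgroup of `N`. -/
theorem ad_main_extend (hM : IsPModular p M) (Q : Subgroup G) (hQN : Q ≤ N) {m : ℕ}
    (hm : Nat.card N = Nat.card Q * m) (hpm : ¬ p ∣ m)
    (hcov : ∀ g : G, ∃ y ∈ Subgroup.centralizer (Q : Set G), y⁻¹ * g ∈ N)
    (ψ : IrrCharacter G) {θ : IrrCharacter N}
    (hext : ∀ n : N, (ψ : G → ℂ) n = (θ : N → ℂ) n) (hθ : θ ∈ principalBlock M N) :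
    ∃ χ : IrrCharacter G, (∀ n : N, (χ : G → ℂ) n = (θ : N → ℂ) n) ∧
      ∀ y ∈ Subgroup.centralizer (Q : Set G), MemLocalIdeal M ((χ : G → ℂ) y / (χ : G → ℂ) 1 - 1) := by
  have := isPrime_of_modular hM
  have hY : ∀ y ∈ Subgroup.centralizer (Q : Set G), ¬ p ∣ adD N y := by
    intro y hy
    refine adD_not_dvd' N Q hQN hm hpm y ?_
    intro q hq
    rw [Subgroup.mem_centralizer_iff]
    intro z hz
    rw [Set.mem_singleton_iff] at hz
    subst hz
    exact ((Subgroup.mem_centralizer_iff.mp hy) q hq).symm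
  obtain ⟨lam, h1, h2, _⟩ := ad_extend_twist N hM ψ hext hθ _ hcov hY
  refine ⟨adTwist lam ψ, ?_, ?_⟩
  · intro n
    rw [adTwist_apply, ← hext, MonoidHom.inv_apply, h1 n n.2]
    simp
  · intro y hy
    have h0 : (ψ : G → ℂ) 1 ≠ 0 := irr_apply_one_ne_zero ψ
    rw [adTwist_apply, adTwist_apply, map_one]
    simp only [Units.val_one, one_mul]
    have h3 : MemLocalRing M ((lam⁻¹ y : ℂˣ) : ℂ) := by
      apply ad_root_local (m := Nat.card G) Nat.card_pos.ne'
      rw [← Units.val_pow_eq_pow_val, ← map_pow, pow_card_eq_one', map_one, Units.val_one]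
    have h4 := MemLocalIdeal.mul_left h3 (h2 y hy)
    convert h4 using 1
    have h5 : ((lam⁻¹ y : ℂˣ) : ℂ) * ((lam y : ℂˣ) : ℂ) = 1 := by
      rw [← Units.val_mul, MonoidHom.inv_apply, inv_mul_cancel, Units.val_one]
    rw [mul_sub, h5]
    ring

end Apply

end Cfsg.Agent.Lib.Blocks
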