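import Cfsg.Agent.Lib.Blocks.CoverAll
import Cfsg.Agent.Lib.Blocks.Third
import Cfsg.Agent.Lib.Char.Kernel

/-!
# The Alperin--Dade theorem: restriction between principal blocks.

If `N` is normal of `p'`-index in `G` and every coset of `N` contains an element whose `N`-class has
size prime to `p`, then restriction is a bijection between the principal blocks.
-/

set_option autoImplicit false
set_option linter.unusedSectionVars false
set_option linter.style.haveILetI false

namespace Cfsg.Agent.Lib.Blocks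

open Cfsg Cfsg.Agent.Lib.Char Cfsg.Agent.Lib.H8Group
open scoped ComplexConjugate

universe u

section ConvAlg

variable {G : Type u} [Group G] [Fintype G]

theorem adConv_assoc (a b c : G → ℂ) : conv (conv a b) c = conv a (conv b c) := by
  funext t
  simp only [conv, Finset.sum_mul, Finset.mul_sum]
  rw [Finset.sum_comm]
  refine Finset.sum_congr rfl fun x _ => ?_
  refine Fintype.sum_equiv (Equiv.mulLeft x⁻¹) _ _ fun y => ?_
  simp [mul_assoc]

theorem adSum_conv (a b : G → ℂ) : ∑ t, conv a b t = (∑ x, a x) * ∑ x, b x := by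
  simp only [conv]
  rw [Finset.sum_comm, Finset.sum_mul]
  refine Finset.sum_congr rfl fun x _ => ?_
  rw [Finset.mul_sum]
  refine Fintype.sum_equiv (Equiv.mulLeft x⁻¹) _ _ fun y => ?_
  simp

/-- The action functional of a function on a character. -/
noncomputable def adAct (χ a : G → ℂ) (h : G) : ℂ := ∑ g, a g * χ (g * h)

theorem adAct_conv_left (χ a b : G → ℂ) (h : G) :
    adAct χ (conv a b) h = ∑ w, b w * adAct χ a (w * h) := by
  simp only [adAct, conv, Finset.sum_mul, Finset.mul_sum]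
  rw [Finset.sum_comm, Finset.sum_comm (s := Finset.univ) (t := Finset.univ) (f := fun w x => b w * (a x * χ (x * (w * h))))]
  refine Finset.sum_congr rfl fun x _ => ?_
  refine Fintype.sum_equiv (Equiv.mulLeft x⁻¹) _ _ fun y => ?_
  simp only [Equiv.coe_mulLeft]
  have : x * (x⁻¹ * y * h) = y * h := by group
  rw [this]
  ring

/-- A function acts by a scalar on a character. -/
def AdActsBy (χ a : G → ℂ) (c : ℂ) : Prop := ∀ h, adAct χ a h = c * χ h

theorem adAct_conv_of_left {χ a b : G → ℂ} {c : ℂ} (h : AdActsBy χ a c) (u : G) :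
    adAct χ (conv a b) u = c * adAct χ b u := by
  rw [adAct_conv_left]
  have h1 : ∀ w, b w * adAct χ a (w * u) = c * (b w * χ (w * u)) := fun w => by
    rw [h]; ring
  simp only [h1]
  rw [← Finset.mul_sum]
  rfl

theorem adAct_conv_of_right (χ : IrrCharacter G) {a b : G → ℂ} {c : ℂ} (h : AdActsBy (χ : G → ℂ) b c) (u : G) :
    adAct (χ : G → ℂ) (conv a b) u = c * adAct (χ : G → ℂ) a u := by
  have h1 : adAct (χ : G → ℂ) (conv a b) u = ∑ x, a x * adAct (χ : G → ℂ) b (u * x) := by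
    simp only [adAct, conv, Finset.sum_mul, Finset.mul_sum]
    rw [Finset.sum_comm]
    refine Finset.sum_congr rfl fun x _ => ?_
    refine Fintype.sum_equiv (Equiv.mulLeft x⁻¹) _ _ fun y => ?_
    simp only [Equiv.coe_mulLeft]
    have h2 := irr_isClassFunction χ (y * u) x⁻¹
    have h3 : x⁻¹ * (y * u) * x⁻¹⁻¹ = x⁻¹ * y * (u * x) := by group
    rw [h3] at h2
    rw [h2]
    ring
  rw [h1]
  have h2 : ∀ x, a x * adAct (χ : G → ℂ) b (u * x) = c * (a x * (χ : G → ℂ) (x * u)) := fun x => by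
    rw [h, irr_mul_comm χ u x]; ring
  simp only [h2]
  rw [← Finset.mul_sum]
  rfl

theorem adActsBy_spec (χ : IrrCharacter G) {a : G → ℂ} (ha : IsClassFunction G a) :
    AdActsBy (χ : G → ℂ) a (spec a χ) := fun h => spec_mul_apply a ha χ h

theorem adAct_add (χ a b : G → ℂ) (h : G) : adAct χ (a + b) h = adAct χ a h + adAct χ b h := by
  simp only [adAct, Pi.add_apply, add_mul, Finset.sum_add_distrib]

theorem adAct_smul (χ a : G → ℂ) (c : ℂ) (h : G) : adAct χ (c • a) h = c * adAct χ a h := by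
  simp only [adAct, Pi.smul_apply, smul_eq_mul, Finset.mul_sum, mul_assoc]

end ConvAlg

section Mat

variable {M : Ideal AlgInt} [M.IsPrime]

theorem adProd_sub_one {ι : Type*} (s : Finset ι) {f : ι → ℂ} (h : ∀ i ∈ s, MemLocalIdeal M (f i - 1)) :
    MemLocalIdeal M ((∏ i ∈ s, f i) - 1) := by
  classical
  induction s using Finset.induction_on with
  | empty => simpa using memLocalIdeal_zero
  | insert a s ha ih =>
    rw [Finset.prod_insert ha]
    have h1 := h a (Finset.mem_insert_self _ _)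
    have h2 := ih (fun i hi => h i (Finset.mem_insert_of_mem hi))
    have h3 : f a * ∏ i ∈ s, f i - 1 = (f a - 1) * ∏ i ∈ s, f i + ((∏ i ∈ s, f i) - 1) := by ring
    rw [h3]
    refine MemLocalIdeal.add (MemLocalIdeal.mul_right h1 ?_) h2
    have h4 : (∏ i ∈ s, f i) = ((∏ i ∈ s, f i) - 1) + 1 := by ring
    rw [h4]
    exact MemLocalRing.add (MemLocalIdeal.memLocalRing h2) memLocalRing_one

theorem adDet_ne_zero {ι : Type*} [Fintype ι] [DecidableEq ι] (δ : Matrix ι ι ℂ)
    (h : ∀ i j, MemLocalIdeal M (δ i j)) : (1 - δ).det ≠ 0 := by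
  classical
  have hent : ∀ i j, MemLocalRing M ((1 - δ : Matrix ι ι ℂ) i j) := by
    intro i j
    rw [Matrix.sub_apply, Matrix.one_apply]
    refine MemLocalRing.sub ?_ (MemLocalIdeal.memLocalRing (h i j))
    split_ifs
    · exact memLocalRing_one
    · exact memLocalRing_zero
  have key : MemLocalIdeal M ((1 - δ).det - 1) := by
    rw [Matrix.det_apply, ← Finset.add_sum_erase Finset.univ _ (Finset.mem_univ (1 : Equiv.Perm ι))]
    have h0 : MemLocalIdeal M ((∏ i, (1 - δ : Matrix ι ι ℂ) i i) - 1) := by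
      refine adProd_sub_one _ fun i _ => ?_
      rw [Matrix.sub_apply, Matrix.one_apply_eq]
      have : (1 : ℂ) - δ i i - 1 = - δ i i := by ring
      rw [this]
      exact MemLocalIdeal.neg (h i i)
    have h1 : (((1 : Equiv.Perm ι).sign • ∏ i, (1 - δ : Matrix ι ι ℂ) (((1 : Equiv.Perm ι)) i) i) + ∑ σ ∈ Finset.univ.erase (1 : Equiv.Perm ι), Equiv.Perm.sign σ • ∏ i, (1 - δ : Matrix ι ι ℂ) (σ i) i) - 1 =
        ((∏ i, (1 - δ : Matrix ι ι ℂ) i i) - 1) + ∑ σ ∈ Finset.univ.erase (1 : Equiv.Perm ι), Equiv.Perm.sign σ • ∏ i, (1 - δ : Matrix ι ι ℂ) (σ i) i := by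
      simp
      ring
    simp only [Equiv.Perm.sign_one, one_smul, Equiv.Perm.coe_one, id_eq]
    have h2 : ((∏ i, (1 - δ : Matrix ι ι ℂ) i i) + ∑ σ ∈ Finset.univ.erase (1 : Equiv.Perm ι), Equiv.Perm.sign σ • ∏ i, (1 - δ : Matrix ι ι ℂ) (σ i) i) - 1 =
        ((∏ i, (1 - δ : Matrix ι ι ℂ) i i) - 1) + ∑ σ ∈ Finset.univ.erase (1 : Equiv.Perm ι), Equiv.Perm.sign σ • ∏ i, (1 - δ : Matrix ι ι ℂ) (σ i) i := by
      ring
    rw [h2]
    refine MemLocalIdeal.add h0 (MemLocalIdeal.sum _ fun σ hσ => ?_)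
    have hne : σ ≠ 1 := (Finset.mem_erase.mp hσ).1
    obtain ⟨i, hi⟩ : ∃ i, σ i ≠ i := by
      by_contra hcon
      push Not at hcon
      exact hne (Equiv.ext hcon)
    have h3 : MemLocalIdeal M (∏ i, (1 - δ : Matrix ι ι ℂ) (σ i) i) := by
      rw [← Finset.mul_prod_erase Finset.univ _ (Finset.mem_univ i)]
      refine MemLocalIdeal.mul_right ?_ (MemLocalRing.prod _ fun j _ => hent _ _)
      rw [Matrix.sub_apply, Matrix.one_apply_ne hi, zero_sub]
      exact MemLocalIdeal.neg (h _ _)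
    rcases Int.units_eq_one_or (Equiv.Perm.sign σ) with hs | hs
    · rw [hs, one_smul]
      exact h3
    · rw [hs]
      have : ((-1 : ℤˣ)) • (∏ i, (1 - δ : Matrix ι ι ℂ) (σ i) i) = - ∏ i, (1 - δ : Matrix ι ι ℂ) (σ i) i := by
        simp [Units.smul_def]
      rw [this]
      exact MemLocalIdeal.neg h3
  intro h0
  rw [h0, zero_sub] at key
  have := MemLocalIdeal.neg key
  rw [neg_neg] at this
  exact not_memLocalIdeal_one this

/-- The Nakayama step. -/
theorem adSolve {ι : Type*} [Fintype ι] [DecidableEq ι] (δ : ι → ι → ℂ) (h : ∀ i j, MemLocalIdeal M (δ i j))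
    (c : ι → ℂ) : ∃ c' : ι → ℂ, ∀ (w : ι → ℂ) (v : ℂ),
      (∀ i, w i = ∑ j, δ i j * w j + c i * v) → ∀ i, w i = c' i * v := by
  classical
  let D : Matrix ι ι ℂ := Matrix.of δ
  let A : Matrix ι ι ℂ := 1 - D
  have hdet : A.det ≠ 0 := adDet_ne_zero (M := M) D (fun i j => h i j)
  have hu : IsUnit A.det := isUnit_iff_ne_zero.mpr hdet
  refine ⟨A⁻¹.mulVec c, fun w v hw i => ?_⟩
  have h1 : A.mulVec w = v • c := by
    have h3 : A.mulVec w = w - D.mulVec w := by
      simp only [A, Matrix.sub_mulVec, Matrix.one_mulVec]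
    rw [h3]
    funext i
    have h4 : D.mulVec w i = ∑ j, δ i j * w j := rfl
    simp only [Pi.sub_apply, Pi.smul_apply, smul_eq_mul, h4]
    have := hw i
    linear_combination this
  have h2 : w = A⁻¹.mulVec (v • c) := by
    rw [← h1, Matrix.mulVec_mulVec, Matrix.nonsing_inv_mul _ hu, Matrix.one_mulVec]
  rw [h2, Matrix.mulVec_smul]
  simp [mul_comm]

end Mat

section NK

variable {G : Type u} [Group G] [Fintype G] (N : Subgroup G) [hN : N.Normal] [Fintype N]

/-- `N`-invariant functions. -/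
def AdInv (a : G → ℂ) : Prop := ∀ n ∈ N, ∀ g, a (n * g * n⁻¹) = a g

/-- The `N`-class sum. -/
noncomputable def adK (x : G) : G → ℂ := by
  classical exact fun g => if ∃ u ∈ N, u * x * u⁻¹ = g then 1 else 0

theorem adK_apply (x g : G) [Decidable (∃ u ∈ N, u * x * u⁻¹ = g)] :
    adK N x g = if ∃ u ∈ N, u * x * u⁻¹ = g then 1 else 0 := by
  simp only [adK]
  congr

/-- The size of an `N`-class. -/
noncomputable def adD (x : G) : ℕ := Nat.card {g : G // ∃ u ∈ N, u * x * u⁻¹ = g}

theorem adK_inv (x : G) : AdInv N (adK N x) := by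
  classical
  intro n hn g
  simp only [adK_apply]
  have : (∃ u ∈ N, u * x * u⁻¹ = n * g * n⁻¹) ↔ ∃ u ∈ N, u * x * u⁻¹ = g := by
    constructor
    · rintro ⟨u, hu, h⟩
      refine ⟨n⁻¹ * u, N.mul_mem (N.inv_mem hn) hu, ?_⟩
      have : n⁻¹ * u * x * (n⁻¹ * u)⁻¹ = n⁻¹ * (u * x * u⁻¹) * n := by group
      rw [this, h]
      group
    · rintro ⟨u, hu, h⟩
      refine ⟨n * u, N.mul_mem hn hu, ?_⟩
      rw [← h]
      group
  simp only [this]

theorem sum_adK (x : G) : ∑ g, adK N x g = (adD N x : ℂ) := by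
  classical
  simp only [adK_apply, Finset.sum_boole]
  congr 1
  rw [adD, Nat.card_eq_fintype_card, Fintype.card_subtype]

theorem sum_adK_mul (x : G) (F : G → ℂ) (hF : AdInv N F) :
    ∑ g, adK N x g * F g = (adD N x : ℂ) * F x := by
  classical
  have h1 : ∀ g, adK N x g * F g = adK N x g * F x := by
    intro g
    simp only [adK_apply]
    split_ifs with h
    · obtain ⟨u, hu, rfl⟩ := h
      rw [hF u hu]
    · simp
  simp only [h1]
  rw [← Finset.sum_mul, sum_adK]

theorem adK_memLocalRing {M : Ideal AlgInt} [M.IsPrime] (x g : G) : MemLocalRing M (adK N x g) := by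
  classical
  simp only [adK_apply]
  split_ifs
  · exact memLocalRing_one
  · exact memLocalRing_zero

theorem adK_coset (x g : G) (h : adK N x g ≠ 0) : (g : G ⧸ N) = (x : G ⧸ N) := by
  classical
  simp only [adK_apply] at h
  split_ifs at h with h1
  · obtain ⟨u, hu, rfl⟩ := h1
    rw [eq_comm, QuotientGroup.eq]
    have : x⁻¹ * (u * x * u⁻¹) = (x⁻¹ * u * x) * u⁻¹ := by group
    rw [this]
    exact N.mul_mem (hN.conj_mem' u hu x) (N.inv_mem hu)
  · exact absurd rfl h

theorem adK_one [DecidableEq G] (g : G) : adK N 1 g = if g = 1 then 1 else 0 := by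
  classical
  simp only [adK_apply]
  have : (∃ u ∈ N, u * 1 * u⁻¹ = g) ↔ g = 1 := by
    constructor
    · rintro ⟨u, _, rfl⟩
      simp
    · rintro rfl
      exact ⟨1, N.one_mem, by simp⟩
  simp only [this]

theorem adD_one : adD N 1 = 1 := by
  have h := sum_adK N (1 : G)
  classical
  simp only [adK_one, Finset.sum_ite_eq', Finset.mem_univ, if_true] at h
  exact_mod_cast h.symm

theorem adD_inv (x : G) : adD N x⁻¹ = adD N x := by
  refine Nat.card_congr (Equiv.subtypeEquiv (Equiv.inv G) fun g => ?_)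
  simp only [Equiv.inv_apply]
  constructor
  · rintro ⟨u, hu, rfl⟩
    exact ⟨u, hu, by group⟩
  · rintro ⟨u, hu, h⟩
    refine ⟨u, hu, ?_⟩
    have := congrArg (·⁻¹) h
    simp only [inv_inv] at this
    rw [← this]
    group

theorem adD_pos (x : G) : 0 < adD N x := by
  refine Nat.card_pos_iff.mpr ⟨⟨⟨x, 1, N.one_mem, by simp⟩⟩, inferInstance⟩

/-- Orbit counting for the `N`-class. -/
theorem sum_conj_eq (x : G) (F : G → ℂ) :
    ∑ u : N, F ((u : G) * x * (u : G)⁻¹) =
      (Nat.card ((Subgroup.centralizer ({x} : Set G)).subgroupOf N) : ℂ) * ∑ g, adK N x g * F g := by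
  classical
  set C := (Subgroup.centralizer ({x} : Set G)).subgroupOf N with hC
  have hfib : ∀ g, ((Finset.univ.filter fun u : N => (u : G) * x * (u : G)⁻¹ = g).card : ℂ) =
      (Nat.card C : ℂ) * adK N x g := by
    intro g
    simp only [adK_apply]
    split_ifs with h
    · obtain ⟨u₀, hu₀, rfl⟩ := h
      rw [mul_one]
      congr 1
      rw [← Fintype.card_subtype, ← Nat.card_eq_fintype_card]
      refine Nat.card_congr (Equiv.subtypeEquiv (Equiv.mulLeft ((⟨u₀, hu₀⟩ : N)⁻¹)) fun u => ?_)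
      simp only [Equiv.coe_mulLeft, hC, Subgroup.mem_subgroupOf, Subgroup.mem_centralizer_singleton_iff]
      simp only [Subgroup.coe_mul, Subgroup.coe_inv]
      constructor
      · intro h
        have : (u : G) * x = u₀ * x * u₀⁻¹ * u := by
          rw [← h]
          group
        rw [mul_assoc, this]
        group
      · intro h
        have h1 : (u : G) * x = u₀ * (u₀⁻¹ * u * x) := by group
        rw [h1, h]
        group
    · rw [mul_zero]
      simp only [Nat.cast_eq_zero, Finset.card_eq_zero]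
      rw [Finset.filter_eq_empty_iff]
      intro u _ hh
      exact h ⟨u, u.2, hh⟩
  rw [← Finset.sum_fiberwise Finset.univ (fun u : N => (u : G) * x * (u : G)⁻¹), Finset.mul_sum]
  refine Finset.sum_congr rfl fun g _ => ?_
  rw [Finset.sum_congr rfl (g := fun _ => F g)]
  · rw [Finset.sum_const, nsmul_eq_mul, hfib]
    ring
  · intro u hu
    rw [(Finset.mem_filter.mp hu).2]

theorem card_eq_mul_adD (x : G) :
    Nat.card N = Nat.card ((Subgroup.centralizer ({x} : Set G)).subgroupOf N) * adD N x := by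
  classical
  have h := sum_conj_eq N x (fun _ => 1)
  simp only [mul_one, sum_adK, Finset.sum_const, Finset.card_univ, nsmul_eq_mul] at h
  rw [Nat.card_eq_fintype_card (α := N)]
  exact_mod_cast h

theorem adD_not_dvd {p : ℕ} [hp : Fact p.Prime] (P : Sylow p G) (hPN : (P : Subgroup G) ≤ N) (x : G)
    (hx : (P : Subgroup G) ≤ Subgroup.centralizer ({x} : Set G)) : ¬ p ∣ adD N x := by
  intro hd
  have hpp : p.Prime := hp.out
  have h1 : Nat.card P = p ^ (Nat.card G).factorization p := P.card_eq_multiplicity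
  have h2 : Nat.card P ∣ Nat.card ((Subgroup.centralizer ({x} : Set G)).subgroupOf N) := by
    have h3 : (P : Subgroup G).subgroupOf N ≤ (Subgroup.centralizer ({x} : Set G)).subgroupOf N :=
      Subgroup.subgroupOf_mono _ hx |>.trans le_rfl
    have h4 := Subgroup.card_dvd_of_le h3
    have h5 : Nat.card ((P : Subgroup G).subgroupOf N) = Nat.card (P : Subgroup G) :=
      Nat.card_congr (Subgroup.subgroupOfEquivOfLe hPN).toEquiv
    rw [h5] at h4
    exact h4
  have h6 : p ^ ((Nat.card G).factorization p + 1) ∣ Nat.card N := by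
    rw [card_eq_mul_adD N x, pow_succ]
    exact mul_dvd_mul (h1 ▸ h2) hd
  have h7 := h6.trans (Subgroup.card_subgroup_dvd_card N)
  have h8 := (hpp.pow_dvd_iff_le_factorization Nat.card_pos.ne').mp h7
  omega

theorem adConv_comm {a f : G → ℂ} (ha : AdInv N a) (hf : ∀ g, g ∉ N → f g = 0) :
    conv a f = conv f a := by
  funext t
  simp only [conv]
  refine Fintype.sum_equiv (Equiv.mulLeft t⁻¹ |>.trans (Equiv.inv G)) _ _ fun y => ?_
  simp only [Equiv.trans_apply, Equiv.coe_mulLeft, Equiv.inv_apply]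
  have h4 : (t⁻¹ * y)⁻¹ = y⁻¹ * t := by group
  by_cases hm : y⁻¹ * t ∈ N
  · have h2 := ha (y⁻¹ * t)⁻¹ (N.inv_mem hm) y
    have h3 : (y⁻¹ * t)⁻¹ * y * ((y⁻¹ * t)⁻¹)⁻¹ = (t⁻¹ * y)⁻¹⁻¹ * t := by group
    rw [h3] at h2
    rw [h2, h4]
    ring
  · rw [h4, hf _ hm]
    simp

theorem adConv_inv {a b : G → ℂ} (ha : AdInv N a) (hb : AdInv N b) : AdInv N (conv a b) := by
  intro n hn t
  simp only [conv]
  refine Fintype.sum_equiv (MulAut.conj n⁻¹).toEquiv _ _ fun y => ?_
  simp only [MulEquiv.toEquiv_eq_coe, EquivLike.coe_coe, MulAut.smul_def, MulAut.conj_apply, inv_inv]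
  have h1 := ha n⁻¹ (N.inv_mem hn) y
  simp only [inv_inv] at h1
  rw [h1]
  congr 1
  have h2 := hb n⁻¹ (N.inv_mem hn) (y⁻¹ * (n * t * n⁻¹))
  simp only [inv_inv] at h2
  rw [← h2]
  congr 1
  group

theorem adConv_coset {a b : G → ℂ} {α β : G ⧸ N} (ha : ∀ g, a g ≠ 0 → (g : G ⧸ N) = α)
    (hb : ∀ g, b g ≠ 0 → (g : G ⧸ N) = β) (t : G) (h : conv a b t ≠ 0) : (t : G ⧸ N) = α * β := by
  obtain ⟨y, _, hy⟩ := Finset.exists_ne_zero_of_sum_ne_zero h
  have h1 := ha y (left_ne_zero_of_mul hy)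
  have h2 := hb _ (right_ne_zero_of_mul hy)
  rw [← h1, ← h2, ← QuotientGroup.mk_mul]
  congr 1
  group

theorem adConv_memLocalRing {M : Ideal AlgInt} [M.IsPrime] {a b : G → ℂ} (ha : ∀ g, MemLocalRing M (a g))
    (hb : ∀ g, MemLocalRing M (b g)) (t : G) : MemLocalRing M (conv a b t) :=
  MemLocalRing.sum _ fun x _ => MemLocalRing.mul (ha x) (hb _)

end NK

section Main

variable {G : Type u} [Group G] [Fintype G] (N : Subgroup G) [hN : N.Normal] [Fintype N]
  {p : ℕ} [hp : Fact p.Prime] {M : Ideal AlgInt}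

/-- The central character of `θ` at the restriction of a function to `N`. -/
noncomputable def adW (θ : IrrCharacter N) (z : G → ℂ) : ℂ := spec (fun n : N => z n) θ

theorem adExt_eq {z : G → ℂ} (h : ∀ g, g ∉ N → z g = 0) : extendByZero N (fun n : N => z n) = z := by
  funext g
  by_cases hg : g ∈ N
  · rw [extendByZero_of_mem N _ hg]
  · rw [extendByZero_of_notMem N _ hg, h g hg]

theorem adRes_class {z : G → ℂ} (hz : AdInv N z) : IsClassFunction N (fun n : N => z n) := by
  intro n k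
  have := hz k k.2 n
  simpa using this

theorem adW_congr (hM : IsPModular p M) {θ : IrrCharacter N} (hθ : θ ∈ principalBlock M N) {z : G → ℂ}
    (hz : AdInv N z) (hS : ∀ g, MemLocalRing M (z g)) (hsupp : ∀ g, g ∉ N → z g = 0) :
    MemLocalIdeal M (adW N θ z - ∑ g, z g) := by
  classical
  have := isPrime_of_modular hM
  have hc : spec (fun n : N => z n) ∈ zS M N := spec_mem_zS (adRes_class N hz) (fun n => hS n)
  have h1 := zS_apply_congr (isPBlock_principalBlock M N) hc hθ (one_mem_principalBlock (M := M) (G := N))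
  have h2 : spec (fun n : N => z n) (oneIrr N) = ∑ g, z g := by
    have h3 : ∑ g, z g = ∑ g, extendByZero N (fun n : N => z n) g * 1 := by
      rw [adExt_eq N hsupp]
      simp
    rw [h3, sum_extendByZero_mul N _ (fun _ => (1 : ℂ))]
    simp [spec, oneIrr]
  rw [h2] at h1
  exact h1

/-- The idempotent of an irreducible character of `N`. -/
noncomputable def adE (θ : IrrCharacter N) : N → ℂ := by
  classical exact coef (indic ({θ} : Set (IrrCharacter N)))

theorem adE_apply (θ : IrrCharacter N) (n : N) :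
    adE N θ n = (Nat.card N : ℂ)⁻¹ * ((θ : N → ℂ) 1 * conj ((θ : N → ℂ) n)) := by
  classical
  simp only [adE, coef]
  rw [Finset.sum_eq_single θ]
  · rw [indic_apply_of_mem (Set.mem_singleton θ), one_mul]
  · intro ψ _ hψ
    rw [indic_apply_of_notMem (by simpa using hψ), zero_mul]
  · simp

theorem adE_class (θ : IrrCharacter N) : IsClassFunction N (adE N θ) := by
  classical exact coef_isClassFunction _

theorem spec_adE (θ : IrrCharacter N) [DecidableEq (IrrCharacter N)] (ψ : IrrCharacter N) :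
    spec (adE N θ) ψ = if ψ = θ then 1 else 0 := by
  classical
  simp only [adE, spec_coef]
  split_ifs with h
  · subst h
    exact indic_apply_of_mem (Set.mem_singleton _)
  · exact indic_apply_of_notMem (by simpa using h)

theorem conv_adE_right (θ : IrrCharacter N) {z : N → ℂ} (hz : IsClassFunction N z) :
    conv z (adE N θ) = spec z θ • adE N θ := by
  classical
  have h1 := coef_spec _ (conv_isClassFunction hz (adE_class N θ))
  rw [← h1, spec_conv _ _ hz]
  have h2 : spec z * spec (adE N θ) = spec z θ • spec (adE N θ) := by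
    funext ψ
    simp only [Pi.mul_apply, Pi.smul_apply, smul_eq_mul, spec_adE]
    split_ifs with h
    · rw [h]
    · simp
  rw [h2, coef_smul, coef_spec _ (adE_class N θ)]

theorem conv_adE_left (θ : IrrCharacter N) {z : N → ℂ} (hz : IsClassFunction N z) :
    conv (adE N θ) z = spec z θ • adE N θ := by
  classical
  have h1 := coef_spec _ (conv_isClassFunction (adE_class N θ) hz)
  rw [← h1, spec_conv _ _ (adE_class N θ)]
  have h2 : spec (adE N θ) * spec z = spec z θ • spec (adE N θ) := by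
    funext ψ
    simp only [Pi.mul_apply, Pi.smul_apply, smul_eq_mul, spec_adE]
    split_ifs with h
    · rw [h]
      ring
    · simp
  rw [h2, coef_smul, coef_spec _ (adE_class N θ)]

/-- The extended idempotent. -/
noncomputable def adF (θ : IrrCharacter N) : G → ℂ := extendByZero N (adE N θ)

theorem adF_notMem (θ : IrrCharacter N) {g : G} (hg : g ∉ N) : adF N θ g = 0 :=
  extendByZero_of_notMem N _ hg

theorem adConv_adF_right (θ : IrrCharacter N) {z : G → ℂ} (hz : AdInv N z) (hsupp : ∀ g, g ∉ N → z g = 0) :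
    conv z (adF N θ) = adW N θ z • adF N θ := by
  have h1 : conv z (adF N θ) = extendByZero N (conv (fun n : N => z n) (adE N θ)) := by
    rw [extendByZero_conv, adExt_eq N hsupp]
    rfl
  rw [h1, conv_adE_right N θ (adRes_class N hz)]
  funext g
  by_cases hg : g ∈ N
  · simp only [extendByZero_of_mem N _ hg, Pi.smul_apply, adF, adW]
  · simp only [extendByZero_of_notMem N _ hg, Pi.smul_apply, adF, smul_zero]

theorem adConv_adF_left (θ : IrrCharacter N) {z : G → ℂ} (hz : AdInv N z) (hsupp : ∀ g, g ∉ N → z g = 0) :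
    conv (adF N θ) z = adW N θ z • adF N θ := by
  have h1 : conv (adF N θ) z = extendByZero N (conv (adE N θ) (fun n : N => z n)) := by
    rw [extendByZero_conv, adExt_eq N hsupp]
    rfl
  rw [h1, conv_adE_left N θ (adRes_class N hz)]
  funext g
  by_cases hg : g ∈ N
  · simp only [extendByZero_of_mem N _ hg, Pi.smul_apply, adF, adW]
  · simp only [extendByZero_of_notMem N _ hg, Pi.smul_apply, adF, smul_zero]

theorem adF_inv (θ : IrrCharacter N) : AdInv N (adF N θ) := by
  intro n hn g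
  by_cases hg : g ∈ N
  · have h1 : n * g * n⁻¹ ∈ N := hN.conj_mem g hg n
    simp only [adF, extendByZero_of_mem N _ hg, extendByZero_of_mem N _ h1]
    have := adE_class N θ ⟨g, hg⟩ ⟨n, hn⟩
    exact this
  · have h1 : n * g * n⁻¹ ∉ N := fun h => hg (by
      have := N.mul_mem (N.mul_mem (N.inv_mem hn) h) hn
      simpa [mul_assoc] using this)
    rw [adF_notMem N θ hg, adF_notMem N θ h1]

/-- `K_x e = e^x K_x`. -/
theorem adK_conv_adF (x : G) (θ : IrrCharacter N) :
    conv (adK N x) (adF N θ) = conv (adF N (conjIrr N x θ)) (adK N x) := by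
  classical
  funext t
  simp only [conv]
  refine Fintype.sum_equiv ((Equiv.inv G).trans (Equiv.mulLeft t)) _ _ fun y => ?_
  simp only [Equiv.trans_apply, Equiv.coe_mulLeft, Equiv.inv_apply]
  have h4 : (t * y⁻¹)⁻¹ * t = y := by group
  rw [h4, mul_comm]
  by_cases hK : adK N x y = 0
  · rw [hK]
    simp
  congr 1
  simp only [adK_apply] at hK
  split_ifs at hK with h1
  · obtain ⟨u, hu, rfl⟩ := h1
    set y := u * x * u⁻¹ with hy
    have hxy : x⁻¹ * y ∈ N := by
      have : x⁻¹ * y = (x⁻¹ * u * x) * u⁻¹ := by rw [hy]; group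
      rw [this]
      exact N.mul_mem (hN.conj_mem' u hu x) (N.inv_mem hu)
    by_cases hm : y⁻¹ * t ∈ N
    · have hm2 : t * y⁻¹ ∈ N := by
        have : t * y⁻¹ = y * (y⁻¹ * t) * y⁻¹ := by group
        rw [this]
        exact hN.conj_mem _ hm y
      simp only [adF, extendByZero_of_mem N _ hm, extendByZero_of_mem N _ hm2, adE_apply]
      simp only [conjIrr_coe, conjFun_apply]
      have h6 : (θ : N → ℂ) ⟨x⁻¹ * ((1 : N) : G) * x, hN.conj_mem' _ (1 : N).2 x⟩ = (θ : N → ℂ) 1 :=
        congrArg _ (Subtype.ext (by simp))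
      rw [h6]
      congr 3
      have h7 := irr_isClassFunction θ ⟨y⁻¹ * t, hm⟩ ⟨x⁻¹ * y, hxy⟩
      rw [← h7]
      refine congrArg _ (Subtype.ext ?_)
      simp only [Subgroup.coe_mul, Subgroup.coe_inv]
      group
    · have hm2 : t * y⁻¹ ∉ N := fun h => hm (by
        have : y⁻¹ * t = y⁻¹ * (t * y⁻¹) * y⁻¹⁻¹ := by group
        rw [this]
        exact hN.conj_mem _ h y⁻¹)
      rw [adF_notMem N _ hm, adF_notMem N _ hm2]
  · exact absurd rfl hK

theorem adF_conv_self (θ : IrrCharacter N) : conv (adF N θ) (adF N θ) = adF N θ := by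
  classical
  have h1 : conv (adF N θ) (adF N θ) = adW N θ (adF N θ) • adF N θ :=
    adConv_adF_left N θ (adF_inv N θ) (fun g hg => adF_notMem N θ hg)
  have h2 : adW N θ (adF N θ) = 1 := by
    have h3 : (fun n : N => adF N θ n) = adE N θ := by
      funext n
      exact extendByZero_coe N _ n
    rw [adW, h3, spec_adE, if_pos rfl]
  rw [h1, h2, one_smul]

theorem adF_conv_ne {θ θ' : IrrCharacter N} (h : θ' ≠ θ) : conv (adF N θ) (adF N θ') = 0 := by
  classical
  have h1 : conv (adF N θ) (adF N θ') = adW N θ' (adF N θ) • adF N θ' :=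
    adConv_adF_right N θ' (adF_inv N θ) (fun g hg => adF_notMem N θ hg)
  have h2 : adW N θ' (adF N θ) = 0 := by
    have h3 : (fun n : N => adF N θ n) = adE N θ := by
      funext n
      exact extendByZero_coe N _ n
    rw [adW, h3, spec_adE, if_neg h]
  rw [h1, h2, zero_smul]

theorem adK_conv_inv_props (x : G) :
    AdInv N (conv (adK N x⁻¹) (adK N x)) ∧ ∀ g, g ∉ N → conv (adK N x⁻¹) (adK N x) g = 0 := by
  refine ⟨adConv_inv N (adK_inv N _) (adK_inv N _), fun g hg => ?_⟩
  by_contra hne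
  have h1 := adConv_coset N (fun g h => adK_coset N x⁻¹ g h) (fun g h => adK_coset N x g h) g hne
  rw [QuotientGroup.mk_inv, inv_mul_cancel] at h1
  exact hg ((QuotientGroup.eq_one_iff g).mp h1)

/-- The scalar of the product of an `N`-class sum and its inverse is a unit. -/
theorem adKappa_congr (hM : IsPModular p M) {θ : IrrCharacter N} (hθ : θ ∈ principalBlock M N) (x : G) :
    MemLocalIdeal M (adW N θ (conv (adK N x⁻¹) (adK N x)) - (adD N x : ℂ) ^ 2) := by
  have := isPrime_of_modular hM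
  obtain ⟨h1, h2⟩ := adK_conv_inv_props N x
  have h3 := adW_congr N hM hθ h1
    (fun g => adConv_memLocalRing (fun g => adK_memLocalRing N _ g) (fun g => adK_memLocalRing N _ g) g) h2
  rw [adSum_conv, sum_adK, sum_adK, adD_inv] at h3
  rw [pow_two]
  exact h3

theorem adKappa_unit (hM : IsPModular p M) {θ : IrrCharacter N} (hθ : θ ∈ principalBlock M N) {x : G}
    (hd : ¬ p ∣ adD N x) : ¬ MemLocalIdeal M (adW N θ (conv (adK N x⁻¹) (adK N x))) := by
  intro h
  have := isPrime_of_modular hM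
  have h1 := adKappa_congr N hM hθ x
  have h2 := MemLocalIdeal.sub h h1
  simp only [sub_sub_cancel] at h2
  have h3 : ((adD N x ^ 2 : ℕ) : ℂ) = (adD N x : ℂ) ^ 2 := by push_cast; rfl
  rw [← h3] at h2
  exact natCast_not_memLocalIdeal hM (fun hh => hd (hp.out.dvd_of_dvd_pow hh)) h2

/-- **Invariance.** -/
theorem adInvariant (hM : IsPModular p M) {θ : IrrCharacter N} (hθ : θ ∈ principalBlock M N) {x : G}
    (hd : ¬ p ∣ adD N x) : conjIrr N x θ = θ := by
  classical
  by_contra hne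
  have := isPrime_of_modular hM
  set θ' := conjIrr N x θ with hθ'
  have hR1 : conv (adK N x) (adF N θ) = conv (adF N θ) (adK N x) :=
    adConv_comm N (adK_inv N x) (fun g hg => adF_notMem N θ hg)
  have hR2 := adK_conv_adF N x θ
  have h1 : conv (adF N θ) (adK N x) = 0 := by
    have h2 : conv (adF N θ) (conv (adF N θ) (adK N x)) = conv (adF N θ) (adK N x) := by
      rw [← adConv_assoc, adF_conv_self]
    rw [← h2, ← hR1, hR2, ← adConv_assoc, adF_conv_ne N hne]
    funext t
    simp [conv]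
  obtain ⟨h3, h4⟩ := adK_conv_inv_props N x
  have h5 : conv (conv (adK N x⁻¹) (adK N x)) (adF N θ) = 0 := by
    rw [adConv_assoc, hR1, h1]
    funext t
    simp [conv]
  rw [adConv_adF_right N θ h3 h4] at h5
  have h6 := adKappa_unit N hM hθ hd
  have h7 : adW N θ (conv (adK N x⁻¹) (adK N x)) = 0 := by
    have h8 := congrFun h5 1
    simp only [Pi.smul_apply, smul_eq_mul, Pi.zero_apply] at h8
    have h9 : adF N θ 1 ≠ 0 := by
      have h10 : adF N θ 1 = adE N θ 1 := extendByZero_coe N _ (1 : N)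
      rw [h10, adE_apply]
      have h11 := irr_apply_one_ne_zero θ
      have h12 : conj ((θ : N → ℂ) 1) ≠ 0 := by
        simpa using h11
      exact mul_ne_zero (inv_ne_zero card_ne_zero_complex) (mul_ne_zero h11 h12)
    exact (mul_eq_zero.mp h8).resolve_right h9
  rw [h7] at h6
  exact h6 memLocalIdeal_zero

/-- The idempotent acts as the identity on a character above an invariant `θ`. -/
theorem adF_acts (θ : IrrCharacter N) (hinv : ∀ g : G, conjIrr N g θ = θ) {χ : IrrCharacter G}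
    (hcon : classInner (fun n : N => (χ : G → ℂ) n) (θ : N → ℂ) ≠ 0) :
    AdActsBy (χ : G → ℂ) (adF N θ) 1 := by
  classical
  have hfix : ∀ g : G, Cfsg.Agent.Lib.Char.conjFun N g (adE N θ) = adE N θ := by
    intro g
    simp only [adE]
    apply conjFun_coef_indic
    intro k θ₁ h₁
    rw [Set.mem_singleton_iff] at h₁ ⊢
    rw [h₁, hinv]
  have h1 : IsClassFunction G (adF N θ) := extendByZero_isClassFunction N hfix
  have h2 := adActsBy_spec χ h1
  have h3 : spec (adF N θ) χ = 1 := by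
    rw [adF, spec_extendByZero N hfix hcon, spec_adE, if_pos rfl]
  rwa [h3] at h2

/-- Functions supported on `N` act by their central character. -/
theorem adZ_acts (θ : IrrCharacter N) (hinv : ∀ g : G, conjIrr N g θ = θ) {χ : IrrCharacter G}
    (hcon : classInner (fun n : N => (χ : G → ℂ) n) (θ : N → ℂ) ≠ 0) {z : G → ℂ}
    (hz : AdInv N z) (hsupp : ∀ g, g ∉ N → z g = 0) :
    AdActsBy (χ : G → ℂ) z (adW N θ z) := by
  intro h
  have h1 := adF_acts N θ hinv hcon
  have h2 : adAct (χ : G → ℂ) (conv (adF N θ) z) h = adAct (χ : G → ℂ) z h := by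
    rw [adAct_conv_of_left h1, one_mul]
  rw [← h2, adConv_adF_left N θ hz hsupp, adAct_smul, h1, one_mul]

/-- Homogeneous invariant functions are multiples of class sums. -/
theorem adHom_relation (θ : IrrCharacter N) (hinv : ∀ g : G, conjIrr N g θ = θ) {χ : IrrCharacter G}
    (hcon : classInner (fun n : N => (χ : G → ℂ) n) (θ : N → ℂ) ≠ 0) {a : G → ℂ} (x : G)
    (ha : AdInv N a) (hsupp : ∀ g, a g ≠ 0 → (g : G ⧸ N) = (x : G ⧸ N)) (h : G) :
    adW N θ (conv (adK N x⁻¹) (adK N x)) * adAct (χ : G → ℂ) a h =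
      adW N θ (conv a (adK N x⁻¹)) * adAct (χ : G → ℂ) (adK N x) h := by
  obtain ⟨h1, h2⟩ := adK_conv_inv_props N x
  have h3 := adZ_acts N θ hinv hcon h1 h2
  have h4 : AdInv N (conv a (adK N x⁻¹)) := adConv_inv N ha (adK_inv N _)
  have h5 : ∀ g, g ∉ N → conv a (adK N x⁻¹) g = 0 := by
    intro g hg
    by_contra hne
    have h6 := adConv_coset N hsupp (fun g h => adK_coset N x⁻¹ g h) g hne
    rw [QuotientGroup.mk_inv, mul_inv_cancel] at h6
    exact hg ((QuotientGroup.eq_one_iff g).mp h6)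
  have h6 := adZ_acts N θ hinv hcon h4 h5
  rw [← adAct_conv_of_right χ h3, ← adConv_assoc, adAct_conv_of_left h6]

/-- The mass of the idempotent on a coset. -/
noncomputable def adHat (ε : G → ℂ) (ζ : G ⧸ N) : ℂ := by
  classical exact ∑ g : G, if (g : G ⧸ N) = ζ then ε g else 0

theorem adHat_class [Fintype (G ⧸ N)] {ε : G → ℂ} (hε : IsClassFunction G ε) : IsClassFunction (G ⧸ N) (adHat N ε) := by
  classical
  intro ζ k
  induction k using QuotientGroup.induction_on with
  | H k =>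
    simp only [adHat]
    refine Fintype.sum_equiv (MulAut.conj k⁻¹).toEquiv _ _ fun y => ?_
    simp only [MulEquiv.toEquiv_eq_coe, EquivLike.coe_coe, MulAut.conj_apply, inv_inv]
    have h1 : ((k⁻¹ * y * k : G) : G ⧸ N) = (k : G ⧸ N)⁻¹ * (y : G ⧸ N) * (k : G ⧸ N) := by
      simp
    rw [h1]
    have h2 : (y : G ⧸ N) = (k : G ⧸ N) * ζ * (k : G ⧸ N)⁻¹ ↔ (k : G ⧸ N)⁻¹ * (y : G ⧸ N) * (k : G ⧸ N) = ζ := by
      constructor
      · intro h
        rw [h]
        group
      · intro h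
        rw [← h]
        group
    simp only [h2]
    split_ifs
    · have := hε y k⁻¹
      simp only [inv_inv] at this
      exact this.symm
    · rfl

theorem adHat_sum_mul [Fintype (G ⧸ N)] (ε : G → ℂ) (f : G ⧸ N → ℂ) :
    ∑ ζ, adHat N ε ζ * f ζ = ∑ g : G, ε g * f (g : G ⧸ N) := by
  classical
  simp only [adHat, Finset.sum_mul]
  rw [Finset.sum_comm]
  refine Finset.sum_congr rfl fun g _ => ?_
  rw [Finset.sum_eq_single (g : G ⧸ N)]
  · rw [if_pos rfl]
  · intro b _ hb
    rw [if_neg (Ne.symm hb), zero_mul]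
  · simp

/-- The non-principal characters of the quotient lie outside the principal block. -/
theorem adInflate_notMem (hM : IsPModular p M) [Fintype (G ⧸ N)] (hidx : ¬ p ∣ N.index)
    (hrep : ∀ g : G, ∃ x : G, (x : G ⧸ N) = (g : G ⧸ N) ∧ ¬ p ∣ (Subgroup.centralizer ({x} : Set G)).index)
    (τ : IrrCharacter (G ⧸ N)) (hτ : (τ : G ⧸ N → ℂ) ≠ fun _ => 1)
    (h : (⟨inflate N τ, isIrrCharacter_inflate N τ.2⟩ : IrrCharacter G) ∈ principalBlock M G) : False := by
  classical
  have := isPrime_of_modular hM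
  have hcardX : ¬ p ∣ Nat.card (G ⧸ N) := by
    rw [← Subgroup.index_eq_card]
    exact hidx
  -- the degree is a unit
  have hdeg : ¬ p ∣ charDegree (τ : G ⧸ N → ℂ) := fun hh => hcardX (hh.trans (charDegree_dvd_card τ.2))
  have hτ1 : (τ : G ⧸ N → ℂ) 1 = (charDegree (τ : G ⧸ N → ℂ) : ℂ) := apply_one_eq_charDegree (irr_isCharacter τ)
  have hτ0 : (τ : G ⧸ N → ℂ) 1 ≠ 0 := irr_apply_one_ne_zero τ
  let χ : IrrCharacter G := ⟨inflate N τ, isIrrCharacter_inflate N τ.2⟩
  have hχ : ∀ g, (χ : G → ℂ) g = (τ : G ⧸ N → ℂ) (g : G ⧸ N) := fun g => rfl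
  have hsame : SameBlock M (χ : G → ℂ) (fun _ : G => 1) := SameBlock.symm' h
  have hval : ∀ ζ : G ⧸ N, MemLocalIdeal M ((τ : G ⧸ N → ℂ) ζ / (τ : G ⧸ N → ℂ) 1 - 1) := by
    intro ζ
    induction ζ using QuotientGroup.induction_on with
    | H g =>
      obtain ⟨x, hx, hxp⟩ := hrep g
      rw [← hx]
      have h1 := hsame x
      have h2 : centralChar (χ : G → ℂ) x = ((Subgroup.centralizer ({x} : Set G)).index : ℂ) * ((τ : G ⧸ N → ℂ) (x : G ⧸ N) / (τ : G ⧸ N → ℂ) 1) := by
        rw [centralChar, hχ, hχ 1]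
        simp
        ring
      have h3 : centralChar (fun _ : G => (1 : ℂ)) x = ((Subgroup.centralizer ({x} : Set G)).index : ℂ) := by
        simp [centralChar]
      rw [h2, h3] at h1
      have h4 : ((Subgroup.centralizer ({x} : Set G)).index : ℂ) * ((τ : G ⧸ N → ℂ) (x : G ⧸ N) / (τ : G ⧸ N → ℂ) 1) - ((Subgroup.centralizer ({x} : Set G)).index : ℂ)
          = ((Subgroup.centralizer ({x} : Set G)).index : ℂ) * ((τ : G ⧸ N → ℂ) (x : G ⧸ N) / (τ : G ⧸ N → ℂ) 1 - 1) := by ring
      rw [h4] at h1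
      have h5 := MemLocalIdeal.mul_left (inv_natCast_memLocalRing hM hxp) h1
      have hne : ((Subgroup.centralizer ({x} : Set G)).index : ℂ) ≠ 0 := natCast_ne_zero_of_not_dvd hxp
      rwa [inv_mul_cancel_left₀ hne] at h5
  have hsum := MemLocalIdeal.sum Finset.univ (fun ζ _ => hval ζ)
  have h6 : ∑ ζ : G ⧸ N, ((τ : G ⧸ N → ℂ) ζ / (τ : G ⧸ N → ℂ) 1 - 1) = - (Nat.card (G ⧸ N) : ℂ) := by
    rw [Finset.sum_sub_distrib, ← Finset.sum_div]
    have h7 := classInner_irr_of_ne τ.2 isIrrCharacter_one hτ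
    have h8 : ∑ ζ : G ⧸ N, (τ : G ⧸ N → ℂ) ζ = 0 := by
      simp only [classInner, map_one, mul_one] at h7
      exact (mul_eq_zero.mp h7).resolve_left (inv_ne_zero card_ne_zero_complex)
    rw [h8]
    simp [Nat.card_eq_fintype_card]
  rw [h6] at hsum
  have h9 := MemLocalIdeal.neg hsum
  rw [neg_neg] at h9
  exact natCast_not_memLocalIdeal hM hcardX h9

/-- The mass of the principal idempotent on each coset is the same. -/
theorem adHat_principal (hM : IsPModular p M) [Fintype (G ⧸ N)] (hidx : ¬ p ∣ N.index)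
    (hrep : ∀ g : G, ∃ x : G, (x : G ⧸ N) = (g : G ⧸ N) ∧ ¬ p ∣ (Subgroup.centralizer ({x} : Set G)).index)
    (ζ : G ⧸ N) : adHat N (blockCoeff (principalBlock M G)) ζ = (Nat.card (G ⧸ N) : ℂ)⁻¹ := by
  classical
  have := isPrime_of_modular hM
  set ε := blockCoeff (principalBlock M G) with hε
  have hεc : IsClassFunction G ε := blockCoeff_isClassFunction _
  have hc := adHat_class N hεc
  have h1 : spec (adHat N ε) = indic ({oneIrr (G ⧸ N)} : Set (IrrCharacter (G ⧸ N))) := by
    funext τ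
    have h2 : spec (adHat N ε) τ = (∑ g : G, ε g * inflate N τ g) / (τ : G ⧸ N → ℂ) 1 := by
      rw [spec, adHat_sum_mul]
    let χ : IrrCharacter G := ⟨inflate N τ, isIrrCharacter_inflate N τ.2⟩
    have h3 : spec ε χ = indic (principalBlock M G) χ := by
      rw [hε, spec_blockCoeff]
    have h4 : (χ : G → ℂ) 1 = (τ : G ⧸ N → ℂ) 1 := rfl
    have h5 : spec (adHat N ε) τ = spec ε χ := by
      rw [h2, spec, h4]
    rw [h5, h3]
    by_cases hτ : (τ : G ⧸ N → ℂ) = fun _ => 1
    · have h6 : τ = oneIrr (G ⧸ N) := Subtype.ext hτ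
      have h7 : χ = oneIrr G := by
        apply Subtype.ext
        funext g
        show (τ : G ⧸ N → ℂ) (g : G ⧸ N) = 1
        rw [hτ]
      rw [h7, h6, indic_apply_of_mem one_mem_principalBlock, indic_apply_of_mem (Set.mem_singleton _)]
    · have h6 : τ ∉ ({oneIrr (G ⧸ N)} : Set (IrrCharacter (G ⧸ N))) := by
        intro hh
        rw [Set.mem_singleton_iff] at hh
        exact hτ (by rw [hh]; rfl)
      rw [indic_apply_of_notMem h6, indic_apply_of_notMem (adInflate_notMem N hM hidx hrep τ hτ)]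
  have h2 := congrFun (coef_spec _ hc) ζ
  rw [← h2, h1, coef, Finset.sum_eq_single (oneIrr (G ⧸ N))]
  · rw [indic_apply_of_mem (Set.mem_singleton _)]
    simp [oneIrr]
  · intro ψ _ hψ
    rw [indic_apply_of_notMem (by simpa using hψ), zero_mul]
  · simp

/-- The restriction of a function to a coset. -/
noncomputable def adR (η : G ⧸ N) (f : G → ℂ) : G → ℂ := by
  classical exact fun g => if (g : G ⧸ N) = η then f g else 0

theorem adR_apply [DecidableEq (G ⧸ N)] (η : G ⧸ N) (f : G → ℂ) (g : G) :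
    adR N η f g = if (g : G ⧸ N) = η then f g else 0 := by
  simp only [adR]
  congr

theorem adR_sum [Fintype (G ⧸ N)] (f : G → ℂ) : ∑ η, adR N η f = f := by
  classical
  funext g
  rw [Finset.sum_apply, Finset.sum_eq_single (g : G ⧸ N)]
  · rw [adR_apply, if_pos rfl]
  · intro b _ hb
    rw [adR_apply, if_neg (Ne.symm hb)]
  · simp

theorem adR_inv (η : G ⧸ N) {f : G → ℂ} (hf : AdInv N f) : AdInv N (adR N η f) := by
  classical
  intro n hn g
  simp only [adR_apply]
  have h1 : ((n * g * n⁻¹ : G) : G ⧸ N) = (g : G ⧸ N) := by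
    rw [QuotientGroup.eq]
    have : (n * g * n⁻¹)⁻¹ * g = n * g⁻¹ * n⁻¹ * g := by group
    rw [this]
    have h2 : n * g⁻¹ * n⁻¹ * g = n * (g⁻¹ * n⁻¹ * g) := by group
    rw [h2]
    exact N.mul_mem hn (hN.conj_mem' _ (N.inv_mem hn) g)
  rw [h1, hf n hn]

theorem adR_coset (η : G ⧸ N) (f : G → ℂ) (g : G) (h : adR N η f g ≠ 0) : (g : G ⧸ N) = η := by
  classical
  simp only [adR_apply] at h
  split_ifs at h with h1
  · exact h1
  · exact absurd rfl h

theorem adR_memLocalRing [M.IsPrime] (η : G ⧸ N) {f : G → ℂ} (hf : ∀ g, MemLocalRing M (f g)) (g : G) :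
    MemLocalRing M (adR N η f g) := by
  classical
  simp only [adR_apply]
  split_ifs
  · exact hf g
  · exact memLocalRing_zero

/-- The total mass of a restriction of `K_x ε` to a coset. -/
theorem sum_adR_conv [Fintype (G ⧸ N)] (ε : G → ℂ) (c : ℂ) (hε : ∀ ζ, adHat N ε ζ = c) (a : G → ℂ)
    (η : G ⧸ N) : ∑ g, adR N η (conv a ε) g = (∑ g, a g) * c := by
  classical
  simp only [adR_apply]
  have h1 : ∀ g : G, (if (g : G ⧸ N) = η then conv a ε g else 0) = ∑ y, a y * (if (g : G ⧸ N) = η then ε (y⁻¹ * g) else 0) := by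
    intro g
    split_ifs
    · rfl
    · simp
  simp only [h1]
  rw [Finset.sum_comm, Finset.sum_mul]
  refine Finset.sum_congr rfl fun y _ => ?_
  rw [← Finset.mul_sum]
  congr 1
  rw [← hε ((y : G ⧸ N)⁻¹ * η)]
  simp only [adHat]
  refine Fintype.sum_equiv (Equiv.mulLeft y⁻¹) _ _ fun g => ?_
  simp only [Equiv.coe_mulLeft]
  have h2 : (g : G ⧸ N) = η ↔ ((y⁻¹ * g : G) : G ⧸ N) = (y : G ⧸ N)⁻¹ * η := by
    rw [QuotientGroup.mk_mul, QuotientGroup.mk_inv]
    exact (mul_right_inj _).symm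
  simp only [h2]
  congr

/-- **The key theorem**: on characters of the principal block lying above `θ`, each `N`-class sum
acts by a scalar which does not depend on the character. -/
theorem ad_scalar (hM : IsPModular p M) [Fintype (G ⧸ N)] (hidx : ¬ p ∣ N.index)
    (hrep : ∀ g : G, ∃ x : G, (x : G ⧸ N) = (g : G ⧸ N) ∧ ¬ p ∣ (Subgroup.centralizer ({x} : Set G)).index ∧ ¬ p ∣ adD N x)
    {θ : IrrCharacter N} (hθ : θ ∈ principalBlock M N) (hinv : ∀ g : G, conjIrr N g θ = θ) (y : G) :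
    ∃ Υ : ℂ, ∀ χ : IrrCharacter G, χ ∈ principalBlock M G →
      classInner (fun n : N => (χ : G → ℂ) n) (θ : N → ℂ) ≠ 0 → AdActsBy (χ : G → ℂ) (adK N y) Υ := by
  classical
  have := isPrime_of_modular hM
  have hcardX : ¬ p ∣ Nat.card (G ⧸ N) := by
    rw [← Subgroup.index_eq_card]
    exact hidx
  have hXne : (Nat.card (G ⧸ N) : ℂ) ≠ 0 := card_ne_zero_complex
  -- the representatives
  have hrep' : ∀ ξ : G ⧸ N, ∃ x : G, (x : G ⧸ N) = ξ ∧ ¬ p ∣ adD N x := by
    intro ξ
    induction ξ using QuotientGroup.induction_on with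
    | H g =>
      obtain ⟨x, hx, _, hd⟩ := hrep g
      exact ⟨x, hx, hd⟩
  let x : G ⧸ N → G := fun ξ => if ξ = 1 then 1 else (hrep' ξ).choose
  have hx : ∀ ξ, (x ξ : G ⧸ N) = ξ := by
    intro ξ
    by_cases h : ξ = 1
    · simp [x, h]
    · simp only [x, if_neg h]
      exact (hrep' ξ).choose_spec.1
  have hxd : ∀ ξ, ¬ p ∣ adD N (x ξ) := by
    intro ξ
    by_cases h : ξ = 1
    · simp only [x, h, if_true, adD_one]
      exact hp.out.one_lt.ne' ∘ Nat.dvd_one.mp
    · simp only [x, if_neg h]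
      exact (hrep' ξ).choose_spec.2
  have hx1 : x 1 = 1 := by simp [x]
  set ε := blockCoeff (principalBlock M G) with hε
  have hεS : ∀ g, MemLocalRing M (ε g) := blockCoeff_memLocalRing (isPBlock_principalBlock M G)
  have hεc : IsClassFunction G ε := blockCoeff_isClassFunction _
  have hεinv : AdInv N ε := fun n _ g => hεc g n
  have hhat := adHat_principal N hM hidx (fun g => by
    obtain ⟨x, hx, h1, _⟩ := hrep g
    exact ⟨x, hx, h1⟩)
  let d : G ⧸ N → ℂ := fun ξ => (adD N (x ξ) : ℂ)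
  have hd0 : ∀ ξ, d ξ ≠ 0 := fun ξ => natCast_ne_zero_of_not_dvd (hxd ξ)
  let κ : G ⧸ N → ℂ := fun ξ => adW N θ (conv (adK N (x ξ)⁻¹) (adK N (x ξ)))
  have hκ : ∀ ξ, ¬ MemLocalIdeal M (κ ξ) := fun ξ => adKappa_unit N hM hθ (hxd ξ)
  -- the coefficients
  let s : G ⧸ N → G ⧸ N → ℂ := fun ξ η =>
    adW N θ (conv (adR N η (conv (adK N (x ξ)) ε)) (adK N (x η)⁻¹)) / κ η
  have hKS : ∀ (u g : G), MemLocalRing M (adK N u g) := fun u g => adK_memLocalRing N u g
  let cc : ℂ := (Nat.card (G ⧸ N) : ℂ)⁻¹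
  have hcc : MemLocalRing M cc := inv_natCast_memLocalRing hM hcardX
  have hdS : ∀ ξ, MemLocalRing M (d ξ) := fun ξ => MemLocalRing.natCast _
  have hκS : ∀ ξ, MemLocalRing M (κ ξ) := fun ξ => by
    have h1 := adKappa_congr N hM hθ (x ξ)
    have h2 : κ ξ = (κ ξ - (adD N (x ξ) : ℂ) ^ 2) + (adD N (x ξ) : ℂ) ^ 2 := by ring
    rw [h2]
    exact MemLocalRing.add (MemLocalIdeal.memLocalRing h1) (MemLocalRing.pow (MemLocalRing.natCast _) 2)
  -- the properties of the homogeneous pieces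
  have hA : ∀ ξ η, AdInv N (adR N η (conv (adK N (x ξ)) ε)) := fun ξ η =>
    adR_inv N η (adConv_inv N (adK_inv N _) hεinv)
  have hAS : ∀ ξ η g, MemLocalRing M (adR N η (conv (adK N (x ξ)) ε) g) := fun ξ η g =>
    adR_memLocalRing N η (adConv_memLocalRing (hKS _) hεS) g
  have hAc : ∀ ξ η g, adR N η (conv (adK N (x ξ)) ε) g ≠ 0 → (g : G ⧸ N) = (x η : G ⧸ N) := fun ξ η g h => by
    rw [hx]
    exact adR_coset N η _ g h
  have hZ : ∀ ξ η, MemLocalIdeal M (adW N θ (conv (adR N η (conv (adK N (x ξ)) ε)) (adK N (x η)⁻¹)) - d ξ * cc * d η) := by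
    intro ξ η
    have h1 : AdInv N (conv (adR N η (conv (adK N (x ξ)) ε)) (adK N (x η)⁻¹)) :=
      adConv_inv N (hA ξ η) (adK_inv N _)
    have h2 : ∀ g, MemLocalRing M (conv (adR N η (conv (adK N (x ξ)) ε)) (adK N (x η)⁻¹) g) :=
      adConv_memLocalRing (hAS ξ η) (hKS _)
    have h3 : ∀ g, g ∉ N → conv (adR N η (conv (adK N (x ξ)) ε)) (adK N (x η)⁻¹) g = 0 := by
      intro g hg
      by_contra hne
      have h6 := adConv_coset N (hAc ξ η) (fun g h => adK_coset N (x η)⁻¹ g h) g hne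
      rw [QuotientGroup.mk_inv, mul_inv_cancel] at h6
      exact hg ((QuotientGroup.eq_one_iff g).mp h6)
    have h4 := adW_congr N hM hθ h1 h2 h3
    rw [adSum_conv, sum_adR_conv N ε cc hhat, sum_adK, sum_adK, adD_inv] at h4
    exact h4
  have hS' : ∀ ξ η, MemLocalIdeal M (s ξ η * d η / d ξ - cc) := by
    intro ξ η
    have hκ0 : κ η ≠ 0 := ne_zero_of_not_memLocalIdeal (hκ η)
    have hκ1 := adKappa_congr N hM hθ (x η)
    have hκinv : MemLocalRing M (κ η)⁻¹ := inv_memLocalRing (hκS η) (hκ η)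
    have hdinv : MemLocalRing M (d ξ)⁻¹ := inv_natCast_memLocalRing hM (hxd ξ)
    have h1 : s ξ η * d η / d ξ - cc =
        (κ η)⁻¹ * ((d ξ)⁻¹ * ((adW N θ (conv (adR N η (conv (adK N (x ξ)) ε)) (adK N (x η)⁻¹)) - d ξ * cc * d η) * d η
          + d ξ * cc * (- (κ η - (adD N (x η) : ℂ) ^ 2)))) := by
      simp only [s]
      have hd1 := hd0 ξ
      have hdη : (adD N (x η) : ℂ) = d η := rfl
      rw [hdη]
      field_simp
      ring
    rw [h1]
    refine MemLocalIdeal.mul_left hκinv (MemLocalIdeal.mul_left hdinv (MemLocalIdeal.add ?_ ?_))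
    · exact MemLocalIdeal.mul_right (hZ ξ η) (hdS η)
    · exact MemLocalIdeal.mul_left (MemLocalRing.mul (hdS ξ) hcc) (MemLocalIdeal.neg hκ1)
  let S' : G ⧸ N → G ⧸ N → ℂ := fun ξ η => s ξ η * d η / d ξ
  let δ : G ⧸ N → G ⧸ N → ℂ := fun ξ η => S' ξ η - S' 1 η
  have hδ : ∀ ξ η, MemLocalIdeal M (δ ξ η) := fun ξ η => by
    have h1 := MemLocalIdeal.sub (hS' ξ η) (hS' 1 η)
    have h2 : s ξ η * d η / d ξ - cc - (s 1 η * d η / d 1 - cc) = δ ξ η := by
      simp only [δ, S']
      ring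
    rwa [h2] at h1
  obtain ⟨c', hc'⟩ := adSolve (M := M) δ hδ (fun ξ => ∑ η, δ ξ η)
  let ξ₀ : G ⧸ N := (y : G ⧸ N)
  refine ⟨adW N θ (conv (adK N y) (adK N (x ξ₀)⁻¹)) / κ ξ₀ * (d ξ₀ * (1 + c' ξ₀)), fun χ hχ hcon h => ?_⟩
  -- the action of the class sums of the representatives
  have hεacts : AdActsBy (χ : G → ℂ) ε 1 := by
    have h1 := adActsBy_spec χ hεc
    have h2 : spec ε χ = 1 := by
      rw [hε, spec_blockCoeff]
      exact indic_apply_of_mem hχ
    rwa [h2] at h1
  have hrel : ∀ ξ, adAct (χ : G → ℂ) (adK N (x ξ)) h = ∑ η, s ξ η * adAct (χ : G → ℂ) (adK N (x η)) h := by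
    intro ξ
    have h1 : adAct (χ : G → ℂ) (adK N (x ξ)) h = adAct (χ : G → ℂ) (conv (adK N (x ξ)) ε) h := by
      rw [adAct_conv_of_right χ hεacts, one_mul]
    rw [h1]
    conv_lhs => rw [← adR_sum N (conv (adK N (x ξ)) ε)]
    have h2 : adAct (χ : G → ℂ) (∑ η, adR N η (conv (adK N (x ξ)) ε)) h =
        ∑ η, adAct (χ : G → ℂ) (adR N η (conv (adK N (x ξ)) ε)) h := by
      simp only [adAct, Finset.sum_apply, Finset.sum_mul]
      rw [Finset.sum_comm]
    rw [h2]
    refine Finset.sum_congr rfl fun η _ => ?_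
    have h3 := adHom_relation N θ hinv hcon (x η) (hA ξ η) (hAc ξ η) h
    have hκ0 : κ η ≠ 0 := ne_zero_of_not_memLocalIdeal (hκ η)
    simp only [s]
    rw [div_mul_eq_mul_div, eq_div_iff hκ0, mul_comm]
    exact h3
  let v : G ⧸ N → ℂ := fun ξ => adAct (χ : G → ℂ) (adK N (x ξ)) h / d ξ
  have hv : ∀ ξ, v ξ = ∑ η, S' ξ η * v η := by
    intro ξ
    simp only [v]
    rw [hrel ξ, Finset.sum_div]
    refine Finset.sum_congr rfl fun η _ => ?_
    have h1 := hd0 ξ
    have h2 := hd0 η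
    simp only [S']
    field_simp
  have hv1 : v 1 = (χ : G → ℂ) h := by
    have h1 : d 1 = 1 := by
      simp only [d, hx1, adD_one, Nat.cast_one]
    simp only [v]
    rw [h1, div_one, hx1]
    simp only [adAct, adK_one]
    rw [Finset.sum_eq_single 1]
    · simp
    · intro b _ hb
      rw [if_neg hb, zero_mul]
    · simp
  have hw : ∀ ξ, v ξ - v 1 = ∑ η, δ ξ η * (v η - v 1) + (∑ η, δ ξ η) * v 1 := by
    intro ξ
    have h1 : ∑ η, δ ξ η * (v η - v 1) + (∑ η, δ ξ η) * v 1 = ∑ η, δ ξ η * v η := by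
      rw [Finset.sum_mul, ← Finset.sum_add_distrib]
      refine Finset.sum_congr rfl fun η _ => by ring
    rw [h1]
    have h2 : ∑ η, δ ξ η * v η = ∑ η, S' ξ η * v η - ∑ η, S' 1 η * v η := by
      rw [← Finset.sum_sub_distrib]
      refine Finset.sum_congr rfl fun η _ => ?_
      simp only [δ]
      ring
    rw [h2, ← hv ξ, ← hv 1]
  have hsol := hc' (fun ξ => v ξ - v 1) (v 1) hw ξ₀
  have h5 : adAct (χ : G → ℂ) (adK N (x ξ₀)) h = d ξ₀ * (1 + c' ξ₀) * (χ : G → ℂ) h := by
    have h6 : v ξ₀ = (1 + c' ξ₀) * (χ : G → ℂ) h := by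
      rw [← hv1]
      linear_combination hsol
    have h7 := hd0 ξ₀
    simp only [v] at h6
    rw [div_eq_iff h7] at h6
    rw [h6]
    ring
  have h8 := adHom_relation N θ hinv hcon (a := adK N y) (x ξ₀) (adK_inv N y) (fun g hg => by
    rw [hx]
    exact adK_coset N y g hg) h
  have hκ0 : κ ξ₀ ≠ 0 := ne_zero_of_not_memLocalIdeal (hκ ξ₀)
  have h9 : κ ξ₀ * adAct (χ : G → ℂ) (adK N y) h = _ := h8
  rw [h5] at h9
  apply mul_left_cancel₀ hκ0
  rw [h9]
  field_simp

/-- The Frobenius commutator formula. -/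
theorem adSum_conj_irr (χ : IrrCharacter G) (a b : G) :
    ∑ y, (χ : G → ℂ) (y * a * y⁻¹ * b) =
      (Nat.card G : ℂ) * (χ : G → ℂ) a * (χ : G → ℂ) b / (χ : G → ℂ) 1 := by
  classical
  let A : G → ℂ := fun g => ∑ y : G, if y * a * y⁻¹ = g then 1 else 0
  have hA : IsClassFunction G A := by
    intro g k
    simp only [A]
    refine Fintype.sum_equiv (Equiv.mulLeft k⁻¹) _ _ fun y => ?_
    simp only [Equiv.coe_mulLeft]
    have : y * a * y⁻¹ = k * g * k⁻¹ ↔ k⁻¹ * y * a * (k⁻¹ * y)⁻¹ = g := by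
      constructor
      · intro h
        have : k⁻¹ * y * a * (k⁻¹ * y)⁻¹ = k⁻¹ * (y * a * y⁻¹) * k := by group
        rw [this, h]
        group
      · intro h
        rw [← h]
        group
    simp only [this]
    congr
  have hsum : ∀ F : G → ℂ, ∑ g, A g * F g = ∑ y, F (y * a * y⁻¹) := by
    intro F
    simp only [A, Finset.sum_mul]
    rw [Finset.sum_comm]
    refine Finset.sum_congr rfl fun y _ => ?_
    rw [Finset.sum_eq_single (y * a * y⁻¹)]
    · simp
    · intro g _ hg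
      rw [if_neg (Ne.symm hg), zero_mul]
    · simp
  have h1 := sum_class_mul_apply χ A hA b
  rw [hsum (fun g => (χ : G → ℂ) (g * b)), hsum] at h1
  rw [h1]
  have h2 : ∀ y, (χ : G → ℂ) (y * a * y⁻¹) = (χ : G → ℂ) a := fun y => irr_isClassFunction χ a y
  simp only [h2, Finset.sum_const, Finset.card_univ, nsmul_eq_mul, Nat.card_eq_fintype_card]
  ring

theorem adChi_inv (χ : IrrCharacter G) : AdInv N (χ : G → ℂ) := fun n _ g => irr_isClassFunction χ g n

/-- The restriction of a character of the principal block is irreducible. -/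
theorem ad_restrict {χ : IrrCharacter G} {θ : IrrCharacter N} {Υ : G → ℂ}
    (hΥ : ∀ y, AdActsBy (χ : G → ℂ) (adK N y) (Υ y))
    (hcon : classInner (fun n : N => (χ : G → ℂ) n) (θ : N → ℂ) ≠ 0) (n : N) :
    (χ : G → ℂ) n = (θ : N → ℂ) n := by
  classical
  have hχ1 : (χ : G → ℂ) 1 ≠ 0 := irr_apply_one_ne_zero χ
  have hstar : ∀ y h, ∑ u : N, (χ : G → ℂ) ((u : G) * y * (u : G)⁻¹ * h) =
      (Nat.card N : ℂ) * (χ : G → ℂ) y * (χ : G → ℂ) h / (χ : G → ℂ) 1 := by
    intro y h
    have h1 := sum_conj_eq N y (fun g => (χ : G → ℂ) (g * h))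
    have h2 := hΥ y h
    have h3 := hΥ y 1
    have h4 : adAct (χ : G → ℂ) (adK N y) 1 = (adD N y : ℂ) * (χ : G → ℂ) y := by
      simp only [adAct, mul_one]
      exact sum_adK_mul N y _ (adChi_inv N χ)
    rw [h4] at h3
    have h5 : (Nat.card N : ℂ) = (Nat.card ((Subgroup.centralizer ({y} : Set G)).subgroupOf N) : ℂ) * (adD N y : ℂ) := by
      exact_mod_cast card_eq_mul_adD N y
    rw [h1]
    have h6 : ∑ g, adK N y g * (χ : G → ℂ) (g * h) = adAct (χ : G → ℂ) (adK N y) h := rfl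
    rw [h6, h2, h5, eq_div_iff hχ1]
    linear_combination ((Nat.card ((Subgroup.centralizer ({y} : Set G)).subgroupOf N) : ℂ) * (χ : G → ℂ) h) * (-h3)
  have hA : ∑ y : G, ∑ u : N, (χ : G → ℂ) ((u : G) * y * (u : G)⁻¹ * y⁻¹) =
      (Nat.card N : ℂ) * (Nat.card G : ℂ) / (χ : G → ℂ) 1 := by
    simp only [hstar]
    have h1 : ∑ y : G, (χ : G → ℂ) y * (χ : G → ℂ) y⁻¹ = (Nat.card G : ℂ) := by
      have h2 := classInner_irr_self χ.2
      simp only [classInner] at h2
      have h3 : (Nat.card G : ℂ) ≠ 0 := card_ne_zero_complex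
      have h4 : ∑ y : G, (χ : G → ℂ) y * conj ((χ : G → ℂ) y) = (Nat.card G : ℂ) := by
        field_simp at h2
        exact h2
      rw [← h4]
      exact Finset.sum_congr rfl fun y _ => by rw [irr_apply_inv]
    have h2 : ∀ y : G, (Nat.card N : ℂ) * (χ : G → ℂ) y * (χ : G → ℂ) y⁻¹ / (χ : G → ℂ) 1 =
        (Nat.card N : ℂ) / (χ : G → ℂ) 1 * ((χ : G → ℂ) y * (χ : G → ℂ) y⁻¹) := fun y => by
      field_simp
    simp only [h2]
    rw [← Finset.mul_sum, h1]
    ring
  have hB : ∑ y : G, ∑ u : N, (χ : G → ℂ) ((u : G) * y * (u : G)⁻¹ * y⁻¹) =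
      ∑ u : N, (Nat.card G : ℂ) * (χ : G → ℂ) (u : G)⁻¹ * (χ : G → ℂ) (u : G) / (χ : G → ℂ) 1 := by
    rw [Finset.sum_comm]
    refine Finset.sum_congr rfl fun u _ => ?_
    rw [← adSum_conj_irr χ (u : G)⁻¹ (u : G)]
    refine Finset.sum_congr rfl fun y _ => ?_
    have h1 : (u : G) * y * (u : G)⁻¹ * y⁻¹ = (u : G) * (y * (u : G)⁻¹ * y⁻¹) := by group
    rw [h1, irr_mul_comm χ (u : G)]
  have hG : (Nat.card G : ℂ) ≠ 0 := card_ne_zero_complex
  have hN0 : (Nat.card N : ℂ) ≠ 0 := card_ne_zero_complex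
  have hnorm : classInner (fun n : N => (χ : G → ℂ) n) (fun n : N => (χ : G → ℂ) n) = 1 := by
    simp only [classInner]
    have h1 : ∑ u : N, (χ : G → ℂ) (u : G) * conj ((χ : G → ℂ) (u : G)) = (Nat.card N : ℂ) := by
      have h2 := hA.symm.trans hB
      have h3 : ∀ u : N, (Nat.card G : ℂ) * (χ : G → ℂ) (u : G)⁻¹ * (χ : G → ℂ) (u : G) / (χ : G → ℂ) 1 =
          (Nat.card G : ℂ) / (χ : G → ℂ) 1 * ((χ : G → ℂ) (u : G) * conj ((χ : G → ℂ) (u : G))) := fun u => by
        rw [irr_apply_inv]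
        field_simp
      simp only [h3] at h2
      rw [← Finset.mul_sum] at h2
      field_simp at h2
      linear_combination -h2
    rw [h1]
    field_simp
  have hres : IsCharacter N (fun n : N => (χ : G → ℂ) n) := isCharacter_resFun N (irr_isCharacter χ)
  have hirr : IsIrrCharacter N (fun n : N => (χ : G → ℂ) n) := isIrrCharacter_of_classInner_self hres hnorm
  by_contra hne
  apply hcon
  apply classInner_irr_of_ne hirr θ.2
  intro h
  exact hne (congrFun h n)

/-- The main theorem. -/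
theorem ad_main (hM : IsPModular p M) (hidx : ¬ p ∣ N.index)
    (hrep : ∀ g : G, ∃ x : G, (x : G ⧸ N) = (g : G ⧸ N) ∧ ¬ p ∣ (Subgroup.centralizer ({x} : Set G)).index ∧ ¬ p ∣ adD N x) :
    (∀ χ ∈ principalBlock M G, ∃ θ ∈ principalBlock M N, ∀ n : N, (χ : G → ℂ) n = (θ : N → ℂ) n) ∧
      ∀ θ ∈ principalBlock M N, ∃! χ : IrrCharacter G, χ ∈ principalBlock M G ∧ ∀ n : N, (χ : G → ℂ) n = (θ : N → ℂ) n := by
  classical
  have := isPrime_of_modular hM
  letI : Fintype (G ⧸ N) := Fintype.ofFinite _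
  have hconjN : ∀ (n : N) (θ : IrrCharacter N), conjIrr N (n : G) θ = θ := by
    intro n θ
    apply Subtype.ext
    funext m
    simp only [conjIrr_coe, conjFun_apply]
    have h1 := irr_isClassFunction θ m n⁻¹
    rw [← h1]
    refine congrArg _ (Subtype.ext ?_)
    simp
  have hinv : ∀ θ ∈ principalBlock M N, ∀ g : G, conjIrr N g θ = θ := by
    intro θ hθ g
    obtain ⟨x, hx, _, hd⟩ := hrep g
    have h1 : x⁻¹ * g ∈ N := QuotientGroup.eq.mp hx
    have h2 : g = x * ((⟨x⁻¹ * g, h1⟩ : N) : G) := by simp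
    rw [h2, conjIrr_mul, hconjN, adInvariant N hM hθ hd]
  have hkey : ∀ θ ∈ principalBlock M N, ∀ χ ∈ principalBlock M G,
      classInner (fun n : N => (χ : G → ℂ) n) (θ : N → ℂ) ≠ 0 → ∀ n : N, (χ : G → ℂ) n = (θ : N → ℂ) n := by
    intro θ hθ χ hχ hcon n
    choose Υ hΥ using ad_scalar N hM hidx hrep hθ (hinv θ hθ)
    exact ad_restrict N (fun y => hΥ y χ hχ hcon) hcon n
  have hselfinner : ∀ θ : IrrCharacter N, ∀ χ : IrrCharacter G, (∀ n : N, (χ : G → ℂ) n = (θ : N → ℂ) n) →
      classInner (fun n : N => (χ : G → ℂ) n) (θ : N → ℂ) ≠ 0 := by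
    intro θ χ h
    have h1 : (fun n : N => (χ : G → ℂ) n) = (θ : N → ℂ) := funext h
    rw [h1, classInner_irr_self θ.2]
    exact one_ne_zero
  have hone : classInner (fun n : N => (oneIrr G : G → ℂ) n) (oneIrr N : N → ℂ) ≠ 0 :=
    hselfinner (oneIrr N) (oneIrr G) (fun _ => rfl)
  constructor
  · intro χ hχ
    obtain ⟨θ, hθc⟩ := exists_constituent N χ
    have hθ : θ ∈ principalBlock M N := by
      obtain ⟨g, hg⟩ := covering_constituents N (isPBlock_principalBlock M G) (isPBlock_principalBlock M N)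
        (one_mem_principalBlock (M := M) (G := G)) hχ (one_mem_principalBlock (M := M) (G := N)) hone hθc
      have h1 : SameBlock M (fun _ : N => (1 : ℂ)) ((conjIrr N g θ : IrrCharacter N) : N → ℂ) := hg
      have h2 : SameBlock M ((oneIrr N : IrrCharacter N) : N → ℂ) ((conjIrr N g θ : IrrCharacter N) : N → ℂ) := h1
      have h3 := sameBlock_conjIrr N g⁻¹ h2
      have h4 : conjIrr N g⁻¹ (conjIrr N g θ) = θ := by
        rw [← conjIrr_mul, inv_mul_cancel, conjIrr_one]
      rw [h4] at h3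
      have h5 : conjIrr N g⁻¹ (oneIrr N) = oneIrr N := by
        apply Subtype.ext
        rfl
      rw [h5] at h3
      exact h3
    exact ⟨θ, hθ, hkey θ hθ χ hχ hθc⟩
  · intro θ hθ
    obtain ⟨χ, hχ, hcon⟩ := exists_over_of_covering N hM (isPBlock_principalBlock M N) (isPBlock_principalBlock M G)
      ⟨oneIrr G, one_mem_principalBlock, oneIrr N, one_mem_principalBlock, hone⟩ hθ
    refine ⟨χ, ⟨hχ, hkey θ hθ χ hχ hcon⟩, ?_⟩
    rintro χ' ⟨hχ', hres⟩
    choose Υ hΥ using ad_scalar N hM hidx hrep hθ (hinv θ hθ)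
    have hcon' := hselfinner θ χ' hres
    have hres1 := hkey θ hθ χ hχ hcon
    have h1 : (χ : G → ℂ) 1 = (χ' : G → ℂ) 1 := by
      have h2 := hres1 1
      have h3 := hres 1
      simp only [Subgroup.coe_one] at h2 h3
      rw [h2, h3]
    apply Subtype.ext
    funext y
    have h2 := hΥ y χ hχ hcon 1
    have h3 := hΥ y χ' hχ' hcon' 1
    have h4 : ∀ ψ : IrrCharacter G, adAct (ψ : G → ℂ) (adK N y) 1 = (adD N y : ℂ) * (ψ : G → ℂ) y := by
      intro ψ
      simp only [adAct, mul_one]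
      exact sum_adK_mul N y _ (adChi_inv N ψ)
    rw [h4] at h2 h3
    have hd : (adD N y : ℂ) ≠ 0 := by
      exact_mod_cast (adD_pos N y).ne'
    apply mul_left_cancel₀ hd
    rw [h3, h2, h1]

end Main

end Cfsg.Agent.Lib.Blocks
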