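import Cfsg.Agent.Lib.Blocks.Third
import Cfsg.Agent.Lib.Char.Galois

/-!
# The field of the coefficients of a block idempotent
-/

set_option autoImplicit false
set_option linter.unusedSectionVars false

namespace Cfsg.Agent.Lib.Blocks

open Cfsg Cfsg.Agent.Lib.Char
open scoped ComplexConjugate

universe u

/-- An element of the cyclotomic field fixed by all the `σ` fixing `η` lies in `ℚ(η)`. -/
theorem mem_adjoin_of_forall_sigma (n : ℕ) [NeZero n] {η α : ℂ} (hη : η ^ n = 1) (hα : α ∈ cycField n)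
    (H : ∀ (σ : ℂ →+* ℂ) (k : ℕ), k.Coprime n → (∀ ε : ℂ, ε ^ n = 1 → σ ε = ε ^ k) → σ η = η → σ α = α) :
    α ∈ IntermediateField.adjoin ℚ ({η} : Set ℂ) := by
  have hηK : η ∈ cycField n := mem_cycField_of_pow_eq_one n hη
  let ηK : cycField n := ⟨η, hηK⟩
  let L : IntermediateField ℚ (cycField n) := IntermediateField.adjoin ℚ {ηK}
  have hfix : ∀ f : cycField n ≃ₐ[ℚ] cycField n, f ∈ L.fixingSubgroup → f ⟨α, hα⟩ = ⟨α, hα⟩ := by
    intro f hf
    have hζ := isPrimitiveRoot_zetaK n
    have hfζ : IsPrimitiveRoot (f (zetaK n)) n :=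
      hζ.map_of_injective f.injective
    obtain ⟨k, -, hk⟩ := hζ.eq_pow_of_pow_eq_one hfζ.pow_eq_one
    have hcop : k.Coprime n := by
      rw [← hk] at hfζ
      exact (hζ.pow_iff_coprime (NeZero.pos n) k).mp hfζ
    obtain ⟨σ, hσ⟩ := exists_ringHom_extend (cycField n) f.toRingEquiv
    have h1 : σ (zetaC n) = zetaC n ^ k := by
      have := hσ (zetaK n)
      simp only [AlgEquiv.coe_ringEquiv, ← hk] at this
      exact this
    have h2 : ∀ ε : ℂ, ε ^ n = 1 → σ ε = ε ^ k := by
      intro ε hε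
      obtain ⟨j, -, rfl⟩ := (isPrimitiveRoot_zetaC n).eq_pow_of_pow_eq_one hε
      rw [map_pow, h1, ← pow_mul, ← pow_mul, mul_comm]
    have hfη : f ηK = ηK := by
      have hmem : ηK ∈ L := IntermediateField.mem_adjoin_simple_self ℚ ηK
      exact (IntermediateField.mem_fixingSubgroup_iff L f).mp hf ηK hmem
    have h2η : σ η = η := by
      have := hσ ηK
      simp only [AlgEquiv.coe_ringEquiv, hfη] at this
      exact this
    have h3 := H σ k hcop h2 h2η
    have h4 := hσ ⟨α, hα⟩
    simp only [AlgEquiv.coe_ringEquiv] at h4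
    apply Subtype.ext
    rw [← h4, h3]
  have hmem : (⟨α, hα⟩ : cycField n) ∈ IntermediateField.fixedField L.fixingSubgroup := by
    rw [IntermediateField.mem_fixedField_iff]
    exact hfix
  rw [IsGalois.fixedField_fixingSubgroup] at hmem
  -- transfer to `ℂ`
  have key : ∀ x ∈ L, (x : ℂ) ∈ IntermediateField.adjoin ℚ ({η} : Set ℂ) := by
    intro x hx
    induction hx using IntermediateField.adjoin_induction with
    | mem x hx =>
      have hx' : x = ηK := hx
      subst hx'
      exact IntermediateField.mem_adjoin_simple_self ℚ η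
    | algebraMap q =>
      have : ((algebraMap ℚ (cycField n) q : cycField n) : ℂ) = algebraMap ℚ ℂ q := by simp
      rw [this]
      exact IntermediateField.algebraMap_mem _ q
    | add x y _ _ hx hy =>
      push_cast
      exact add_mem hx hy
    | inv x _ hx =>
      push_cast
      exact inv_mem hx
    | mul x y _ _ hx hy =>
      push_cast
      exact mul_mem hx hy
  exact key _ hmem

section

variable {G : Type u} [Group G] [Fintype G] {M : Ideal AlgInt} {p : ℕ} [hp : Fact p.Prime]

/-- The power map on irreducible characters. -/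
noncomputable def powIrrG {k : ℕ} (hk : k.Coprime (Nat.card G)) (θ : IrrCharacter G) : IrrCharacter G :=
  ⟨fun n => (θ : G → ℂ) (n ^ k), isIrrCharacter_pow θ.2 hk⟩

/-- A character equal to another one on the regular elements lies in its block. -/
theorem sameBlock_of_regular_eq (hM : IsPModular p M) {χ ψ : IrrCharacter G}
    (h : ∀ x : G, ¬ p ∣ orderOf x → (χ : G → ℂ) x = (ψ : G → ℂ) x) : SameBlock M (χ : G → ℂ) (ψ : G → ℂ) := by
  classical
  by_contra hne
  have h1 := sum_regular_mul_eq_zero hM hne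
  have h2 : ∑ᶠ x ∈ {x : G | ¬ p ∣ orderOf x}, (χ : G → ℂ) x * conj ((ψ : G → ℂ) x) =
      ((∑ x ∈ Finset.univ.filter (fun x : G => ¬ p ∣ orderOf x), Complex.normSq ((χ : G → ℂ) x) : ℝ) : ℂ) := by
    rw [finsum_mem_def, finsum_eq_sum_of_fintype]
    push_cast
    rw [Finset.sum_filter]
    refine Finset.sum_congr rfl fun x _ => ?_
    by_cases hx : ¬ p ∣ orderOf x
    · rw [Set.indicator_of_mem (by exact hx), if_pos hx, ← h x hx, Complex.mul_conj]
    · rw [Set.indicator_of_notMem (by exact hx), if_neg hx]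
  rw [h2] at h1
  have h3 : 0 < ∑ x ∈ Finset.univ.filter (fun x : G => ¬ p ∣ orderOf x), Complex.normSq ((χ : G → ℂ) x) := by
    refine Finset.sum_pos' (fun x _ => Complex.normSq_nonneg _) ⟨1, ?_, ?_⟩
    · refine Finset.mem_filter.mpr ⟨Finset.mem_univ _, ?_⟩
      rw [orderOf_one]
      exact fun h4 => hp.out.one_lt.ne' (Nat.dvd_one.mp h4)
    · exact Complex.normSq_pos.mpr (irr_apply_one_ne_zero χ)
  have h4 : ((∑ x ∈ Finset.univ.filter (fun x : G => ¬ p ∣ orderOf x), Complex.normSq ((χ : G → ℂ) x) : ℝ) : ℂ) ≠ 0 := by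
    exact_mod_cast h3.ne'
  exact h4 h1

@[simp] theorem powIrrG_apply {k : ℕ} (hk : k.Coprime (Nat.card G)) (θ : IrrCharacter G) (n : G) :
    (powIrrG hk θ : G → ℂ) n = (θ : G → ℂ) (n ^ k) := rfl

theorem powIrrG_injective {k : ℕ} (hk : k.Coprime (Nat.card G)) : Function.Injective (powIrrG (G := G) hk) := by
  intro χ ψ h
  apply Subtype.ext
  funext g
  obtain ⟨u, rfl⟩ := (pow_bijective_of_coprime hk).2 g
  exact congrFun (congrArg Subtype.val h) u

/-- **The block idempotent is fixed by Galois automorphisms fixing the `p'`-roots of unity.** -/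
theorem sigma_blockCoeff (hM : IsPModular p M) {B : Set (IrrCharacter G)} (hB : IsPBlock M B) (g : G)
    (σ : ℂ →+* ℂ) (k : ℕ) (hk : k.Coprime (Nat.card G)) (hσ : ∀ ε : ℂ, ε ^ Nat.card G = 1 → σ ε = ε ^ k)
    (hreg : ∀ x : G, ¬ p ∣ orderOf x → x ^ k = x) : σ (blockCoeff B g) = blockCoeff B g := by
  classical
  have := isPrime_of_modular hM
  let T := powIrrG (G := G) hk
  have hTreg : ∀ χ : IrrCharacter G, SameBlock M (χ : G → ℂ) (T χ : G → ℂ) := by
    intro χ
    refine sameBlock_of_regular_eq hM fun x hx => ?_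
    show (χ : G → ℂ) x = (χ : G → ℂ) (x ^ k)
    rw [hreg x hx]
  have hTB : ∀ χ : IrrCharacter G, T χ ∈ B ↔ χ ∈ B := by
    intro χ
    constructor
    · intro h
      obtain ⟨φ, rfl⟩ := id hB
      exact SameBlock.trans' h (SameBlock.symm' (hTreg χ))
    · intro h
      obtain ⟨φ, rfl⟩ := id hB
      exact SameBlock.trans' h (hTreg χ)
  have hTbij : Function.Bijective T := Finite.injective_iff_bijective.mp (powIrrG_injective hk)
  rw [blockCoeff_eq_coef, coef, map_mul, map_inv₀, map_natCast, map_sum]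
  congr 1
  rw [← Function.Bijective.sum_comp hTbij (fun ψ : IrrCharacter G => indic B ψ * ((ψ : G → ℂ) 1 * conj ((ψ : G → ℂ) g)))]
  refine Finset.sum_congr rfl fun χ _ => ?_
  have h1 : indic B (T χ) = indic B χ := by
    by_cases hχ : χ ∈ B
    · rw [indic_apply_of_mem hχ, indic_apply_of_mem ((hTB χ).mpr hχ)]
    · rw [indic_apply_of_notMem hχ, indic_apply_of_notMem (fun h => hχ ((hTB χ).mp h))]
  have h2 : σ (indic B χ) = indic B χ := by
    by_cases hχ : χ ∈ B
    · rw [indic_apply_of_mem hχ, map_one]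
    · rw [indic_apply_of_notMem hχ, map_zero]
  have h3 : σ ((χ : G → ℂ) 1) = (T χ : G → ℂ) 1 := by
    rw [sigma_character (irr_isCharacter χ) σ k hσ]
    rfl
  have h4 : σ (conj ((χ : G → ℂ) g)) = conj ((T χ : G → ℂ) g) := by
    rw [← irr_apply_inv, sigma_character (irr_isCharacter χ) σ k hσ, ← irr_apply_inv]
    show _ = (χ : G → ℂ) ((g⁻¹) ^ k)
    rfl
  rw [map_mul, map_mul, h1, h2, h3, h4]

theorem coef_indic_mem_cycField (B : Set (IrrCharacter G)) (g : G) :
    blockCoeff B g ∈ cycField (Nat.card G) := by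
  classical
  rw [blockCoeff_eq_coef, coef]
  have hG : (Nat.card G : ℂ)⁻¹ ∈ cycField (Nat.card G) := by
    have h1 : ((Nat.card G : ℕ) : ℂ) ∈ cycField (Nat.card G) := natCast_mem _ _
    exact inv_mem h1
  refine mul_mem hG (sum_mem fun χ _ => mul_mem ?_ (mul_mem (character_mem_cycField (irr_isCharacter χ) 1) ?_))
  · by_cases hχ : χ ∈ B
    · rw [indic_apply_of_mem hχ]
      exact one_mem _
    · rw [indic_apply_of_notMem hχ]
      exact zero_mem _
  · rw [← irr_apply_inv]
    exact character_mem_cycField (irr_isCharacter χ) _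

/-- The coefficients of a block idempotent are in the field of `p'`-roots of unity. -/
theorem blockCoeff_mem_adjoin (hM : IsPModular p M) {B : Set (IrrCharacter G)} (hB : IsPBlock M B) (g : G) :
    blockCoeff B g ∈ IntermediateField.adjoin ℚ
      ({Complex.exp (2 * Real.pi * Complex.I / ((Nat.card G / p ^ (Nat.card G).factorization p : ℕ) : ℂ))} : Set ℂ) := by
  classical
  have hpp : p.Prime := hp.out
  set m := Nat.card G / p ^ (Nat.card G).factorization p with hm
  have hG : Nat.card G ≠ 0 := Nat.card_pos.ne'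
  haveI : NeZero (Nat.card G) := ⟨hG⟩
  have hcard : Nat.card G = p ^ (Nat.card G).factorization p * m :=
    (Nat.ordProj_mul_ordCompl_eq_self (Nat.card G) p).symm
  have hm0 : m ≠ 0 := by
    intro h0
    rw [h0, mul_zero] at hcard
    exact hG hcard
  have hpm : ¬ p ∣ m := Nat.not_dvd_ordCompl hpp hG
  have hprim : IsPrimitiveRoot (Complex.exp (2 * Real.pi * Complex.I / (m : ℂ))) m :=
    Complex.isPrimitiveRoot_exp m hm0
  set η := Complex.exp (2 * Real.pi * Complex.I / (m : ℂ)) with hη
  have hηn : η ^ Nat.card G = 1 := by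
    rw [hcard, mul_comm, pow_mul, hprim.pow_eq_one, one_pow]
  refine mem_adjoin_of_forall_sigma (Nat.card G) hηn (coef_indic_mem_cycField B g) ?_
  intro σ k hk hσ hση
  refine sigma_blockCoeff hM hB g σ k hk hσ ?_
  have hkm : k ≡ 1 [MOD m] := by
    have h1 : η ^ k = η ^ 1 := by
      rw [pow_one, ← hσ η hηn, hση]
    have hη0 : η ≠ 0 := hprim.ne_zero hm0
    rcases Nat.eq_zero_or_pos k with rfl | hkpos
    · have h2 : Nat.card G = 1 := by
        have := hk
        rwa [Nat.coprime_zero_left] at this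
      have h3 : m ∣ 1 := by
        rw [← h2, hcard]
        exact Dvd.intro_left _ rfl
      have h4 : m = 1 := Nat.dvd_one.mp h3
      rw [h4]
      exact Nat.modEq_one
    · have h2 : η ^ (k - 1) = 1 := by
        have h3 : η ^ (k - 1) * η = 1 * η := by
          rw [← pow_succ, Nat.sub_add_cancel hkpos, h1, pow_one, one_mul]
        exact mul_right_cancel₀ hη0 h3
      have h3 : m ∣ k - 1 := hprim.dvd_of_pow_eq_one _ h2
      exact ((Nat.modEq_iff_dvd' hkpos).mpr h3).symm
  intro x hx
  have hordm : orderOf x ∣ m := by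
    have h1 : orderOf x ∣ p ^ (Nat.card G).factorization p * m := hcard ▸ orderOf_dvd_natCard x
    refine Nat.Coprime.dvd_of_dvd_mul_left ?_ h1
    exact Nat.Coprime.pow_right _ ((Nat.Prime.coprime_iff_not_dvd hpp).mpr hx).symm
  have h5 : x ^ k = x ^ 1 := by
    rw [pow_eq_pow_iff_modEq]
    exact hkm.of_dvd hordm
  rw [h5, pow_one]

end

end Cfsg.Agent.Lib.Blocks
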