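import Cfsg.Agent.Lib.Blocks.Extended
import Cfsg.Prelude.Def_BrauerPairs

/-!
# The Brauer correspondence at the level of idempotents
-/

set_option autoImplicit false
set_option linter.unusedSectionVars false

namespace Cfsg.Agent.Lib.Blocks

open Cfsg Cfsg.Agent.Lib.Char
open scoped ComplexConjugate

universe u

section Nil

variable {G : Type u} [Group G] [Fintype G] {M : Ideal AlgInt} {p : ℕ} [hp : Fact p.Prime]

/-- Functions on the characters all of whose group algebra coefficients lie in the local ideal. -/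
def CoefIdeal (M : Ideal AlgInt) (c : IrrCharacter G → ℂ) : Prop := ∀ t, MemLocalIdeal M (coef c t)

theorem CoefIdeal.mul_left [M.IsPrime] {c d : IrrCharacter G → ℂ} (hc : c ∈ zS M G) (hd : CoefIdeal M d) :
    CoefIdeal M (c * d) := by
  intro t
  rw [coef_mul, conv]
  exact MemLocalIdeal.sum _ fun x _ => MemLocalIdeal.mul_left (hc x) (hd _)

theorem CoefIdeal.mul_right [M.IsPrime] {c d : IrrCharacter G → ℂ} (hc : CoefIdeal M c) (hd : d ∈ zS M G) :
    CoefIdeal M (c * d) := by
  intro t
  rw [coef_mul, conv]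
  exact MemLocalIdeal.sum _ fun x _ => MemLocalIdeal.mul_right (hc x) (hd _)

theorem CoefIdeal.sub {c d : IrrCharacter G → ℂ} [M.IsPrime] (hc : CoefIdeal M c) (hd : CoefIdeal M d) :
    CoefIdeal M (c - d) := by
  intro t
  rw [coef_sub]
  exact MemLocalIdeal.sub (hc t) (hd t)

/-- An element `d` of the local centre with `d³ ≡ d` and all characteristic values in the local
ideal has coefficients in the local ideal. -/
theorem coefIdeal_of_cube (hM : IsPModular p M) [M.IsPrime] {d : IrrCharacter G → ℂ} (hd : d ∈ zS M G)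
    (h3 : CoefIdeal M (d ^ 3 - d)) (hI : ∀ χ, MemLocalIdeal M (d χ)) : CoefIdeal M d := by
  obtain ⟨n, -, hn⟩ := exists_pow_coef_memLocalIdeal hM hI
  have hstep : ∀ k : ℕ, CoefIdeal M (d ^ (2 * k + 1) - d) := by
    intro k
    induction k with
    | zero =>
      intro t
      simp only [mul_zero, zero_add, pow_one, sub_self, coef_zero, Pi.zero_apply]
      exact memLocalIdeal_zero
    | succ k ih =>
      have h1 : d ^ (2 * (k + 1) + 1) - d = d ^ (2 * k) * (d ^ 3 - d) + (d ^ (2 * k + 1) - d) := by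
        ring
      rw [h1]
      intro t
      rw [coef_add, Pi.add_apply]
      exact MemLocalIdeal.add (CoefIdeal.mul_left (Subring.pow_mem _ hd _) h3 t) (ih t)
  have h4 := hstep n
  have h5 : d = d ^ n * d ^ (n + 1) - (d ^ (2 * n + 1) - d) := by ring
  rw [h5]
  exact CoefIdeal.sub (CoefIdeal.mul_right hn (Subring.pow_mem _ hd _)) h4

/-- Blocks with congruent idempotents are equal. -/
theorem block_eq_of_coef_congr [M.IsPrime] {b b' : Set (IrrCharacter G)} (hb : IsPBlock M b) (hb' : IsPBlock M b')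
    (h : ∀ x, MemLocalIdeal M (coef (indic b) x - coef (indic b') x)) : b = b' := by
  classical
  obtain ⟨ξ, hξ⟩ := IsPBlock.nonempty hb
  have hcl : IsClassFunction G (coef (indic b) - coef (indic b')) :=
    IsClassFunction.sub (coef_isClassFunction _) (coef_isClassFunction _)
  have h1 := spec_memLocalIdeal hcl (fun x => h x) ξ
  rw [spec_sub, Pi.sub_apply, spec_coef, spec_coef, indic_apply_of_mem hξ] at h1
  have hξ' : ξ ∈ b' := by
    by_contra hne
    rw [indic_apply_of_notMem hne, sub_zero] at h1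
    exact not_memLocalIdeal_one h1
  rw [blockOf_eq_of_mem hb hξ, ← blockOf_eq_of_mem hb' hξ']

end Nil

section Core

variable {G : Type u} [Group G] [Fintype G] {M : Ideal AlgInt} {p : ℕ} [hp : Fact p.Prime] {P : Subgroup G}

local notation "𝐍" => Subgroup.normalizer (P : Set G)

/-- **The Brauer map sends the block idempotent to the idempotent of the correspondent.** -/
theorem brT_indic_congr (hM : IsPModular p M) [Fintype 𝐍] (hP : IsPGroup p P) {B : Set (IrrCharacter G)}
    (hB : IsPBlock M B) (hD : IsDefectGroup p M B P) {b : Set (IrrCharacter 𝐍)}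
    (hbD : IsDefectGroup p M b (P.subgroupOf 𝐍)) (hind : IsInducedBlock M 𝐍 b B) (x : 𝐍) :
    MemLocalIdeal M (brT 𝐍 P (coef (indic B)) x - coef (indic b) x) := by
  classical
  have := isPrime_of_modular hM
  have hPN : P ≤ 𝐍 := Subgroup.le_normalizer
  have hCN : Subgroup.centralizer (P : Set G) ≤ 𝐍 := Subgroup.centralizer_le_normalizer _
  have hcB := indic_mem_zS hB
  have hclu : IsClassFunction 𝐍 (brT 𝐍 P (coef (indic B))) := brT_isClassFunction 𝐍 le_rfl (coef_isClassFunction _)
  have hlocu : ∀ y, MemLocalRing M (brT 𝐍 P (coef (indic B)) y) := by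
    intro y
    by_cases hy : (y : G) ∈ Subgroup.centralizer (P : Set G)
    · rw [brT_of_mem 𝐍 P _ hy]
      exact hcB _
    · rw [brT_of_notMem 𝐍 P _ hy]
      exact memLocalRing_zero
  set c₁ : IrrCharacter 𝐍 → ℂ := spec (brT 𝐍 P (coef (indic B))) with hc₁
  have hc₁S : c₁ ∈ zS M 𝐍 := spec_mem_zS hclu hlocu
  have hcoefc₁ : coef c₁ = brT 𝐍 P (coef (indic B)) := coef_spec _ hclu
  set c₂ : IrrCharacter 𝐍 → ℂ := indic b with hc₂
  have hc₂S : c₂ ∈ zS M 𝐍 := indic_mem_zS hind.1
  have hc₂i : c₂ * c₂ = c₂ := indic_mul_self b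
  have hdS : c₁ - c₂ ∈ zS M 𝐍 := Subring.sub_mem _ hc₁S hc₂S
  -- `c₁` is idempotent modulo the ideal
  have hc₁i : CoefIdeal M (c₁ * c₁ - c₁) := by
    intro t
    rw [coef_sub, coef_mul, hcoefc₁, Pi.sub_apply]
    have h1 := brT_conv_congr 𝐍 hM hP hCN (coef_isClassFunction (indic B)) (coef_isClassFunction (indic B))
      (fun z => hcB z) (fun z => hcB z) t
    rw [← coef_mul, indic_mul_self] at h1
    exact MemLocalIdeal.symm h1
  -- the characteristic values
  have hvals : ∀ ξ, MemLocalIdeal M ((c₁ - c₂) ξ) := by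
    intro ξ
    have h1 : c₁ ξ = brPhi 𝐍 P ξ (indic B) := rfl
    have h2 := resPhi_sub_brPhi (M := M) 𝐍 hM hP hPN le_rfl ξ (c := indic B) hcB
    obtain ⟨B₁, hB₁⟩ := exists_isInducedBlock 𝐍 hM hP hPN hCN le_rfl (isPBlock_blockOf (M := M) ξ)
    obtain ⟨χ₁, hχ₁⟩ := IsPBlock.nonempty hB₁.2.1
    have h3 := IsInducedBlock.resPhi_congr 𝐍 hB₁ (self_mem_blockOf ξ) hχ₁ hcB
    have h4 := MemLocalIdeal.trans (MemLocalIdeal.symm h2) h3
    rw [← h1] at h4
    rw [Pi.sub_apply]
    by_cases hξ : ξ ∈ b
    · -- the block of `ξ` is `b`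
      have hbξ : blockOf M (ξ : 𝐍 → ℂ) = b := (blockOf_eq_of_mem hind.1 hξ).symm
      rw [hbξ] at hB₁
      have hBB : B₁ = B := IsInducedBlock.unique 𝐍 hB₁ hind
      rw [hBB] at hχ₁
      rw [indic_apply_of_mem hχ₁] at h4
      rw [show c₂ ξ = 1 from indic_apply_of_mem hξ]
      exact h4
    · rw [show c₂ ξ = 0 from indic_apply_of_notMem hξ, sub_zero]
      by_cases hBB : B₁ = B
      · exfalso
        rw [hBB] at hB₁
        have hd1 := isDefectGroup_of_induced hM hP hD hB₁
        obtain ⟨b₀, -, huniq⟩ := first_main_ii hM hP hB hD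
        have e1 := huniq b ⟨hind.1, hbD, hind⟩
        have e2 := huniq _ ⟨hB₁.1, hd1, hB₁⟩
        apply hξ
        rw [e1, ← e2]
        exact self_mem_blockOf ξ
      · have hχ₁B : χ₁ ∉ B := by
          intro hm
          apply hBB
          rw [blockOf_eq_of_mem hB₁.2.1 hχ₁, ← blockOf_eq_of_mem hB hm]
        rw [indic_apply_of_notMem hχ₁B, sub_zero] at h4
        exact h4
  -- the cube
  have hcube : CoefIdeal M ((c₁ - c₂) ^ 3 - (c₁ - c₂)) := by
    have h1 : (c₁ - c₂) ^ 3 - (c₁ - c₂) = (c₁ * c₁ - c₁) * (c₁ + 1 - 3 * c₂) := by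
      linear_combination (3 * c₁ - 1 - 1 * c₂) * hc₂i
    rw [h1]
    refine CoefIdeal.mul_right hc₁i ?_
    refine Subring.sub_mem _ (Subring.add_mem _ hc₁S (Subring.one_mem _)) ?_
    exact Subring.mul_mem _ (by exact_mod_cast natCast_mem (zS M 𝐍) 3) hc₂S
  have hfin := coefIdeal_of_cube hM hdS hcube hvals x
  rw [coef_sub, Pi.sub_apply, hcoefc₁] at hfin
  exact hfin

/-- The Brauer image of the idempotent of `B` is that of `b`. -/
def BrMatch (M : Ideal AlgInt) (P : Subgroup G) [Fintype 𝐍] (B : Set (IrrCharacter G))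
    (b : Set (IrrCharacter 𝐍)) : Prop :=
  ∀ x : 𝐍, MemLocalIdeal M (brT 𝐍 P (coef (indic B)) x - coef (indic b) x)

theorem brMatch_exists_left (hM : IsPModular p M) [Fintype 𝐍] (hP : IsPGroup p P) {B : Set (IrrCharacter G)}
    (hB : IsPBlock M B) (hD : IsDefectGroup p M B P) :
    ∃ b : Set (IrrCharacter 𝐍), IsPBlock M b ∧ IsDefectGroup p M b (P.subgroupOf 𝐍) ∧
      IsInducedBlock M 𝐍 b B ∧ BrMatch M P B b := by
  obtain ⟨b, ⟨hb, hbD, hind⟩, -⟩ := first_main_ii hM hP hB hD
  exact ⟨b, hb, hbD, hind, brT_indic_congr hM hP hB hD hbD hind⟩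

theorem brMatch_exists_right (hM : IsPModular p M) [Fintype 𝐍] (hP : IsPGroup p P) {b : Set (IrrCharacter 𝐍)}
    (hb : IsPBlock M b) (hbD : IsDefectGroup p M b (P.subgroupOf 𝐍)) :
    ∃ B : Set (IrrCharacter G), IsPBlock M B ∧ IsDefectGroup p M B P ∧
      IsInducedBlock M 𝐍 b B ∧ BrMatch M P B b := by
  obtain ⟨B, hB, hD, hind⟩ := first_main_i hM hP hb hbD
  exact ⟨B, hB, hD, hind, brT_indic_congr hM hP hB hD hbD hind⟩

theorem brMatch_unique_right [M.IsPrime] [Fintype 𝐍] {B : Set (IrrCharacter G)} {b b' : Set (IrrCharacter 𝐍)}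
    (hb : IsPBlock M b) (hb' : IsPBlock M b') (h : BrMatch M P B b) (h' : BrMatch M P B b') : b = b' :=
  block_eq_of_coef_congr hb hb' fun x => MemLocalIdeal.trans (MemLocalIdeal.symm (h x)) (h' x)

theorem brMatch_unique_left (hM : IsPModular p M) [Fintype 𝐍] (hP : IsPGroup p P) {B B' : Set (IrrCharacter G)}
    (hB : IsPBlock M B) (hB' : IsPBlock M B') (hD : IsDefectGroup p M B P) (hD' : IsDefectGroup p M B' P)
    {b : Set (IrrCharacter 𝐍)} (hb : IsPBlock M b) (h : BrMatch M P B b) (h' : BrMatch M P B' b) : B = B' := by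
  have := isPrime_of_modular hM
  obtain ⟨b₁, hb₁, -, hind₁, hm₁⟩ := brMatch_exists_left hM hP hB hD
  obtain ⟨b₂, hb₂, -, hind₂, hm₂⟩ := brMatch_exists_left hM hP hB' hD'
  have e1 := brMatch_unique_right hb₁ hb hm₁ h
  have e2 := brMatch_unique_right hb₂ hb hm₂ h'
  rw [e1] at hind₁
  rw [e2] at hind₂
  exact IsInducedBlock.unique 𝐍 hind₁ hind₂

end Core

section Transport

variable {H K : Type u} [Group H] [Group K] (e : H ≃* K) [Fintype H] [Fintype K]
variable {M : Ideal AlgInt} {p : ℕ} [hp : Fact p.Prime]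

/-- Transport of irreducible characters, as an equivalence. -/
noncomputable def irrCompEquiv : IrrCharacter K ≃ IrrCharacter H where
  toFun := irrComp e
  invFun := irrComp e.symm
  left_inv := irrComp_symm_irrComp e
  right_inv := irrComp_irrComp_symm e

theorem indic_transBlock_irrComp (b : Set (IrrCharacter K)) (χ : IrrCharacter K) :
    indic (transBlock e b) (irrComp e χ) = indic b χ := by
  classical
  by_cases h : χ ∈ b
  · rw [indic_apply_of_mem h, indic_apply_of_mem (irrComp_mem_transBlock e h)]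
  · rw [indic_apply_of_notMem h, indic_apply_of_notMem]
    intro h2
    apply h
    have h3 : irrComp e.symm (irrComp e χ) ∈ b := h2
    rwa [irrComp_symm_irrComp] at h3

theorem coef_indic_transBlock (b : Set (IrrCharacter K)) (h : H) :
    coef (indic (transBlock e b)) h = coef (indic b) (e h) := by
  classical
  have hcard : Nat.card H = Nat.card K := Nat.card_congr e.toEquiv
  rw [coef, coef, hcard]
  congr 1
  symm
  refine Fintype.sum_equiv (irrCompEquiv e) _ _ fun χ => ?_
  show indic b χ * ((χ : K → ℂ) 1 * conj ((χ : K → ℂ) (e h))) =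
    indic (transBlock e b) (irrComp e χ) * (((irrComp e χ : IrrCharacter H) : H → ℂ) 1 *
      conj (((irrComp e χ : IrrCharacter H) : H → ℂ) h))
  rw [indic_transBlock_irrComp]
  simp [irrComp_coe]

theorem blockCoeff_transBlock (b : Set (IrrCharacter K)) (h : H) :
    blockCoeff (transBlock e b) h = blockCoeff b (e h) := by
  rw [blockCoeff_eq_coef, blockCoeff_eq_coef, coef_indic_transBlock]

theorem transBlock_symm_transBlock (b : Set (IrrCharacter K)) :
    transBlock e.symm (transBlock e b) = b := by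
  ext χ
  show irrComp e.symm.symm χ ∈ transBlock e b ↔ χ ∈ b
  show irrComp e.symm (irrComp e.symm.symm χ) ∈ b ↔ χ ∈ b
  rw [irrComp_irrComp_symm e.symm]

theorem transBlock_transBlock_symm (b : Set (IrrCharacter H)) :
    transBlock e (transBlock e.symm b) = b :=
  transBlock_symm_transBlock e.symm b

/-- The transport of a defect group. -/
theorem isDefectGroup_transBlock {b : Set (IrrCharacter K)} {D : Subgroup K} (hD : IsDefectGroup p M b D) :
    IsDefectGroup p M (transBlock e b) (D.comap e.toMonoidHom) := by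
  classical
  obtain ⟨g, hg, hS⟩ := isDefectGroup_iff.mp hD
  refine isDefectGroup_iff.mpr ⟨e.symm g, ⟨?_, ?_, ?_⟩, ?_⟩
  · rw [blockCoeff_transBlock, MulEquiv.apply_symm_apply]
    exact hg.1
  · rw [blockCoeff_transBlock, MulEquiv.apply_symm_apply]
    exact hg.2.1
  · intro χ hχ
    have h1 : irrComp e.symm χ ∈ b := hχ
    have h2 := hg.2.2 _ h1
    have h3 : (χ : H → ℂ) = ((irrComp e.symm χ : IrrCharacter K) : K → ℂ) ∘ e := by
      funext k
      simp [irrComp]
    rw [h3, centralChar_comp_equiv, MulEquiv.apply_symm_apply]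
    exact h2
  · have hcen : ∀ t : H, t ∈ Subgroup.centralizer ({e.symm g} : Set H) ↔
        e t ∈ Subgroup.centralizer ({g} : Set K) := by
      intro t
      rw [Subgroup.mem_centralizer_singleton_iff, Subgroup.mem_centralizer_singleton_iff]
      constructor
      · intro h
        have := congrArg e h
        simpa using this
      · intro h
        apply e.injective
        simpa using h
    refine isSylowIn_of_maximal ?_ ?_ ?_
    · intro t ht
      exact (hcen t).mpr (hS.le ht)
    · exact hS.isPGroup.comap_of_injective e.toMonoidHom e.injective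
    · intro Q hQ hQC hDQ
      have h1 : Q.map e.toMonoidHom = D := by
        refine hS.eq_of_le (hQ.map _) ?_ ?_
        · rintro _ ⟨t, ht, rfl⟩
          exact (hcen t).mp (hQC ht)
        · intro d hd
          refine ⟨e.symm d, hDQ ?_, by simp⟩
          show e (e.symm d) ∈ D
          simpa using hd
      rw [← h1]
      exact (Subgroup.comap_map_eq_self_of_injective e.injective Q).symm

end Transport

section Over

variable {G : Type u} [Group G] [Fintype G] {M : Ideal AlgInt} {p : ℕ} [hp : Fact p.Prime]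
  {P H : Subgroup G}

/-- The normalizer of `P` inside an overgroup `H` of `N_G(P)` is `N_G(P)`. -/
def normEquiv (hH : Subgroup.normalizer (P : Set G) ≤ H) :
    Subgroup.normalizer (((P.subgroupOf H : Subgroup H)) : Set H) ≃* Subgroup.normalizer (P : Set G) where
  toFun t := ⟨((t : H) : G), by
    rw [Subgroup.mem_normalizer_iff]
    intro g
    by_cases hg : g ∈ H
    · have h1 := (Subgroup.mem_normalizer_iff.mp t.2) ⟨g, hg⟩
      simpa [Subgroup.mem_subgroupOf] using h1
    · have hPH : P ≤ H := Subgroup.le_normalizer.trans hH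
      constructor
      · intro h; exact absurd (hPH h) hg
      · intro h
        have h2 : (((t : H) : G)) * g * ((t : H) : G)⁻¹ ∈ H := hPH h
        exfalso
        apply hg
        have h3 : ((t : H) : G)⁻¹ * ((((t : H) : G)) * g * ((t : H) : G)⁻¹) * ((t : H) : G) = g := by group
        rw [← h3]
        exact H.mul_mem (H.mul_mem (H.inv_mem (t : H).2) h2) (t : H).2⟩
  invFun n := ⟨⟨(n : G), hH n.2⟩, by
    rw [Subgroup.mem_normalizer_iff]
    intro g
    have h1 := (Subgroup.mem_normalizer_iff.mp n.2) (g : G)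
    simpa [Subgroup.mem_subgroupOf] using h1⟩
  left_inv t := by rfl
  right_inv n := by rfl
  map_mul' s t := by rfl

@[simp] theorem normEquiv_coe (hH : Subgroup.normalizer (P : Set G) ≤ H)
    (t : Subgroup.normalizer (((P.subgroupOf H : Subgroup H)) : Set H)) :
    ((normEquiv hH t : Subgroup.normalizer (P : Set G)) : G) = ((t : H) : G) := rfl

@[simp] theorem normEquiv_symm_coe (hH : Subgroup.normalizer (P : Set G) ≤ H)
    (n : Subgroup.normalizer (P : Set G)) :
    (((normEquiv hH).symm n : Subgroup.normalizer (((P.subgroupOf H : Subgroup H)) : Set H)) : H).1 = (n : G) := rfl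

theorem comap_normEquiv (hH : Subgroup.normalizer (P : Set G) ≤ H) :
    (P.subgroupOf (Subgroup.normalizer (P : Set G))).comap (normEquiv hH).toMonoidHom =
      (P.subgroupOf H).subgroupOf (Subgroup.normalizer (((P.subgroupOf H : Subgroup H)) : Set H)) := by
  ext t
  simp [Subgroup.mem_subgroupOf]

theorem comap_normEquiv_symm (hH : Subgroup.normalizer (P : Set G) ≤ H) :
    ((P.subgroupOf H).subgroupOf (Subgroup.normalizer (((P.subgroupOf H : Subgroup H)) : Set H))).comap
        (normEquiv hH).symm.toMonoidHom =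
      P.subgroupOf (Subgroup.normalizer (P : Set G)) := by
  ext t
  simp [Subgroup.mem_subgroupOf]

variable [Fintype H] [Fintype (Subgroup.normalizer (P : Set G))]
  [Fintype (Subgroup.normalizer (((P.subgroupOf H : Subgroup H)) : Set H))]

/-- The relation in the statement. -/
def BrRel (M : Ideal AlgInt) (P H : Subgroup G) (B : Set (IrrCharacter G)) (c : Set (IrrCharacter H)) : Prop :=
  ∀ x : G, x ∈ Subgroup.centralizer (P : Set G) → MemLocalIdeal M (blockCoeff B x - subgroupBlockCoeff H c x)

theorem brRel_apply (hH : Subgroup.normalizer (P : Set G) ≤ H)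
    (B : Set (IrrCharacter G)) (c : Set (IrrCharacter H)) {x : G} (hx : x ∈ Subgroup.centralizer (P : Set G))
    (hxH : x ∈ H) :
    blockCoeff B x - subgroupBlockCoeff H c x = coef (indic B) x - coef (indic c) (⟨x, hxH⟩ : H) := by
  rw [blockCoeff_eq_coef, subgroupBlockCoeff, dif_pos hxH, blockCoeff_eq_coef]

omit [Fintype (Subgroup.normalizer (P : Set G))]
  [Fintype (Subgroup.normalizer (((P.subgroupOf H : Subgroup H)) : Set H))] in
theorem normalizer_coe_mem_centralizer_iff (hH : Subgroup.normalizer (P : Set G) ≤ H)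
    (t : Subgroup.normalizer (((P.subgroupOf H : Subgroup H)) : Set H)) :
    ((t : H) : H) ∈ Subgroup.centralizer (((P.subgroupOf H : Subgroup H)) : Set H) ↔
      ((t : H) : G) ∈ Subgroup.centralizer (P : Set G) :=
  mem_centralizer_subgroupOf P (Subgroup.le_normalizer.trans hH) (t : H)

theorem brRel_of_match [M.IsPrime] (hH : Subgroup.normalizer (P : Set G) ≤ H)
    {B : Set (IrrCharacter G)} {c : Set (IrrCharacter H)} {b : Set (IrrCharacter (Subgroup.normalizer (P : Set G)))}
    (h₁ : BrMatch M P B b) (h₂ : BrMatch M (P.subgroupOf H) c (transBlock (normEquiv hH) b)) :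
    BrRel M P H B c := by
  intro x hx
  have hxN : x ∈ Subgroup.normalizer (P : Set G) :=
    Subgroup.centralizer_le_normalizer _ hx
  rw [brRel_apply hH B c hx (hH hxN)]
  have h3 := h₁ ⟨x, hxN⟩
  rw [brT_of_mem _ _ _ hx] at h3
  have h4 := h₂ ((normEquiv hH).symm ⟨x, hxN⟩)
  rw [brT_of_mem _ _ _ ((normalizer_coe_mem_centralizer_iff hH _).mpr hx), coef_indic_transBlock,
    MulEquiv.apply_symm_apply] at h4
  exact MemLocalIdeal.trans h3 (MemLocalIdeal.symm h4)

theorem brMatch_of_rel [M.IsPrime] (hH : Subgroup.normalizer (P : Set G) ≤ H)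
    {B : Set (IrrCharacter G)} {c : Set (IrrCharacter H)}
    {d : Set (IrrCharacter (Subgroup.normalizer (((P.subgroupOf H : Subgroup H)) : Set H)))}
    (h₁ : BrRel M P H B c) (h₂ : BrMatch M (P.subgroupOf H) c d) :
    BrMatch M P B (transBlock (normEquiv hH).symm d) := by
  intro n
  have h4 := h₂ ((normEquiv hH).symm n)
  rw [coef_indic_transBlock]
  by_cases hn : (n : G) ∈ Subgroup.centralizer (P : Set G)
  · rw [brT_of_mem _ _ _ ((normalizer_coe_mem_centralizer_iff hH _).mpr hn)] at h4
    rw [brT_of_mem _ _ _ hn]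
    have h5 := h₁ _ hn
    rw [brRel_apply hH B c hn (hH n.2)] at h5
    exact MemLocalIdeal.trans h5 h4
  · rw [brT_of_notMem _ _ _ (fun h => hn ((normalizer_coe_mem_centralizer_iff hH _).mp h))] at h4
    rw [brT_of_notMem _ _ _ hn]
    exact h4

theorem brMatch_of_rel' [M.IsPrime] (hH : Subgroup.normalizer (P : Set G) ≤ H)
    {B : Set (IrrCharacter G)} {c : Set (IrrCharacter H)}
    {b : Set (IrrCharacter (Subgroup.normalizer (P : Set G)))}
    (h₁ : BrRel M P H B c) (h₂ : BrMatch M P B b) :
    BrMatch M (P.subgroupOf H) c (transBlock (normEquiv hH) b) := by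
  intro t
  have h4 := h₂ (normEquiv hH t)
  rw [coef_indic_transBlock]
  by_cases hn : ((t : H) : G) ∈ Subgroup.centralizer (P : Set G)
  · rw [brT_of_mem _ _ _ (show ((normEquiv hH t : Subgroup.normalizer (P : Set G)) : G) ∈ _ from hn)] at h4
    rw [brT_of_mem _ _ _ ((normalizer_coe_mem_centralizer_iff hH _).mpr hn)]
    have h5 := h₁ _ hn
    rw [brRel_apply hH B c hn (t : H).2] at h5
    exact MemLocalIdeal.trans (MemLocalIdeal.symm h5) h4
  · rw [brT_of_notMem _ _ _ (show ((normEquiv hH t : Subgroup.normalizer (P : Set G)) : G) ∉ _ from hn)] at h4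
    rw [brT_of_notMem _ _ _ (fun h => hn ((normalizer_coe_mem_centralizer_iff hH _).mp h))]
    exact h4

/-- The Brauer correspondence over an overgroup of the normalizer, first half. -/
theorem brauer_corr_left (hM : IsPModular p M) (hP : IsPGroup p P)
    (hH : Subgroup.normalizer (P : Set G) ≤ H) {B : Set (IrrCharacter G)} (hB : IsPBlock M B)
    (hD : IsDefectGroup p M B P) :
    ∃! c : Set (IrrCharacter H), IsPBlock M c ∧ IsDefectGroup p M c (P.subgroupOf H) ∧
      BrRel M P H B c := by
  have := isPrime_of_modular hM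
  have hQ : IsPGroup p (P.subgroupOf H) := isPGroup_subgroupOf hP H
  obtain ⟨b, hb, hbD, -, hm⟩ := brMatch_exists_left hM hP hB hD
  have hbt := isPBlock_transBlock (normEquiv hH) hb
  have hbtD := isDefectGroup_transBlock (normEquiv hH) hbD
  rw [comap_normEquiv hH] at hbtD
  obtain ⟨c, hc, hcD, -, hmc⟩ := brMatch_exists_right hM hQ hbt hbtD
  refine ⟨c, ⟨hc, hcD, brRel_of_match hH hm hmc⟩, ?_⟩
  rintro c' ⟨hc', hcD', hrel⟩
  have hmc' := brMatch_of_rel' hH hrel hm
  exact brMatch_unique_left hM hQ hc' hc hcD' hcD hbt hmc' hmc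

/-- The Brauer correspondence over an overgroup of the normalizer, second half. -/
theorem brauer_corr_right (hM : IsPModular p M) (hP : IsPGroup p P)
    (hH : Subgroup.normalizer (P : Set G) ≤ H) {c : Set (IrrCharacter H)} (hc : IsPBlock M c)
    (hcD : IsDefectGroup p M c (P.subgroupOf H)) :
    ∃! B : Set (IrrCharacter G), IsPBlock M B ∧ IsDefectGroup p M B P ∧ BrRel M P H B c := by
  have := isPrime_of_modular hM
  have hQ : IsPGroup p (P.subgroupOf H) := isPGroup_subgroupOf hP H
  obtain ⟨d, hd, hdD, -, hmd⟩ := brMatch_exists_left hM hQ hc hcD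
  have hbt := isPBlock_transBlock (normEquiv hH).symm hd
  have hbtD := isDefectGroup_transBlock (normEquiv hH).symm hdD
  rw [comap_normEquiv_symm hH] at hbtD
  obtain ⟨B, hB, hBD, -, hmB⟩ := brMatch_exists_right hM hP hbt hbtD
  refine ⟨B, ⟨hB, hBD, brRel_of_match hH hmB ?_⟩, ?_⟩
  · have : transBlock (normEquiv hH) (transBlock (normEquiv hH).symm d) = d :=
      transBlock_transBlock_symm (normEquiv hH) d
    rw [this]
    exact hmd
  · rintro B' ⟨hB', hBD', hrel⟩
    have hmB' := brMatch_of_rel hH hrel hmd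
    exact brMatch_unique_left hM hP hB' hB hBD' hBD hbt hmB' hmB

end Over

end Cfsg.Agent.Lib.Blocks
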