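import Cfsg.Agent.Lib.H8Group.KnorrKey
import Cfsg.Agent.Lib.H8Group.GradedNil

/-!
# A block of `G` covering a block `b` of `N ⊴ G` lies over every member of `b`

The argument runs in the `G/N`-graded centralizer of `N` in the residue group algebra: the idempotent
of the block is homogeneous-nilpotent in case some member of `b` lay under no member of the block.
-/

set_option autoImplicit false
set_option linter.unusedSectionVars false

namespace Cfsg.Agent.Lib.Blocks

open Cfsg Cfsg.Agent.Lib.Char Cfsg.Agent.Lib.H8Group MonoidAlgebra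
open scoped ComplexConjugate

universe u

section Vanish

variable {G : Type u} [Group G] [Fintype G] (N : Subgroup G) [Fintype N]

/-- The twisted sum against a character which is not a constituent vanishes. -/
theorem sum_conj_mul_eq_zero_of_classInner (χ : IrrCharacter G) (ψ : IrrCharacter N)
    (h : classInner (fun n : N => (χ : G → ℂ) n) (ψ : N → ℂ) = 0) (u : G) :
    ∑ w : N, conj ((ψ : N → ℂ) w) * (χ : G → ℂ) ((w : G) * u) = 0 := by
  classical
  set Φ : G → ℂ := fun u => ∑ w : N, conj ((ψ : N → ℂ) w) * (χ : G → ℂ) ((w : G) * u) with hΦ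
  have hcχ := irr_isClassFunction χ
  have hcψ := irr_isClassFunction ψ
  have hχ1 : (χ : G → ℂ) 1 ≠ 0 := irr_apply_one_ne_zero χ
  have hψ1 : (ψ : N → ℂ) 1 ≠ 0 := irr_apply_one_ne_zero ψ
  have hψ1r : conj ((ψ : N → ℂ) 1) = (ψ : N → ℂ) 1 := by
    have h1 := irr_apply_inv ψ 1
    simpa using h1.symm
  have hinner : ∑ r : N, (χ : G → ℂ) r * conj ((ψ : N → ℂ) r) = 0 := by
    have h2 : (Nat.card N : ℂ)⁻¹ ≠ 0 := inv_ne_zero card_ne_zero_complex
    have h3 : classInner (fun n : N => (χ : G → ℂ) n) (ψ : N → ℂ) =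
        (Nat.card N : ℂ)⁻¹ * ∑ r : N, (χ : G → ℂ) r * conj ((ψ : N → ℂ) r) := rfl
    rw [h3] at h
    exact (mul_eq_zero.mp h).resolve_left h2
  -- the inner sum over `u`
  have hu : ∀ w w' : N, ∑ u : G, (χ : G → ℂ) ((w : G) * u) * conj ((χ : G → ℂ) ((w' : G) * u)) =
      (Nat.card G : ℂ) / (χ : G → ℂ) 1 * (χ : G → ℂ) ((w : G) * (w' : G)⁻¹) := by
    intro w w'
    have h1 := sum_conj_irr_mul_irr χ.2 χ.2 ((w : G) * (w' : G)⁻¹)
    rw [if_pos rfl] at h1
    rw [← h1]
    refine Fintype.sum_equiv (Equiv.mulLeft (w' : G)) _ _ fun u => ?_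
    simp only [Equiv.coe_mulLeft]
    rw [mul_comm]
    congr 1
    have h2 := hcχ (u * (w : G)) (w' : G)
    have h3 := hcχ ((w : G) * u) (w : G)⁻¹
    have h4 : (w' : G) * (u * (w : G)) * (w' : G)⁻¹ = (w' : G) * u * ((w : G) * (w' : G)⁻¹) := by group
    have h5 : (w : G)⁻¹ * ((w : G) * u) * (w : G)⁻¹⁻¹ = u * (w : G) := by group
    rw [h5] at h3
    rw [← h4, h2, h3]
  -- the sum over `w'`
  have hw : ∀ r : N, ∑ w' : N, conj ((ψ : N → ℂ) (r * w')) * (ψ : N → ℂ) w' =
      (Nat.card N : ℂ) / (ψ : N → ℂ) 1 * conj ((ψ : N → ℂ) r) := by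
    intro r
    have h1 := sum_conj_irr_mul_irr ψ.2 ψ.2 r
    rw [if_pos rfl] at h1
    have h2 : ∀ w' : N, conj ((ψ : N → ℂ) (r * w')) * (ψ : N → ℂ) w' =
        conj (conj ((ψ : N → ℂ) w') * (ψ : N → ℂ) (w' * r)) := by
      intro w'
      have h5 : (ψ : N → ℂ) (r * w') = (ψ : N → ℂ) (w' * r) := by
        have h8 := hcψ (w' * r) w'⁻¹
        have h9 : w'⁻¹ * (w' * r) * w'⁻¹⁻¹ = r * w' := by group
        rw [h9] at h8
        exact h8
      rw [map_mul, Complex.conj_conj, h5, mul_comm]
    rw [Finset.sum_congr rfl fun w' _ => h2 w', ← map_sum, h1, map_mul, map_div₀, Complex.conj_natCast,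
      hψ1r]
  have key : ∑ u : G, Φ u * conj (Φ u) = 0 := by
    have h1 : ∀ u : G, Φ u * conj (Φ u) = ∑ w : N, ∑ w' : N, (conj ((ψ : N → ℂ) w) * (ψ : N → ℂ) w') *
        ((χ : G → ℂ) ((w : G) * u) * conj ((χ : G → ℂ) ((w' : G) * u))) := by
      intro u
      simp only [hΦ, map_sum, map_mul, Complex.conj_conj]
      rw [Finset.sum_mul_sum]
      refine Finset.sum_congr rfl fun w _ => Finset.sum_congr rfl fun w' _ => ?_
      ring
    rw [Finset.sum_congr rfl fun u _ => h1 u, Finset.sum_comm]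
    have h2 : ∀ w : N, ∑ u : G, ∑ w' : N, (conj ((ψ : N → ℂ) w) * (ψ : N → ℂ) w') *
        ((χ : G → ℂ) ((w : G) * u) * conj ((χ : G → ℂ) ((w' : G) * u))) =
        ∑ w' : N, (conj ((ψ : N → ℂ) w) * (ψ : N → ℂ) w') * ((Nat.card G : ℂ) / (χ : G → ℂ) 1 *
          (χ : G → ℂ) ((w : G) * (w' : G)⁻¹)) := by
      intro w
      rw [Finset.sum_comm]
      refine Finset.sum_congr rfl fun w' _ => ?_
      rw [← Finset.mul_sum, hu]
    rw [Finset.sum_congr rfl fun w _ => h2 w, Finset.sum_comm]
    have h3 : ∀ w' : N, ∑ w : N, (conj ((ψ : N → ℂ) w) * (ψ : N → ℂ) w') * ((Nat.card G : ℂ) / (χ : G → ℂ) 1 *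
          (χ : G → ℂ) ((w : G) * (w' : G)⁻¹)) =
        ∑ r : N, (conj ((ψ : N → ℂ) (r * w')) * (ψ : N → ℂ) w') * ((Nat.card G : ℂ) / (χ : G → ℂ) 1 *
          (χ : G → ℂ) (r : G)) := by
      intro w'
      symm
      refine Fintype.sum_equiv (Equiv.mulRight w') _ _ fun r => ?_
      simp
    rw [Finset.sum_congr rfl fun w' _ => h3 w', Finset.sum_comm]
    have h4 : ∀ r : N, ∑ w' : N, (conj ((ψ : N → ℂ) (r * w')) * (ψ : N → ℂ) w') *
        ((Nat.card G : ℂ) / (χ : G → ℂ) 1 * (χ : G → ℂ) (r : G)) =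
        ((Nat.card G : ℂ) / (χ : G → ℂ) 1 * ((Nat.card N : ℂ) / (ψ : N → ℂ) 1)) *
          ((χ : G → ℂ) r * conj ((ψ : N → ℂ) r)) := by
      intro r
      rw [← Finset.sum_mul, hw]
      ring
    rw [Finset.sum_congr rfl fun r _ => h4 r, ← Finset.mul_sum, hinner, mul_zero]
  have h0 : ∑ u : G, Complex.normSq (Φ u) = 0 := by
    have h1 : ((∑ u : G, Complex.normSq (Φ u) : ℝ) : ℂ) = 0 := by
      rw [Complex.ofReal_sum, ← key]
      exact Finset.sum_congr rfl fun u _ => (Complex.mul_conj _).symm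
    exact_mod_cast h1
  have h1 := (Finset.sum_eq_zero_iff_of_nonneg fun u _ => Complex.normSq_nonneg (Φ u)).mp h0 u
    (Finset.mem_univ u)
  exact Complex.normSq_eq_zero.mp h1

end Vanish

section Nil

variable {G : Type u} [Group G] [Fintype G] (N : Subgroup G) [hN : N.Normal] [Fintype N]
  {p : ℕ} [hp : Fact p.Prime] {M : Ideal AlgInt}

/-- The idempotent of a set of characters not lying over `ψ` is orthogonal to `ψ`. -/
theorem sum_coef_mul_extend_eq_zero {B : Set (IrrCharacter G)} {ψ : IrrCharacter N}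
    (h : ∀ χ ∈ B, classInner (fun n : N => (χ : G → ℂ) n) (ψ : N → ℂ) = 0) (u : G) :
    ∑ x : G, coef (indic B) x * extendByZero N (ψ : N → ℂ) (x * u) = 0 := by
  classical
  have h1 : ∀ x : G, coef (indic B) x * extendByZero N (ψ : N → ℂ) (x * u) =
      (Nat.card G : ℂ)⁻¹ * ∑ χ : IrrCharacter G, indic B χ * ((χ : G → ℂ) 1 *
        (conj ((χ : G → ℂ) x) * extendByZero N (ψ : N → ℂ) (x * u))) := by
    intro x
    rw [coef, mul_assoc, Finset.sum_mul]
    congr 1
    refine Finset.sum_congr rfl fun χ _ => ?_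
    ring
  rw [Finset.sum_congr rfl fun x _ => h1 x, ← Finset.mul_sum, Finset.sum_comm]
  have h2 : ∀ χ : IrrCharacter G, ∑ x : G, indic B χ * ((χ : G → ℂ) 1 *
        (conj ((χ : G → ℂ) x) * extendByZero N (ψ : N → ℂ) (x * u))) = 0 := by
    intro χ
    by_cases hχ : χ ∈ B
    · rw [← Finset.mul_sum, ← Finset.mul_sum]
      have h3 : ∑ x : G, conj ((χ : G → ℂ) x) * extendByZero N (ψ : N → ℂ) (x * u) =
          ∑ g : G, extendByZero N (ψ : N → ℂ) g * conj ((χ : G → ℂ) (g * u⁻¹)) := by
        refine Fintype.sum_equiv (Equiv.mulRight u) _ _ fun x => ?_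
        simp [mul_comm]
      rw [h3, sum_extendByZero_mul]
      have h4 := sum_conj_mul_eq_zero_of_classInner N χ ψ (h χ hχ) u⁻¹
      have h5 := congrArg (starRingEnd ℂ) h4
      simp only [map_sum, map_mul, Complex.conj_conj, map_zero] at h5
      rw [h5]
      simp
    · rw [indic_apply_of_notMem hχ]
      simp
  rw [Finset.sum_eq_zero fun χ _ => h2 χ, mul_zero]

/-- The value at `ψ` of the restriction to `N` of a multiple of the idempotent vanishes. -/
theorem spec_res_conv_eq_zero {B : Set (IrrCharacter G)} {ψ : IrrCharacter N}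
    (h : ∀ χ ∈ B, classInner (fun n : N => (χ : G → ℂ) n) (ψ : N → ℂ) = 0) (v : G → ℂ) :
    spec (fun n : N => conv (coef (indic B)) v n) ψ = 0 := by
  classical
  have h1 : ∑ n : N, conv (coef (indic B)) v n * (ψ : N → ℂ) n = 0 := by
    have h2 : ∑ n : N, conv (coef (indic B)) v n * (ψ : N → ℂ) n =
        ∑ g : G, extendByZero N (ψ : N → ℂ) g * conv (coef (indic B)) v g := by
      rw [sum_extendByZero_mul]
      exact Finset.sum_congr rfl fun n _ => mul_comm _ _
    rw [h2]
    have h3 : ∀ g : G, extendByZero N (ψ : N → ℂ) g * conv (coef (indic B)) v g =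
        ∑ x : G, coef (indic B) x * v (x⁻¹ * g) * extendByZero N (ψ : N → ℂ) g := by
      intro g
      rw [conv, Finset.mul_sum]
      refine Finset.sum_congr rfl fun x _ => ?_
      ring
    rw [Finset.sum_congr rfl fun g _ => h3 g, Finset.sum_comm]
    have h4 : ∀ x : G, ∑ g : G, coef (indic B) x * v (x⁻¹ * g) * extendByZero N (ψ : N → ℂ) g =
        ∑ u : G, coef (indic B) x * v u * extendByZero N (ψ : N → ℂ) (x * u) := by
      intro x
      symm
      refine Fintype.sum_equiv (Equiv.mulLeft x) _ _ fun u => ?_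
      simp
    rw [Finset.sum_congr rfl fun x _ => h4 x, Finset.sum_comm]
    have h5 : ∀ u : G, ∑ x : G, coef (indic B) x * v u * extendByZero N (ψ : N → ℂ) (x * u) =
        v u * ∑ x : G, coef (indic B) x * extendByZero N (ψ : N → ℂ) (x * u) := by
      intro u
      rw [Finset.mul_sum]
      refine Finset.sum_congr rfl fun x _ => ?_
      ring
    rw [Finset.sum_congr rfl fun u _ => h5 u]
    refine Finset.sum_eq_zero fun u _ => ?_
    rw [sum_coef_mul_extend_eq_zero N h, mul_zero]
  rw [spec, h1, zero_div]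

/-- An element of the centre of `κ N` lifted to a class function vanishing modulo the ideal on a
union of blocks, and carried by that union, is nilpotent. -/
theorem isNilpotent_of_spec_memLocalIdeal (hM : IsPModular p M) [M.IsPrime] {Γ : Set (IrrCharacter N)}
    (hΓ : indic Γ ∈ zS M N) {y : MonoidAlgebra (ResF M) G} {a : N → ℂ} (hac : IsClassFunction N a)
    (haS : ∀ n, MemLocalRing M (a n)) (hya : rhoF M (extendByZero N a) = y)
    (hε : y * psiN N M (indic Γ) = y) (hI : ∀ θ ∈ Γ, MemLocalIdeal M (spec a θ)) : IsNilpotent y := by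
  classical
  have hc : spec a ∈ zS M N := spec_mem_zS hac haS
  have hca : coef (spec a) = a := coef_spec a hac
  have hψc : psiN N M (spec a) = y := by
    rw [psiN, hca, hya]
  have hc' : ∀ θ, MemLocalIdeal M ((spec a * indic Γ) θ) := by
    intro θ
    rw [Pi.mul_apply]
    by_cases hθ : θ ∈ Γ
    · rw [indic_apply_of_mem hθ, mul_one]
      exact hI θ hθ
    · rw [indic_apply_of_notMem hθ, mul_zero]
      exact memLocalIdeal_zero
  obtain ⟨n, hn, hcoef⟩ := exists_pow_coef_memLocalIdeal hM hc'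
  obtain ⟨m, rfl⟩ := Nat.exists_eq_succ_of_ne_zero hn
  have h3 : psiN N M ((spec a * indic Γ) ^ (m + 1)) = 0 := by
    apply alg_ext
    intro g
    show resC M (extendByZero N (coef ((spec a * indic Γ) ^ (m + 1))) g) = 0
    by_cases hg : g ∈ N
    · rw [extendByZero_of_mem N _ hg]
      exact (resC_eq_zero_iff (MemLocalIdeal.memLocalRing (hcoef _))).mpr (hcoef _)
    · rw [extendByZero_of_notMem N _ hg, resC_zero]
  rw [psiN_pow N (Subring.mul_mem _ hc hΓ), psiN_mul N hc hΓ, hψc, hε] at h3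
  exact ⟨_, h3⟩

/-- **A covering block covers every member of the covered block.** -/
theorem exists_over_of_covering (hM : IsPModular p M) {b : Set (IrrCharacter N)} (hb : IsPBlock M b)
    {B : Set (IrrCharacter G)} (hB : IsPBlock M B)
    (hcov : ∃ χ ∈ B, ∃ θ ∈ b, classInner (fun n : N => (χ : G → ℂ) n) (θ : N → ℂ) ≠ 0)
    {ψ : IrrCharacter N} (hψ : ψ ∈ b) :
    ∃ χ ∈ B, classInner (fun n : N => (χ : G → ℂ) n) (ψ : N → ℂ) ≠ 0 := by
  classical
  have := isPrime_of_modular hM
  by_contra hcon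
  push Not at hcon
  letI : Fintype (G ⧸ N) := Fintype.ofFinite _
  have hS := indic_mem_zS hB
  set Γ : Set (IrrCharacter N) := gSat (G := G) N b with hΓdef
  have hbc : ∀ θ ∈ b, blockOf M (θ : N → ℂ) ⊆ b := by
    intro θ hθ
    rw [← blockOf_eq_of_mem hb hθ]
  have hΓcl : ∀ θ ∈ Γ, blockOf M (θ : N → ℂ) ⊆ Γ := gSat_closed N hbc
  have hΓinv : ∀ (g : G) θ, θ ∈ Γ → conjIrr N g θ ∈ Γ := fun g θ h => gSat_invariant N h g
  have hΓS : indic Γ ∈ zS M N := indic_mem_zS_of_closed hΓcl
  -- the covering set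
  have hzX : indic (covSet (G := G) N Γ) ∈ zS M G := by
    rw [← spec_covFun N hΓinv]
    exact spec_mem_zS (covFun_isClassFunction N hΓinv) (extendByZero_memLocalRing N (fun x => hΓS x))
  have hsub : B ⊆ covSet (G := G) N Γ := by
    intro χ hχ
    obtain ⟨χ₀, hχ₀, θ₀, hθ₀, h₀⟩ := hcov
    obtain ⟨ψ', hψ'⟩ := exists_constituent N χ
    obtain ⟨g, hg⟩ := covering_constituents N hB hb hχ₀ hχ hθ₀ h₀ hψ'
    exact ⟨ψ', ⟨g, hg⟩, hψ'⟩
  -- the orbit of `ψ` lies under no member of `B`
  have hcon' : ∀ (g : G) (χ : IrrCharacter G), χ ∈ B →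
      classInner (fun n : N => (χ : G → ℂ) n) ((conjIrr N g ψ : IrrCharacter N) : N → ℂ) = 0 := by
    intro g χ hχ
    rw [classInner_conjIrr]
    exact hcon χ hχ
  -- every member of the saturation is in the block of a conjugate of `ψ`
  have hconjb : ∀ θ ∈ Γ, ∃ g : G, conjIrr N g ψ ∈ blockOf M (θ : N → ℂ) := by
    rintro θ ⟨g, hg⟩
    refine ⟨g⁻¹, ?_⟩
    have h1 : SameBlock M ((conjIrr N g θ : IrrCharacter N) : N → ℂ) (ψ : N → ℂ) :=
      sameBlock_of_mem hb hg hψ
    have h2 := sameBlock_conjIrr N g⁻¹ h1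
    rw [← conjIrr_mul, inv_mul_cancel, conjIrr_one] at h2
    exact h2
  have hecen : rhoBlock M B ∈ cenN N := by
    apply rhoF_mem_cenN_of_class
    intro n _ g
    exact coef_isClassFunction _ g n
  let e : cenN (F := ResF M) N := ⟨rhoBlock M B, hecen⟩
  have he : e * e = e := Subtype.ext (rhoBlock_mul_self hB)
  have hεS : ∀ g, (psiN N M (indic Γ)).coeff g ≠ 0 → g ∈ N := fun g hg => psiN_supp N _ hg
  have hεe : rhoBlock M B * psiN N M (indic Γ) = rhoBlock M B := by
    have h1 : psiN N M (indic Γ) = rhoF M (coef (indic (covSet (G := G) N Γ))) := by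
      rw [coef_indic_covSet N hΓinv]
      rfl
    have h2 : indic B * indic (covSet (G := G) N Γ) = indic B := by
      funext χ
      by_cases hχ : χ ∈ B
      · simp [hχ, hsub hχ]
      · simp [hχ]
    have h3 := coef_mul (indic B) (indic (covSet (G := G) N Γ))
    rw [h2] at h3
    rw [h1, rhoBlock, ← rhoF_conv (fun x => hS x) (fun x => hzX x), ← h3]
  let ε : cenN (F := ResF M) N := ⟨psiN N M (indic Γ), psiN_mem_cenN N _⟩
  have hε1 : ε ∈ homS N 1 := by
    intro g hg
    exact (QuotientGroup.eq_one_iff g).mpr (hεS g hg)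
  have hcompε : ∀ t, homComp N e t * ε = homComp N e t := by
    intro t
    apply Subtype.ext
    show resCoset N t (rhoBlock M B) * psiN N M (indic Γ) = resCoset N t (rhoBlock M B)
    rw [resCoset_mul_of_supp N t _ _ hεS, hεe]
  have hzero : e = 0 := by
    refine eq_zero_of_graded_idempotent (H := homS N) (x := homComp N e) (one_mem_homS N) (mul_mem_homS N)
      (homComp_mem N e) ?_ he (sum_homComp N e)
    intro t v hv
    have hy1 : homComp N e t * v ∈ homS N 1 := by
      have := mul_mem_homS N t t⁻¹ _ _ (homComp_mem N e t) hv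
      rwa [mul_inv_cancel] at this
    refine ⟨?_, homS_one_central N hy1⟩
    -- the lift
    choose s hs hs' using fun f : ResF M => exists_resC_eq (M := M) f
    let vh : G → ℂ := fun g => s ((v : MonoidAlgebra (ResF M) G).coeff g)
    have hvhS : ∀ g, MemLocalRing M (vh g) := fun g => hs _
    have hvhr : ∀ g, resC M (vh g) = (v : MonoidAlgebra (ResF M) G).coeff g := fun g => hs' _
    have hvc : ∀ n ∈ N, ∀ g, (v : MonoidAlgebra (ResF M) G).coeff (n * g * n⁻¹) =
        (v : MonoidAlgebra (ResF M) G).coeff g := fun n hn g => mem_cenN_iff.mp v.2 n hn g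
    let a : N → ℂ := fun n => conv (coef (indic B)) vh n
    have hac : IsClassFunction N a := by
      intro n m
      show conv (coef (indic B)) vh ((m * n * m⁻¹ : N) : G) = conv (coef (indic B)) vh n
      simp only [conv]
      refine Fintype.sum_equiv (MulAut.conj (m : G)⁻¹).toEquiv _ _ fun x => ?_
      simp only [MulEquiv.toEquiv_eq_coe, EquivLike.coe_coe, MulAut.conj_apply, inv_inv]
      have hc1 := coef_isClassFunction (indic B) x ((m : G)⁻¹)
      rw [inv_inv] at hc1
      rw [hc1]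
      congr 1
      simp only [vh]
      congr 1
      have h2 := hvc (m : G) m.2 (((m : G)⁻¹ * x * (m : G))⁻¹ * n)
      rw [← h2]
      congr 1
      push_cast
      group
    have haS : ∀ n, MemLocalRing M (a n) := fun n =>
      MemLocalRing.sum _ fun x _ => MemLocalRing.mul (hS x) (hvhS _)
    have hsupp : ∀ g, ((homComp N e t * v : cenN (F := ResF M) N) : MonoidAlgebra (ResF M) G).coeff g ≠ 0 →
        g ∈ N := fun g hg => (QuotientGroup.eq_one_iff g).mp (hy1 g hg)
    have hya : rhoF M (extendByZero N a) =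
        ((homComp N e t * v : cenN (F := ResF M) N) : MonoidAlgebra (ResF M) G) := by
      apply alg_ext
      intro g
      rw [coeff_rhoF]
      by_cases hg : g ∈ N
      · rw [extendByZero_of_mem N _ hg]
        show resC M (conv (coef (indic B)) vh g) = _
        rw [conv, resC_sum _ _ fun x _ => MemLocalRing.mul (hS x) (hvhS _), Subring.coe_mul, coeff_mul_eq_sum]
        refine Finset.sum_congr rfl fun x _ => ?_
        rw [resC_mul (hS x) (hvhS _), hvhr]
        show (rhoBlock M B).coeff x * _ = (resCoset N t (rhoBlock M B)).coeff x * _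
        rw [coeff_resCoset]
        by_cases hx : (x : G ⧸ N) = t
        · rw [if_pos hx]
        · rw [if_neg hx, zero_mul]
          have h0 : (v : MonoidAlgebra (ResF M) G).coeff (x⁻¹ * g) = 0 := by
            by_contra h0
            have h1 := hv _ h0
            apply hx
            have h2 : ((x⁻¹ * g : G) : G ⧸ N) = (x : G ⧸ N)⁻¹ := by
              rw [QuotientGroup.mk_mul, (QuotientGroup.eq_one_iff g).mpr hg, mul_one, QuotientGroup.mk_inv]
            rw [h2] at h1
            exact inv_injective h1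
          rw [h0, mul_zero]
      · rw [extendByZero_of_notMem N _ hg, resC_zero]
        by_contra h
        exact hg (hsupp g (Ne.symm h))
    have hspec : ∀ θ ∈ Γ, MemLocalIdeal M (spec a θ) := by
      intro θ hθ
      obtain ⟨g, hg⟩ := hconjb θ hθ
      have h0 : spec a (conjIrr N g ψ) = 0 := spec_res_conv_eq_zero N (hcon' g) vh
      have h1 := zS_apply_congr (isPBlock_blockOf θ) (spec_mem_zS hac haS) (self_mem_blockOf θ) hg
      rw [h0, sub_zero] at h1
      exact h1
    have hnil : IsNilpotent ((homComp N e t * v : cenN (F := ResF M) N) : MonoidAlgebra (ResF M) G) := by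
      refine isNilpotent_of_spec_memLocalIdeal N hM hΓS hac haS hya ?_ hspec
      have h1 : homComp N e t * v * ε = homComp N e t * v := by
        rw [mul_assoc, ← homS_one_central N hε1 v, ← mul_assoc, hcompε]
      exact congrArg Subtype.val h1
    obtain ⟨n, hn⟩ := hnil
    exact ⟨n, Subtype.ext (by
      rw [Subring.coe_pow]
      exact hn)⟩
  -- the idempotent is not zero
  obtain ⟨D, hD⟩ := IsPBlock.exists_isDefectGroup hM hB
  obtain ⟨g, hg, -⟩ := isDefectGroup_iff.mp hD
  apply hg.2.1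
  have h1 : (rhoBlock M B).coeff g = 0 := by
    have h2 : rhoBlock M B = 0 := congrArg Subtype.val hzero
    rw [h2]
    rfl
  rw [blockCoeff_eq_coef]
  exact (resC_eq_zero_iff (hS g)).mp h1

end Nil

end Cfsg.Agent.Lib.Blocks
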