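import Cfsg.Agent.Lib.Blocks.NormalCentral
import Cfsg.Agent.Lib.H8Group.Subsection

/-!
# Blocks with a defect group generated by an involution
-/

set_option autoImplicit false
set_option linter.unusedSectionVars false

namespace Cfsg.Agent.Lib.Blocks

open Cfsg Cfsg.Agent.Lib.Char
open scoped ComplexConjugate

universe u

section Central

variable {G : Type u} [Group G] [Fintype G] {M : Ideal AlgInt}

/-- The value of a character at a central involution. -/
theorem irr_central_sq (χ : IrrCharacter G) {z : G} (hz : ∀ g, g * z = z * g) (h2 : z * z = 1) :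
    (χ : G → ℂ) z = (χ : G → ℂ) 1 ∨ (χ : G → ℂ) z = - (χ : G → ℂ) 1 := by
  have hc : ∀ w, Commute w z := fun w => hz w
  have h := irr_central_mul χ hc z
  rw [h2] at h
  have hne := irr_apply_one_ne_zero χ
  have h3 : ((χ : G → ℂ) z - (χ : G → ℂ) 1) * ((χ : G → ℂ) z + (χ : G → ℂ) 1) = 0 := by
    field_simp at h
    linear_combination -h
  rcases mul_eq_zero.mp h3 with h4 | h4
  · left
    exact sub_eq_zero.mp h4
  · right
    exact eq_neg_of_add_eq_zero_left h4

theorem card_irr_of_comm (hc : ∀ a b : G, a * b = b * a) :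
    Nat.card (IrrCharacter G) = Nat.card G := by
  rw [card_irr_eq_card_conjClasses]
  refine Nat.card_congr (Equiv.ofBijective (ConjClasses.mk : G → ConjClasses G) ⟨?_, ConjClasses.mk_surjective⟩).symm
  intro a b h
  have h1 : IsConj a b := ConjClasses.mk_eq_mk_iff_isConj.mp h
  obtain ⟨c, hc'⟩ := isConj_iff.mp h1
  rw [← hc', hc c a]
  group

theorem mem_zpowers_of_sq {x y : G} (h2 : x * x = 1) (hy : y ∈ Subgroup.zpowers x) : y = 1 ∨ y = x := by
  obtain ⟨k, rfl⟩ := Subgroup.mem_zpowers_iff.mp hy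
  rcases Int.even_or_odd' k with ⟨m, rfl | rfl⟩
  · left
    rw [zpow_mul]
    have : x ^ (2 : ℤ) = 1 := by
      rw [zpow_two, h2]
    rw [this, one_zpow]
  · right
    rw [zpow_add, zpow_mul]
    have : x ^ (2 : ℤ) = 1 := by
      rw [zpow_two, h2]
    rw [this, one_zpow, one_mul, zpow_one]

/-- The structure of a block whose defect group is generated by a central involution. -/
theorem defect_two_central (hM : IsPModular 2 M) {x : G} (hxc : ∀ g, g * x = x * g) (hx : orderOf x = 2)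
    {b : Set (IrrCharacter G)} (hb : IsPBlock M b) (hbD : IsDefectGroup 2 M b (Subgroup.zpowers x))
    {θ : IrrCharacter G} (hθ : θ ∈ b) (hθx : (θ : G → ℂ) x = (θ : G → ℂ) 1) :
    ∃ θ' ∈ b, θ' ≠ θ ∧ (∀ ψ ∈ b, ψ = θ ∨ ψ = θ') ∧ (θ' : G → ℂ) x = -(θ' : G → ℂ) 1 ∧
      ∀ y : G, ¬ 2 ∣ orderOf y → (θ' : G → ℂ) y = (θ : G → ℂ) y := by
  classical
  haveI : Fact (Nat.Prime 2) := ⟨Nat.prime_two⟩
  have h2 : x * x = 1 := by
    have := pow_orderOf_eq_one x
    rw [hx, pow_two] at this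
    exact this
  have hP : IsPGroup 2 (Subgroup.zpowers x) := by
    refine isPGroup_zpowers (p := 2) ?_
    exact ⟨1, by rw [hx]; norm_num⟩
  haveI hPn : (Subgroup.zpowers x).Normal := by
    refine ⟨fun n hn g => ?_⟩
    rcases mem_zpowers_of_sq h2 hn with rfl | rfl
    · simp
    · rw [hxc g, mul_assoc, mul_inv_cancel, mul_one]
      exact hn
  have hG : Subgroup.zpowers x ⊔ Subgroup.centralizer ((Subgroup.zpowers x : Subgroup G) : Set G) = ⊤ := by
    rw [eq_top_iff]
    intro g _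
    apply Subgroup.mem_sup_right
    rw [Subgroup.mem_centralizer_iff]
    intro h hh
    rcases mem_zpowers_of_sq h2 hh with rfl | rfl
    · simp
    · exact (hxc g).symm
  obtain ⟨θ₀, Ψ, hθ₀, hker, hdeg, hinj, hrange, huniq⟩ := normal_central_block_struct hM hP hG hb hbD
  have hkerOf : ∀ ψ : IrrCharacter G, (ψ : G → ℂ) x = (ψ : G → ℂ) 1 →
      ∀ y ∈ Subgroup.zpowers x, (ψ : G → ℂ) y = (ψ : G → ℂ) 1 := by
    intro ψ hψ y hy
    rcases mem_zpowers_of_sq h2 hy with rfl | rfl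
    · rfl
    · exact hψ
  have hθeq : θ = θ₀ := huniq θ hθ (hkerOf θ hθx)
  subst hθeq
  -- two characters
  have hcard : Nat.card (IrrCharacter (Subgroup.zpowers x)) = 2 := by
    rw [card_irr_of_comm]
    · rw [Nat.card_zpowers, hx]
    · intro a b
      apply Subtype.ext
      simp only [Subgroup.coe_mul]
      rcases mem_zpowers_of_sq h2 a.2 with h | h <;> rcases mem_zpowers_of_sq h2 b.2 with h' | h' <;>
        simp [h, h']
  obtain ⟨l₀, hl₀⟩ : θ ∈ Set.range Ψ := hrange ▸ hθ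
  obtain ⟨l₁, hl₁, hl₁u⟩ := (Nat.card_eq_two_iff' l₀).mp hcard
  have hall : ∀ l, l = l₀ ∨ l = l₁ := by
    intro l
    by_cases h : l = l₀
    · exact Or.inl h
    · exact Or.inr (hl₁u l h)
  set θ' := Ψ l₁ with hθ'
  have hθ'b : θ' ∈ b := hrange ▸ Set.mem_range_self l₁
  have hne : θ' ≠ θ := by
    intro h
    apply hl₁
    apply hinj
    rw [hl₀, ← hθ', h]
  have hmem : ∀ ψ ∈ b, ψ = θ ∨ ψ = θ' := by
    intro ψ hψ
    rw [hrange] at hψ
    obtain ⟨l, rfl⟩ := hψ
    rcases hall l with rfl | rfl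
    · exact Or.inl hl₀
    · exact Or.inr rfl
  have hsign : (θ' : G → ℂ) x = -(θ' : G → ℂ) 1 := by
    rcases irr_central_sq θ' hxc h2 with h | h
    · exact absurd (huniq θ' hθ'b (hkerOf θ' h)) hne
    · exact h
  -- the orthogonality relation
  obtain ⟨α, hα⟩ := exists_isPExp G 2
  have hsum : ∀ F : IrrCharacter G → ℂ, ∑ ψ, indic b ψ * F ψ = F θ + F θ' := by
    intro F
    have h1 : ∀ ψ, indic b ψ * F ψ = if ψ ∈ ({θ, θ'} : Finset (IrrCharacter G)) then F ψ else 0 := by
      intro ψ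
      by_cases hψ : ψ ∈ b
      · rw [indic_apply_of_mem hψ, one_mul, if_pos]
        rcases hmem ψ hψ with h | h <;> simp [h]
      · rw [indic_apply_of_notMem hψ, zero_mul, if_neg]
        intro h
        simp only [Finset.mem_insert, Finset.mem_singleton] at h
        rcases h with h | h
        · exact hψ (h ▸ hθ)
        · exact hψ (h ▸ hθ'b)
    simp only [h1, Finset.sum_ite_mem, Finset.univ_inter]
    rw [Finset.sum_pair hne.symm]
  have hθ1 := irr_apply_one_ne_zero θ
  have hθ'1 := irr_apply_one_ne_zero θ'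
  have hxc' : ∀ w, Commute w x := fun w => hxc w
  have hmulθ : ∀ c, (θ : G → ℂ) (x * c) = (θ : G → ℂ) c := by
    intro c
    rw [irr_central_mul θ hxc' c, hθx, div_self hθ1, one_mul]
  have hmulθ' : ∀ c, (θ' : G → ℂ) (x * c) = -(θ' : G → ℂ) c := by
    intro c
    rw [irr_central_mul θ' hxc' c, hsign, neg_div, div_self hθ'1, neg_mul, one_mul]
  have hortho : ∀ y y' : G, ¬ 2 ∣ orderOf y → ¬ 2 ∣ orderOf y' →
      (θ : G → ℂ) y' * (θ : G → ℂ) y⁻¹ = (θ' : G → ℂ) y' * (θ' : G → ℂ) y⁻¹ := by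
    intro y y' hy hy'
    have hx1 : x ≠ 1 := by
      intro h
      rw [h, orderOf_one] at hx
      omega
    have hne' : ¬ IsConj (y ^ α) ((x * y') ^ α) := by
      have hc : Commute x y' := (hxc y').symm
      have h3 : x ^ α = x := hα.pow_of_pPow (k := 1) (by rw [hx]; norm_num)
      rw [hα.pow_of_regular hy, hc.mul_pow, h3, hα.pow_of_regular hy', mul_one, isConj_one_right]
      exact hx1
    have h := sum_block_mul_eq_zero hM hα hb hne'
    rw [hsum, hmulθ, hmulθ'] at h
    linear_combination h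
  have hone : ¬ 2 ∣ orderOf (1 : G) := by simp
  have hdeg1 : (θ : G → ℂ) 1 = (θ' : G → ℂ) 1 := by
    have h := hortho 1 1 hone hone
    simp only [inv_one] at h
    have h3 := apply_one_eq_charDegree (IsIrrCharacter.isCharacter θ.2)
    have h4 := apply_one_eq_charDegree (IsIrrCharacter.isCharacter θ'.2)
    rw [h3, h4] at h ⊢
    have h5 : (charDegree (θ : G → ℂ)) * (charDegree (θ : G → ℂ)) =
        (charDegree (θ' : G → ℂ)) * (charDegree (θ' : G → ℂ)) := by exact_mod_cast h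
    have h6 : charDegree (θ : G → ℂ) = charDegree (θ' : G → ℂ) := Nat.mul_self_inj.mp h5
    rw [h6]
  refine ⟨θ', hθ'b, hne, hmem, hsign, fun y hy => ?_⟩
  have h := hortho 1 y hone hy
  simp only [inv_one] at h
  rw [← hdeg1] at h
  exact (mul_right_cancel₀ hθ1 h).symm

end Central

section Main

variable {G : Type u} [Group G] [Fintype G] {M : Ideal AlgInt}

open Cfsg.Agent.Lib.H8Group

theorem induced_unique_of_normalizer_eq {p : ℕ} [Fact p.Prime] (hM : IsPModular p M) {D : Subgroup G} (hD : IsPGroup p D)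
    (H : Subgroup G) [Fintype H] (hH : H = Subgroup.normalizer (D : Set G)) {B : Set (IrrCharacter G)} (hB : IsPBlock M B)
    (hBD : IsDefectGroup p M B D) {b b' : Set (IrrCharacter H)}
    (hb : IsDefectGroup p M b (D.subgroupOf H)) (hind : IsInducedBlock M H b B)
    (hb' : IsDefectGroup p M b' (D.subgroupOf H)) (hind' : IsInducedBlock M H b' B) : b = b' := by
  subst hH
  exact (first_main_ii hM hD hB hBD).unique ⟨hind.1, hb, hind⟩ ⟨hind'.1, hb', hind'⟩


theorem classInner_subF_central {H : Subgroup G} [Fintype H] {x : H} (h2 : x * x = 1) (χ : G → ℂ)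
    {ψ : H → ℂ} {ε : ℤ} (hε1 : ε * ε = 1) (hε : ∀ c, ψ (x * c) = (ε : ℂ) * ψ c) :
    classInner (subF H x χ) ψ = (ε : ℂ) * classInner (fun c : H => χ c) ψ := by
  classical
  simp only [classInner]
  rw [mul_left_comm]
  congr 1
  rw [Finset.mul_sum]
  refine Fintype.sum_equiv (Equiv.mulLeft x) _ _ fun c => ?_
  have hε2 : (ε : ℂ) * ε = 1 := by exact_mod_cast hε1
  simp only [Equiv.coe_mulLeft, subF_apply, hε, map_mul, map_intCast]
  linear_combination (-(χ ((x * c : H) : G) * conj (ψ c))) * hε2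

variable {x : G}

local notation "𝐇" => Subgroup.centralizer (Singleton.singleton x : Set G)

/-- **The structure of a block with a defect group generated by an involution.** -/
theorem defect_two_main (hM : IsPModular 2 M) (hx : orderOf x = 2) {B : Set (IrrCharacter G)} (hB : IsPBlock M B)
    (hBD : IsDefectGroup 2 M B (Subgroup.zpowers x))
    [Fintype (𝐇)]
    {b : Set (IrrCharacter (𝐇))}
    (hb : IsInducedBlock M (𝐇) b B)
    {θ : IrrCharacter (𝐇)} (hθ : θ ∈ b)
    (hθx : ∀ z : 𝐇, (z : G) = x →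
      (θ : 𝐇 → ℂ) z = (θ : 𝐇 → ℂ) 1) :
    Nat.card B = 2 ∧ (∀ χ ∈ B, ∀ ψ ∈ B, ∀ g : G, ¬ 2 ∣ orderOf g → (χ : G → ℂ) g = (ψ : G → ℂ) g) ∧
      ∃ χ₁ ∈ B, ∃ χ₂ ∈ B, χ₁ ≠ χ₂ ∧ ∃ ε₁ ε₂ : ℤ, (ε₁ = 1 ∨ ε₁ = -1) ∧ (ε₂ = 1 ∨ ε₂ = -1) ∧ ε₁ * ε₂ = -1 ∧
        ∀ y : 𝐇, ¬ 2 ∣ orderOf y →
          (χ₁ : G → ℂ) (x * y) = (ε₁ : ℂ) * (θ : 𝐇 → ℂ) y ∧
          (χ₂ : G → ℂ) (x * y) = (ε₂ : ℂ) * (θ : 𝐇 → ℂ) y := by
  classical
  haveI hf2 : Fact (Nat.Prime 2) := ⟨Nat.prime_two⟩
  have := isPrime_of_modular hM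
  set xH : 𝐇 := centElt x with hxH
  have hxHc : (xH : G) = x := rfl
  have h2 : x * x = 1 := by
    have := pow_orderOf_eq_one x
    rw [hx, pow_two] at this
    exact this
  have h2H : xH * xH = 1 := Subtype.ext h2
  have hordH : orderOf xH = 2 := by
    rw [← Subgroup.orderOf_coe, hxHc, hx]
  have hxHcent : ∀ g : 𝐇, g * xH = xH * g := by
    intro g
    apply Subtype.ext
    exact commute_of_mem_centralizer_singleton g.2
  have hH : ∀ w : G, w ∈ 𝐇 ↔ Commute w ((xH : 𝐇) : G) := mem_cent_iff x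
  have hxp : ∃ k, orderOf ((xH : 𝐇) : G) = 2 ^ k := ⟨1, by rw [hxHc, hx]; norm_num⟩
  have hP : IsPGroup 2 (Subgroup.zpowers x) := isPGroup_zpowers (p := 2) ⟨1, by rw [hx]; norm_num⟩
  have hcardzx : Nat.card (Subgroup.zpowers x) = 2 := by rw [Nat.card_zpowers, hx]
  have hcardzH : Nat.card (Subgroup.zpowers xH) = 2 := by rw [Nat.card_zpowers, hordH]
  -- the defect groups of the blocks inducing `B`
  have hdefect : ∀ d, IsInducedBlock M 𝐇 d B → IsDefectGroup 2 M d (Subgroup.zpowers xH) := by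
    intro d hd
    obtain ⟨D', hD'⟩ := IsPBlock.exists_isDefectGroup hM hd.1
    obtain ⟨E, hE, hDE⟩ := IsInducedBlock.exists_defect_le 𝐇 hM hd hD'
    have hEc : Nat.card E = 2 := by
      rw [card_defectGroup hM hB hE, ← card_defectGroup hM hB hBD, hcardzx]
    have hle : Subgroup.zpowers xH ≤ D' := by
      rw [Subgroup.zpowers_le]
      refine IsDefectGroup.pCore_le hM hd.1 hD' (mem_pCore_of_central (fun w => hxHcent w) ?_)
      exact ⟨1, by rw [hordH]; norm_num⟩
    have hc1 : Nat.card D' ≤ 2 := by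
      have h3 : Nat.card (D'.map 𝐇.subtype) ≤ Nat.card E := Subgroup.card_le_of_le hDE
      rw [hEc, Subgroup.card_map_of_injective Subtype.val_injective] at h3
      exact h3
    have heq : Subgroup.zpowers xH = D' :=
      Subgroup.eq_of_le_of_card_ge hle (by rw [hcardzH]; exact hc1)
    rw [heq]
    exact hD'
  have hsub : (Subgroup.zpowers x).subgroupOf 𝐇 = Subgroup.zpowers xH := by
    ext c
    rw [Subgroup.mem_subgroupOf]
    constructor
    · intro hc
      rcases mem_zpowers_of_sq h2 hc with h | h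
      · rw [Subtype.ext (a1 := c) (a2 := 1) h]
        exact Subgroup.one_mem _
      · rw [Subtype.ext (a1 := c) (a2 := xH) h]
        exact Subgroup.mem_zpowers _
    · intro hc
      rcases mem_zpowers_of_sq h2H hc with h | h
      · rw [h]
        exact Subgroup.one_mem _
      · rw [h]
        exact Subgroup.mem_zpowers x
  have hnorm : 𝐇 = Subgroup.normalizer ((Subgroup.zpowers x : Subgroup G) : Set G) := by
    ext w
    constructor
    · intro hw
      exact centralizer_le_normalizer_zpowers _ hw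
    · intro hw
      have h3 : w * x * w⁻¹ ∈ Subgroup.zpowers x := (Subgroup.mem_normalizer_iff.mp hw x).mp (Subgroup.mem_zpowers x)
      rcases mem_zpowers_of_sq h2 h3 with h | h
      · exfalso
        have hx1 : x ≠ 1 := by
          intro h'
          rw [h', orderOf_one] at hx
          omega
        apply hx1
        have h4 : w * x * w⁻¹ = w * 1 * w⁻¹ := by rw [h]; group
        exact mul_left_cancel (mul_right_cancel h4)
      · apply mem_centralizer_singleton_of_commute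
        show w * x = x * w
        calc w * x = (w * x * w⁻¹) * w := by group
          _ = x * w := by rw [h]
  have hunique : ∀ d, IsInducedBlock M 𝐇 d B → d = b := by
    intro d hd
    refine induced_unique_of_normalizer_eq hM hP 𝐇 hnorm hB hBD ?_ hd ?_ hb
    · rw [hsub]
      exact hdefect d hd
    · rw [hsub]
      exact hdefect b hb
  -- the structure of `b`
  have hθxH : (θ : 𝐇 → ℂ) xH = (θ : 𝐇 → ℂ) 1 := hθx xH rfl
  obtain ⟨θ', hθ'b, hne, hmem, hsign, hodd⟩ :=
    defect_two_central hM hxHcent hordH hb.1 (hdefect b hb) hθ hθxH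
  have hsum : ∀ F : IrrCharacter 𝐇 → ℂ, ∑ ψ, indic b ψ * F ψ = F θ + F θ' := by
    intro F
    have h1 : ∀ ψ, indic b ψ * F ψ = if ψ ∈ ({θ, θ'} : Finset (IrrCharacter 𝐇)) then F ψ else 0 := by
      intro ψ
      by_cases hψ : ψ ∈ b
      · rw [indic_apply_of_mem hψ, one_mul, if_pos]
        rcases hmem ψ hψ with h | h <;> simp [h]
      · rw [indic_apply_of_notMem hψ, zero_mul, if_neg]
        intro h
        simp only [Finset.mem_insert, Finset.mem_singleton] at h
        rcases h with h | h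
        · exact hψ (h ▸ hθ)
        · exact hψ (h ▸ hθ'b)
    simp only [h1, Finset.sum_ite_mem, Finset.univ_inter]
    rw [Finset.sum_pair hne.symm]
  have hxHc' : ∀ w, Commute w xH := fun w => hxHcent w
  have hθ1 := irr_apply_one_ne_zero θ
  have hθ'1 := irr_apply_one_ne_zero θ'
  have hmulθ : ∀ c, (θ : 𝐇 → ℂ) (xH * c) = ((1 : ℤ) : ℂ) * (θ : 𝐇 → ℂ) c := by
    intro c
    rw [irr_central_mul θ hxHc' c, hθxH, div_self hθ1]
    simp
  have hmulθ' : ∀ c, (θ' : 𝐇 → ℂ) (xH * c) = ((-1 : ℤ) : ℂ) * (θ' : 𝐇 → ℂ) c := by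
    intro c
    rw [irr_central_mul θ' hxHc' c, hsign, neg_div, div_self hθ'1]
    simp
  -- the coefficients
  have hcoef : ∀ χ : IrrCharacter G, ∃ d : ℤ, χ ∈ B → ∀ y : 𝐇, ¬ 2 ∣ orderOf y →
      (χ : G → ℂ) (x * y) = (d : ℂ) * (θ : 𝐇 → ℂ) y := by
    intro χ
    have hchar : IsCharacter 𝐇 (fun c : 𝐇 => (χ : G → ℂ) c) := IsCharacter.comp (IsIrrCharacter.isCharacter χ.2) 𝐇.subtype
    obtain ⟨n, hn⟩ := IsCharacter.classInner_irr_eq_nat hchar θ.2
    obtain ⟨n', hn'⟩ := IsCharacter.classInner_irr_eq_nat hchar θ'.2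
    refine ⟨(n : ℤ) - n', fun hχ y hy => ?_⟩
    have hf : IsClassFunction 𝐇 (subF 𝐇 xH (χ : G → ℂ)) := subF_isClassFunction hH (irr_isClassFunction χ)
    have h1 := eq_sum_projOp_blocks M (subF 𝐇 xH (χ : G → ℂ)) y
    rw [Finset.sum_eq_single b] at h1
    · rw [projOp_eq_sum _ hf, hsum, classInner_subF_central h2H _ (by norm_num) hmulθ, classInner_subF_central h2H _ (by norm_num) hmulθ',
        hn, hn', hodd y hy] at h1
      have h3 : (χ : G → ℂ) (x * y) = subF 𝐇 xH (χ : G → ℂ) y := rfl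
      rw [h3, h1]
      push_cast
      ring
    · intro d hd hdb
      have hdB := mem_blocksFinset.mp hd
      have hnot : ¬ IsInducedBlock M 𝐇 d B := fun h => hdb (hunique d h)
      have h3 := second_main_blockPart hM (x := x) ⟨1, by rw [hx]; norm_num⟩ hB hχ hdB hnot hy
      rw [← blockPart_eq_projOp d hf]
      exact h3
    · intro h
      exact absurd (mem_blocksFinset.mpr hb.1) h
  choose d hd using hcoef
  -- the norm of the restriction of `θ`
  have hreg : pRegularPart 2 (θ' : 𝐇 → ℂ) = pRegularPart 2 (θ : 𝐇 → ℂ) := by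
    funext c
    by_cases hc : 2 ∣ orderOf c
    · rw [pRegularPart_of_dvd _ hc, pRegularPart_of_dvd _ hc]
    · rw [pRegularPart_of_not_dvd _ hc, pRegularPart_of_not_dvd _ hc, hodd c hc]
  set a := classInner (pRegularPart 2 (θ : 𝐇 → ℂ)) (θ : 𝐇 → ℂ) with ha
  have ha' : classInner (pRegularPart 2 (θ' : 𝐇 → ℂ)) (θ' : 𝐇 → ℂ) = a := by
    rw [hreg, ha]
    simp only [classInner]
    congr 1
    refine Finset.sum_congr rfl fun c _ => ?_
    by_cases hc : 2 ∣ orderOf c
    · rw [pRegularPart_of_dvd _ hc, zero_mul, zero_mul]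
    · rw [hodd c hc]
  have hrank : blockRank 2 b = 1 := by
    have himg : (fun χ : IrrCharacter 𝐇 => pRegularPart 2 (χ : 𝐇 → ℂ)) '' b = {pRegularPart 2 (θ : 𝐇 → ℂ)} := by
      ext f
      simp only [Set.mem_image, Set.mem_singleton_iff]
      constructor
      · rintro ⟨ψ, hψ, rfl⟩
        rcases hmem ψ hψ with rfl | rfl
        · rfl
        · exact hreg
      · rintro rfl
        exact ⟨θ, hθ, rfl⟩
    have hne0 : pRegularPart 2 (θ : 𝐇 → ℂ) ≠ 0 := by
      intro h
      have h3 := congrFun h 1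
      rw [pRegularPart_of_not_dvd _ (by simp)] at h3
      exact hθ1 h3
    rw [blockRank, himg]
    exact finrank_span_singleton hne0
  have ha2 : a = 1 / 2 := by
    have h3 := sum_classInner_pRegularPart hM hb.1
    have h4 : ∀ F : IrrCharacter 𝐇 → ℂ, ∑ ψ : {ψ : IrrCharacter 𝐇 // ψ ∈ b}, F ψ = F θ + F θ' := by
      intro F
      have h5 : ∀ ψ, ψ ∈ ({θ, θ'} : Finset (IrrCharacter 𝐇)) ↔ ψ ∈ b := by
        intro ψ
        simp only [Finset.mem_insert, Finset.mem_singleton]
        constructor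
        · rintro (rfl | rfl)
          · exact hθ
          · exact hθ'b
        · exact hmem ψ
      rw [← Finset.sum_subtype ({θ, θ'} : Finset (IrrCharacter 𝐇)) h5 F, Finset.sum_pair hne.symm]
    rw [h4 (fun ψ => classInner (pRegularPart 2 (ψ : 𝐇 → ℂ)) (ψ : 𝐇 → ℂ)), hrank, ha'] at h3
    have h5 : a + a = 1 := by
      rw [← ha] at h3
      exact_mod_cast h3
    linear_combination (1 / 2 : ℂ) * h5
  -- the norm of the column
  have hcol := sum_block_subF_sq hM hH hxp hb hθ
  have hregχ : ∀ χ ∈ B, classInner (pRegularPart 2 (subF 𝐇 xH (χ : G → ℂ))) (θ : 𝐇 → ℂ) = (d χ : ℂ) * a := by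
    intro χ hχ
    rw [ha]
    simp only [classInner]
    have h : ∑ c : 𝐇, pRegularPart 2 (subF 𝐇 xH (χ : G → ℂ)) c * conj ((θ : 𝐇 → ℂ) c) =
        (d χ : ℂ) * ∑ c : 𝐇, pRegularPart 2 (θ : 𝐇 → ℂ) c * conj ((θ : 𝐇 → ℂ) c) := by
      rw [Finset.mul_sum]
      refine Finset.sum_congr rfl fun c _ => ?_
      by_cases hc : 2 ∣ orderOf c
      · rw [pRegularPart_of_dvd _ hc, pRegularPart_of_dvd _ hc]
        ring
      · rw [pRegularPart_of_not_dvd _ hc, pRegularPart_of_not_dvd _ hc, subF_apply]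
        have h3 := hd χ hχ c hc
        rw [show ((xH * c : 𝐇) : G) = x * (c : G) from rfl, h3]
        ring
    rw [h]
    ring
  have hsumd : ∑ χ : IrrCharacter G, indic B χ * ((d χ : ℂ) * d χ) = 2 := by
    have h3 : ∀ χ : IrrCharacter G, indic B χ * (classInner (pRegularPart 2 (subF 𝐇 xH (χ : G → ℂ))) (θ : 𝐇 → ℂ) *
        conj (classInner (pRegularPart 2 (subF 𝐇 xH (χ : G → ℂ))) (θ : 𝐇 → ℂ))) =
        (indic B χ * ((d χ : ℂ) * d χ)) * (1 / 4) := by
      intro χ
      by_cases hχ : χ ∈ B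
      · rw [indic_apply_of_mem hχ, hregχ χ hχ, ha2]
        simp only [map_mul, map_intCast, map_div₀, map_one, map_ofNat]
        ring
      · rw [indic_apply_of_notMem hχ]
        ring
    rw [Finset.sum_congr rfl fun χ _ => h3 χ, ← Finset.sum_mul, ← ha, ha2] at hcol
    linear_combination 4 * hcol
  -- nonvanishing
  have hdne : ∀ χ ∈ B, d χ ≠ 0 := by
    intro χ hχ hd0
    obtain ⟨α, hα⟩ := exists_isPExp G 2
    have hBχ := blockOf_eq_of_mem hB hχ
    have hvan : ∀ g : G, 2 ∣ orderOf g → (χ : G → ℂ) g = 0 := by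
      intro g hg
      have hu := hα.isPPart g
      have hu1 : g ^ α ≠ 1 := fun h => hα.pow_eq_one_iff.mp h hg
      by_cases hconj : IsConj x (g ^ α)
      · obtain ⟨c, hc⟩ := isConj_iff.mp hconj
        obtain ⟨y, hy1, hy2, -, hy3⟩ := hu
        set w : G := c⁻¹ * y * c with hw
        have hwC : w ∈ 𝐇 := by
          apply mem_centralizer_singleton_of_commute
          show w * x = x * w
          have h5 : (c * x * c⁻¹) * y = y * (c * x * c⁻¹) := by
            rw [hc]
            exact hy2.eq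
          rw [hw]
          calc c⁻¹ * y * c * x = c⁻¹ * (y * (c * x * c⁻¹)) * c := by group
            _ = c⁻¹ * ((c * x * c⁻¹) * y) * c := by rw [h5]
            _ = x * (c⁻¹ * y * c) := by group
        have hword : ¬ 2 ∣ orderOf (⟨w, hwC⟩ : 𝐇) := by
          rw [Subgroup.orderOf_mk, hw]
          have h5 := orderOf_conj (g := y) (h := c⁻¹)
          rw [inv_inv] at h5
          rwa [h5]
        have h5 := hd χ hχ ⟨w, hwC⟩ hword
        rw [hd0] at h5
        have h6 : (χ : G → ℂ) g = (χ : G → ℂ) (x * w) := by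
          have h7 : g = c * (x * w) * c⁻¹ := by
            rw [hw, ← hy1, ← hc]
            group
          rw [h7]
          exact irr_isClassFunction χ _ c
        rw [h6]
        simpa using h5
      · apply irr_eq_zero_of_forall_not_mem_defect hM χ hu
        intro D hD hgD
        rw [← hBχ] at hD
        obtain ⟨c, hc⟩ := IsDefectGroup.exists_conj_eq hM hB hBD hD
        rw [hc, mem_conjS] at hgD
        rcases mem_zpowers_of_sq h2 hgD with h | h
        · apply hu1
          have h3 : g ^ α = c * 1 * c⁻¹ := by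
            rw [← h]
            group
          simpa using h3
        · apply hconj
          rw [isConj_iff]
          refine ⟨c, ?_⟩
          rw [← h]
          group
    have h1 := pow_dvd_degree_of_vanish χ hvan
    have h3 := charDegree_dvd_card χ.2
    have h4 : ¬ 2 ∣ Nat.card G / charDegree (χ : G → ℂ) := by
      intro h5
      obtain ⟨m, hm⟩ := h3
      have hpos := charDegree_pos χ.2
      rw [hm, Nat.mul_div_cancel_left _ hpos] at h5
      have h6 : 2 ^ (Nat.card G).factorization 2 * 2 ∣ Nat.card G := by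
        have h7 := Nat.mul_dvd_mul h1 h5
        rwa [← hm] at h7
      rw [← pow_succ] at h6
      exact Nat.pow_succ_factorization_not_dvd Nat.card_pos.ne' Nat.prime_two h6
    have h5 := (not_dvd_iff_blockOf_singleton hM χ).mp h4
    have h6 := card_defectGroup hM hB hBD
    rw [hcardzx, blockDefect, hBχ, h5, Set.image_singleton, csInf_singleton] at h6
    have h7 : (Nat.card G).factorization 2 ≤ (charDegree (χ : G → ℂ)).factorization 2 :=
      (Nat.Prime.pow_dvd_iff_le_factorization Nat.prime_two (charDegree_pos χ.2).ne').mp h1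
    rw [Nat.sub_eq_zero_of_le h7] at h6
    norm_num at h6
  -- the count
  set T : Finset (IrrCharacter G) := Finset.univ.filter (· ∈ B) with hT
  have hTmem : ∀ χ, χ ∈ T ↔ χ ∈ B := by
    intro χ
    simp [hT]
  have hsumT : ∀ F : IrrCharacter G → ℂ, ∑ χ, indic B χ * F χ = ∑ χ ∈ T, F χ := by
    intro F
    rw [hT, Finset.sum_filter]
    refine Finset.sum_congr rfl fun χ _ => ?_
    by_cases hχ : χ ∈ B
    · rw [indic_apply_of_mem hχ, one_mul, if_pos hχ]
    · rw [indic_apply_of_notMem hχ, zero_mul, if_neg hχ]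
  have hsumZ : ∑ χ ∈ T, d χ * d χ = 2 := by
    rw [hsumT] at hsumd
    exact_mod_cast hsumd
  have hge : ∀ χ ∈ T, 1 ≤ d χ * d χ := by
    intro χ hχ
    have h3 := hdne χ ((hTmem χ).mp hχ)
    have h4 : 0 < d χ * d χ := mul_self_pos.mpr h3
    omega
  have hcardT : T.card = 2 := by
    have h3 : (T.card : ℤ) ≤ 2 := by
      have h4 := Finset.card_nsmul_le_sum T (fun χ => d χ * d χ) 1 hge
      rw [hsumZ] at h4
      simpa using h4
    have hcases : T.card = 0 ∨ T.card = 1 ∨ T.card = 2 := by omega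
    rcases hcases with h | h | h
    · rw [Finset.card_eq_zero] at h
      rw [h] at hsumZ
      simp at hsumZ
    · obtain ⟨χ, hχ⟩ := Finset.card_eq_one.mp h
      rw [hχ, Finset.sum_singleton] at hsumZ
      exfalso
      have h4 : (d χ).natAbs * (d χ).natAbs = 2 := by
        have := congrArg Int.natAbs hsumZ
        simpa [Int.natAbs_mul] using this
      have h5 : (d χ).natAbs ≤ 1 ∨ 2 ≤ (d χ).natAbs := by omega
      rcases h5 with h5 | h5
      · have h6 := Nat.mul_le_mul h5 h5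
        omega
      · have h6 := Nat.mul_le_mul h5 h5
        omega
    · exact h
  obtain ⟨χ₁, χ₂, hχne, hTeq⟩ := Finset.card_eq_two.mp hcardT
  have hχ₁ : χ₁ ∈ B := (hTmem _).mp (by rw [hTeq]; simp)
  have hχ₂ : χ₂ ∈ B := (hTmem _).mp (by rw [hTeq]; simp)
  have hBmem : ∀ χ ∈ B, χ = χ₁ ∨ χ = χ₂ := by
    intro χ hχ
    have h3 := (hTmem χ).mpr hχ
    rw [hTeq] at h3
    simpa using h3
  have hsq : d χ₁ * d χ₁ + d χ₂ * d χ₂ = 2 := by
    rw [hTeq, Finset.sum_pair hχne] at hsumZ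
    exact hsumZ
  have hge₁ := hge χ₁ ((hTmem _).mpr hχ₁)
  have hge₂ := hge χ₂ ((hTmem _).mpr hχ₂)
  have hone₁ : d χ₁ * d χ₁ = 1 := by omega
  have hone₂ : d χ₂ * d χ₂ = 1 := by omega
  have hsgn₁ : d χ₁ = 1 ∨ d χ₁ = -1 := mul_self_eq_one_iff.mp hone₁
  have hsgn₂ : d χ₂ = 1 ∨ d χ₂ = -1 := mul_self_eq_one_iff.mp hone₂
  -- orthogonality
  obtain ⟨α, hα⟩ := exists_isPExp G 2
  have hx1 : x ≠ 1 := by
    intro h'
    rw [h', orderOf_one] at hx
    omega
  have hxval : ∀ χ ∈ B, (χ : G → ℂ) x = (d χ : ℂ) * (θ : 𝐇 → ℂ) 1 := by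
    intro χ hχ
    have h3 := hd χ hχ 1 (by simp)
    simpa using h3
  have hortho : ∀ y : G, ¬ 2 ∣ orderOf y →
      (d χ₁ : ℂ) * (χ₁ : G → ℂ) y + (d χ₂ : ℂ) * (χ₂ : G → ℂ) y = 0 := by
    intro y hy
    have hy' : ¬ 2 ∣ orderOf y⁻¹ := by rwa [orderOf_inv]
    have hne' : ¬ IsConj (y⁻¹ ^ α) (x ^ α) := by
      rw [hα.pow_of_regular hy', hα.pow_of_pPow (k := 1) (by rw [hx]; norm_num), isConj_one_right]
      exact hx1
    have h := sum_block_mul_eq_zero hM hα hB hne'
    rw [hsumT, hTeq, Finset.sum_pair hχne, hxval χ₁ hχ₁, hxval χ₂ hχ₂, inv_inv] at h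
    have h3 : (θ : 𝐇 → ℂ) 1 * ((d χ₁ : ℂ) * (χ₁ : G → ℂ) y + (d χ₂ : ℂ) * (χ₂ : G → ℂ) y) = 0 := by
      linear_combination h
    exact (mul_eq_zero.mp h3).resolve_left hθ1
  have hdeg₁ := apply_one_eq_charDegree (IsIrrCharacter.isCharacter χ₁.2)
  have hdeg₂ := apply_one_eq_charDegree (IsIrrCharacter.isCharacter χ₂.2)
  have hpos₁ := charDegree_pos χ₁.2
  have hpos₂ := charDegree_pos χ₂.2
  have h1ortho := hortho 1 (by simp)
  rw [hdeg₁, hdeg₂] at h1ortho
  have hopp : d χ₁ * d χ₂ = -1 := by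
    have h3 : d χ₁ * (charDegree (χ₁ : G → ℂ) : ℤ) + d χ₂ * (charDegree (χ₂ : G → ℂ) : ℤ) = 0 := by
      exact_mod_cast h1ortho
    rcases hsgn₁ with h | h <;> rcases hsgn₂ with h' | h' <;> rw [h, h'] at h3 ⊢ <;> omega
  have hagree : ∀ y : G, ¬ 2 ∣ orderOf y → (χ₁ : G → ℂ) y = (χ₂ : G → ℂ) y := by
    intro y hy
    have h3 := hortho y hy
    have h4 : d χ₂ = - d χ₁ := by
      rcases hsgn₁ with h | h <;> rcases hsgn₂ with h' | h' <;> rw [h, h'] at hopp ⊢ <;> omega
    rw [h4] at h3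
    push_cast at h3
    have h5 : (d χ₁ : ℂ) * ((χ₁ : G → ℂ) y - (χ₂ : G → ℂ) y) = 0 := by linear_combination h3
    have h6 : (d χ₁ : ℂ) ≠ 0 := by exact_mod_cast hdne χ₁ hχ₁
    exact sub_eq_zero.mp ((mul_eq_zero.mp h5).resolve_left h6)
  refine ⟨?_, ?_, χ₁, hχ₁, χ₂, hχ₂, hχne, d χ₁, d χ₂, hsgn₁, hsgn₂, hopp, fun y hy =>
    ⟨hd χ₁ hχ₁ y hy, hd χ₂ hχ₂ y hy⟩⟩
  · rw [← hcardT]
    exact Nat.subtype_card T hTmem
  · intro χ hχ ψ hψ g hg
    rcases hBmem χ hχ with rfl | rfl <;> rcases hBmem ψ hψ with rfl | rfl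
    · rfl
    · exact hagree g hg
    · exact (hagree g hg).symm
    · rfl

end Main

end Cfsg.Agent.Lib.Blocks
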