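import Cfsg.Agent.Lib.Blocks.CoverApps

/-!
# The extended first main theorem: blocks of `P C(P)`
-/

set_option autoImplicit false
set_option linter.unusedSectionVars false

namespace Cfsg.Agent.Lib.Blocks

open Cfsg Cfsg.Agent.Lib.Char
open scoped ComplexConjugate

universe u

section Transport

variable {H K : Type u} [Group H] [Group K] (e : H ≃* K)

theorem centralChar_comp_equiv (χ : K → ℂ) (h : H) :
    centralChar (χ ∘ e) h = centralChar χ (e h) := by
  simp only [centralChar, Function.comp_apply, map_one]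
  congr 2
  have h1 : Subgroup.centralizer ({e h} : Set K) =
      (Subgroup.centralizer ({h} : Set H)).map e.toMonoidHom := by
    ext y
    rw [Subgroup.mem_map_equiv, Subgroup.mem_centralizer_singleton_iff,
      Subgroup.mem_centralizer_singleton_iff]
    constructor
    · intro hy
      apply e.injective
      simp only [map_mul, MulEquiv.apply_symm_apply]
      exact hy
    · intro hy
      have := congrArg e hy
      simpa using this
  rw [h1]
  have h2 : ((Subgroup.centralizer ({h} : Set H)).map e.toMonoidHom).index =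
      (Subgroup.centralizer ({h} : Set H)).index := Subgroup.index_map_equiv _ e
  rw [h2]

theorem sameBlock_comp_equiv {M : Ideal AlgInt} {χ ψ : K → ℂ} (h : SameBlock M χ ψ) :
    SameBlock M (χ ∘ e) (ψ ∘ e) := by
  intro g
  rw [centralChar_comp_equiv, centralChar_comp_equiv]
  exact h (e g)

variable [Fintype H] [Fintype K]

theorem isIrrCharacter_comp_equiv {χ : K → ℂ} (hχ : IsIrrCharacter K χ) : IsIrrCharacter H (χ ∘ e) := by
  apply isIrrCharacter_of_classInner_self (IsCharacter.comp (IsIrrCharacter.isCharacter hχ) e.toMonoidHom)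
  have h1 := classInner_irr_self hχ
  rw [classInner] at h1 ⊢
  have h2 : Nat.card H = Nat.card K := Nat.card_congr e.toEquiv
  rw [h2, ← h1]
  congr 1
  exact Equiv.sum_comp e.toEquiv (fun k => χ k * conj (χ k))

/-- Transport of an irreducible character. -/
noncomputable def irrComp (χ : IrrCharacter K) : IrrCharacter H :=
  ⟨(χ : K → ℂ) ∘ e, isIrrCharacter_comp_equiv e χ.2⟩

@[simp] theorem irrComp_coe (χ : IrrCharacter K) : ((irrComp e χ : IrrCharacter H) : H → ℂ) = (χ : K → ℂ) ∘ e := rfl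

theorem irrComp_symm_irrComp (χ : IrrCharacter K) : irrComp e.symm (irrComp e χ) = χ := by
  apply Subtype.ext
  funext k
  simp [irrComp]

theorem irrComp_irrComp_symm (χ : IrrCharacter H) : irrComp e (irrComp e.symm χ) = χ := by
  apply Subtype.ext
  funext k
  simp [irrComp]

theorem sameBlock_irrComp {M : Ideal AlgInt} {χ ψ : IrrCharacter K}
    (h : SameBlock M (χ : K → ℂ) (ψ : K → ℂ)) :
    SameBlock M ((irrComp e χ : IrrCharacter H) : H → ℂ) ((irrComp e ψ : IrrCharacter H) : H → ℂ) :=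
  sameBlock_comp_equiv e h

/-- Transport of a set of irreducible characters. -/
def transBlock (b : Set (IrrCharacter K)) : Set (IrrCharacter H) := {ψ | irrComp e.symm ψ ∈ b}

theorem irrComp_mem_transBlock {b : Set (IrrCharacter K)} {χ : IrrCharacter K} (hχ : χ ∈ b) :
    irrComp e χ ∈ transBlock e b := by
  show irrComp e.symm (irrComp e χ) ∈ b
  rwa [irrComp_symm_irrComp]

theorem isPBlock_transBlock {M : Ideal AlgInt} {b : Set (IrrCharacter K)} (hb : IsPBlock M b) :
    IsPBlock M (transBlock e b) := by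
  obtain ⟨χ, rfl⟩ := hb
  refine ⟨irrComp e χ, ?_⟩
  ext ψ
  constructor
  · intro h
    have h1 : SameBlock M (χ : K → ℂ) ((irrComp e.symm ψ : IrrCharacter K) : K → ℂ) := h
    have h2 := sameBlock_comp_equiv e h1
    have h3 : ((irrComp e.symm ψ : IrrCharacter K) : K → ℂ) ∘ e = (ψ : H → ℂ) := by
      funext k
      simp [irrComp]
    rw [h3] at h2
    exact h2
  · intro h
    have h1 : SameBlock M ((χ : K → ℂ) ∘ e) (ψ : H → ℂ) := h
    have h2 := sameBlock_comp_equiv e.symm h1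
    have h3 : ((χ : K → ℂ) ∘ e) ∘ e.symm = (χ : K → ℂ) := by
      funext k
      simp
    rw [h3] at h2
    exact h2

end Transport

section Main

variable {G : Type u} [Group G] [Fintype G] {M : Ideal AlgInt} {p : ℕ} [hp : Fact p.Prime]
variable (P : Subgroup G)

local notation "𝐍" => Subgroup.normalizer (P : Set G)
local notation "𝐋" => P ⊔ Subgroup.centralizer (P : Set G)

theorem sup_centralizer_le_normalizer : 𝐋 ≤ 𝐍 :=
  sup_le Subgroup.le_normalizer (Subgroup.centralizer_le_normalizer _)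

theorem conj_mem_sup_centralizer {n : G} (hn : n ∈ 𝐍) {l : G} (hl : l ∈ 𝐋) : n * l * n⁻¹ ∈ 𝐋 := by
  have h1 : 𝐋 ≤ (𝐋).comap (MulAut.conj n).toMonoidHom := by
    refine sup_le ?_ ?_
    · intro d hd
      show n * d * n⁻¹ ∈ 𝐋
      exact (le_sup_left : P ≤ 𝐋) ((Subgroup.mem_normalizer_iff.mp hn d).mp hd)
    · intro c hc
      show n * c * n⁻¹ ∈ 𝐋
      exact (le_sup_right : Subgroup.centralizer (P : Set G) ≤ 𝐋) (conj_mem_centralizer_of_mem_normalizer hn hc)
  exact h1 hl

instance normal_subgroupOf_sup_centralizer : ((𝐋).subgroupOf 𝐍).Normal := by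
  constructor
  intro l hl n
  apply Subgroup.mem_subgroupOf.mpr
  exact conj_mem_sup_centralizer P n.2 (Subgroup.mem_subgroupOf.mp hl)

variable {P}

/-- From a block of `L` inducing `B` to a block of the normalizer. -/
theorem exists_normalizer_block (hM : IsPModular p M) (hP : IsPGroup p P)
    [Fintype 𝐍] [Fintype (𝐋 : Subgroup G)] [Fintype ((𝐋).subgroupOf 𝐍)]
    {b : Set (IrrCharacter (𝐋 : Subgroup G))} {B : Set (IrrCharacter G)}
    (hind : IsInducedBlock M (𝐋) b B) :
    ∃ b₁ : Set (IrrCharacter 𝐍),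
      IsInducedBlock M ((𝐋).subgroupOf 𝐍)
        (transBlock (Subgroup.subgroupOfEquivOfLe (sup_centralizer_le_normalizer P)) b) b₁ ∧
      IsInducedBlock M 𝐍 b₁ B := by
  classical
  have := isPrime_of_modular hM
  set e : (𝐋).subgroupOf 𝐍 ≃* (𝐋 : Subgroup G) := Subgroup.subgroupOfEquivOfLe (sup_centralizer_le_normalizer P) with he
  have hbt := isPBlock_transBlock e hind.1
  have hPN : P ≤ 𝐍 := Subgroup.le_normalizer
  haveI hnorm : (P.subgroupOf 𝐍).Normal := Subgroup.normal_in_normalizer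
  obtain ⟨b₁, hb₁⟩ := exists_isInducedBlock ((𝐋).subgroupOf 𝐍) hM (P := P.subgroupOf 𝐍) (isPGroup_subgroupOf hP 𝐍)
    (by
      intro x hx
      exact Subgroup.mem_subgroupOf.mpr ((le_sup_left : P ≤ 𝐋) (Subgroup.mem_subgroupOf.mp hx)))
    (by
      intro x hx
      apply Subgroup.mem_subgroupOf.mpr
      apply (le_sup_right : Subgroup.centralizer (P : Set G) ≤ 𝐋)
      exact (mem_centralizer_subgroupOf P hPN x).mp hx)
    (by
      intro x _
      rw [Subgroup.mem_normalizer_iff]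
      intro h
      constructor
      · intro hh
        exact hnorm.conj_mem h hh x
      · intro hh
        have := hnorm.conj_mem _ hh x⁻¹
        simpa [mul_assoc] using this)
    hbt
  refine ⟨b₁, hb₁, hb₁.2.1, hind.2.1, fun ξ₁ hξ₁ χ hχ g => ?_⟩
  obtain ⟨ξ, hξ⟩ := IsPBlock.nonempty hind.1
  have hξt := irrComp_mem_transBlock e hξ
  have hcl : IsClassFunction 𝐍 (resFun 𝐍 (cls g)) := resFun_isClassFunction 𝐍 (cls_isClassFunction g)
  have hc : spec (resFun 𝐍 (cls g)) ∈ zS M 𝐍 := spec_mem_zS hcl (fun x => cls_memLocalRing _ _)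
  have h1 := IsInducedBlock.resPhi_congr _ hb₁ hξt hξ₁ hc
  have h2 := hind.2.2 ξ hξ χ hχ g
  rw [resPhi, coef_spec _ hcl, ← inducedCentralChar_eq_spec] at h1
  have h3 : spec (resFun ((𝐋).subgroupOf 𝐍) (resFun 𝐍 (cls g))) (irrComp e ξ) = inducedCentralChar (𝐋) (ξ : (𝐋 : Subgroup G) → ℂ) g := by
    rw [inducedCentralChar_eq_spec, spec, spec]
    simp only [irrComp_coe, Function.comp_apply, map_one]
    congr 1
    refine Fintype.sum_equiv e.toEquiv _ _ fun x => ?_
    simp only [resFun_apply]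
    rfl
  rw [h3] at h1
  exact MemLocalIdeal.trans (MemLocalIdeal.symm h1) h2

/-- **The extended first main theorem**, second part. -/
theorem extended_first_main_ii (hM : IsPModular p M) {B : Set (IrrCharacter G)} (hB : IsPBlock M B)
    (hPB : IsDefectGroup p M B P) {b b' : Set (IrrCharacter (𝐋 : Subgroup G))}
    (hb : IsInducedBlock M (𝐋) b B) (hb' : IsInducedBlock M (𝐋) b' B) :
    ∃ n ∈ 𝐍, ∀ θ ∈ b, ∃ θ' ∈ b', ∀ x : (𝐋 : Subgroup G), ∀ hx : n * (x : G) * n⁻¹ ∈ 𝐋,
      (θ' : (𝐋 : Subgroup G) → ℂ) x = (θ : (𝐋 : Subgroup G) → ℂ) ⟨n * (x : G) * n⁻¹, hx⟩ := by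
  classical
  have := isPrime_of_modular hM
  have hP := IsDefectGroup.isPGroup hPB
  letI : Fintype 𝐍 := Fintype.ofFinite _
  letI : Fintype (𝐋 : Subgroup G) := Fintype.ofFinite _
  letI : Fintype ((𝐋).subgroupOf 𝐍) := Fintype.ofFinite _
  obtain ⟨b₁, h₁, h₂⟩ := exists_normalizer_block hM hP hb
  obtain ⟨b₁', h₁', h₂'⟩ := exists_normalizer_block hM hP hb'
  have hD₁ := isDefectGroup_of_induced hM hP hPB h₂
  have hD₁' := isDefectGroup_of_induced hM hP hPB h₂'
  have hu := first_main_ii hM hP hB hPB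
  have heq : b₁ = b₁' := hu.unique ⟨h₂.1, hD₁, h₂⟩ ⟨h₂'.1, hD₁', h₂'⟩
  subst heq
  set e : (𝐋).subgroupOf 𝐍 ≃* (𝐋 : Subgroup G) := Subgroup.subgroupOfEquivOfLe (sup_centralizer_le_normalizer P) with he
  obtain ⟨θ₀, hθ₀⟩ := IsPBlock.nonempty hb.1
  obtain ⟨θ₀', hθ₀'⟩ := IsPBlock.nonempty hb'.1
  have h3 := irrComp_mem_transBlock e hθ₀
  have h3' := irrComp_mem_transBlock e hθ₀'
  obtain ⟨χ, hχ, hcon⟩ := IsInducedBlock.exists_constituent _ hM h₁ h3
  obtain ⟨χ', hχ', hcon'⟩ := IsInducedBlock.exists_constituent _ hM h₁' h3'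
  obtain ⟨g, hg⟩ := covering_constituents ((𝐋).subgroupOf 𝐍) h₂.1 h₁'.1 hχ' hχ h3' hcon' hcon
  have hgm : ((g : G))⁻¹ ∈ 𝐍 := Subgroup.inv_mem _ g.2
  refine ⟨(g : G)⁻¹, hgm, fun θ hθ => ?_⟩
  have h4 : conjIrr ((𝐋).subgroupOf 𝐍) g (irrComp e θ) ∈ transBlock e b' := by
    have hbt' := isPBlock_transBlock e hb'.1
    have h5 := sameBlock_irrComp e (sameBlock_of_mem hb.1 hθ₀ hθ)
    have h6 := sameBlock_conjIrr ((𝐋).subgroupOf 𝐍) g h5
    rw [blockOf_eq_of_mem hbt' hg]
    exact h6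
  refine ⟨irrComp e.symm (conjIrr ((𝐋).subgroupOf 𝐍) g (irrComp e θ)), h4, fun x hx => ?_⟩
  simp only [irrComp_coe, Function.comp_apply, conjIrr_coe, conjFun_eq_comp]
  congr 1

/-- **The extended first main theorem**, first part. -/
theorem extended_first_main_i (hM : IsPModular p M) {B : Set (IrrCharacter G)} (hB : IsPBlock M B)
    (hPB : IsDefectGroup p M B P) :
    ∃ b : Set (IrrCharacter (𝐋 : Subgroup G)), IsDefectGroup p M b (P.subgroupOf (𝐋)) ∧
      IsInducedBlock M (𝐋) b B := by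
  classical
  have := isPrime_of_modular hM
  have hP := IsDefectGroup.isPGroup hPB
  letI : Fintype (𝐋 : Subgroup G) := Fintype.ofFinite _
  have hPL : P ≤ 𝐋 := le_sup_left
  have hCL : Subgroup.centralizer (P : Set G) ≤ 𝐋 := le_sup_right
  obtain ⟨b, hb⟩ := (exists_induced_iff (𝐋) hM hP hPL hCL (sup_centralizer_le_normalizer P) hB).mpr
    ⟨P, hPB, 1, by rw [conjS_one]⟩
  refine ⟨b, ?_, hb⟩
  obtain ⟨E', hE'⟩ := IsPBlock.exists_isDefectGroup hM hb.1
  have h1 := IsDefectGroup.pCore_le hM hb.1 hE'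
  haveI hnorm : (P.subgroupOf (𝐋)).Normal := by
    constructor
    intro x hx l
    apply Subgroup.mem_subgroupOf.mpr
    have hn := sup_centralizer_le_normalizer P l.2
    exact (Subgroup.mem_normalizer_iff.mp hn _).mp (Subgroup.mem_subgroupOf.mp hx)
  have h2 : P.subgroupOf (𝐋) ≤ pCore p (𝐋 : Subgroup G) :=
    Cfsg.Agent.Lib.Basic.le_pCore hnorm (isPGroup_subgroupOf hP (𝐋))
  obtain ⟨E, hE, hle⟩ := IsInducedBlock.exists_defect_le (𝐋) hM hb hE'
  obtain ⟨w, rfl⟩ := IsDefectGroup.exists_conj_eq hM hb.2.1 hPB hE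
  have hc : Nat.card E' ≤ Nat.card (P.subgroupOf (𝐋)) := by
    rw [card_subgroupOf_eq P hPL]
    have := Subgroup.card_le_of_le hle
    rwa [card_conjS, Subgroup.card_map_of_injective (Subgroup.subtype_injective (𝐋))] at this
  have h3 : P.subgroupOf (𝐋) = E' := Subgroup.eq_of_le_of_card_ge (h2.trans h1) hc
  rw [h3]
  exact hE'

end Main

end Cfsg.Agent.Lib.Blocks
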