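import Cfsg.Agent.Lib.Blocks.FongMain
import Cfsg.Agent.Lib.Char.PBlock
import Cfsg.Agent.Lib.Coprime.PSolvable

set_option autoImplicit false
set_option linter.unusedSectionVars false

namespace Cfsg.Agent.Lib.Blocks

open Cfsg Cfsg.Agent.Lib.Char Cfsg.Agent.Lib.H8Group MonoidAlgebra
open scoped ComplexConjugate

universe u

section General

variable {G : Type u} [Group G] [Fintype G] (K : Subgroup G) [hK : K.Normal] [Fintype K]
  {p : ℕ} [hp : Fact p.Prime] {M : Ideal AlgInt}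

/-- Transitivity of constituents. -/
theorem classInner_res_trans (L : Subgroup G) [Fintype L] (hKL : K ≤ L) [Fintype (K.subgroupOf L)]
    (χ : IrrCharacter G) (θ : K → ℂ) :
    classInner (fun n : K => (χ : G → ℂ) n) θ =
      ∑ ψ : IrrCharacter L, classInner (fun n : L => (χ : G → ℂ) n) (ψ : L → ℂ) *
        classInner (fun n : K.subgroupOf L => (ψ : L → ℂ) n) (θ ∘ Subgroup.subgroupOfEquivOfLe hKL) := by
  classical
  have hf : IsClassFunction L (fun n : L => (χ : G → ℂ) n) := by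
    intro g h
    exact irr_isClassFunction χ _ _
  have h1 := classFunction_eq_sum _ hf
  have h2 : ∀ x : L, (χ : G → ℂ) x = ∑ ψ : IrrCharacter L, classInner (fun n : L => (χ : G → ℂ) n) (ψ : L → ℂ) * (ψ : L → ℂ) x := by
    intro x
    have h3 := congrFun h1 x
    rw [Finset.sum_apply] at h3
    exact h3
  set e := Subgroup.subgroupOfEquivOfLe hKL with he
  have hcard : Nat.card (K.subgroupOf L) = Nat.card K := Nat.card_congr e.toEquiv
  have hL : classInner (fun n : K => (χ : G → ℂ) n) θ = (Nat.card K : ℂ)⁻¹ * ∑ g : K, (χ : G → ℂ) g * conj (θ g) := rfl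
  have hR : ∀ ψ : IrrCharacter L, classInner (fun n : K.subgroupOf L => (ψ : L → ℂ) n)
      (θ ∘ Subgroup.subgroupOfEquivOfLe hKL) =
      (Nat.card K : ℂ)⁻¹ * ∑ k : K.subgroupOf L, (ψ : L → ℂ) (k : L) * conj (θ (e k)) := by
    intro ψ
    rw [← hcard]
    rfl
  have h4 : ∑ g : K, (χ : G → ℂ) g * conj (θ g) = ∑ k : K.subgroupOf L, (χ : G → ℂ) ((k : L) : G) * conj (θ (e k)) := by
    symm
    refine Fintype.sum_equiv e.toEquiv _ _ fun k => ?_
    rfl
  have h5 : ∀ k : K.subgroupOf L, (χ : G → ℂ) ((k : L) : G) * conj (θ (e k)) =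
      ∑ ψ : IrrCharacter L, classInner (fun n : L => (χ : G → ℂ) n) (ψ : L → ℂ) * ((ψ : L → ℂ) (k : L) * conj (θ (e k))) := by
    intro k
    rw [h2 (k : L), Finset.sum_mul]
    refine Finset.sum_congr rfl fun ψ _ => ?_
    ring
  rw [hL, h4, Finset.sum_congr rfl fun k _ => h5 k, Finset.sum_comm, Finset.mul_sum]
  refine Finset.sum_congr rfl fun ψ _ => ?_
  rw [hR, ← Finset.mul_sum]
  ring

/-- **Fong's theorem**, in a general form. -/
theorem fong_general (hM : IsPModular p M) (hKp : ¬ p ∣ Nat.card K) (L : Subgroup G) [hL : L.Normal] [Fintype L]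
    (hKL : K ≤ L) {k : ℕ} (hidx : K.relIndex L = p ^ k) {Q : Subgroup G} (hQL : Q ≤ L) (hQp : IsPGroup p Q)
    (hCQ : Subgroup.centralizer (Q : Set G) ≤ L) (θ : IrrCharacter K)
    (hinv : ∀ (g : G) (n : K), (θ : K → ℂ) ⟨g * n * g⁻¹, hK.conj_mem n n.2 g⟩ = (θ : K → ℂ) n) :
    ∃ B : Set (IrrCharacter G), IsPBlock M B ∧
      (∀ χ : IrrCharacter G, χ ∈ B ↔ classInner (fun n : K => (χ : G → ℂ) n) (θ : K → ℂ) ≠ 0) ∧
      IsDefectClass M B 1 := by
  classical
  have := isPrime_of_modular hM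
  letI : Fintype (K.subgroupOf L) := Fintype.ofFinite _
  set K₁ := K.subgroupOf L with hK₁
  set e : K₁ ≃* K := Subgroup.subgroupOfEquivOfLe hKL with he
  set θ₁ : IrrCharacter K₁ := irrComp e θ with hθ₁
  have hθ₁v : ∀ n : K₁, (θ₁ : K₁ → ℂ) n = (θ : K → ℂ) (e n) := fun n => rfl
  have hK₁p : ¬ p ∣ Nat.card K₁ := by
    rwa [Nat.card_congr e.toEquiv]
  have hidx₁ : K₁.index = p ^ k := hidx
  have hθ₁inv : ∀ (g : L) θ', θ' ∈ ({θ₁} : Set (IrrCharacter K₁)) → conjIrr K₁ g θ' ∈ ({θ₁} : Set (IrrCharacter K₁)) := by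
    rintro g θ' rfl
    show conjIrr K₁ g θ₁ = θ₁
    apply Subtype.ext
    funext n
    show (θ₁ : K₁ → ℂ) ⟨(g : L)⁻¹ * n * g, _⟩ = (θ₁ : K₁ → ℂ) n
    rw [hθ₁v, hθ₁v]
    have h1 := hinv ((g : L) : G)⁻¹ (e n)
    refine Eq.trans (congrArg _ (Subtype.ext ?_)) h1
    show ((g : L) : G)⁻¹ * ((n : L) : G) * ((g : L) : G) = ((g : L) : G)⁻¹ * ((n : L) : G) * (((g : L) : G)⁻¹)⁻¹
    rw [inv_inv]
  set b : Set (IrrCharacter L) := covSet (G := L) K₁ {θ₁} with hb
  have hbmem : ∀ ψ : IrrCharacter L, ψ ∈ b ↔ classInner (fun n : K₁ => (ψ : L → ℂ) n) (θ₁ : K₁ → ℂ) ≠ 0 := by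
    intro ψ
    simp [hb, covSet]
  obtain ⟨ψ₀, hψ₀⟩ := exists_over_irr (G := L) K₁ θ₁
  have hbblock : b = blockOf M (ψ₀ : L → ℂ) := by
    ext ψ
    rw [hbmem]
    constructor
    · intro h
      exact sameBlock_of_common_constituent K₁ hM hidx₁ hψ₀ h
    · intro h
      exact constituent_of_sameBlock K₁ hM hK₁p h hψ₀
  have hbB : IsPBlock M b := ⟨ψ₀, hbblock⟩
  -- the invariance of `b`
  have hbinv : ∀ (g : G) ψ, ψ ∈ b → conjIrr L g ψ ∈ b := by
    intro g ψ hψ
    rw [hbmem] at hψ ⊢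
    have hmemK : ∀ (n : K₁), (⟨⟨g⁻¹ * ((n : L) : G) * g, hL.conj_mem' _ (n : L).2 g⟩,
        Subgroup.mem_subgroupOf.mpr (hK.conj_mem' _ (Subgroup.mem_subgroupOf.mp n.2) g)⟩ : K₁) ∈ (⊤ : Subgroup K₁) :=
      fun _ => trivial
    let σ : K₁ ≃ K₁ :=
      { toFun := fun n => ⟨⟨g⁻¹ * ((n : L) : G) * g, hL.conj_mem' _ (n : L).2 g⟩,
          Subgroup.mem_subgroupOf.mpr (hK.conj_mem' _ (Subgroup.mem_subgroupOf.mp n.2) g)⟩
        invFun := fun n => ⟨⟨g * ((n : L) : G) * g⁻¹, hL.conj_mem _ (n : L).2 g⟩,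
          Subgroup.mem_subgroupOf.mpr (hK.conj_mem _ (Subgroup.mem_subgroupOf.mp n.2) g)⟩
        left_inv := fun n => by
          apply Subtype.ext
          apply Subtype.ext
          simp [mul_assoc]
        right_inv := fun n => by
          apply Subtype.ext
          apply Subtype.ext
          simp [mul_assoc] }
    have h1 : classInner (fun n : K₁ => (conjIrr L g ψ : L → ℂ) n) (θ₁ : K₁ → ℂ) =
        classInner (fun n : K₁ => (ψ : L → ℂ) n) (θ₁ : K₁ → ℂ) := by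
      simp only [classInner]
      congr 1
      refine Fintype.sum_equiv σ _ _ fun n => ?_
      congr 2
      rw [hθ₁v, hθ₁v]
      have h2 := hinv g⁻¹ (e n)
      refine Eq.trans h2.symm (congrArg _ (Subtype.ext ?_))
      show g⁻¹ * ((n : L) : G) * g⁻¹⁻¹ = g⁻¹ * ((n : L) : G) * g
      rw [inv_inv]
    rw [h1]
    exact hψ
  -- the coefficient at the identity
  have hy₀ : ¬ MemLocalIdeal M (coef (indic b) (1 : L)) := by
    rw [hb, coef_indic_covSet K₁ hθ₁inv, covFun, extendByZero_of_mem K₁ _ (Subgroup.one_mem _)]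
    intro h
    have hval : coef (indic ({θ₁} : Set (IrrCharacter K₁))) ⟨((1 : L) : L), Subgroup.one_mem _⟩ =
        (Nat.card K₁ : ℂ)⁻¹ * ((charDegree (θ₁ : K₁ → ℂ) : ℂ) * (charDegree (θ₁ : K₁ → ℂ) : ℂ)) := by
      have hd := apply_one_eq_charDegree (IsIrrCharacter.isCharacter θ₁.2)
      rw [coef, Finset.sum_eq_single θ₁]
      · rw [indic_apply_of_mem (show θ₁ ∈ ({θ₁} : Set (IrrCharacter K₁)) from rfl), one_mul]
        show (Nat.card K₁ : ℂ)⁻¹ * ((θ₁ : K₁ → ℂ) 1 * conj ((θ₁ : K₁ → ℂ) 1)) = _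
        rw [hd, Complex.conj_natCast]
      · intro ξ _ hξ
        rw [indic_apply_of_notMem (show ξ ∉ ({θ₁} : Set (IrrCharacter K₁)) from hξ), zero_mul]
      · intro h
        exact absurd (Finset.mem_univ _) h
    rw [hval] at h
    have h1 : MemLocalIdeal M ((Nat.card K₁ : ℂ) * ((Nat.card K₁ : ℂ)⁻¹ *
        ((charDegree (θ₁ : K₁ → ℂ) : ℂ) * (charDegree (θ₁ : K₁ → ℂ) : ℂ)))) :=
      MemLocalIdeal.mul_left (MemLocalRing.natCast _) h
    have hne : (Nat.card K₁ : ℂ) ≠ 0 := by exact_mod_cast Nat.card_pos.ne'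
    rw [← mul_assoc, mul_inv_cancel₀ hne, one_mul] at h1
    have h2 : MemLocalIdeal M ((charDegree (θ₁ : K₁ → ℂ) : ℂ)) := by
      rcases MemLocalIdeal.of_mul (MemLocalRing.natCast _) (MemLocalRing.natCast _) h1 with h3 | h3 <;> exact h3
    have h3 := (natCast_memLocalIdeal_iff hM _).mp h2
    exact hK₁p (h3.trans (charDegree_dvd_card θ₁.2))
  obtain ⟨χ₀, hχ₀⟩ := exists_over_irr (G := G) L ψ₀
  have hψ₀b : ψ₀ ∈ b := (hbmem ψ₀).mpr hψ₀
  have hχ₀B : χ₀ ∈ covSet (G := G) L b := ⟨ψ₀, hψ₀b, hχ₀⟩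
  have hBeq := covSet_eq_blockOf L hM hbB hbinv hQp hQL hCQ (y₀ := 1) (Subgroup.one_mem _) hy₀ hχ₀B
  refine ⟨covSet (G := G) L b, ⟨χ₀, hBeq⟩, ?_, ?_⟩
  · intro χ
    have hres := classInner_res_trans K L hKL χ (θ : K → ℂ)
    have hc : ∀ ψ : IrrCharacter L, ∃ n : ℕ, classInner (fun n : L => (χ : G → ℂ) n) (ψ : L → ℂ) = n := by
      intro ψ
      exact IsCharacter.classInner_irr_eq_nat (IsCharacter.comp (IsIrrCharacter.isCharacter χ.2) L.subtype) ψ.2
    have hd : ∀ ψ : IrrCharacter L, ∃ n : ℕ, classInner (fun n : K₁ => (ψ : L → ℂ) n) ((θ₁ : K₁ → ℂ)) = n := by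
      intro ψ
      exact IsCharacter.classInner_irr_eq_nat (IsCharacter.comp (IsIrrCharacter.isCharacter ψ.2) K₁.subtype) θ₁.2
    choose c hc using hc
    choose d hd using hd
    have hres' : classInner (fun n : K => (χ : G → ℂ) n) (θ : K → ℂ) = ((∑ ψ, c ψ * d ψ : ℕ) : ℂ) := by
      rw [hres]
      push_cast
      refine Finset.sum_congr rfl fun ψ _ => ?_
      rw [hc]
      congr 1
      exact hd ψ
    rw [hres']
    constructor
    · rintro ⟨ψ, hψ, hne⟩
      rw [hbmem, hd] at hψ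
      rw [hc] at hne
      have h1 : c ψ ≠ 0 := by exact_mod_cast hne
      have h2 : d ψ ≠ 0 := by exact_mod_cast hψ
      have h3 : 0 < ∑ ψ, c ψ * d ψ :=
        Finset.sum_pos' (fun _ _ => Nat.zero_le _) ⟨ψ, Finset.mem_univ _, Nat.mul_pos (Nat.pos_of_ne_zero h1) (Nat.pos_of_ne_zero h2)⟩
      exact_mod_cast h3.ne'
    · intro h
      have h1 : ∑ ψ, c ψ * d ψ ≠ 0 := by
        intro h0
        apply h
        rw [h0]
        simp
      obtain ⟨ψ, -, hψ⟩ := Finset.exists_ne_zero_of_sum_ne_zero h1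
      have h2 := left_ne_zero_of_mul hψ
      have h3 := right_ne_zero_of_mul hψ
      refine ⟨ψ, (hbmem ψ).mpr ?_, ?_⟩
      · rw [hd]
        exact_mod_cast h3
      · rw [hc]
        exact_mod_cast h2
  · have hcoef : blockCoeff (covSet (G := G) L b) 1 = coef (indic b) (1 : L) := by
      rw [blockCoeff_eq_coef, coef_indic_covSet L hbinv, covFun, extendByZero_of_mem L _ (Subgroup.one_mem _)]
      rfl
    refine ⟨?_, ?_, fun χ _ => ?_⟩
    · rw [hcoef]
      exact indic_mem_zS hbB _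
    · rw [hcoef]
      exact hy₀
    · rw [centralChar_one]
      exact not_memLocalIdeal_one

end General

section Core

variable {G : Type u} [Group G] [Fintype G] {p : ℕ} [hp : Fact p.Prime] {M : Ideal AlgInt}

theorem isDefectGroup_of_defectClass_one {B : Set (IrrCharacter G)} (h : IsDefectClass M B 1) (S : Sylow p G) :
    IsDefectGroup p M B (S : Subgroup G) := by
  refine isDefectGroup_iff.mpr ⟨1, h, isSylowIn_of_maximal ?_ S.isPGroup' ?_⟩
  · intro x _
    exact Subgroup.mem_centralizer_singleton_iff.mpr (by simp)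
  · intro Q hQ _ hSQ
    exact S.is_maximal' hQ hSQ

theorem exists_sylow_of_defectClass_one (hM : IsPModular p M) {B : Set (IrrCharacter G)} (hB : IsPBlock M B)
    (h : IsDefectClass M B 1) {D : Subgroup G} (hD : IsDefectGroup p M B D) : ∃ P : Sylow p G, D = (P : Subgroup G) := by
  obtain ⟨S⟩ : Nonempty (Sylow p G) := inferInstance
  have hS := isDefectGroup_of_defectClass_one h S
  have hc : Nat.card D = Nat.card (S : Subgroup G) := by
    rw [card_defectGroup hM hB hD, card_defectGroup hM hB hS]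
  refine ⟨Sylow.ofCard D ?_, (Sylow.coe_ofCard _ _).symm⟩
  rw [hc]
  exact S.card_eq_multiplicity

theorem relIndex_pPrimeCore : ∃ k, (pPrimeCore p G).relIndex (pPrimePCore p G) = p ^ k := by
  have h1 : (pPrimeCore p G).relIndex (pPrimePCore p G) =
      Nat.card ((pPrimePCore p G).map (QuotientGroup.mk' (pPrimeCore p G))) := by
    have h2 := Subgroup.relIndex_ker (K := pPrimePCore p G) (QuotientGroup.mk' (pPrimeCore p G))
    rwa [QuotientGroup.ker_mk'] at h2
  have h3 : (pPrimePCore p G).map (QuotientGroup.mk' (pPrimeCore p G)) = pCore p (G ⧸ pPrimeCore p G) :=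
    Subgroup.map_comap_eq_self_of_surjective (QuotientGroup.mk'_surjective _) _
  rw [h1, h3]
  exact IsPGroup.iff_card.mp (Cfsg.Agent.Lib.Basic.pCore_isPGroup p)

theorem pPrimeCore_le_pPrimePCore : pPrimeCore p G ≤ pPrimePCore p G := by
  intro x hx
  show QuotientGroup.mk' (pPrimeCore p G) x ∈ pCore p (G ⧸ pPrimeCore p G)
  have : QuotientGroup.mk' (pPrimeCore p G) x = 1 := (QuotientGroup.eq_one_iff x).mpr hx
  rw [this]
  exact Subgroup.one_mem _

theorem centralizer_le_pPrimePCore (hsolv : IsPSolvable p G) {Q : Subgroup G} (hQL : Q ≤ pPrimePCore p G)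
    (hQS : ¬ p ∣ Q.relIndex (pPrimePCore p G)) : Subgroup.centralizer (Q : Set G) ≤ pPrimePCore p G := by
  classical
  haveI hKn : (pPrimeCore p G).Normal := Cfsg.Agent.Lib.Basic.pPrimeCore_normal p
  set K := pPrimeCore p G with hK
  set L := pPrimePCore p G with hL
  obtain ⟨k, hk⟩ := relIndex_pPrimeCore (p := p) (G := G)
  have hKL : K ≤ L := pPrimeCore_le_pPrimePCore
  -- `L = Q K`
  set T := Q ⊔ K with hT
  have hTL : T ≤ L := sup_le hQL hKL
  have h1 : Q.relIndex T * T.relIndex L = Q.relIndex L := Subgroup.relIndex_mul_relIndex Q T L le_sup_left hTL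
  have h2 : K.relIndex T * T.relIndex L = K.relIndex L := Subgroup.relIndex_mul_relIndex K T L le_sup_right hTL
  have h3 : T.relIndex L ∣ p ^ k := ⟨K.relIndex T, by rw [← hk, ← h2, mul_comm]⟩
  obtain ⟨j, -, hj⟩ := (Nat.dvd_prime_pow hp.out).mp h3
  have h4 : j = 0 := by
    by_contra h0
    apply hQS
    rw [← h1, hj]
    exact Dvd.dvd.mul_left (dvd_pow_self p h0) _
  rw [h4, pow_zero] at hj
  have hLT : L ≤ T := Subgroup.relIndex_eq_one.mp hj
  -- the image
  have hQbar : pCore p (G ⧸ K) ≤ Q.map (QuotientGroup.mk' K) := by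
    intro y hy
    obtain ⟨g, rfl⟩ := QuotientGroup.mk'_surjective K y
    have hg : g ∈ L := hy
    have hg2 := hLT hg
    obtain ⟨q, hq, n, hn, rfl⟩ := Subgroup.mem_sup_of_normal_right.mp hg2
    refine ⟨q, hq, ?_⟩
    rw [map_mul]
    have h5 : QuotientGroup.mk' K n = 1 := (QuotientGroup.eq_one_iff n).mpr hn
    rw [h5, mul_one]
  have hsolv' : IsPSolvable p (G ⧸ K) :=
    Cfsg.Agent.Lib.Coprime.isPSolvable_map (QuotientGroup.mk' K) (QuotientGroup.mk'_surjective K) hsolv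
  have hbot : pPrimeCore p (G ⧸ K) = ⊥ := Cfsg.Agent.Lib.Basic.pPrimeCore_quotient_eq_bot p
  have hC := centralizer_pCore_le_of_isPSolvable hsolv' hbot
  intro x hx
  show QuotientGroup.mk' K x ∈ pCore p (G ⧸ K)
  apply hC
  rw [Subgroup.mem_centralizer_iff]
  intro y hy
  obtain ⟨q, hq, rfl⟩ := hQbar hy
  rw [← map_mul, ← map_mul, (Subgroup.mem_centralizer_iff.mp hx q hq)]

/-- **Fong's theorem.** -/
theorem fong_pSolvable (hM : IsPModular p M) (hsolv : IsPSolvable p G) (N : Subgroup G) [hN : N.Normal] [Fintype N]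
    (hNdef : N = pPrimeCore p G) (θ : IrrCharacter N)
    (hinv : ∀ (g : G) (n : N), (θ : N → ℂ) ⟨g * n * g⁻¹, hN.conj_mem n n.2 g⟩ = (θ : N → ℂ) n) :
    ∃ B : Set (IrrCharacter G), IsPBlock M B ∧
      (∀ χ : IrrCharacter G, χ ∈ B ↔ classInner (fun n : N => (χ : G → ℂ) n) (θ : N → ℂ) ≠ 0) ∧
      (∀ P : Sylow p G, IsDefectGroup p M B (P : Subgroup G)) ∧
      ∀ D : Subgroup G, IsDefectGroup p M B D → ∃ P : Sylow p G, D = (P : Subgroup G) := by
  classical
  subst hNdef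
  set L := pPrimePCore p G with hL
  haveI hLn : L.Normal := by
    rw [hL, pPrimePCore]
    exact Subgroup.Normal.comap (Cfsg.Agent.Lib.Basic.pCore_normal p) _
  letI : Fintype L := Fintype.ofFinite _
  obtain ⟨k, hk⟩ := relIndex_pPrimeCore (p := p) (G := G)
  have hKp : ¬ p ∣ Nat.card (pPrimeCore p G) := by
    have h1 := Cfsg.Agent.Lib.Basic.pPrimeCore_coprime (G := G) p
    intro h2
    have h3 := Nat.dvd_gcd h2 (dvd_refl p)
    rw [Nat.Coprime.gcd_eq_one h1] at h3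
    exact hp.out.one_lt.ne' (Nat.dvd_one.mp h3)
  obtain ⟨S⟩ : Nonempty (Sylow p L) := inferInstance
  set Q : Subgroup G := (S : Subgroup L).map L.subtype with hQ
  have hQL : Q ≤ L := Subgroup.map_subtype_le _
  have hQp : IsPGroup p Q := S.isPGroup'.map L.subtype
  have hQS : ¬ p ∣ Q.relIndex L := by
    have h1 : Q.relIndex L = (S : Subgroup L).index := by
      have h2 : Q.subgroupOf L = (S : Subgroup L) := by
        ext x
        rw [Subgroup.mem_subgroupOf, hQ]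
        simp
      rw [Subgroup.relIndex, h2]
    rw [h1]
    exact S.not_dvd_index
  have hCQ := centralizer_le_pPrimePCore hsolv hQL hQS
  obtain ⟨B, hB, hmem, hdef⟩ := fong_general (M := M) (pPrimeCore p G) hM hKp L pPrimeCore_le_pPrimePCore hk hQL hQp hCQ θ hinv
  exact ⟨B, hB, hmem, fun P => isDefectGroup_of_defectClass_one hdef P,
    fun D hD => exists_sylow_of_defectClass_one hM hB hdef hD⟩

end Core

end Cfsg.Agent.Lib.Blocks
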