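import Cfsg.Agent.Lib.Blocks.FongGeneral
import Cfsg.Agent.Lib.OddLocal.PGroup

set_option autoImplicit false
set_option linter.unusedSectionVars false

namespace Cfsg.Agent.Lib.Blocks

open Cfsg

universe u

section Groups

variable {G : Type u} [Group G] [Finite G] {p : ℕ} [hp : Fact p.Prime]

/-- A `p`-group acting on a coset of a `p'`-subgroup it normalizes has a fixed point. -/
theorem exists_mem_centralizer_of_coset {R H : Subgroup G} (hR : IsPGroup p R)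
    (hH : ¬ p ∣ Nat.card H) (hRH : ∀ r ∈ R, ∀ h ∈ H, r * h * r⁻¹ ∈ H) {g : G}
    (hg : ∀ r ∈ R, g⁻¹ * (r * g * r⁻¹) ∈ H) :
    ∃ h ∈ H, g * h ∈ Subgroup.centralizer (R : Set G) := by
  classical
  let S := {x : G // g⁻¹ * x ∈ H}
  have hact : ∀ (r : R) (x : S), g⁻¹ * ((r : G) * x.1 * (r : G)⁻¹) ∈ H := by
    intro r x
    have h1 := H.mul_mem (hg r r.2) (hRH r r.2 _ x.2)
    have h2 : g⁻¹ * ((r : G) * g * (r : G)⁻¹) * ((r : G) * (g⁻¹ * x.1) * (r : G)⁻¹) =
        g⁻¹ * ((r : G) * x.1 * (r : G)⁻¹) := by group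
    rwa [h2] at h1
  letI : MulAction R S :=
    { smul := fun r x => ⟨(r : G) * x.1 * (r : G)⁻¹, hact r x⟩
      one_smul := fun x => Subtype.ext (by
        show ((1 : R) : G) * x.1 * ((1 : R) : G)⁻¹ = x.1
        simp)
      mul_smul := fun r s x => Subtype.ext (by
        show ((r * s : R) : G) * x.1 * ((r * s : R) : G)⁻¹ =
          (r : G) * ((s : G) * x.1 * (s : G)⁻¹) * (r : G)⁻¹
        simp only [Subgroup.coe_mul]
        group) }
  have hcard : Nat.card S = Nat.card H := by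
    refine Nat.card_congr
      { toFun := fun x => ⟨g⁻¹ * x.1, x.2⟩
        invFun := fun h => ⟨g * h.1, by simp⟩
        left_inv := fun x => Subtype.ext (by simp)
        right_inv := fun h => Subtype.ext (by simp) }
  haveI : Finite S := inferInstance
  obtain ⟨x, hx⟩ := hR.nonempty_fixed_point_of_prime_not_dvd_card S (by rwa [hcard])
  refine ⟨g⁻¹ * x.1, x.2, ?_⟩
  rw [Subgroup.mem_centralizer_iff]
  intro r hr
  have h1 : (⟨r, hr⟩ : R) • x = x := hx _
  have h2 : r * x.1 * r⁻¹ = x.1 := congrArg Subtype.val h1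
  rw [mul_inv_cancel_left]
  exact mul_inv_eq_iff_eq_mul.mp h2

/-- Fusion in the fixed points of a coprime action. -/
theorem exists_conj_in_centralizer {K R : Subgroup G} [hKn : K.Normal] (hKp : ¬ p ∣ Nat.card K)
    (hR : IsPGroup p R) {y y' k : G} (hy : y ∈ Subgroup.centralizer (R : Set G))
    (hy' : y' ∈ Subgroup.centralizer (R : Set G)) (hk : k ∈ K) (h : k * y * k⁻¹ = y') :
    ∃ w ∈ K, w ∈ Subgroup.centralizer (R : Set G) ∧ w * y * w⁻¹ = y' := by
  classical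
  have hyr : ∀ r ∈ R, r * y = y * r := fun r hr => Subgroup.mem_centralizer_iff.mp hy r hr
  have hyr' : ∀ r ∈ R, r * y' = y' * r := fun r hr => Subgroup.mem_centralizer_iff.mp hy' r hr
  set H : Subgroup G := K ⊓ Subgroup.centralizer ({y} : Set G) with hH
  have hHK : H ≤ K := inf_le_left
  have hHp : ¬ p ∣ Nat.card H := fun hd =>
    hKp (hd.trans (Subgroup.card_dvd_of_le hHK))
  have hcy : ∀ z, z ∈ Subgroup.centralizer ({y} : Set G) ↔ z * y = y * z := by
    intro z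
    rw [Subgroup.mem_centralizer_singleton_iff]
  obtain ⟨n, hn, hw⟩ := exists_mem_centralizer_of_coset (R := R) (H := H) (g := k) hR hHp
    (by
      intro r hr n hn
      refine ⟨hKn.conj_mem n hn.1 r, (hcy _).mpr ?_⟩
      have h1 := (hcy n).mp hn.2
      have h2 := hyr r hr
      have h3 : r⁻¹ * y = y * r⁻¹ := (Commute.inv_left (show Commute r y from h2)).eq
      calc r * n * r⁻¹ * y = r * n * (r⁻¹ * y) := by group
        _ = r * (n * y) * r⁻¹ := by rw [h3]; group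
        _ = (r * y) * n * r⁻¹ := by rw [h1]; group
        _ = y * (r * n * r⁻¹) := by rw [h2]; group)
    (by
      intro r hr
      refine ⟨?_, (hcy _).mpr ?_⟩
      · have h1 : k⁻¹ * (r * k * r⁻¹) = k⁻¹ * (r * k * r⁻¹) := rfl
        refine K.mul_mem (K.inv_mem hk) (hKn.conj_mem k hk r)
      · have h1 : k * y = y' * k := by rw [← h]; group
        have h2 := hyr' r hr
        have h3 := hyr r hr
        have h4 : r⁻¹ * y = y * r⁻¹ := (Commute.inv_left (show Commute r y from h3)).eq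
        have h5 : k⁻¹ * y' = y * k⁻¹ := by
          rw [inv_mul_eq_iff_eq_mul, ← mul_assoc, h1, mul_assoc, mul_inv_cancel, mul_one]
        calc k⁻¹ * (r * k * r⁻¹) * y = k⁻¹ * r * k * (r⁻¹ * y) := by group
          _ = k⁻¹ * r * (k * y) * r⁻¹ := by rw [h4]; group
          _ = k⁻¹ * (r * y') * k * r⁻¹ := by rw [h1]; group
          _ = (k⁻¹ * y') * r * k * r⁻¹ := by rw [h2]; group
          _ = y * (k⁻¹ * (r * k * r⁻¹)) := by rw [h5]; group)
  refine ⟨k * n, K.mul_mem hk (hHK hn), hw, ?_⟩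
  have h1 := (hcy n).mp hn.2
  rw [← h]
  calc k * n * y * (k * n)⁻¹ = k * (n * y) * n⁻¹ * k⁻¹ := by group
    _ = k * y * k⁻¹ := by rw [h1]; group

theorem le_sup_of_relIndex {K L Q : Subgroup G} (hKL : K ≤ L) {k : ℕ} (hidx : K.relIndex L = p ^ k)
    (hQL : Q ≤ L) (hQS : ¬ p ∣ Q.relIndex L) : L ≤ Q ⊔ K := by
  set T := Q ⊔ K with hT
  have hTL : T ≤ L := sup_le hQL hKL
  have h1 : Q.relIndex T * T.relIndex L = Q.relIndex L :=
    Subgroup.relIndex_mul_relIndex Q T L le_sup_left hTL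
  have h2 : K.relIndex T * T.relIndex L = K.relIndex L :=
    Subgroup.relIndex_mul_relIndex K T L le_sup_right hTL
  have h3 : T.relIndex L ∣ p ^ k := ⟨K.relIndex T, by rw [← hidx, ← h2, mul_comm]⟩
  obtain ⟨j, -, hj⟩ := (Nat.dvd_prime_pow hp.out).mp h3
  have h4 : j = 0 := by
    by_contra h0
    apply hQS
    rw [← h1, hj]
    exact Dvd.dvd.mul_left (dvd_pow_self p h0) _
  rw [h4, pow_zero] at hj
  exact Subgroup.relIndex_eq_one.mp hj

theorem isSylowIn_of_relIndex {L Q : Subgroup G} (hQL : Q ≤ L) (hQp : IsPGroup p Q)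
    (hQS : ¬ p ∣ Q.relIndex L) : IsSylowIn p L Q := by
  have hQ' : IsPGroup p (Q.subgroupOf L) := isPGroup_subgroupOf hQp L
  refine ⟨hQ'.toSylow hQS, ?_⟩
  show (Q.subgroupOf L).map L.subtype = Q
  rw [Subgroup.subgroupOf_map_subtype, inf_eq_left.mpr hQL]

theorem conjS_eq_of_normal {L : Subgroup G} (hL : L.Normal) (x : G) :
    Cfsg.Agent.Lib.Blocks.conjS x L = L := by
  ext z
  rw [mem_conjS]
  constructor
  · intro h
    have := hL.conj_mem _ h x
    have h2 : x * (x⁻¹ * z * x) * x⁻¹ = z := by group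
    rwa [h2] at this
  · intro h
    have := hL.conj_mem _ h x⁻¹
    rwa [inv_inv] at this

theorem eq_one_of_mem_inf_coprime {K Q : Subgroup G} (hKp : ¬ p ∣ Nat.card K) (hQp : IsPGroup p Q)
    {z : G} (hzQ : z ∈ Q) (hzK : z ∈ K) : z = 1 := by
  obtain ⟨j, hj⟩ := hQp ⟨z, hzQ⟩
  have h1 : z ^ p ^ j = 1 := by
    have := congrArg Subtype.val hj
    simpa using this
  have h2 : orderOf z ∣ Nat.card K := by
    have := Subgroup.orderOf_dvd_natCard K hzK
    exact this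
  obtain ⟨i, -, hi⟩ := (Nat.dvd_prime_pow hp.out).mp (orderOf_dvd_of_pow_eq_one h1)
  have hi0 : i = 0 := by
    by_contra h0
    apply hKp
    refine Dvd.dvd.trans ?_ h2
    rw [hi]
    exact dvd_pow_self p h0
  rw [hi0, pow_zero] at hi
  exact orderOf_eq_one_iff.mp hi

/-- `C_{G/K}(L/K) ≤ L/K` when a Sylow subgroup of `L` contains its centralizer in `L`. -/
theorem mem_of_commutes_mod {K L Q : Subgroup G} [hKn : K.Normal] [hLn : L.Normal]
    (hKp : ¬ p ∣ Nat.card K) (hKL : K ≤ L) {k : ℕ} (hidx : K.relIndex L = p ^ k)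
    (hQL : Q ≤ L) (hQp : IsPGroup p Q) (hQS : ¬ p ∣ Q.relIndex L)
    (hCQ : Subgroup.centralizer (Q : Set G) ≤ L) {x : G}
    (hx : ∀ l ∈ L, x * l * x⁻¹ * l⁻¹ ∈ K) : x ∈ L := by
  classical
  have hS : IsSylowIn p L Q := isSylowIn_of_relIndex hQL hQp hQS
  have hS' : IsSylowIn p L (Cfsg.Agent.Lib.Blocks.conjS x Q) := by
    have h1 := hS.conjS x
    rwa [conjS_eq_of_normal hLn] at h1
  obtain ⟨c, hc, hcE⟩ := hS.conj_eq hS'
  have hsup := le_sup_of_relIndex hKL hidx hQL hQS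
  obtain ⟨q, hq, n, hn, hqn⟩ := Subgroup.mem_sup_of_normal_right.mp (hsup hc)
  -- `c = k' q`
  set k' : G := q * n * q⁻¹ with hk'
  have hk'K : k' ∈ K := hKn.conj_mem n hn q
  have hc' : c = k' * q := by rw [hk', ← hqn]; group
  have h1 : Cfsg.Agent.Lib.Blocks.conjS x Q = Cfsg.Agent.Lib.Blocks.conjS k' Q := by
    rw [hcE, hc', ← conjS_conjS]
    congr 1
    ext z
    rw [mem_conjS]
    constructor
    · intro h
      have := Q.mul_mem (Q.mul_mem hq h) (Q.inv_mem hq)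
      have h2 : q * (q⁻¹ * z * q) * q⁻¹ = z := by group
      rwa [h2] at this
    · intro h
      exact Q.mul_mem (Q.mul_mem (Q.inv_mem hq) h) hq
  set g : G := k'⁻¹ * x with hg
  have hgq : ∀ z ∈ Q, g * z * g⁻¹ ∈ Q := by
    intro z hz
    have h2 : x * z * x⁻¹ ∈ Cfsg.Agent.Lib.Blocks.conjS k' Q := by
      rw [← h1]
      exact conj_mem_conjS hz
    rw [mem_conjS] at h2
    have h3 : g * z * g⁻¹ = k'⁻¹ * (x * z * x⁻¹) * k' := by rw [hg]; group
    rwa [h3]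
  have hgK : ∀ z ∈ Q, g * z * g⁻¹ * z⁻¹ ∈ K := by
    intro z hz
    have h2 := hx z (hQL hz)
    have h3 : g * z * g⁻¹ * z⁻¹ =
        k'⁻¹ * (x * z * x⁻¹ * z⁻¹) * (z * k' * z⁻¹) := by rw [hg]; group
    rw [h3]
    exact K.mul_mem (K.mul_mem (K.inv_mem hk'K) h2) (hKn.conj_mem k' hk'K z)
  have hgC : g ∈ Subgroup.centralizer (Q : Set G) := by
    rw [Subgroup.mem_centralizer_iff]
    intro z hz
    have h2 : g * z * g⁻¹ * z⁻¹ = 1 :=
      eq_one_of_mem_inf_coprime hKp hQp (Q.mul_mem (hgq z hz) (Q.inv_mem hz)) (hgK z hz)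
    have h3 : g * z * g⁻¹ = z := by
      rwa [mul_inv_eq_one] at h2
    exact (mul_inv_eq_iff_eq_mul.mp h3).symm
  have h2 : x = k' * g := by rw [hg]; group
  rw [h2]
  exact L.mul_mem (hKL hk'K) (hCQ hgC)

/-- The `A × B` step of `p`-constraint. -/
theorem mem_of_coprime_pow_of_commutes {K L R : Subgroup G} [hKn : K.Normal] [hLn : L.Normal]
    (hKp : ¬ p ∣ Nat.card K) (hKL' : K ≤ L) {k : ℕ} (hidx : K.relIndex L = p ^ k) (hR : IsPGroup p R)
    (hmem : ∀ x : G, (∀ l ∈ L, x * l * x⁻¹ * l⁻¹ ∈ K) → x ∈ L) {y : G}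
    (hy : y ∈ Subgroup.centralizer (R : Set G)) {m : ℕ} (hm : ¬ p ∣ m) (hym : y ^ m ∈ K)
    (hyL : ∀ l ∈ L, l ∈ Subgroup.centralizer (R : Set G) → y * l * y⁻¹ * l⁻¹ ∈ K) : y ∈ K := by
  classical
  set π := QuotientGroup.mk' K with hπ
  have hπ1 : ∀ z, π z = 1 ↔ z ∈ K := fun z => QuotientGroup.eq_one_iff z
  have hsurj : Function.Surjective π := QuotientGroup.mk'_surjective K
  have hcomm : ∀ z w : G, z * w * z⁻¹ * w⁻¹ ∈ K ↔ π z * π w = π w * π z := by
    intro z w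
    rw [← hπ1]
    simp only [map_mul, map_inv]
    constructor
    · intro h
      have h1 : π z * π w * (π z)⁻¹ = π w := by rwa [mul_inv_eq_one] at h
      exact mul_inv_eq_iff_eq_mul.mp h1
    · intro h
      rw [h]
      group
  set x := π y with hxdef
  set P := L.map π with hP
  have hPp : IsPGroup p P := by
    rw [IsPGroup.iff_card]
    refine ⟨k, ?_⟩
    have h2 := Subgroup.relIndex_ker (K := L) π
    rw [QuotientGroup.ker_mk'] at h2
    rw [← h2, hidx]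
  have hPn : P.Normal := hLn.map π hsurj
  have hxm : x ^ m = 1 := by
    rw [hxdef, ← map_pow, hπ1]
    exact hym
  have hAcop : (Nat.card (Subgroup.zpowers x)).Coprime p := by
    rw [Nat.card_zpowers]
    refine Nat.Coprime.symm ((Nat.Prime.coprime_iff_not_dvd hp.out).mpr fun hd => hm ?_)
    exact hd.trans (orderOf_dvd_of_pow_eq_one hxm)
  have hA := Cfsg.Agent.Lib.OddLocal.thompson_AxB p P (Subgroup.zpowers x) (R.map π) hPp (hR.map π)
    hAcop
    (by rw [Subgroup.normalizer_eq_top_iff.mpr hPn]; exact le_top)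
    (by rw [Subgroup.normalizer_eq_top_iff.mpr hPn]; exact le_top)
    (by
      intro a ha b hb
      obtain ⟨i, rfl⟩ := Subgroup.mem_zpowers_iff.mp ha
      obtain ⟨r, hr, rfl⟩ := hb
      have h2 : Commute x (π r) := by
        show π y * π r = π r * π y
        rw [← map_mul, ← map_mul, (Subgroup.mem_centralizer_iff.mp hy r hr)]
      exact (h2.zpow_left i).eq)
    (by
      intro a ha u hu hub
      obtain ⟨i, rfl⟩ := Subgroup.mem_zpowers_iff.mp ha
      obtain ⟨l, hl, rfl⟩ := hu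
      have hg : ∀ r ∈ R, l⁻¹ * (r * l * r⁻¹) ∈ K := by
        intro r hr
        rw [← hπ1]
        simp only [map_mul, map_inv]
        have h2 := hub (π r) ⟨r, hr, rfl⟩
        have h3 : π r * π l * (π r)⁻¹ = π l := by rw [h2]; group
        rw [h3, inv_mul_cancel]
      obtain ⟨h, hh, hlh⟩ := exists_mem_centralizer_of_coset (R := R) (H := K) hR hKp
        (fun r _ n hn => hKn.conj_mem n hn r) hg
      have h2 := hyL (l * h) (L.mul_mem hl (hKL' hh)) hlh
      have h3 := (hcomm y (l * h)).mp h2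
      have h4 : π (l * h) = π l := by
        rw [map_mul, (hπ1 h).mpr hh, mul_one]
      rw [h4] at h3
      have h5 : Commute x (π l) := h3
      exact (h5.zpow_left i).eq)
  have hx1 : x ∈ Subgroup.centralizer (P : Set (G ⧸ K)) := hA (Subgroup.mem_zpowers x)
  have hyLmem : y ∈ L := by
    apply hmem
    intro l hl
    rw [hcomm]
    exact (Subgroup.mem_centralizer_iff.mp hx1 _ ⟨l, hl, rfl⟩).symm
  have hxP : x ∈ P := ⟨y, hyLmem, rfl⟩
  obtain ⟨j, hj⟩ := hPp ⟨x, hxP⟩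
  have h1 : x ^ p ^ j = 1 := by
    have := congrArg Subtype.val hj
    simpa using this
  have hco : Nat.Coprime (p ^ j) m := Nat.Coprime.pow_left j ((Nat.Prime.coprime_iff_not_dvd hp.out).mpr hm)
  have h2 : orderOf x = 1 := by
    have h3 := Nat.dvd_gcd (orderOf_dvd_of_pow_eq_one h1) (orderOf_dvd_of_pow_eq_one hxm)
    rw [Nat.Coprime.gcd_eq_one hco] at h3
    exact Nat.dvd_one.mp h3
  exact (hπ1 y).mp (orderOf_eq_one_iff.mp h2)

/-- The centralizer of a `p`-subgroup inherits `p`-constraint. -/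
theorem exists_pConstrained_centralizer {K L Q R : Subgroup G} [hKn : K.Normal] [hLn : L.Normal]
    (hKp : ¬ p ∣ Nat.card K) (hKL : K ≤ L) {k : ℕ} (hidx : K.relIndex L = p ^ k)
    (hQL : Q ≤ L) (hQp : IsPGroup p Q) (hQS : ¬ p ∣ Q.relIndex L)
    (hCQ : Subgroup.centralizer (Q : Set G) ≤ L) (hR : IsPGroup p R) :
    ∃ (L₁ Q₁ : Subgroup (Subgroup.centralizer (R : Set G))) (k₁ : ℕ), L₁.Normal ∧
      K.subgroupOf (Subgroup.centralizer (R : Set G)) ≤ L₁ ∧
      (K.subgroupOf (Subgroup.centralizer (R : Set G))).relIndex L₁ = p ^ k₁ ∧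
      Q₁ ≤ L₁ ∧ IsPGroup p Q₁ ∧ Subgroup.centralizer (Q₁ : Set (Subgroup.centralizer (R : Set G))) ≤ L₁ := by
  classical
  set C := Subgroup.centralizer (R : Set G) with hC
  set K₁ := K.subgroupOf C with hK₁
  set T₀ := L.subgroupOf C with hT₀
  haveI hK₁n : K₁.Normal := Subgroup.normal_subgroupOf
  haveI hT₀n : T₀.Normal := Subgroup.normal_subgroupOf
  set π₁ := QuotientGroup.mk' K₁ with hπ₁
  have hπ1 : ∀ z, π₁ z = 1 ↔ z ∈ K₁ := fun z => QuotientGroup.eq_one_iff z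
  have hsurj : Function.Surjective π₁ := QuotientGroup.mk'_surjective K₁
  have hcomm : ∀ z w : C, z * w * z⁻¹ * w⁻¹ ∈ K₁ ↔ π₁ z * π₁ w = π₁ w * π₁ z := by
    intro z w
    rw [← hπ1]
    simp only [map_mul, map_inv]
    constructor
    · intro h
      have h1 : π₁ z * π₁ w * (π₁ z)⁻¹ = π₁ w := by rwa [mul_inv_eq_one] at h
      exact mul_inv_eq_iff_eq_mul.mp h1
    · intro h
      rw [h]
      group
  -- powers of elements of `L`
  have hpow : ∀ l ∈ L, l ^ p ^ k ∈ K := by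
    intro l hl
    have h2 := Subgroup.relIndex_ker (K := L) (QuotientGroup.mk' K)
    rw [QuotientGroup.ker_mk', hidx] at h2
    have h3 : (⟨QuotientGroup.mk' K l, l, hl, rfl⟩ : L.map (QuotientGroup.mk' K)) ^ (p ^ k) = 1 := by
      rw [h2]
      exact pow_card_eq_one'
    have h4 := congrArg Subtype.val h3
    have h5 : QuotientGroup.mk' K (l ^ p ^ k) = 1 := by
      rw [map_pow]
      simpa using h4
    exact (QuotientGroup.eq_one_iff _).mp h5
  have hT₀p : IsPGroup p (T₀.map π₁) := by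
    rintro ⟨_, t, ht, rfl⟩
    refine ⟨k, Subtype.ext ?_⟩
    show π₁ t ^ p ^ k = 1
    rw [← map_pow, hπ1, hK₁, Subgroup.mem_subgroupOf]
    simpa using hpow _ ht
  haveI hcoreN : (Cfsg.pCore p (C ⧸ K₁)).Normal := Cfsg.Agent.Lib.Basic.pCore_normal p
  have hT₀n' : (T₀.map π₁).Normal := hT₀n.map π₁ hsurj
  have hT₀core : T₀.map π₁ ≤ Cfsg.pCore p (C ⧸ K₁) := Cfsg.Agent.Lib.Basic.le_pCore hT₀n' hT₀p
  set L₁ : Subgroup C := (Cfsg.pCore p (C ⧸ K₁)).comap π₁ with hL₁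
  have hT₀L₁ : T₀ ≤ L₁ := fun t ht => hT₀core ⟨t, ht, rfl⟩
  have hK₁L₁ : K₁ ≤ L₁ := by
    intro z hz
    show π₁ z ∈ Cfsg.pCore p (C ⧸ K₁)
    rw [(hπ1 z).mpr hz]
    exact Subgroup.one_mem _
  have hL₁map : L₁.map π₁ = Cfsg.pCore p (C ⧸ K₁) :=
    Subgroup.map_comap_eq_self_of_surjective hsurj _
  obtain ⟨k₁, hk₁⟩ : ∃ k₁, K₁.relIndex L₁ = p ^ k₁ := by
    have h2 := Subgroup.relIndex_ker (K := L₁) π₁
    rw [QuotientGroup.ker_mk', hL₁map] at h2
    rw [h2]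
    exact IsPGroup.iff_card.mp (Cfsg.Agent.Lib.Basic.pCore_isPGroup p)
  obtain ⟨k₂, hk₂⟩ : ∃ k₂, K₁.relIndex T₀ = p ^ k₂ := by
    have h2 := Subgroup.relIndex_ker (K := T₀) π₁
    rw [QuotientGroup.ker_mk'] at h2
    rw [h2]
    exact IsPGroup.iff_card.mp hT₀p
  have hK₁T₀ : K₁ ≤ T₀ := fun z hz => by
    rw [hT₀, Subgroup.mem_subgroupOf]
    exact hKL (Subgroup.mem_subgroupOf.mp hz)
  -- a Sylow subgroup of `T₀`
  obtain ⟨S⟩ : Nonempty (Sylow p T₀) := inferInstance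
  set Q₁ : Subgroup C := (S : Subgroup T₀).map T₀.subtype with hQ₁
  have hQ₁T₀ : Q₁ ≤ T₀ := Subgroup.map_subtype_le _
  have hQ₁p : IsPGroup p Q₁ := S.isPGroup'.map _
  have hQ₁S : ¬ p ∣ Q₁.relIndex T₀ := by
    have h2 : Q₁.subgroupOf T₀ = (S : Subgroup T₀) :=
      Subgroup.comap_map_eq_self_of_injective T₀.subtype_injective _
    rw [Subgroup.relIndex, h2]
    exact S.not_dvd_index
  have hsup : T₀ ≤ Q₁ ⊔ K₁ := le_sup_of_relIndex hK₁T₀ hk₂ hQ₁T₀ hQ₁S
  refine ⟨L₁, Q₁, k₁, Subgroup.Normal.comap hcoreN π₁, hK₁L₁, hk₁, hQ₁T₀.trans hT₀L₁, hQ₁p, ?_⟩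
  -- the centralizer of `T₀ / K₁`
  set D : Subgroup (C ⧸ K₁) := Subgroup.centralizer ((T₀.map π₁ : Subgroup _) : Set (C ⧸ K₁)) with hD
  haveI := hT₀n'
  have hDn : D.Normal := Subgroup.normal_centralizer
  have hmem : ∀ x : G, (∀ l ∈ L, x * l * x⁻¹ * l⁻¹ ∈ K) → x ∈ L :=
    fun x hx => mem_of_commutes_mod hKp hKL hidx hQL hQp hQS hCQ hx
  have hDp : IsPGroup p D := by
    rintro ⟨d, hd⟩
    obtain ⟨c, rfl⟩ := hsurj d
    have hn : orderOf (π₁ c) ≠ 0 := (orderOf_pos _).ne'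
    obtain ⟨e, n', hn', hne⟩ := Nat.exists_eq_pow_mul_and_not_dvd hn p hp.out.ne_one
    refine ⟨e, Subtype.ext ?_⟩
    show π₁ c ^ p ^ e = 1
    rw [← map_pow, hπ1, hK₁, Subgroup.mem_subgroupOf]
    have hyC : ((c ^ p ^ e : C) : G) ∈ C := (c ^ p ^ e).2
    refine mem_of_coprime_pow_of_commutes (L := L) (R := R) (m := n') hKp hKL hidx hR hmem hyC hn' ?_ ?_
    · have h2 : π₁ (c ^ p ^ e) ^ n' = 1 := by
        rw [map_pow, ← pow_mul, ← hne, pow_orderOf_eq_one]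
      rw [← map_pow, hπ1, hK₁, Subgroup.mem_subgroupOf] at h2
      simpa using h2
    · intro l hl hlC
      have hlT : (⟨l, hlC⟩ : C) ∈ T₀ := by
        rw [hT₀, Subgroup.mem_subgroupOf]
        exact hl
      have h2 : π₁ c * π₁ ⟨l, hlC⟩ = π₁ ⟨l, hlC⟩ * π₁ c :=
        (Subgroup.mem_centralizer_iff.mp hd _ ⟨_, hlT, rfl⟩).symm
      have h3 : Commute (π₁ c ^ p ^ e) (π₁ ⟨l, hlC⟩) := Commute.pow_left h2 _
      have h4 : π₁ (c ^ p ^ e) * π₁ ⟨l, hlC⟩ = π₁ ⟨l, hlC⟩ * π₁ (c ^ p ^ e) := by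
        rw [map_pow]
        exact h3.eq
      have h5 := (hcomm _ _).mpr h4
      rw [hK₁, Subgroup.mem_subgroupOf] at h5
      simpa using h5
  have hDcore : D ≤ Cfsg.pCore p (C ⧸ K₁) := Cfsg.Agent.Lib.Basic.le_pCore hDn hDp
  intro c hc
  show π₁ c ∈ Cfsg.pCore p (C ⧸ K₁)
  apply hDcore
  rw [hD, Subgroup.mem_centralizer_iff]
  rintro _ ⟨t, ht, rfl⟩
  obtain ⟨q, hq, n, hn, rfl⟩ := Subgroup.mem_sup_of_normal_right.mp (hsup ht)
  rw [map_mul, (hπ1 n).mpr hn, mul_one, ← map_mul, ← map_mul]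
  exact congrArg π₁ (Subgroup.mem_centralizer_iff.mp hc q hq)

end Groups

end Cfsg.Agent.Lib.Blocks
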