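import Cfsg.Agent.Lib.Blocks.PRationalExt
import Cfsg.Agent.Lib.Blocks.FongGeneral
import Cfsg.Agent.Lib.Blocks.PConstrained
import Cfsg.Agent.Lib.Char.Gallagher
import Cfsg.Agent.Lib.Char.Ito
import Cfsg.Agent.Lib.Char.RelIto
import Cfsg.Agent.Lib.H8Group.FongReynolds

/-! # Heights in `p`-solvable groups

Fong's theorem: the height of a character in a block of a `p`-solvable group with defect group `P`
is at most the `p`-adic valuation of `|P : Z(P)|`. -/

set_option autoImplicit false
set_option linter.unusedSectionVars false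
set_option linter.style.haveILetI false

namespace Cfsg.Agent.Lib.Blocks

open Cfsg Cfsg.Agent.Lib.Char Cfsg.Agent.Lib.H8Group Module

universe u

section

variable {G : Type u} [Group G] [Fintype G] {p : ℕ} [hp : Fact p.Prime]

theorem fh_not_dvd_relIndex (P : Sylow p G) (L : Subgroup G) [L.Normal] :
    ¬ p ∣ ((P : Subgroup G) ⊓ L).relIndex L := by
  have h1 : ((P : Subgroup G) ⊓ L).relIndex L = (P : Subgroup G).relIndex L :=
    Subgroup.inf_relIndex_right _ _
  have h2 := Subgroup.relIndex_inf_mul_relIndex (P : Subgroup G) L ⊤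
  have h3 := Subgroup.relIndex_inf_mul_relIndex L (P : Subgroup G) ⊤
  rw [inf_top_eq, Subgroup.relIndex_top_right, inf_comm] at h2
  rw [inf_top_eq, Subgroup.relIndex_top_right] at h3
  have h4 : L.relIndex (P : Subgroup G) = L.relIndex ((P : Subgroup G) ⊔ L) :=
    (Subgroup.relIndex_sup_right _ _).symm
  have h5 : L.relIndex ((P : Subgroup G) ⊔ L) * ((P : Subgroup G) ⊔ L).index = L.index :=
    Subgroup.relIndex_mul_index le_sup_right
  have h6 : (P : Subgroup G).relIndex L * (L.relIndex (P : Subgroup G) * ((P : Subgroup G) ⊔ L).index) =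
      L.relIndex (P : Subgroup G) * (P : Subgroup G).index := by
    rw [h4, h5]
    rw [h2, ← h4]
    exact h3.symm ▸ rfl
  have h7 : L.relIndex (P : Subgroup G) ≠ 0 := Subgroup.index_ne_zero_of_finite
  have h8 : (P : Subgroup G).relIndex L * ((P : Subgroup G) ⊔ L).index = (P : Subgroup G).index := by
    apply Nat.eq_of_mul_eq_mul_left (Nat.pos_of_ne_zero h7)
    rw [← h6]
    ring
  rw [h1]
  intro h
  exact P.not_dvd_index (h8 ▸ Dvd.dvd.mul_right h _)

/-- The index of the centre is an invariant of the group. -/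
theorem fh_index_center_congr {A B : Type*} [Group A] [Group B] [Finite A] (e : A ≃* B) :
    (Subgroup.center A).index = (Subgroup.center B).index := by
  haveI : Finite B := Finite.of_equiv A e.toEquiv
  have h1 := Subgroup.card_mul_index (Subgroup.center A)
  have h2 := Subgroup.card_mul_index (Subgroup.center B)
  have h3 : Nat.card (Subgroup.center A) = Nat.card (Subgroup.center B) :=
    Nat.card_congr (Subgroup.centerCongr e).toEquiv
  have h4 : Nat.card A = Nat.card B := Nat.card_congr e.toEquiv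
  rw [← h3, ← h4, ← h1] at h2
  exact (Nat.eq_of_mul_eq_mul_left Nat.card_pos h2).symm

/-- The key estimate for invariant characters. -/
theorem fh_invariant (hsolv : IsPSolvable p G) (K : Subgroup G) [hK : K.Normal] [Fintype K]
    (hKdef : K = pPrimeCore p G) (θ : IrrCharacter K) (hinv : ∀ g : G, conjIrr K g θ = θ)
    (χ : IrrCharacter G) (hover : classInner (fun n : K => (χ : G → ℂ) n) (θ : K → ℂ) ≠ 0) (P : Sylow p G) :
    (charDegree (χ : G → ℂ)).factorization p ≤
      ((Subgroup.center (P : Subgroup G)).index).factorization p := by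
  classical
  have hpp : p.Prime := hp.out
  subst hKdef
  set L := pPrimePCore p G with hLdef
  haveI hLn : L.Normal := by
    rw [hLdef, pPrimePCore]
    exact Subgroup.Normal.comap (Cfsg.Agent.Lib.Basic.pCore_normal p) _
  letI : Fintype L := Fintype.ofFinite _
  obtain ⟨k, hk⟩ := relIndex_pPrimeCore (p := p) (G := G)
  have hKL : pPrimeCore p G ≤ L := pPrimeCore_le_pPrimePCore
  have hKp : ¬ p ∣ Nat.card (pPrimeCore p G) := by
    have h1 := Cfsg.Agent.Lib.Basic.pPrimeCore_coprime (G := G) p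
    intro h2
    have h3 := Nat.dvd_gcd h2 (dvd_refl p)
    rw [Nat.Coprime.gcd_eq_one h1] at h3
    exact hpp.one_lt.ne' (Nat.dvd_one.mp h3)
  set Q : Subgroup G := (P : Subgroup G) ⊓ L with hQ
  have hQL : Q ≤ L := inf_le_right
  have hQS : ¬ p ∣ Q.relIndex L := fh_not_dvd_relIndex P L
  have hCQ := centralizer_le_pPrimePCore hsolv hQL hQS
  set Z : Subgroup G := (Subgroup.center (P : Subgroup G)).map (P : Subgroup G).subtype with hZ
  have hZP : Z ≤ P := Subgroup.map_subtype_le _
  have hZcomm : ∀ z ∈ Z, ∀ q ∈ (P : Subgroup G), z * q = q * z := by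
    rintro z ⟨z', hz', rfl⟩ q hq
    have := (Subgroup.mem_center_iff.mp hz') ⟨q, hq⟩
    exact (congrArg Subtype.val this).symm
  have hZL : Z ≤ L := by
    intro z hz
    apply hCQ
    rw [Subgroup.mem_centralizer_iff]
    intro q hq
    exact (hZcomm z hz q hq.1).symm
  have hZpg : IsPGroup p Z := P.isPGroup'.to_le hZP
  -- the intermediate subgroup
  letI : Fintype ((pPrimeCore p G).subgroupOf L) := Fintype.ofFinite _
  set K₁ := (pPrimeCore p G).subgroupOf L with hK₁
  haveI hK₁n : K₁.Normal := Subgroup.normal_subgroupOf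
  set e : K₁ ≃* pPrimeCore p G := Subgroup.subgroupOfEquivOfLe hKL with he
  have hsum := classInner_res_trans (pPrimeCore p G) L hKL χ (θ : pPrimeCore p G → ℂ)
  rw [hsum] at hover
  obtain ⟨ξ, -, hξ⟩ := Finset.exists_ne_zero_of_sum_ne_zero hover
  have hξ1 : classInner (fun n : L => (χ : G → ℂ) n) (ξ : L → ℂ) ≠ 0 := left_ne_zero_of_mul hξ
  have hξ2 : classInner (fun n : K₁ => (ξ : L → ℂ) n) ((θ : pPrimeCore p G → ℂ) ∘ e) ≠ 0 :=
    right_ne_zero_of_mul hξ
  -- the extension
  have hdeg : ¬ p ∣ charDegree (θ : pPrimeCore p G → ℂ) :=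
    fun h => hKp (h.trans (charDegree_dvd_card θ.2))
  obtain ⟨δ, hδ⟩ := exists_detHom (IsIrrCharacter.isCharacter θ.2)
  have hdet : ∀ n : pPrimeCore p G, detChar (θ : pPrimeCore p G → ℂ) n ^ Nat.card (pPrimeCore p G) = 1 := by
    intro n
    rw [hδ, ← Units.val_pow_eq_pow_val, ← map_pow, pow_card_eq_one', map_one, Units.val_one]
  obtain ⟨η, hη, hηv⟩ := pr_ext_pgroup (pPrimeCore p G) L hKL hk θ hinv hdeg hKp hdet
  have hres : Cfsg.Agent.Lib.Char.resFun K₁ η =
      ((Cfsg.Agent.Lib.Blocks.irrComp e θ : IrrCharacter K₁) : K₁ → ℂ) := by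
    funext n
    exact hηv (e n)
  have hθ₁ : IsIrrCharacter K₁ (Cfsg.Agent.Lib.Char.resFun K₁ η) := by
    rw [hres]
    exact (Cfsg.Agent.Lib.Blocks.irrComp e θ).2
  letI : Fintype (L ⧸ K₁) := Fintype.ofFinite _
  have hover' : classInner (Cfsg.Agent.Lib.Char.resFun K₁ (ξ : L → ℂ)) (Cfsg.Agent.Lib.Char.resFun K₁ η) ≠ 0 := by
    rw [hres]
    exact hξ2
  obtain ⟨β, hβ, hξβ⟩ := exists_gallagher K₁ hη hθ₁ ξ.2 hover'
  -- the degrees
  have hdeg1 : charDegree (ξ : L → ℂ) = charDegree β * charDegree (θ : pPrimeCore p G → ℂ) := by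
    have h1 : (ξ : L → ℂ) 1 = (charDegree (ξ : L → ℂ) : ℂ) := apply_one_eq_charDegree (IsIrrCharacter.isCharacter ξ.2)
    have h2 : β 1 = (charDegree β : ℂ) := apply_one_eq_charDegree (IsIrrCharacter.isCharacter hβ)
    have h3 : (θ : pPrimeCore p G → ℂ) 1 = (charDegree (θ : pPrimeCore p G → ℂ) : ℂ) :=
      apply_one_eq_charDegree (IsIrrCharacter.isCharacter θ.2)
    have h4 : (ξ : L → ℂ) 1 = inflate K₁ β 1 * η 1 := by
      rw [hξβ]
    have h5 : inflate K₁ β 1 = β 1 := by
      show β _ = β 1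
      rfl
    have h6 : η 1 = (θ : pPrimeCore p G → ℂ) 1 := by
      have := hηv 1
      exact this
    rw [h5, h6, h1, h2, h3] at h4
    exact_mod_cast h4
  -- the central image
  set Z₁ : Subgroup L := Z.subgroupOf L with hZ₁
  set Zb : Subgroup (L ⧸ K₁) := Z₁.map (QuotientGroup.mk' K₁) with hZb
  have hLsup : L ≤ Q ⊔ pPrimeCore p G := le_sup_of_relIndex hKL hk hQL hQS
  have hZbc : Zb ≤ Subgroup.center (L ⧸ K₁) := by
    rintro _ ⟨z, hz, rfl⟩
    rw [Subgroup.mem_center_iff]
    intro y
    obtain ⟨l, rfl⟩ := QuotientGroup.mk'_surjective K₁ y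
    have hl := hLsup l.2
    obtain ⟨q, hq, n, hn, hqn⟩ := Subgroup.mem_sup_of_normal_right.mp hl
    have hqL : q ∈ L := hQL hq
    have hnL : n ∈ L := hKL hn
    have hl' : l = ⟨q, hqL⟩ * ⟨n, hnL⟩ := Subtype.ext hqn.symm
    have hnK : (⟨n, hnL⟩ : L) ∈ K₁ := hn
    have h5 : QuotientGroup.mk' K₁ (⟨n, hnL⟩ : L) = 1 := (QuotientGroup.eq_one_iff _).mpr hnK
    rw [hl', map_mul, h5, mul_one, ← map_mul, ← map_mul]
    congr 1
    apply Subtype.ext
    exact (hZcomm _ hz q hq.1).symm
  have hβdvd : charDegree β ∣ Zb.index :=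
    (charDegree_dvd_index_center hβ).trans (Subgroup.index_dvd_of_le hZbc)
  -- counting
  have hcZb : Nat.card Zb = Nat.card (Subgroup.center (P : Subgroup G)) := by
    have h1 := Subgroup.relIndex_ker (K := Z₁) (QuotientGroup.mk' K₁)
    rw [QuotientGroup.ker_mk'] at h1
    have h2 : (K₁ ⊓ Z₁).relIndex Z₁ = K₁.relIndex Z₁ := Subgroup.inf_relIndex_right _ _
    have h3 : K₁ ⊓ Z₁ = ⊥ := by
      rw [eq_bot_iff]
      rintro x ⟨hx1, hx2⟩
      have h4 : (x : G) = 1 := eq_one_of_mem_inf_coprime hKp hZpg hx2 hx1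
      exact Subtype.ext h4
    rw [h3, Subgroup.relIndex_bot_left] at h2
    have h4 : Nat.card Z₁ = Nat.card Z := Nat.card_congr (Subgroup.subgroupOfEquivOfLe hZL).toEquiv
    have h5 : Nat.card Z = Nat.card (Subgroup.center (P : Subgroup G)) :=
      Subgroup.card_map_of_injective (Subgroup.subtype_injective _)
    rw [hZb, ← h1, ← h2, h4, h5]
  have hi1 : Zb.index * Nat.card Zb = p ^ k := by
    rw [mul_comm, Subgroup.card_mul_index, ← Subgroup.index_eq_card]
    exact hk
  have hcK₁ : Nat.card K₁ = Nat.card (pPrimeCore p G) := Nat.card_congr e.toEquiv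
  have hi2 : Nat.card L = p ^ k * Nat.card (pPrimeCore p G) := by
    rw [← Subgroup.index_mul_card K₁, hcK₁]
    congr 1
  have hi3 : L.index * Nat.card L = Nat.card G := Subgroup.index_mul_card L
  have hi4 : (Subgroup.center (P : Subgroup G)).index * Nat.card (Subgroup.center (P : Subgroup G)) =
      Nat.card (P : Subgroup G) := Subgroup.index_mul_card _
  -- the degree of `χ`
  have hc1 : (χ : G → ℂ) 1 = (charDegree (χ : G → ℂ) : ℂ) := apply_one_eq_charDegree (IsIrrCharacter.isCharacter χ.2)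
  have hc2 : (ξ : L → ℂ) 1 = (charDegree (ξ : L → ℂ) : ℂ) := apply_one_eq_charDegree (IsIrrCharacter.isCharacter ξ.2)
  obtain ⟨hd1, hd2⟩ := Triple.degree_ratio L χ.2 ξ.2 hξ1 hc1 hc2
  have hχdeg : charDegree (χ : G → ℂ) ∣ Zb.index * charDegree (θ : pPrimeCore p G → ℂ) * L.index := by
    have h1 : charDegree (χ : G → ℂ) = charDegree (ξ : L → ℂ) * (charDegree (χ : G → ℂ) / charDegree (ξ : L → ℂ)) :=
      (Nat.mul_div_cancel' hd1).symm
    calc charDegree (χ : G → ℂ) = charDegree (ξ : L → ℂ) * (charDegree (χ : G → ℂ) / charDegree (ξ : L → ℂ)) := h1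
      _ ∣ Zb.index * charDegree (θ : pPrimeCore p G → ℂ) * L.index := by
        rw [hdeg1]
        exact Nat.mul_dvd_mul (Nat.mul_dvd_mul hβdvd dvd_rfl) (by rw [← hdeg1]; exact hd2)
  have hne1 : Zb.index ≠ 0 := Subgroup.index_ne_zero_of_finite
  have hne2 : charDegree (θ : pPrimeCore p G → ℂ) ≠ 0 := (charDegree_pos θ.2).ne'
  have hne3 : L.index ≠ 0 := Subgroup.index_ne_zero_of_finite
  have hne4 : Nat.card (Subgroup.center (P : Subgroup G)) ≠ 0 := Nat.card_pos.ne'
  have hne5 : Nat.card (pPrimeCore p G) ≠ 0 := Nat.card_pos.ne'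
  have hne6 : Nat.card L ≠ 0 := Nat.card_pos.ne'
  have hne7 : (Subgroup.center (P : Subgroup G)).index ≠ 0 := Subgroup.index_ne_zero_of_finite
  have hf1 := (Nat.factorization_le_iff_dvd (charDegree_pos χ.2).ne'
    (mul_ne_zero (mul_ne_zero hne1 hne2) hne3)).mpr hχdeg p
  rw [Nat.factorization_mul (mul_ne_zero hne1 hne2) hne3, Nat.factorization_mul hne1 hne2] at hf1
  simp only [Finsupp.add_apply] at hf1
  have hf2 : (charDegree (θ : pPrimeCore p G → ℂ)).factorization p = 0 :=
    Nat.factorization_eq_zero_of_not_dvd hdeg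
  have hf3 : (Nat.card (pPrimeCore p G)).factorization p = 0 :=
    Nat.factorization_eq_zero_of_not_dvd hKp
  have hf4 : (Zb.index * Nat.card Zb).factorization p = k := by
    rw [hi1, Nat.Prime.factorization_pow hpp]
    simp
  rw [Nat.factorization_mul hne1 (by rw [hcZb]; exact hne4), hcZb] at hf4
  simp only [Finsupp.add_apply] at hf4
  have hf5 : (Nat.card L).factorization p = k := by
    rw [hi2, Nat.factorization_mul (pow_ne_zero _ hpp.ne_zero) hne5, Nat.Prime.factorization_pow hpp,
      Finsupp.add_apply, Finsupp.single_eq_same, hf3]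
    rfl
  have hf6 : (Nat.card G).factorization p = L.index.factorization p + k := by
    rw [← hi3, Nat.factorization_mul hne3 hne6, Finsupp.add_apply, hf5]
  have hf7 : (Nat.card (P : Subgroup G)).factorization p =
      (Subgroup.center (P : Subgroup G)).index.factorization p + (Nat.card (Subgroup.center (P : Subgroup G))).factorization p := by
    rw [← hi4, Nat.factorization_mul hne7 hne4, Finsupp.add_apply]
  have hf8 : (Nat.card (P : Subgroup G)).factorization p = (Nat.card G).factorization p := by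
    rw [P.card_eq_multiplicity, Nat.Prime.factorization_pow hpp, Finsupp.single_eq_same]
  omega

end

section Induction

variable {p : ℕ} [hp : Fact p.Prime] {M : Ideal AlgInt}

theorem fh_main (hM : IsPModular p M) : ∀ (n : ℕ) (G : Type u) [Group G] [Fintype G], Nat.card G = n →
    IsPSolvable p G → ∀ (B : Set (IrrCharacter G)), IsPBlock M B → ∀ (P : Subgroup G), IsDefectGroup p M B P →
    ∀ χ ∈ B, blockHeight p B (χ : G → ℂ) ≤ ((Subgroup.center P).index).factorization p := by
  intro n
  induction n using Nat.strong_induction_on with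
  | _ n ih =>
    intro G _ _ hn hsolv B hB P hP χ hχ
    classical
    have hpr := isPrime_of_modular hM
    have hpp : p.Prime := hp.out
    haveI hKn : (pPrimeCore p G).Normal := Cfsg.Agent.Lib.Basic.pPrimeCore_normal p
    letI : Fintype (pPrimeCore p G) := Fintype.ofFinite _
    obtain ⟨θ, hθ⟩ := Cfsg.Agent.Lib.Blocks.exists_constituent (pPrimeCore p G) χ
    have hKp : ¬ p ∣ Nat.card (pPrimeCore p G) := by
      have h1 := Cfsg.Agent.Lib.Basic.pPrimeCore_coprime (G := G) p
      intro h2
      have h3 := Nat.dvd_gcd h2 (dvd_refl p)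
      rw [Nat.Coprime.gcd_eq_one h1] at h3
      exact hpp.one_lt.ne' (Nat.dvd_one.mp h3)
    have hb : IsPBlock M ({θ} : Set (IrrCharacter (pPrimeCore p G))) := by
      have h1 : ¬ p ∣ Nat.card (pPrimeCore p G) / charDegree (θ : pPrimeCore p G → ℂ) :=
        fun h => hKp (h.trans (Nat.div_dvd_of_dvd (charDegree_dvd_card θ.2)))
      have h2 := (not_dvd_iff_blockOf_singleton hM θ).mp h1
      rw [← h2]
      exact isPBlock_blockOf θ
    set T : Subgroup G := inertia (pPrimeCore p G) (θ : pPrimeCore p G → ℂ) with hTdef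
    have hNT : pPrimeCore p G ≤ T := le_inertia _ (IsCharacter.isClassFunction (IsIrrCharacter.isCharacter θ.2))
    have hTiff : ∀ x, x ∈ T ↔ ∀ θ' ∈ ({θ} : Set (IrrCharacter (pPrimeCore p G))),
        conjIrr (pPrimeCore p G) x θ' ∈ ({θ} : Set (IrrCharacter (pPrimeCore p G))) := by
      intro x
      constructor
      · rintro hx θ' rfl
        exact Subtype.ext hx
      · intro h
        have := h θ rfl
        exact congrArg Subtype.val this
    letI : Fintype T := Fintype.ofFinite _
    by_cases hTtop : T = ⊤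
    · -- the invariant case
      have hinv : ∀ g : G, conjIrr (pPrimeCore p G) g θ = θ := by
        intro g
        have hg : g ∈ T := by rw [hTtop]; exact Subgroup.mem_top g
        exact Subtype.ext hg
      have hinv' : ∀ (g : G) (n : pPrimeCore p G), (θ : pPrimeCore p G → ℂ) ⟨g * n * g⁻¹, hKn.conj_mem n n.2 g⟩ =
          (θ : pPrimeCore p G → ℂ) n := by
        intro g m
        have h1 := congrFun (congrArg Subtype.val (hinv g⁻¹)) m
        simp only [conjIrr_coe, Cfsg.Agent.Lib.Char.conjFun_apply] at h1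
        rw [← h1]
        refine congrArg _ (Subtype.ext ?_)
        simp
      obtain ⟨B₁, hB₁, hmem, -, hsyl⟩ := fong_pSolvable (M := M) hM hsolv (pPrimeCore p G) rfl θ hinv'
      have hχ₁ : χ ∈ B₁ := (hmem χ).mpr hθ
      have hBB : B = B₁ := by
        rw [blockOf_eq_of_mem hB hχ, blockOf_eq_of_mem hB₁ hχ₁]
      subst hBB
      obtain ⟨S, rfl⟩ := hsyl P hP
      have h1 := fh_invariant hsolv (pPrimeCore p G) rfl θ hinv χ hθ S
      exact (Nat.sub_le _ _).trans h1
    · -- the reduction
      have hcard : Nat.card T < n := by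
        rw [← hn, ← Subgroup.card_mul_index T]
        have h1 : T.index ≠ 1 := fun h => hTtop (Subgroup.index_eq_one.mp h)
        have h2 : T.index ≠ 0 := Subgroup.index_ne_zero_of_finite
        have h3 : 1 < T.index := by omega
        have h4 : 0 < Nat.card T := Nat.card_pos
        nlinarith
      have hcov : ∃ χ' ∈ B, ∃ θ' ∈ ({θ} : Set (IrrCharacter (pPrimeCore p G))),
          classInner (fun n : pPrimeCore p G => (χ' : G → ℂ) n) (θ' : pPrimeCore p G → ℂ) ≠ 0 :=
        ⟨χ, hχ, θ, rfl, hθ⟩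
      obtain ⟨B', hB', hcov', hind⟩ := fr_surj (pPrimeCore p G) hNT hb hTiff hB hcov
      obtain ⟨C, hC, -, hirr, hmem⟩ := fr_main (pPrimeCore p G) hNT hb hTiff hB' hcov'
      have e := IsInducedBlock.unique T hC hind
      rw [e] at hmem
      obtain ⟨ψ, hψ, hχψ⟩ := (hmem χ).mp hχ
      obtain ⟨D, hD⟩ := IsPBlock.exists_isDefectGroup hM hB'
      have hDmap := isDefectGroup_induced_of_fr hM hB' hind hirr hmem hD
      have hih := ih _ hcard T rfl (isPSolvable_subgroup hsolv T) B' hB' D hD ψ hψ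
      rw [hχψ, blockHeight_induced p hpp (IsPBlock.nonempty hB') hirr hmem ψ]
      refine hih.trans (le_of_eq ?_)
      obtain ⟨y, hy⟩ := IsDefectGroup.exists_conj_eq hM hB hDmap hP
      subst hy
      have e1 : D ≃* (D.map T.subtype : Subgroup G) :=
        Subgroup.equivMapOfInjective D T.subtype (Subgroup.subtype_injective T)
      have e2 : (D.map T.subtype : Subgroup G) ≃* (conjS y (D.map T.subtype) : Subgroup G) :=
        Subgroup.equivMapOfInjective _ _ (MulAut.conj y).injective
      rw [fh_index_center_congr (e1.trans e2)]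

end Induction

end Cfsg.Agent.Lib.Blocks
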