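import Cfsg.Agent.Lib.Blocks.CoverAll
import Cfsg.Agent.Lib.Blocks.Fong

/-!
# A block covering an invariant block of a normal subgroup containing a self-centralizing `p`-subgroup

If `Q ≤ N ⊴ G` is a `p`-subgroup with `C_G(Q) ≤ N` and `b` is a `G`-invariant block of `N` whose idempotent has a
unit coefficient on `C_N(Q)`, then the characters of `G` over `b` form a single block: the part of a block idempotent
off `N` is nilpotent by the graded nil lemma.
-/

set_option autoImplicit false
set_option linter.unusedSectionVars false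

namespace Cfsg.Agent.Lib.Blocks

open Cfsg Cfsg.Agent.Lib.Char Cfsg.Agent.Lib.H8Group MonoidAlgebra
open scoped ComplexConjugate

universe u

section Abstract

variable {R : Type*} [Ring R] {Γ : Type*} [Group Γ] [Fintype Γ] {H : Γ → Set R} {x : Γ → R}

/-- The sum of the homogeneous pieces is nilpotent when all of the pairings are. -/
theorem isNilpotent_sum_of_graded (hone : 1 ∈ H 1) (hmul : ∀ s t a b, a ∈ H s → b ∈ H t → a * b ∈ H (s * t))
    (hx : ∀ t, x t ∈ H t) (hst : ∀ t, ∀ v ∈ H t⁻¹, CenNil (x t * v)) : IsNilpotent (∑ t, x t) := by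
  have hle : AddSubmonoid.closure {y | ∃ l : List Γ, l.length = Fintype.card Γ ∧ y = wordProd x l} ≤
      cenNilSpan R := by
    refine (AddSubmonoid.closure_le).mpr ?_
    rintro y ⟨l, hl, rfl⟩
    obtain ⟨z, c, hz, h⟩ := exists_cenNil_of_long hone hmul hx hst (l := l) hl.ge
    rw [h]
    exact AddSubmonoid.subset_closure ⟨z, c, hz, rfl⟩
  have h1 := hle (pow_mem_closure_words x (Fintype.card Γ))
  obtain ⟨k, hk⟩ := isNilpotent_of_mem_cenNilSpan h1
  rw [← pow_mul] at hk
  exact ⟨_, hk⟩

end Abstract

section Main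

variable {G : Type u} [Group G] [Fintype G] (N : Subgroup G) [hN : N.Normal] [Fintype N]
  {p : ℕ} [hp : Fact p.Prime] {M : Ideal AlgInt}

theorem resC_sub [M.IsPrime] {z w : ℂ} (hz : MemLocalRing M z) (hw : MemLocalRing M w) :
    resC M (z - w) = resC M z - resC M w := by
  rw [resC_of_mem (MemLocalRing.sub hz hw), resC_of_mem hz, resC_of_mem hw, ← map_sub]
  rfl

theorem rhoBlock_ne_zero (hM : IsPModular p M) [M.IsPrime] {B : Set (IrrCharacter G)} (hB : IsPBlock M B) :
    rhoBlock M B ≠ 0 := by
  intro h0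
  obtain ⟨D, hD⟩ := IsPBlock.exists_isDefectGroup hM hB
  obtain ⟨g, hg, -⟩ := isDefectGroup_iff.mp hD
  apply hg.2.1
  have h1 : (rhoBlock M B).coeff g = 0 := by
    rw [h0]
    rfl
  rw [blockCoeff_eq_coef]
  exact (resC_eq_zero_iff (indic_mem_zS hB g)).mp h1

/-- **Off `N` the idempotent of a block covering `b` vanishes modulo the ideal.** -/
theorem blockCoeff_memLocalIdeal_off (hM : IsPModular p M) {b : Set (IrrCharacter N)} (hb : IsPBlock M b)
    (hinv : ∀ (g : G) θ, θ ∈ b → conjIrr N g θ ∈ b) {Q : Subgroup G} (hQp : IsPGroup p Q) (hQN : Q ≤ N)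
    (hCN : Subgroup.centralizer (Q : Set G) ≤ N) {y₀ : N} (hy₀Q : (y₀ : G) ∈ Subgroup.centralizer (Q : Set G))
    (hy₀ : ¬ MemLocalIdeal M (coef (indic b) y₀)) {B : Set (IrrCharacter G)} (hB : IsPBlock M B)
    (hcov : ∃ χ ∈ B, ∃ θ ∈ b, classInner (fun n : N => (χ : G → ℂ) n) (θ : N → ℂ) ≠ 0)
    {g : G} (hg : g ∉ N) : MemLocalIdeal M (blockCoeff B g) := by
  classical
  have := isPrime_of_modular hM
  have hpp : p.Prime := hp.out
  letI : Fintype (G ⧸ N) := Fintype.ofFinite _
  have hS := indic_mem_zS hB
  have hecen : rhoBlock M B ∈ cenN N := by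
    apply rhoF_mem_cenN_of_class
    intro n _ g
    exact coef_isClassFunction _ g n
  let e : cenN (F := ResF M) N := ⟨rhoBlock M B, hecen⟩
  have he : e * e = e := Subtype.ext (rhoBlock_mul_self hB)
  have hεS : ∀ g, (psiN N M (indic b)).coeff g ≠ 0 → g ∈ N := fun g hg => psiN_supp N _ hg
  have hεe := rhoBlock_mul_psiN N hb hinv hB hcov
  let ε : cenN (F := ResF M) N := ⟨psiN N M (indic b), psiN_mem_cenN N _⟩
  have hε1 : ε ∈ homS N 1 := by
    intro g hg
    exact (QuotientGroup.eq_one_iff g).mpr (hεS g hg)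
  have hcompε : ∀ t, homComp N e t * ε = homComp N e t := by
    intro t
    apply Subtype.ext
    show resCoset N t (rhoBlock M B) * psiN N M (indic b) = resCoset N t (rhoBlock M B)
    rw [resCoset_mul_of_supp N t _ _ hεS, hεe]
  -- the part off `N`
  let x : G ⧸ N → cenN (F := ResF M) N := fun t => if t = 1 then 0 else homComp N e t
  have hx : ∀ t, x t ∈ homS N t := by
    intro t
    by_cases ht : t = 1
    · simp only [x, if_pos ht]
      intro g hg
      exact absurd rfl hg
    · simp only [x, if_neg ht]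
      exact homComp_mem N e t
  have hst : ∀ t, ∀ v ∈ homS N t⁻¹, CenNil (x t * v) := by
    intro t v hv
    by_cases ht : t = 1
    · simp only [x, if_pos ht, zero_mul]
      exact ⟨IsNilpotent.zero, fun c => by simp⟩
    · simp only [x, if_neg ht]
      have hy1 : homComp N e t * v ∈ homS N 1 := by
        have := mul_mem_homS N t t⁻¹ _ _ (homComp_mem N e t) hv
        rwa [mul_inv_cancel] at this
      refine ⟨?_, homS_one_central N hy1⟩
      have hnil : IsNilpotent ((homComp N e t * v : cenN (F := ResF M) N) : MonoidAlgebra (ResF M) G) := by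
        refine isNilpotent_of_vanish N hM hb hQp hQN hy₀Q hy₀ (homComp N e t * v).2 ?_ ?_ ?_
        · intro g hg
          exact (QuotientGroup.eq_one_iff g).mp (hy1 g hg)
        · have h1 : homComp N e t * v * ε = homComp N e t * v := by
            rw [mul_assoc, ← homS_one_central N hε1 v, ← mul_assoc, hcompε]
          exact congrArg Subtype.val h1
        · intro g hg
          show ((homComp N e t : cenN (F := ResF M) N) * v : cenN (F := ResF M) N).1.coeff g = 0
          rw [Subring.coe_mul]
          refine coeff_mul_eq_zero_of_vanish (natCast_resF_eq_zero hM) hQp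
            (fun q hq g => mem_cenN_iff.mp (homComp N e t).2 q (hQN hq) g)
            (fun q hq g => mem_cenN_iff.mp v.2 q (hQN hq) g) ?_ hg
          intro u hu
          show (resCoset N t (rhoBlock M B)).coeff u = 0
          rw [coeff_resCoset]
          split_ifs with h5
          · exfalso
            apply ht
            rw [← h5]
            exact (QuotientGroup.eq_one_iff u).mpr (hCN hu)
          · rfl
      obtain ⟨n, hn⟩ := hnil
      exact ⟨n, Subtype.ext (by
        rw [Subring.coe_pow]
        exact hn)⟩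
  have hnil : IsNilpotent (∑ t, x t) :=
    isNilpotent_sum_of_graded (H := homS N) (one_mem_homS N) (mul_mem_homS N) hx hst
  -- the splitting
  have hsplit : e = homComp N e 1 + ∑ t, x t := by
    have h1 := sum_homComp N e
    have h2 : ∑ t, homComp N e t = homComp N e 1 + ∑ t, x t := by
      rw [← Finset.add_sum_erase _ _ (Finset.mem_univ (1 : G ⧸ N)),
        ← Finset.add_sum_erase _ x (Finset.mem_univ (1 : G ⧸ N))]
      have h3 : x 1 = 0 := by simp [x]
      rw [h3, zero_add]
      congr 1
      refine Finset.sum_congr rfl fun t ht => ?_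
      simp only [x, if_neg (Finset.mem_erase.mp ht).1]
    rw [← h2]
    exact h1
  have hcomm : Commute (homComp N e 1) (∑ t, x t) := homS_one_central N (homComp_mem N e 1) _
  have hp0 : (p : cenN (F := ResF M) N) = 0 := by
    apply Subtype.ext
    show ((p : cenN (F := ResF M) N) : MonoidAlgebra (ResF M) G) = 0
    rw [Subring.coe_natCast, MonoidAlgebra.natCast_def, natCast_resF_eq_zero hM]
    simp
  obtain ⟨m, hm⟩ := hnil
  have hpow : e = homComp N e 1 ^ p ^ m := by
    have h1 := hcomm.add_pow_prime_pow_eq hpp m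
    rw [hp0] at h1
    simp only [zero_mul, add_zero] at h1
    rw [← hsplit] at h1
    have h2 : (∑ t, x t) ^ p ^ m = 0 := pow_eq_zero_of_le (Nat.lt_pow_self hpp.one_lt).le hm
    rw [h2, add_zero] at h1
    have hidem : IsIdempotentElem e := he
    have h3 : e ^ p ^ m = e := by
      obtain ⟨k, hk⟩ := Nat.exists_eq_succ_of_ne_zero (pow_ne_zero m hpp.ne_zero)
      rw [hk, hidem.pow_succ_eq]
    exact h3.symm.trans h1
  have hmem : ∀ k : ℕ, homComp N e 1 ^ k ∈ homS N 1 := by
    intro k
    induction k with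
    | zero => simpa using one_mem_homS N
    | succ k ih =>
      rw [pow_succ]
      have := mul_mem_homS N 1 1 _ _ ih (homComp_mem N e 1)
      simpa using this
  have he1 : e ∈ homS N 1 := by
    rw [hpow]
    exact hmem _
  rw [blockCoeff_eq_coef]
  refine (resC_eq_zero_iff (hS g)).mp ?_
  by_contra hne
  apply hg
  exact (QuotientGroup.eq_one_iff g).mp (he1 g hne)

/-- **The idempotent of a block covering `b` is the idempotent of `b`.** -/
theorem rhoBlock_eq_psiN_of_covering (hM : IsPModular p M) {b : Set (IrrCharacter N)} (hb : IsPBlock M b)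
    (hinv : ∀ (g : G) θ, θ ∈ b → conjIrr N g θ ∈ b) {Q : Subgroup G} (hQp : IsPGroup p Q) (hQN : Q ≤ N)
    (hCN : Subgroup.centralizer (Q : Set G) ≤ N) {y₀ : N} (hy₀Q : (y₀ : G) ∈ Subgroup.centralizer (Q : Set G))
    (hy₀ : ¬ MemLocalIdeal M (coef (indic b) y₀)) {B : Set (IrrCharacter G)} (hB : IsPBlock M B)
    (hcov : ∃ χ ∈ B, ∃ θ ∈ b, classInner (fun n : N => (χ : G → ℂ) n) (θ : N → ℂ) ≠ 0) :
    haveI := isPrime_of_modular hM
    rhoBlock M B = psiN N M (indic b) := by
  classical
  have := isPrime_of_modular hM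
  have hS := indic_mem_zS hB
  have hoff : ∀ g, g ∉ N → MemLocalIdeal M (coef (indic B) g) := by
    intro g hg
    rw [← blockCoeff_eq_coef]
    exact blockCoeff_memLocalIdeal_off N hM hb hinv hQp hQN hCN hy₀Q hy₀ hB hcov hg
  let a : N → ℂ := fun n => coef (indic B) n
  have hac : IsClassFunction N a := by
    intro n m
    exact coef_isClassFunction _ _ _
  have haS : ∀ n, MemLocalRing M (a n) := fun n => hS _
  have hya : rhoF M (extendByZero N a) = rhoBlock M B := by
    apply alg_ext
    intro g
    rw [coeff_rhoF]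
    show resC M (extendByZero N a g) = resC M (coef (indic B) g)
    by_cases hg : g ∈ N
    · rw [extendByZero_of_mem N _ hg]
    · rw [extendByZero_of_notMem N _ hg, resC_zero]
      exact ((resC_eq_zero_iff (hS g)).mpr (hoff g hg)).symm
  have hc : spec a ∈ zS M N := spec_mem_zS hac haS
  have hca : coef (spec a) = a := coef_spec a hac
  have hψc : psiN N M (spec a) = rhoBlock M B := by
    rw [psiN, hca, hya]
  have hidem := rhoBlock_mul_self (M := M) hB
  have hεe := rhoBlock_mul_psiN N hb hinv hB hcov
  -- the values of the central function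
  have hval : ∀ θ, MemLocalIdeal M (spec a θ) ∨ MemLocalIdeal M (spec a θ - 1) := by
    intro θ
    have h1 : psiN N M (spec a * spec a) = psiN N M (spec a) := by
      rw [psiN_mul N hc hc, hψc, hidem]
    have h2 : ∀ n : N, MemLocalIdeal M (coef (spec a * spec a - spec a) n) := by
      intro n
      have h3 := congrArg (fun y => y.coeff (n : G)) h1
      simp only [psiN, coeff_rhoF, extendByZero_coe] at h3
      have hc2 : spec a * spec a ∈ zS M N := Subring.mul_mem _ hc hc
      rw [coef_sub, Pi.sub_apply]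
      refine (resC_eq_zero_iff (MemLocalRing.sub (hc2 n) (hc n))).mp ?_
      rw [resC_sub (hc2 n) (hc n), h3, sub_self]
    have h4 := spec_memLocalIdeal (coef_isClassFunction _) h2 θ
    rw [spec_coef] at h4
    have h5 : (spec a * spec a - spec a) θ = spec a θ * (spec a θ - 1) := by
      simp only [Pi.sub_apply, Pi.mul_apply]
      ring
    rw [h5] at h4
    exact MemLocalIdeal.of_mul (zS_apply_mem hc θ) (MemLocalRing.sub (zS_apply_mem hc θ) memLocalRing_one) h4
  obtain ⟨θ₀, hθ₀⟩ := IsPBlock.nonempty hb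
  have hbS := indic_mem_zS hb
  have hψ2 : psiN N M (indic b) * psiN N M (indic b) = psiN N M (indic b) := by
    rw [← psiN_mul N hbS hbS, indic_mul_self]
  rcases hval θ₀ with h0 | h1
  · -- the idempotent is nilpotent
    exfalso
    have hall : ∀ θ ∈ b, MemLocalIdeal M (spec a θ) := by
      intro θ hθ
      have h1 := zS_apply_congr hb hc hθ hθ₀
      have h2 := MemLocalIdeal.add h1 h0
      simpa using h2
    have hnil := isNilpotent_of_spec_memLocalIdeal N hM hbS hac haS hya hεe hall
    apply rhoBlock_ne_zero hM hB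
    obtain ⟨k, hk⟩ := hnil
    have hidem' : IsIdempotentElem (rhoBlock M B) := hidem
    rcases Nat.eq_zero_or_pos k with rfl | hkpos
    · simp only [pow_zero] at hk
      have : rhoBlock M B = rhoBlock M B * 1 := (mul_one _).symm
      rw [this, hk, mul_zero]
    · obtain ⟨m, rfl⟩ := Nat.exists_eq_succ_of_ne_zero hkpos.ne'
      rwa [hidem'.pow_succ_eq] at hk
  · -- the difference is idempotent and nilpotent
    have hall : ∀ θ ∈ b, MemLocalIdeal M (1 - spec a θ) := by
      intro θ hθ
      have h3 := zS_apply_congr hb hc hθ₀ hθ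
      have h4 := MemLocalIdeal.sub h3 h1
      have h5 : spec a θ₀ - spec a θ - (spec a θ₀ - 1) = 1 - spec a θ := by ring
      rwa [h5] at h4
    let a' : N → ℂ := fun n => coef (indic b) n - a n
    have hac' : IsClassFunction N a' := by
      intro n m
      simp only [a']
      rw [coef_isClassFunction (indic b) n m, hac n m]
    have haS' : ∀ n, MemLocalRing M (a' n) := fun n => MemLocalRing.sub (hbS n) (haS n)
    have hya' : rhoF M (extendByZero N a') = psiN N M (indic b) - rhoBlock M B := by
      apply alg_ext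
      intro g
      rw [coeff_rhoF]
      show resC M (extendByZero N a' g) = resC M (extendByZero N (coef (indic b)) g) - resC M (coef (indic B) g)
      by_cases hg : g ∈ N
      · rw [extendByZero_of_mem N _ hg, extendByZero_of_mem N _ hg]
        exact resC_sub (hbS _) (haS _)
      · rw [extendByZero_of_notMem N _ hg, extendByZero_of_notMem N _ hg, resC_zero,
          (resC_eq_zero_iff (hS g)).mpr (hoff g hg), sub_zero]
    have hε' : (psiN N M (indic b) - rhoBlock M B) * psiN N M (indic b) = psiN N M (indic b) - rhoBlock M B := by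
      rw [sub_mul, hψ2, hεe]
    have hI : ∀ θ ∈ b, MemLocalIdeal M (spec a' θ) := by
      intro θ hθ
      have h3 : a' = coef (indic b) - a := rfl
      rw [h3, spec_sub, spec_coef, Pi.sub_apply, indic_apply_of_mem hθ]
      exact hall θ hθ
    obtain ⟨k, hk⟩ := isNilpotent_of_spec_memLocalIdeal N hM hbS hac' haS' hya' hε' hI
    have hecen : rhoBlock M B ∈ cenN N := by
      apply rhoF_mem_cenN_of_class
      intro n _ g
      exact coef_isClassFunction _ g n
    have hεS : ∀ g, (psiN N M (indic b)).coeff g ≠ 0 → g ∈ N := fun g hg => psiN_supp N _ hg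
    let ε : cenN (F := ResF M) N := ⟨psiN N M (indic b), psiN_mem_cenN N _⟩
    have hε1 : ε ∈ homS N 1 := by
      intro g hg
      exact (QuotientGroup.eq_one_iff g).mpr (hεS g hg)
    have hcm : psiN N M (indic b) * rhoBlock M B = rhoBlock M B * psiN N M (indic b) :=
      congrArg Subtype.val (homS_one_central N hε1 ⟨rhoBlock M B, hecen⟩)
    have hyid : IsIdempotentElem (psiN N M (indic b) - rhoBlock M B) := by
      show (psiN N M (indic b) - rhoBlock M B) * (psiN N M (indic b) - rhoBlock M B) = _
      rw [mul_sub, sub_mul, sub_mul, hψ2, hcm, hεe, hidem]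
      abel
    have hy0 : psiN N M (indic b) - rhoBlock M B = 0 := by
      rcases Nat.eq_zero_or_pos k with rfl | hkpos
      · simp only [pow_zero] at hk
        have h5 : psiN N M (indic b) - rhoBlock M B = (psiN N M (indic b) - rhoBlock M B) * 1 := (mul_one _).symm
        rw [h5, hk, mul_zero]
      · obtain ⟨m, rfl⟩ := Nat.exists_eq_succ_of_ne_zero hkpos.ne'
        rwa [hyid.pow_succ_eq] at hk
    exact (sub_eq_zero.mp hy0).symm

/-- **The characters over `b` form a single block.** -/
theorem covSet_eq_blockOf (hM : IsPModular p M) {b : Set (IrrCharacter N)} (hb : IsPBlock M b)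
    (hinv : ∀ (g : G) θ, θ ∈ b → conjIrr N g θ ∈ b) {Q : Subgroup G} (hQp : IsPGroup p Q) (hQN : Q ≤ N)
    (hCN : Subgroup.centralizer (Q : Set G) ≤ N) {y₀ : N} (hy₀Q : (y₀ : G) ∈ Subgroup.centralizer (Q : Set G))
    (hy₀ : ¬ MemLocalIdeal M (coef (indic b) y₀)) {χ₀ : IrrCharacter G} (hχ₀ : χ₀ ∈ covSet (G := G) N b) :
    covSet (G := G) N b = blockOf M (χ₀ : G → ℂ) := by
  classical
  have := isPrime_of_modular hM
  have hkey : ∀ χ ∈ covSet (G := G) N b, rhoBlock M (blockOf M (χ : G → ℂ)) = psiN N M (indic b) := by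
    intro χ hχ
    obtain ⟨θ, hθ, hne⟩ := hχ
    exact rhoBlock_eq_psiN_of_covering N hM hb hinv hQp hQN hCN hy₀Q hy₀ (isPBlock_blockOf χ)
      ⟨χ, self_mem_blockOf χ, θ, hθ, hne⟩
  have hB₀ := isPBlock_blockOf (M := M) χ₀
  apply Set.Subset.antisymm
  · intro χ hχ
    have hBχ := isPBlock_blockOf (M := M) χ
    by_contra hnot
    have hne : blockOf M (χ : G → ℂ) ≠ blockOf M (χ₀ : G → ℂ) := by
      intro h
      apply hnot
      rw [← h]
      exact self_mem_blockOf χ
    have h0 := indic_mul_indic_of_ne hBχ hB₀ hne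
    have h1 : rhoBlock M (blockOf M (χ : G → ℂ)) * rhoBlock M (blockOf M (χ₀ : G → ℂ)) = 0 := by
      rw [rhoBlock, rhoBlock, ← rhoF_conv (fun x => indic_mem_zS hBχ x) (fun x => indic_mem_zS hB₀ x), ← coef_mul, h0]
      apply alg_ext
      intro g
      show resC M (coef 0 g) = 0
      have h2 : coef (0 : IrrCharacter G → ℂ) g = 0 := by
        simp [coef]
      rw [h2, resC_zero]
    rw [hkey χ hχ, hkey χ₀ hχ₀, ← hkey χ hχ, rhoBlock_mul_self hBχ] at h1
    exact rhoBlock_ne_zero hM hBχ h1
  · obtain ⟨θ, hθ, hne⟩ := hχ₀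
    exact covSet_of_covering N hb hinv hB₀ ⟨χ₀, self_mem_blockOf χ₀, θ, hθ, hne⟩

end Main

end Cfsg.Agent.Lib.Blocks
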