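import Cfsg.Agent.Lib.Blocks.Residue

/-!
# Easy consequences of block induction
-/

set_option autoImplicit false
set_option linter.unusedSectionVars false

namespace Cfsg.Agent.Lib.Blocks

open Cfsg Cfsg.Agent.Lib.Char
open scoped ComplexConjugate

universe u

section Central

variable {G : Type u} [Group G] [Fintype G] {M : Ideal AlgInt} {p : ℕ} [hp : Fact p.Prime]

theorem blockDefect_le_val_of_central (hM : IsPModular p M) {B : Set (IrrCharacter G)} (hB : IsPBlock M B)
    {χ : IrrCharacter G} (hχ : χ ∈ B) {g : G} (hg : ¬ MemLocalIdeal M (centralChar (χ : G → ℂ) g)) :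
    blockDefect p B ≤ (Nat.card (Subgroup.centralizer ({g} : Set G))).factorization p := by
  have hpp : p.Prime := hp.out
  obtain ⟨D, hD⟩ := IsPBlock.exists_isDefectGroup hM hB
  obtain ⟨y, hy⟩ := IsDefectGroup.conj_le_of_central hM hB hD hχ hg
  obtain ⟨E, hE, hle⟩ := exists_isSylowIn_ge (isPGroup_conjS (x := y) (IsDefectGroup.isPGroup hD)) hy
  have h1 := Subgroup.card_le_of_le hle
  rw [card_conjS, card_defectGroup hM hB hD, hE.card_eq_pow] at h1
  exact (Nat.pow_le_pow_iff_right hpp.one_lt).mp h1

/-- Blocks of the same defect are separated by the regular classes of that defect. -/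
theorem sameBlock_of_congr_regular (hM : IsPModular p M) {d : ℕ} {χ ψ : IrrCharacter G}
    (hχ : blockDefect p (blockOf M (χ : G → ℂ)) = d) (hψ : blockDefect p (blockOf M (ψ : G → ℂ)) = d)
    (h : ∀ x : G, ¬ p ∣ orderOf x → (Nat.card (Subgroup.centralizer ({x} : Set G))).factorization p = d →
      MemLocalIdeal M (centralChar (χ : G → ℂ) x - centralChar (ψ : G → ℂ) x)) :
    SameBlock M (χ : G → ℂ) (ψ : G → ℂ) := by
  classical
  have := isPrime_of_modular hM
  set B := blockOf M (χ : G → ℂ) with hBdef
  have hB : IsPBlock M B := isPBlock_blockOf χ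
  have hB' : IsPBlock M (blockOf M (ψ : G → ℂ)) := isPBlock_blockOf ψ
  by_contra hnot
  have hψB : ψ ∉ B := fun hm => hnot hm
  have h1 : ∀ φ : IrrCharacter G, indic B φ = ∑ K : ConjClasses G, coef (indic B) (clsRep K) * centralChar (φ : G → ℂ) (clsRep K) := by
    intro φ
    have h2 := spec_eq_sum_classes (coef (indic B)) (coef_isClassFunction _) φ
    rw [spec_coef] at h2
    exact h2
  have h3 : MemLocalIdeal M (indic B χ - indic B ψ) := by
    rw [h1 χ, h1 ψ, ← Finset.sum_sub_distrib]
    refine MemLocalIdeal.sum _ fun K _ => ?_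
    rw [← mul_sub]
    set g := clsRep K with hg
    have hcS : MemLocalRing M (coef (indic B) g) := coef_memLocalRing (indic_mem_zS hB) g
    have hχS := centralChar_memLocalRing (M := M) χ g
    have hψS := centralChar_memLocalRing (M := M) ψ g
    by_cases hc : MemLocalIdeal M (coef (indic B) g)
    · exact MemLocalIdeal.mul_right hc (MemLocalRing.sub hχS hψS)
    · refine MemLocalIdeal.mul_left hcS ?_
      have hc' : ¬ MemLocalIdeal M (blockCoeff B g) := by
        rwa [blockCoeff_eq_coef]
      have hreg : ¬ p ∣ orderOf g := by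
        intro hs
        apply hc'
        rw [blockCoeff_eq_zero_of_singular hM hB hs]
        exact memLocalIdeal_zero
      have hle := val_centralizer_le_blockDefect hM hB hc'
      rw [hχ] at hle
      rcases hle.lt_or_eq with hlt | heq
      · have hχI : MemLocalIdeal M (centralChar (χ : G → ℂ) g) := by
          by_contra hn
          have := blockDefect_le_val_of_central hM hB (self_mem_blockOf χ) hn
          rw [hχ] at this
          omega
        have hψI : MemLocalIdeal M (centralChar (ψ : G → ℂ) g) := by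
          by_contra hn
          have := blockDefect_le_val_of_central hM hB' (self_mem_blockOf ψ) hn
          rw [hψ] at this
          omega
        exact MemLocalIdeal.sub hχI hψI
      · exact h g hreg heq
  rw [indic_apply_of_mem (self_mem_blockOf χ), indic_apply_of_notMem hψB, sub_zero] at h3
  exact not_memLocalIdeal_one h3

end Central

section Induced

variable {G : Type u} [Group G] [Fintype G] {M : Ideal AlgInt} {p : ℕ} [hp : Fact p.Prime]
variable (H : Subgroup G) [Fintype H]

/-- The degree of the part of an induced character in a block. -/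
theorem sum_indic_classInner_indFun (B : Set (IrrCharacter G)) (ζ : H → ℂ) :
    ∑ χ : IrrCharacter G, indic B χ * (classInner (indFun H ζ) (χ : G → ℂ) * (χ : G → ℂ) 1) =
      (H.index : ℂ) * ∑ h : H, Blocks.resFun H (coef (indic B)) h * ζ h := by
  classical
  have hG : (Nat.card G : ℂ) ≠ 0 := by exact_mod_cast Nat.card_pos.ne'
  have hH : (Nat.card H : ℂ) ≠ 0 := by exact_mod_cast Nat.card_pos.ne'
  have hidx : (H.index : ℂ) = (Nat.card G : ℂ) * (Nat.card H : ℂ)⁻¹ := by
    have := H.index_mul_card
    rw [eq_mul_inv_iff_mul_eq₀ hH]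
    exact_mod_cast this
  have h1 : ∀ χ : IrrCharacter G, classInner (indFun H ζ) (χ : G → ℂ) =
      (Nat.card H : ℂ)⁻¹ * ∑ h : H, ζ h * conj ((χ : G → ℂ) h) := by
    intro χ
    rw [classInner_indFun_left H ζ _ (irr_isClassFunction χ), classInner]
  simp only [h1, Blocks.resFun, coef]
  rw [hidx]
  simp only [Finset.mul_sum, Finset.sum_mul]
  rw [Finset.sum_comm]
  refine Finset.sum_congr rfl fun χ _ => Finset.sum_congr rfl fun h _ => ?_
  field_simp

/-- Height zero characters are induced to height zero characters when the defects agree. -/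
theorem exists_height_zero_of_induced (hM : IsPModular p M) {b : Set (IrrCharacter H)} {B : Set (IrrCharacter G)}
    (hind : IsInducedBlock M H b B) (hdef : blockDefect p b = blockDefect p B) {ζ : IrrCharacter H}
    (hζ : ζ ∈ b) (hζ0 : blockHeight p b (ζ : H → ℂ) = 0) :
    ∃ χ ∈ B, blockHeight p B (χ : G → ℂ) = 0 ∧
      ∃ a : ℕ, classInner (indFun H (ζ : H → ℂ)) (χ : G → ℂ) = (a : ℂ) ∧ ¬ p ∣ a := by
  classical
  have := isPrime_of_modular hM
  have hpp : p.Prime := hp.out
  obtain ⟨χ₀, hχ₀⟩ := IsPBlock.nonempty hind.2.1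
  have hc := indic_mem_zS hind.2.1
  have hr := IsInducedBlock.resPhi_congr H hind hζ hχ₀ hc
  rw [indic_apply_of_mem hχ₀] at hr
  set r := resPhi H ζ (indic B) with hrdef
  have hrI : ¬ MemLocalIdeal M r := by
    intro h
    have h2 := MemLocalIdeal.sub h hr
    simp only [sub_sub_cancel] at h2
    exact not_memLocalIdeal_one h2
  have hΦ := isCharacter_indFun H (irr_isCharacter ζ)
  choose a ha using fun χ : IrrCharacter G => IsCharacter.classInner_irr_eq_nat hΦ χ.2
  by_contra hcon
  push Not at hcon
  have hcon' : ∀ χ ∈ B, blockHeight p B (χ : G → ℂ) = 0 → p ∣ a χ := fun χ hχ h0 => hcon χ hχ h0 (a χ) (ha χ)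
  set s := sInf ((fun ψ : IrrCharacter G => (charDegree (ψ : G → ℂ)).factorization p) '' B) with hs
  set s' := sInf ((fun ψ : IrrCharacter H => (charDegree (ψ : H → ℂ)).factorization p) '' b) with hs'
  have hsle : ∀ χ ∈ B, s ≤ (charDegree (χ : G → ℂ)).factorization p := fun χ hχ =>
    Nat.sInf_le ⟨χ, hχ, rfl⟩
  have hs'le : s' ≤ (charDegree (ζ : H → ℂ)).factorization p := Nat.sInf_le ⟨ζ, hζ, rfl⟩
  have hζval : (charDegree (ζ : H → ℂ)).factorization p = s' := by
    have h1 : (charDegree (ζ : H → ℂ)).factorization p - s' = 0 := hζ0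
    omega
  have hζle : (charDegree (ζ : H → ℂ)).factorization p ≤ (Nat.card H).factorization p :=
    (Nat.factorization_le_iff_dvd (charDegree_pos ζ.2).ne' Nat.card_pos.ne').mpr (charDegree_dvd_card ζ.2) p
  have hχ₀le : (charDegree (χ₀ : G → ℂ)).factorization p ≤ (Nat.card G).factorization p :=
    (Nat.factorization_le_iff_dvd (charDegree_pos χ₀.2).ne' Nat.card_pos.ne').mpr (charDegree_dvd_card χ₀.2) p
  have hdef' : (Nat.card H).factorization p - s' = (Nat.card G).factorization p - s := hdef
  have hidx := factorization_index_add_card (p := p) H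
  have hsχ₀ := hsle χ₀ hχ₀
  set W : ℕ := H.index * charDegree (ζ : H → ℂ) with hW
  have hW0 : W ≠ 0 := Nat.mul_ne_zero Subgroup.index_ne_zero_of_finite (charDegree_pos ζ.2).ne'
  have hWval : W.factorization p = s := by
    rw [hW, Nat.factorization_mul Subgroup.index_ne_zero_of_finite (charDegree_pos ζ.2).ne',
      Finsupp.add_apply]
    omega
  -- the total degree
  set A : ℕ := ∑ χ : IrrCharacter G, if χ ∈ B then a χ * charDegree (χ : G → ℂ) else 0 with hA
  have hAeq : (A : ℂ) = (W : ℂ) * r := by
    have h1 := sum_indic_classInner_indFun H B (ζ : H → ℂ)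
    have h2 : ∑ χ : IrrCharacter G, indic B χ * (classInner (indFun H (ζ : H → ℂ)) (χ : G → ℂ) * (χ : G → ℂ) 1) = (A : ℂ) := by
      rw [hA]
      push_cast
      refine Finset.sum_congr rfl fun χ _ => ?_
      by_cases hχ : χ ∈ B
      · rw [indic_apply_of_mem hχ, if_pos hχ, ha χ, apply_one_eq_charDegree (irr_isCharacter χ), one_mul]
      · rw [indic_apply_of_notMem hχ, if_neg hχ, zero_mul]
    rw [h2] at h1
    rw [h1, hrdef, resPhi, spec, hW, apply_one_eq_charDegree (irr_isCharacter ζ)]
    have hd : ((charDegree (ζ : H → ℂ) : ℕ) : ℂ) ≠ 0 := by exact_mod_cast (charDegree_pos ζ.2).ne'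
    push_cast
    field_simp
  have hdvd : p ^ (s + 1) ∣ A := by
    rw [hA]
    refine Finset.dvd_sum fun χ _ => ?_
    by_cases hχ : χ ∈ B
    · rw [if_pos hχ]
      by_cases h0 : blockHeight p B (χ : G → ℂ) = 0
      · have h1 := hcon' χ hχ h0
        have h2 : p ^ s ∣ charDegree (χ : G → ℂ) :=
          (hpp.pow_dvd_iff_le_factorization (charDegree_pos χ.2).ne').mpr (hsle χ hχ)
        rw [pow_succ, mul_comm]
        exact Nat.mul_dvd_mul h1 h2
      · have h1 : s < (charDegree (χ : G → ℂ)).factorization p := by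
          have h2 : (charDegree (χ : G → ℂ)).factorization p - s ≠ 0 := h0
          omega
        have h2 : p ^ (s + 1) ∣ charDegree (χ : G → ℂ) :=
          (hpp.pow_dvd_iff_le_factorization (charDegree_pos χ.2).ne').mpr h1
        exact h2.trans (Nat.dvd_mul_left _ _)
    · rw [if_neg hχ]
      exact dvd_zero _
  obtain ⟨A', hA'⟩ := hdvd
  have hWsplit : W = p ^ s * (W / p ^ s) := by
    rw [← hWval]
    exact (Nat.ordProj_mul_ordCompl_eq_self W p).symm
  have hw : ¬ p ∣ W / p ^ s := by
    rw [← hWval]
    exact Nat.not_dvd_ordCompl hpp hW0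
  have hps : ((p : ℂ) ^ s) ≠ 0 := pow_ne_zero _ (by exact_mod_cast hpp.ne_zero)
  have hfin : ((W / p ^ s : ℕ) : ℂ) * r = (p : ℂ) * (A' : ℂ) := by
    have h3 : (A : ℂ) = (p : ℂ) ^ s * ((p : ℂ) * (A' : ℂ)) := by
      rw [hA']
      push_cast
      ring
    have h4 : (W : ℂ) = (p : ℂ) ^ s * ((W / p ^ s : ℕ) : ℂ) := by
      conv_lhs => rw [hWsplit]
      push_cast
      rfl
    rw [h3, h4, mul_assoc] at hAeq
    exact (mul_left_cancel₀ hps hAeq).symm
  have hrS : MemLocalRing M r := by
    have h5 := MemLocalRing.add (MemLocalIdeal.memLocalRing hr) (memLocalRing_one (M := M))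
    simpa using h5
  have h6 : MemLocalIdeal M (((W / p ^ s : ℕ) : ℂ) * r) := by
    rw [hfin]
    exact MemLocalIdeal.mul_right (p_memLocalIdeal hM) (MemLocalRing.natCast _)
  rcases MemLocalIdeal.of_mul (MemLocalRing.natCast _) hrS h6 with h7 | h7
  · exact natCast_not_memLocalIdeal hM hw h7
  · exact hrI h7

end Induced

end Cfsg.Agent.Lib.Blocks
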