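import Cfsg.Agent.Lib.Blocks.CoverApps
import Cfsg.Agent.Lib.Char.PBlock

/-!
# Inflation from a quotient by a normal `p`-subgroup
-/

set_option autoImplicit false
set_option linter.unusedSectionVars false

namespace Cfsg.Agent.Lib.Blocks

open Cfsg Cfsg.Agent.Lib.Char
open scoped ComplexConjugate

universe u

variable {G : Type u} [Group G] [Fintype G] {p : ℕ} [hp : Fact p.Prime] {M : Ideal AlgInt}

/-- Two `p`-regular elements in a coset of a normal `p`-subgroup with `p`-power index centralizer
coincide. -/
theorem regular_eq_of_mk_eq {P : Subgroup G} [P.Normal] (hP : IsPGroup p P) {k : ℕ}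
    (hidx : (Subgroup.centralizer (P : Set G)).index = p ^ k) {r r' : G}
    (hr : ¬ p ∣ orderOf r) (hr' : ¬ p ∣ orderOf r') (h : (r : G ⧸ P) = r') : r = r' := by
  have hpp : p.Prime := hp.out
  have hu : r⁻¹ * r' ∈ P := QuotientGroup.eq.mp h
  set u := r⁻¹ * r' with hu'
  have hrC : r ∈ Subgroup.centralizer (P : Set G) := mem_of_regular_of_index hidx hr
  have hcomm : Commute r u := by
    have := Subgroup.mem_centralizer_iff.mp hrC u hu
    exact this.symm
  have hr'' : r' = r * u := by rw [hu']; group
  set n := orderOf r * orderOf r' with hn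
  have h1 : r ^ n = 1 := by
    rw [hn, pow_mul, pow_orderOf_eq_one, one_pow]
  have h2 : r' ^ n = 1 := by
    rw [hn, mul_comm, pow_mul, pow_orderOf_eq_one, one_pow]
  have h3 : u ^ n = 1 := by
    rw [hr'', hcomm.mul_pow, h1, one_mul] at h2
    exact h2
  obtain ⟨j, hj⟩ := (IsPGroup.iff_orderOf.mp hP) ⟨u, hu⟩
  have hj' : orderOf u = p ^ j := by
    rw [← hj, Subgroup.orderOf_mk]
  have h4 : p ^ j ∣ n := hj' ▸ orderOf_dvd_of_pow_eq_one h3
  have h5 : ¬ p ∣ n := by
    intro hd
    rcases (Nat.Prime.dvd_mul hpp).mp hd with hd | hd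
    · exact hr hd
    · exact hr' hd
  have hj0 : j = 0 := by
    by_contra hne
    exact h5 ((dvd_pow_self p hne).trans h4)
  rw [hj0, pow_zero, orderOf_eq_one_iff] at hj'
  rw [hr'', hj', mul_one]

/-- Every `p`-regular coset contains a `p`-regular element. -/
theorem exists_regular_lift {P : Subgroup G} [P.Normal] [Fintype (G ⧸ P)] (g : G)
    (hg : ¬ p ∣ orderOf (g : G ⧸ P)) : ∃ r : G, (r : G ⧸ P) = g ∧ ¬ p ∣ orderOf r := by
  have hpp : p.Prime := hp.out
  obtain ⟨α, hα⟩ := exists_isPExp G p
  obtain ⟨r, hr, hcomm, ⟨j, hj⟩, hreg⟩ := hα.isPPart g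
  refine ⟨r, ?_, hreg⟩
  have h1 : ((g ^ α : G) : G ⧸ P) = 1 := by
    have h2 : orderOf ((g ^ α : G) : G ⧸ P) ∣ p ^ j := by
      rw [← hj]
      exact orderOf_map_dvd (QuotientGroup.mk' P) _
    have h3 : orderOf ((g ^ α : G) : G ⧸ P) ∣ orderOf (g : G ⧸ P) := by
      rw [QuotientGroup.mk_pow]
      exact orderOf_pow_dvd _
    obtain ⟨i, -, hi⟩ := (Nat.dvd_prime_pow hpp).mp h2
    rcases i.eq_zero_or_pos with rfl | hipos
    · rw [pow_zero, orderOf_eq_one_iff] at hi
      exact hi
    · exfalso
      apply hg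
      rw [hi] at h3
      exact (dvd_pow_self p hipos.ne').trans h3
  have h2 : ((g ^ α * r : G) : G ⧸ P) = g := by rw [hr]
  rw [QuotientGroup.mk_mul, h1, one_mul] at h2
  exact h2

/-- The reverse direction for the quotient by a normal `p`-subgroup with `p`-power index
centralizer. -/
theorem sameBlock_of_inflate_of_index (hM : IsPModular p M) {P : Subgroup G} [hPn : P.Normal] [Fintype P]
    [Fintype (G ⧸ P)] (hP : IsPGroup p P) {k : ℕ}
    (hidx : (Subgroup.centralizer (P : Set G)).index = p ^ k) {β β' : IrrCharacter (G ⧸ P)}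
    (h : SameBlock M (inflate P (β : G ⧸ P → ℂ)) (inflate P (β' : G ⧸ P → ℂ))) :
    SameBlock M (β : G ⧸ P → ℂ) (β' : G ⧸ P → ℂ) := by
  classical
  have := isPrime_of_modular hM
  have hpp : p.Prime := hp.out
  set B := blockOf M (β : G ⧸ P → ℂ) with hBdef
  have hB : IsPBlock M B := isPBlock_blockOf β
  set f : G ⧸ P → ℂ := coef (indic B) with hf
  have hfcl : IsClassFunction (G ⧸ P) f := coef_isClassFunction _
  have hfloc : ∀ y, MemLocalRing M (f y) := fun y => coef_memLocalRing (indic_mem_zS hB) y
  have hfsing : ∀ y : G ⧸ P, p ∣ orderOf y → f y = 0 := by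
    intro y hy
    have := blockCoeff_eq_zero_of_singular hM hB hy
    rwa [blockCoeff_eq_coef] at this
  let a : G → ℂ := fun g => if p ∣ orderOf g then 0 else f (g : G ⧸ P)
  have hacl : IsClassFunction G a := by
    intro g x
    have h1 : orderOf (x * g * x⁻¹) = orderOf g := orderOf_conj_eq x g
    simp only [a, h1]
    split_ifs
    · rfl
    · have := hfcl (g : G ⧸ P) (x : G ⧸ P)
      rw [← this]
      rfl
  have haloc : ∀ x, MemLocalRing M (a x) := by
    intro x
    simp only [a]
    split_ifs
    · exact memLocalRing_zero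
    · exact hfloc _
  have hfib : ∀ y : G ⧸ P, ∑ g ∈ Finset.univ.filter (fun g : G => (g : G ⧸ P) = y), a g = f y := by
    intro y
    induction y using QuotientGroup.induction_on with
    | H g =>
      by_cases hg : p ∣ orderOf (g : G ⧸ P)
      · rw [hfsing _ hg]
        refine Finset.sum_eq_zero fun x hx => ?_
        have hx' := (Finset.mem_filter.mp hx).2
        have hxs : p ∣ orderOf x := by
          have h1 : orderOf (x : G ⧸ P) ∣ orderOf x := orderOf_map_dvd (QuotientGroup.mk' P) _
          rw [hx'] at h1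
          exact hg.trans h1
        simp only [a, if_pos hxs]
      · obtain ⟨r, hr, hrreg⟩ := exists_regular_lift (p := p) g hg
        rw [Finset.sum_eq_single r]
        · simp only [a, if_neg hrreg, hr]
        · intro x hx hne
          have hx' := (Finset.mem_filter.mp hx).2
          by_cases hxs : p ∣ orderOf x
          · simp only [a, if_pos hxs]
          · exact absurd (regular_eq_of_mk_eq hP hidx hxs hrreg (hx'.trans hr.symm)) hne
        · intro hnot
          exact absurd (Finset.mem_filter.mpr ⟨Finset.mem_univ r, hr⟩) hnot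
  have hspec : ∀ ξ : IrrCharacter (G ⧸ P), spec a (irrInflate P ξ) = indic B ξ := by
    intro ξ
    have h1 : spec f ξ = indic B ξ := by rw [hf, spec_coef]
    rw [← h1, spec, spec]
    congr 1
    rw [← Finset.sum_fiberwise Finset.univ (fun g : G => (g : G ⧸ P))]
    refine Finset.sum_congr rfl fun y _ => ?_
    rw [← hfib y, Finset.sum_mul]
    refine Finset.sum_congr rfl fun x hx => ?_
    have hx' := (Finset.mem_filter.mp hx).2
    rw [irrInflate_apply, hx']
  have hc := spec_mem_zS hacl haloc
  have hz : MemLocalIdeal M (spec a (irrInflate P β) - spec a (irrInflate P β')) := by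
    have hB' := isPBlock_blockOf (M := M) (irrInflate P β)
    have hmem : irrInflate P β' ∈ blockOf M ((irrInflate P β : IrrCharacter G) : G → ℂ) := h
    exact zS_apply_congr hB' hc (self_mem_blockOf _) hmem
  rw [hspec, hspec, indic_apply_of_mem (self_mem_blockOf β)] at hz
  by_cases hβ' : β' ∈ B
  · exact sameBlock_of_mem hB (self_mem_blockOf β) hβ'
  · rw [indic_apply_of_notMem hβ', sub_zero] at hz
    exact absurd hz not_memLocalIdeal_one

/-- Every block of `G` contains a character with `P` in its kernel, when `G/C_G(P)` is a `p`-group. -/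
theorem exists_inflated_of_index (hM : IsPModular p M) {P : Subgroup G} [hPn : P.Normal] (hP : IsPGroup p P)
    {k : ℕ} (hidx : (Subgroup.centralizer (P : Set G)).index = p ^ k) {B : Set (IrrCharacter G)}
    (hB : IsPBlock M B) : ∃ θ ∈ B, P ≤ charKer (θ : G → ℂ) := by
  have := isPrime_of_modular hM
  obtain ⟨y, hy⟩ := exists_defectClass hB
  have hreg := IsDefectClass.regular hM hB hy
  have hyC : y ∈ Subgroup.centralizer (P : Set G) := mem_of_regular_of_index hidx hreg
  refine exists_kernel_char_of_normal hM hB hP hy.2.1 ?_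
  intro u hu
  rw [Subgroup.mem_centralizer_singleton_iff]
  exact Subgroup.mem_centralizer_iff.mp hyC u hu

end Cfsg.Agent.Lib.Blocks
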