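import Cfsg.Agent.Lib.Blocks.Third
import Cfsg.Agent.Lib.Char.DefectZero
import Cfsg.Agent.Lib.Basic.Core

/-!
# Characters of central defect (Laradji)
-/

set_option autoImplicit false
set_option linter.unusedSectionVars false

namespace Cfsg.Agent.Lib.Blocks

open Cfsg Cfsg.Agent.Lib.Char
open scoped ComplexConjugate

universe u

variable {G : Type u} [Group G] [Fintype G] {M : Ideal AlgInt} {p : ℕ} [hp : Fact p.Prime]

/-- The value of a character at a central element over the degree has norm one. -/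
theorem central_conj_mul_self (χ : IrrCharacter G) {d : G} (hd : ∀ w, Commute w d) :
    conj ((χ : G → ℂ) d / (χ : G → ℂ) 1) * ((χ : G → ℂ) d / (χ : G → ℂ) 1) = 1 := by
  have h1 : (χ : G → ℂ) 1 ≠ 0 := irr_apply_one_ne_zero χ
  have h2 : conj ((χ : G → ℂ) 1) = (χ : G → ℂ) 1 := by
    rw [apply_one_eq_charDegree (irr_isCharacter χ), Complex.conj_natCast]
  have h3 : conj ((χ : G → ℂ) d) = (χ : G → ℂ) d⁻¹ := (irr_apply_inv χ d).symm
  have hd' : ∀ w, Commute w d⁻¹ := fun w => (hd w).inv_right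
  have h4 := irr_central_mul χ hd' d
  rw [inv_mul_cancel] at h4
  rw [map_div₀, h2, h3]
  calc _ = ((χ : G → ℂ) d⁻¹ / (χ : G → ℂ) 1 * (χ : G → ℂ) d) / (χ : G → ℂ) 1 := by ring
    _ = 1 := by rw [← h4, div_self h1]

section Congruence

variable (A D : Subgroup G) [Fintype A]

/-- The relative version of the congruence theorem on multiplicities. -/
theorem classInner_eq_of_congr_central [M.IsPrime] {χ : IrrCharacter G} (hDA : D ≤ A)
    (hDZ : ∀ d ∈ D, ∀ w : G, Commute w d)
    (hk : MemLocalRing M ((Nat.card D : ℂ) * ((χ : G → ℂ) 1 / (Nat.card G : ℂ))))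
    {lam lam' : A → ℂ}
    (hlam : ∀ a b, lam (a * b) = lam a * lam b) (hlam1 : lam 1 = 1)
    (hlam' : ∀ a b, lam' (a * b) = lam' a * lam' b) (hlam1' : lam' 1 = 1)
    (hR : ∀ a, MemLocalRing M (lam a)) (hR' : ∀ a, MemLocalRing M (lam' a))
    (hI : ∀ a, MemLocalIdeal M (lam a - lam' a))
    (hlamD : ∀ d : A, (d : G) ∈ D → lam d = (χ : G → ℂ) d / (χ : G → ℂ) 1)
    (hlamD' : ∀ d : A, (d : G) ∈ D → lam' d = (χ : G → ℂ) d / (χ : G → ℂ) 1) :
    classInner lam (fun a : A => (χ : G → ℂ) a) = classInner lam' (fun a : A => (χ : G → ℂ) a) := by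
  classical
  letI : Fintype (G ⧸ A) := Fintype.ofFinite _
  set D' : Subgroup A := D.subgroupOf A with hD'
  letI : Fintype D' := Fintype.ofFinite _
  letI : Fintype (A ⧸ D') := Fintype.ofFinite _
  have hχc := irr_isCharacter χ
  have hχ1 : (χ : G → ℂ) 1 ≠ 0 := irr_apply_one_ne_zero χ
  have hcardD : Nat.card D' = Nat.card D := Nat.card_congr (Subgroup.subgroupOfEquivOfLe hDA).toEquiv
  -- the entries
  have hentry : ∀ (μ : A → ℂ), (∀ a b, μ (a * b) = μ a * μ b) →
      (∀ d : A, (d : G) ∈ D → μ d = (χ : G → ℂ) d / (χ : G → ℂ) 1) → ∀ s t : G ⧸ A,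
      indMatrix A (idemCoeff (χ : G → ℂ)) μ s t =
        ((Nat.card D : ℂ) * ((χ : G → ℂ) 1 / (Nat.card G : ℂ))) *
          ∑ c : A ⧸ D', conj ((χ : G → ℂ) (s.out * ((c.out : A) : G) * t.out⁻¹)) * μ c.out := by
    intro μ hμ hμD s t
    simp only [indMatrix]
    rw [← sum_quotient_out D' (fun a : A => idemCoeff (χ : G → ℂ) (s.out * (a : G) * t.out⁻¹) * μ a)]
    rw [Finset.mul_sum]
    refine Finset.sum_congr rfl fun c _ => ?_
    have h1 : ∀ d : D', idemCoeff (χ : G → ℂ) (s.out * (((c.out * d : A)) : G) * t.out⁻¹) * μ (c.out * d) =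
        idemCoeff (χ : G → ℂ) (s.out * ((c.out : A) : G) * t.out⁻¹) * μ c.out := by
      intro d
      have hdD : ((d : A) : G) ∈ D := d.2
      have hc := hDZ _ hdD
      have e1 : s.out * (((c.out * d : A)) : G) * t.out⁻¹ =
          ((d : A) : G) * (s.out * ((c.out : A) : G) * t.out⁻¹) := by
        have h2 := (hc (t.out⁻¹)).eq
        have h3 := (hc ((s.out * ((c.out : A) : G) * t.out⁻¹))).eq
        rw [← h3]
        push_cast
        rw [mul_assoc, mul_assoc, ← h2]
        group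
      rw [e1, hμ, hμD _ hdD]
      simp only [idemCoeff]
      rw [irr_central_mul χ hc, map_mul]
      have h4 := central_conj_mul_self χ hc
      linear_combination ((χ : G → ℂ) 1 / (Nat.card G : ℂ) * conj ((χ : G → ℂ) (s.out * ((c.out : A) : G) * t.out⁻¹)) * μ c.out) * h4
    rw [Finset.sum_congr rfl (fun d _ => h1 d), Finset.sum_const, Finset.card_univ, nsmul_eq_mul,
      ← Nat.card_eq_fintype_card, hcardD]
    simp only [idemCoeff]
    ring
  have hconjloc : ∀ g : G, MemLocalRing M (conj ((χ : G → ℂ) g)) := fun g =>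
    memLocalRing_of_isIntegral (IsCharacter.isIntegral (IsCharacter.conj hχc) g)
  have h1 := trace_eq_of_idempotent_congr (M := M)
    (E := indMatrix A (idemCoeff (χ : G → ℂ)) lam) (F := indMatrix A (idemCoeff (χ : G → ℂ)) lam')
    (indMatrix_mul_self _ _ (idemCoeff_conv χ.2) hlam hlam1)
    (indMatrix_mul_self _ _ (idemCoeff_conv χ.2) hlam' hlam1')
    (fun s t => by
      rw [hentry lam hlam hlamD]
      exact MemLocalRing.mul hk (MemLocalRing.sum _ fun c _ => MemLocalRing.mul (hconjloc _) (hR _)))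
    (fun s t => by
      rw [hentry lam hlam hlamD, hentry lam' hlam' hlamD', ← mul_sub, ← Finset.sum_sub_distrib]
      refine MemLocalIdeal.mul_left hk (MemLocalIdeal.sum _ fun c _ => ?_)
      rw [← mul_sub]
      exact MemLocalIdeal.mul_left (hconjloc _) (hI _))
  rw [trace_indMatrix_idem hχc, trace_indMatrix_idem hχc] at h1
  exact mul_left_cancel₀ hχ1 h1

/-- A multiplicative function twisted by a central value which is not the central character
is orthogonal to `χ`. -/
theorem sum_mul_conj_eq_zero_of_central_ne {χ : IrrCharacter G} {μ : A → ℂ}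
    (hμ : ∀ a b, μ (a * b) = μ a * μ b) {d : A} (hdZ : ∀ w : G, Commute w (d : G))
    (hne : μ d ≠ (χ : G → ℂ) d / (χ : G → ℂ) 1) :
    ∑ a : A, μ a * conj ((χ : G → ℂ) a) = 0 := by
  have h1 : ∑ a : A, μ a * conj ((χ : G → ℂ) a) =
      μ d * conj ((χ : G → ℂ) d / (χ : G → ℂ) 1) * ∑ a : A, μ a * conj ((χ : G → ℂ) a) := by
    conv_lhs => rw [← Equiv.sum_comp (Equiv.mulRight d)]
    rw [Finset.mul_sum]
    refine Finset.sum_congr rfl fun a _ => ?_
    simp only [Equiv.coe_mulRight, hμ]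
    have e1 : ((a * d : A) : G) = (d : G) * (a : G) := by
      push_cast
      exact (hdZ a).eq
    rw [e1, irr_central_mul χ hdZ, map_mul]
    ring
  have h2 := central_conj_mul_self χ hdZ
  have h3 : μ d * conj ((χ : G → ℂ) d / (χ : G → ℂ) 1) ≠ 1 := by
    intro h
    apply hne
    calc μ d = μ d * (conj ((χ : G → ℂ) d / (χ : G → ℂ) 1) * ((χ : G → ℂ) d / (χ : G → ℂ) 1)) := by
          rw [h2, mul_one]
      _ = (μ d * conj ((χ : G → ℂ) d / (χ : G → ℂ) 1)) * ((χ : G → ℂ) d / (χ : G → ℂ) 1) := by ring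
      _ = _ := by rw [h, one_mul]
  have h4 : (1 - μ d * conj ((χ : G → ℂ) d / (χ : G → ℂ) 1)) * ∑ a : A, μ a * conj ((χ : G → ℂ) a) = 0 := by
    rw [sub_mul, one_mul, ← h1, sub_self]
  rcases mul_eq_zero.mp h4 with h5 | h5
  · exact absurd (sub_eq_zero.mp h5).symm h3
  · exact h5

end Congruence

section Vanishing

/-- The `p`-part of an element outside the subgroup forces `p` to divide the order in the quotient. -/
theorem dvd_orderOf_mk_of_isPPart {A : Type*} [Group A] [Finite A] (N : Subgroup A) [N.Normal] {g x : A}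
    {α : ℕ} (hgx : g ^ α = x) {k : ℕ} (hk : orderOf x = p ^ k) (hxN : x ∉ N) :
    p ∣ orderOf ((g : A) : A ⧸ N) := by
  have hpp : p.Prime := hp.out
  by_contra hcon
  apply hxN
  have h2 : orderOf ((x : A) : A ⧸ N) ∣ p ^ k := by
    apply orderOf_dvd_of_pow_eq_one
    rw [← QuotientGroup.mk_pow, ← hk, pow_orderOf_eq_one]
    rfl
  have h3 : orderOf ((x : A) : A ⧸ N) ∣ orderOf ((g : A) : A ⧸ N) := by
    apply orderOf_dvd_of_pow_eq_one
    rw [← hgx, QuotientGroup.mk_pow, ← pow_mul, mul_comm, pow_mul, pow_orderOf_eq_one, one_pow]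
  have hcop : Nat.Coprime (p ^ k) (orderOf ((g : A) : A ⧸ N)) :=
    Nat.Coprime.pow_left _ ((Nat.Prime.coprime_iff_not_dvd hpp).mpr hcon)
  have h4 := Nat.eq_one_of_dvd_coprimes hcop h2 h3
  rw [orderOf_eq_one_iff] at h4
  exact (QuotientGroup.eq_one_iff x).mp h4

/-- **Vanishing.** -/
theorem irr_eq_zero_of_pPart_notMem_central (hM : IsPModular p M) {χ : IrrCharacter G} {D : Subgroup G}
    (hDZ : ∀ d ∈ D, ∀ w : G, Commute w d)
    (hk : MemLocalRing M ((Nat.card D : ℂ) * ((χ : G → ℂ) 1 / (Nat.card G : ℂ)))) {g x : G}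
    (hx : IsPPart p g x) (hxD : x ∉ D) : (χ : G → ℂ) g = 0 := by
  classical
  have := isPrime_of_modular hM
  have hpp : p.Prime := hp.out
  obtain ⟨α, hα⟩ := exists_isPExp G p
  have hgx : g ^ α = x := hα.eq_of_isPPart hx
  obtain ⟨y₀, -, -, ⟨k₀, hk₀⟩, -⟩ := hx
  -- the abelian subgroup
  let A : Subgroup G := Subgroup.zpowers g ⊔ D
  letI : Fintype A := Fintype.ofFinite _
  have hgA : g ∈ A := (le_sup_left : Subgroup.zpowers g ≤ A) (Subgroup.mem_zpowers g)
  have hDA : D ≤ A := le_sup_right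
  have hAform : ∀ a ∈ A, ∃ i : ℤ, ∃ d ∈ D, a = g ^ i * d := by
    intro a ha
    haveI : D.Normal := ⟨fun n hn w => by
      have h0 : w * n * w⁻¹ = n := by rw [(hDZ n hn w).eq, mul_inv_cancel_right]
      rwa [h0]⟩
    obtain ⟨u, hu, d, hd, rfl⟩ := Subgroup.mem_sup_of_normal_right.mp ha
    obtain ⟨i, rfl⟩ := Subgroup.mem_zpowers_iff.mp hu
    exact ⟨i, d, hd, rfl⟩
  have hcomm : ∀ a b : A, a * b = b * a := by
    rintro ⟨a, ha⟩ ⟨b, hb⟩
    apply Subtype.ext
    obtain ⟨i, d, hd, rfl⟩ := hAform a ha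
    obtain ⟨j, e, he, rfl⟩ := hAform b hb
    show g ^ i * d * (g ^ j * e) = g ^ j * e * (g ^ i * d)
    have h1 := (hDZ d hd (g ^ j)).eq
    have h2 := (hDZ e he (g ^ i)).eq
    have h3 := (hDZ e he d).eq
    have h4 : g ^ i * g ^ j = g ^ j * g ^ i := zpow_mul_comm g i j
    calc g ^ i * d * (g ^ j * e) = g ^ i * (d * g ^ j) * e := by group
      _ = (g ^ i * g ^ j) * (d * e) := by rw [← h1]; group
      _ = (g ^ j * g ^ i) * (e * d) := by rw [h4, h3]
      _ = g ^ j * (g ^ i * e) * d := by group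
      _ = g ^ j * (e * g ^ i) * d := by rw [h2]
      _ = g ^ j * e * (g ^ i * d) := by group
  -- the quotient
  let D' : Subgroup A := D.subgroupOf A
  haveI hD'n : D'.Normal := by
    refine ⟨fun n hn w => ?_⟩
    have : w * n * w⁻¹ = n := by rw [hcomm w n, mul_inv_cancel_right]
    rwa [this]
  let gA : A := ⟨g, hgA⟩
  let gQ : A ⧸ D' := (gA : A ⧸ D')
  have hgen : ∀ q : A ⧸ D', q ∈ Subgroup.zpowers gQ := by
    intro q
    obtain ⟨a, rfl⟩ := QuotientGroup.mk_surjective q
    obtain ⟨i, d, hd, ha⟩ := hAform a a.2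
    refine Subgroup.mem_zpowers_iff.mpr ⟨i, ?_⟩
    rw [← QuotientGroup.mk_zpow, QuotientGroup.eq]
    apply Subgroup.mem_subgroupOf.mpr
    have : (((gA ^ i)⁻¹ * a : A) : G) = d := by
      push_cast
      rw [ha]
      simp [gA]
    rw [this]
    exact hd
  have hxA : x ∈ A := by
    rw [← hgx]
    exact A.pow_mem hgA α
  have hpQ : p ∣ orderOf gQ := by
    refine dvd_orderOf_mk_of_isPPart D' (x := ⟨x, hxA⟩) (α := α) (k := k₀) ?_ ?_ ?_
    · apply Subtype.ext
      push_cast
      exact hgx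
    · rw [Subgroup.orderOf_mk]
      exact hk₀
    · intro h
      exact hxD (Subgroup.mem_subgroupOf.mp h)
  -- a linear character of order `p`
  have hp0 : p ≠ 0 := hpp.ne_zero
  haveI : NeZero p := ⟨hp0⟩
  have hε := Complex.isPrimitiveRoot_exp p hp0
  let ε : ℂˣ := (hε.isUnit hp0).unit
  have hεc : (ε : ℂ) = Complex.exp (2 * Real.pi * Complex.I / p) := rfl
  have hεo : orderOf ε = p := by
    rw [← orderOf_units, hεc]
    exact (hε.eq_orderOf).symm
  let ν₀ : (A ⧸ D') →* ℂˣ := monoidHomOfForallMemZpowers hgen (g' := ε) (by rw [hεo]; exact hpQ)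
  have hν₀g : ν₀ gQ = ε := monoidHomOfForallMemZpowers_apply_gen hgen _
  let ν : A →* ℂˣ := ν₀.comp (QuotientGroup.mk' D')
  have hνg : ν gA = ε := hν₀g
  have hνD : ∀ d : A, (d : G) ∈ D → ν d = 1 := by
    intro d hd
    show ν₀ (d : A ⧸ D') = 1
    rw [(QuotientGroup.eq_one_iff d).mpr (Subgroup.mem_subgroupOf.mpr hd), map_one]
  have hνp : ∀ a : A, ((ν a : ℂˣ) : ℂ) ^ p = 1 := by
    intro a
    obtain ⟨i, hi⟩ := Subgroup.mem_zpowers_iff.mp (hgen (a : A ⧸ D'))
    have h3 : ν a = ε ^ i := by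
      show ν₀ (a : A ⧸ D') = _
      rw [← hi, map_zpow, hν₀g]
    have h1 : (ν a) ^ p = 1 := by
      rw [h3, ← zpow_natCast, zpow_comm, zpow_natCast, ← hεo, pow_orderOf_eq_one, _root_.one_zpow]
    have := congrArg (fun u : ℂˣ => (u : ℂ)) h1
    simpa using this
  -- every irreducible character of `A` has the same multiplicity after a twist by `ν`
  let Ψ : A → ℂ := fun a => conj (ν a : ℂ) * (χ : G → ℂ) a - (χ : G → ℂ) a
  have hΨclass : IsClassFunction A Ψ := by
    intro a b
    simp only [Ψ]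
    have : b * a * b⁻¹ = a := by rw [hcomm b a, mul_inv_cancel_right]
    rw [this]
  have hzero : ∀ ψ : IrrCharacter A, classInner Ψ (ψ : A → ℂ) = 0 := by
    intro ψ
    have hψc := IsIrrCharacter.isCharacter ψ.2
    have h1 : (ψ : A → ℂ) 1 = 1 := (comm_iff_irr_degree_one (G := A)).mp hcomm ψ
    obtain ⟨lam, hlam⟩ := IsCharacter.exists_monoidHom hψc h1
    have hψmul : ∀ a b, (ψ : A → ℂ) (a * b) = (ψ : A → ℂ) a * (ψ : A → ℂ) b := by
      intro a b
      rw [hlam]
      simp
    have hψνmul : ∀ a b, (ψ : A → ℂ) (a * b) * (ν (a * b) : ℂ) =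
        ((ψ : A → ℂ) a * (ν a : ℂ)) * ((ψ : A → ℂ) b * (ν b : ℂ)) := by
      intro a b
      rw [hψmul]
      simp only [map_mul, Units.val_mul]
      ring
    have key : classInner (ψ : A → ℂ) (fun a : A => (χ : G → ℂ) a) =
        classInner (fun a => (ψ : A → ℂ) a * (ν a : ℂ)) (fun a : A => (χ : G → ℂ) a) := by
      by_cases hcase : ∀ d : A, (d : G) ∈ D → (ψ : A → ℂ) d = (χ : G → ℂ) d / (χ : G → ℂ) 1
      · refine classInner_eq_of_congr_central (M := M) A D hDA hDZ hk hψmul h1 hψνmul (by rw [h1]; simp)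
          (fun a => memLocalRing_of_isIntegral (IsCharacter.isIntegral hψc a))
          (fun a => MemLocalRing.mul (memLocalRing_of_isIntegral (IsCharacter.isIntegral hψc a))
            (memLocalRing_of_isIntegral (IsIntegral.of_pow hpp.pos (by rw [hνp]; exact isIntegral_one))))
          (fun a => ?_) hcase ?_
        · have h2 := MemLocalIdeal.mul_left (z := -(ψ : A → ℂ) a)
            (MemLocalRing.neg (memLocalRing_of_isIntegral (IsCharacter.isIntegral hψc a)))
            (memLocalIdeal_sub_one_of_pow_eq_one hM (hνp a))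
          convert h2 using 1
          ring
        · intro d hd
          rw [hνD d hd, hcase d hd]
          simp
      · push Not at hcase
        obtain ⟨d, hd, hne⟩ := hcase
        have h2 := sum_mul_conj_eq_zero_of_central_ne A hψmul (d := d) (hDZ _ hd) hne
        have h3 : ∀ a b, (ψ : A → ℂ) (a * b) * (ν (a * b) : ℂ) =
          ((ψ : A → ℂ) a * (ν a : ℂ)) * ((ψ : A → ℂ) b * (ν b : ℂ)) := hψνmul
        have h4 := sum_mul_conj_eq_zero_of_central_ne A (μ := fun a => (ψ : A → ℂ) a * (ν a : ℂ)) h3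
          (d := d) (hDZ _ hd) (by
            rw [hνD d hd]
            simpa using hne)
        simp only [classInner]
        rw [h2, h4]
    rw [classInner_conj_symm]
    have h3 : classInner (ψ : A → ℂ) Ψ = 0 := by
      simp only [classInner] at key ⊢
      simp only [Ψ, map_sub, map_mul, Complex.conj_conj, mul_sub]
      rw [Finset.sum_sub_distrib]
      have hA : (Nat.card A : ℂ)⁻¹ ≠ 0 := inv_ne_zero (by exact_mod_cast Nat.card_pos.ne')
      have key' := mul_left_cancel₀ hA key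
      rw [key']
      have h4 : ∀ a : A, (ψ : A → ℂ) a * (ν a : ℂ) * conj ((χ : G → ℂ) a) =
          (ψ : A → ℂ) a * ((ν a : ℂ) * conj ((χ : G → ℂ) a)) := by
        intro a; ring
      simp only [h4]
      simp
    rw [h3, map_zero]
  have hΨ0 : Ψ = 0 := by
    rw [classFunction_eq_sum Ψ hΨclass]
    simp [hzero]
  have hgx' : conj ((ν gA : ℂˣ) : ℂ) * (χ : G → ℂ) g - (χ : G → ℂ) g = 0 := congrFun hΨ0 gA
  rw [hνg] at hgx'
  have hε1 : conj ((ε : ℂˣ) : ℂ) ≠ 1 := by
    intro h
    have h1 : ((ε : ℂˣ) : ℂ) = 1 := by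
      have := congrArg (starRingEnd ℂ) h
      simpa using this
    have h2 : ε = 1 := Units.ext h1
    rw [h2, orderOf_one] at hεo
    exact hpp.one_lt.ne hεo
  have h5 : (conj ((ε : ℂˣ) : ℂ) - 1) * (χ : G → ℂ) g = 0 := by linear_combination hgx'
  rcases mul_eq_zero.mp h5 with h | h
  · exact absurd (sub_eq_zero.mp h) hε1
  · exact h

end Vanishing

section Decomp

/-- The elements of a `p`-subgroup have `p`-power order. -/
theorem orderOf_eq_pow_of_isPGroup {P : Subgroup G} (hP : IsPGroup p P) {d : G} (hd : d ∈ P) :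
    ∃ k, orderOf d = p ^ k := by
  obtain ⟨k, hk⟩ := hP ⟨d, hd⟩
  have h1 : d ^ p ^ k = 1 := congrArg Subtype.val hk
  obtain ⟨m, -, hm⟩ := (Nat.dvd_prime_pow hp.out).mp (orderOf_dvd_of_pow_eq_one h1)
  exact ⟨m, hm⟩

/-- The decomposition of a sum according to `p`-parts. -/
theorem sum_eq_sum_mul_regular {P : Subgroup G} [Fintype P] (hPp : IsPGroup p P)
    (hreg : ∀ d ∈ P, ∀ r : G, ¬ p ∣ orderOf r → Commute d r) {F : G → ℂ}
    (hsupp : ∀ g x, IsPPart p g x → x ∉ P → F g = 0) :
    ∑ g, F g = ∑ d : P, ∑ r, regFun p G r * F (d * r) := by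
  classical
  obtain ⟨α, hα⟩ := exists_isPExp G p
  have h1 : ∀ d : P, ∑ r, regFun p G r * F (d * r) = ∑ g, regFun p G ((d : G)⁻¹ * g) * F g := by
    intro d
    rw [← Equiv.sum_comp (Equiv.mulLeft (d : G)) (fun g => regFun p G ((d : G)⁻¹ * g) * F g)]
    refine Finset.sum_congr rfl fun r _ => ?_
    simp
  simp only [h1]
  rw [Finset.sum_comm]
  refine Finset.sum_congr rfl fun g _ => ?_
  rw [← Finset.sum_mul]
  obtain ⟨y, hxy, hc, hk, hy⟩ := hα.isPPart g
  by_cases hx : g ^ α ∈ P
  · rw [Finset.sum_eq_single (⟨g ^ α, hx⟩ : P)]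
    · have h2 : (g ^ α)⁻¹ * g = y := by
        calc (g ^ α)⁻¹ * g = (g ^ α)⁻¹ * (g ^ α * y) := by rw [hxy]
          _ = y := inv_mul_cancel_left _ _
      simp only [h2, regFun, if_pos hy, one_mul]
    · intro d _ hd
      have h2 : ¬ ¬ p ∣ orderOf ((d : G)⁻¹ * g) := by
        intro h3
        apply hd
        have hk' := orderOf_eq_pow_of_isPGroup hPp d.2
        have h4 : IsPPart p g (d : G) := ⟨(d : G)⁻¹ * g, by group, hreg _ d.2 _ h3, hk', h3⟩
        exact Subtype.ext (hα.eq_of_isPPart h4).symm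
      simp only [regFun, if_neg h2]
    · intro h
      exact absurd (Finset.mem_univ _) h
  · rw [hsupp g _ (hα.isPPart g) hx]
    simp

end Decomp

section Main

/-- The twisted average of a character at a central element. -/
theorem IsCharacter.sum_central_mul_conj_isIntegral {θ : G → ℂ} (hθ : IsCharacter G θ) {z : G}
    (hz : ∀ w, Commute w z) (A : Subgroup G) [Fintype A] {μ : A → ℂ} (hμ : IsCharacter A μ) :
    IsIntegral ℤ ((Nat.card A : ℂ)⁻¹ * ∑ a : A, θ (z * a) * conj (μ a)) := by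
  classical
  have h1 : θ = ∑ ψ : IrrCharacter G, classInner θ (ψ : G → ℂ) • (ψ : G → ℂ) :=
    classFunction_eq_sum θ (IsCharacter.isClassFunction hθ)
  have h2 : ∀ x, θ x = ∑ ψ : IrrCharacter G, classInner θ (ψ : G → ℂ) * (ψ : G → ℂ) x := by
    intro x
    have h3 := congrFun h1 x
    rw [Finset.sum_apply] at h3
    exact h3
  have h4 : (Nat.card A : ℂ)⁻¹ * ∑ a : A, θ (z * a) * conj (μ a) = ∑ ψ : IrrCharacter G,
      classInner θ (ψ : G → ℂ) * (((ψ : G → ℂ) z / (ψ : G → ℂ) 1) *
        classInner (Cfsg.Agent.Lib.Char.resFun A (ψ : G → ℂ)) μ) := by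
    rw [show ∑ a : A, θ (z * a) * conj (μ a) = ∑ a : A, ∑ ψ : IrrCharacter G,
      classInner θ (ψ : G → ℂ) * (ψ : G → ℂ) (z * a) * conj (μ a) from Finset.sum_congr rfl fun a _ => by
        rw [h2, Finset.sum_mul],
      Finset.sum_comm, Finset.mul_sum]
    refine Finset.sum_congr rfl fun ψ _ => ?_
    simp only [classInner, Cfsg.Agent.Lib.Char.resFun, Finset.mul_sum]
    refine Finset.sum_congr rfl fun a _ => ?_
    rw [irr_central_mul ψ hz]
    ring
  rw [h4]
  refine IsIntegral.sum _ fun ψ _ => ?_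
  obtain ⟨n, hn⟩ := IsCharacter.classInner_irr_eq_nat hθ ψ.2
  obtain ⟨m, hm⟩ : ∃ m : ℕ, classInner (Cfsg.Agent.Lib.Char.resFun A (ψ : G → ℂ)) μ = m :=
    IsCharacter.classInner_nat (isCharacter_resFun A (IsIrrCharacter.isCharacter ψ.2)) hμ
  rw [hn, hm]
  exact IsIntegral.mul (isIntegral_natCast ..) (IsIntegral.mul (isIntegral_central_div ψ hz) (isIntegral_natCast ..))

/-- The twisted average of a character over a coset of a subgroup centralizing an element. -/
theorem irr_avg_conj_isIntegral (χ : IrrCharacter G) (y : G) {A : Subgroup G}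
    (hA : A ≤ Subgroup.centralizer ({y} : Set G)) [Fintype A] {μ : A → ℂ} (hμ : IsCharacter A μ) :
    IsIntegral ℤ ((Nat.card A : ℂ)⁻¹ * ∑ a : A, (χ : G → ℂ) (y * a) * conj (μ a)) := by
  classical
  letI : Fintype (Subgroup.centralizer ({y} : Set G)) := Fintype.ofFinite _
  set C := Subgroup.centralizer ({y} : Set G) with hC
  letI : Fintype (A.subgroupOf C) := Fintype.ofFinite _
  have hyC : y ∈ C := mem_centralizer_singleton_of_commute (Commute.refl y)
  have hz : ∀ w : C, Commute w (⟨y, hyC⟩ : C) := fun w =>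
    Subtype.ext (commute_of_mem_centralizer_singleton w.2)
  let e : A.subgroupOf C ≃* A := Subgroup.subgroupOfEquivOfLe hA
  have hμ' : IsCharacter (A.subgroupOf C) (μ ∘ e) := IsCharacter.comp hμ e.toMonoidHom
  have h1 := IsCharacter.sum_central_mul_conj_isIntegral
    (isCharacter_resFun C (IsIrrCharacter.isCharacter χ.2)) hz (A.subgroupOf C) hμ'
  have h2 : Nat.card (A.subgroupOf C) = Nat.card A := Nat.card_congr e.toEquiv
  have h3 : ∑ d : A.subgroupOf C, Cfsg.Agent.Lib.Char.resFun C (χ : G → ℂ) ((⟨y, hyC⟩ : C) * (d : C)) *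
        conj ((μ ∘ e) d) = ∑ a : A, (χ : G → ℂ) (y * a) * conj (μ a) := by
    refine Fintype.sum_equiv e.toEquiv _ _ fun d => ?_
    rfl
  rw [h2, h3] at h1
  exact h1

/-- **Laradji's theorem.** -/
theorem central_defect (hM : IsPModular p M) {D : Subgroup G} (hDp : IsPGroup p D)
    (hDZ : ∀ d ∈ D, ∀ w : G, Commute w d) {χ : IrrCharacter G}
    (hdeg : D.index.factorization p ≤ (charDegree (χ : G → ℂ)).factorization p) :
    IsDefectGroup p M (blockOf M (χ : G → ℂ)) D := by
  classical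
  have := isPrime_of_modular hM
  have hpp : p.Prime := hp.out
  letI : Fintype D := Fintype.ofFinite _
  have hχc := irr_isCharacter χ
  have hdeg1 := apply_one_eq_charDegree hχc
  have hχ1 : (χ : G → ℂ) 1 ≠ 0 := irr_apply_one_ne_zero χ
  have hidx0 : D.index ≠ 0 := Subgroup.index_ne_zero_of_finite
  have hidxC : (D.index : ℂ) ≠ 0 := by exact_mod_cast hidx0
  have hcardC : (Nat.card D : ℂ) ≠ 0 := by exact_mod_cast Nat.card_pos.ne'
  have hGC : (Nat.card G : ℂ) ≠ 0 := by exact_mod_cast Nat.card_pos.ne'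
  have hcard : (Nat.card D : ℂ) * (D.index : ℂ) = Nat.card G := by
    exact_mod_cast Subgroup.card_mul_index D
  have hc0 : MemLocalRing M ((χ : G → ℂ) 1 / (D.index : ℂ)) := by
    rw [hdeg1]
    exact natCast_div_memLocalRing hM hidx0 hdeg
  have hk : MemLocalRing M ((Nat.card D : ℂ) * ((χ : G → ℂ) 1 / (Nat.card G : ℂ))) := by
    have : (Nat.card D : ℂ) * ((χ : G → ℂ) 1 / (Nat.card G : ℂ)) = (χ : G → ℂ) 1 / (D.index : ℂ) := by
      rw [← hcard]
      field_simp
    rw [this]
    exact hc0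
  have hvan : ∀ g x, IsPPart p g x → x ∉ D → (χ : G → ℂ) g = 0 :=
    fun g x hx hxD => irr_eq_zero_of_pPart_notMem_central hM hDZ hk hx hxD
  -- the sum over regular elements
  have hsumreg : (Nat.card D : ℂ) * ∑ r, regFun p G r * ((χ : G → ℂ) r * conj ((χ : G → ℂ) r)) = Nat.card G := by
    have h1 := sum_eq_sum_mul_regular (F := fun g => (χ : G → ℂ) g * conj ((χ : G → ℂ) g)) hDp
      (fun d hd r _ => (hDZ d hd r).symm) (fun g x hx hxD => by
        simp only [hvan g x hx hxD, zero_mul])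
    have h2 : ∑ g, (χ : G → ℂ) g * conj ((χ : G → ℂ) g) = Nat.card G := by
      have h3 := classInner_irr_self χ.2
      rw [classInner] at h3
      field_simp at h3
      exact h3
    rw [h2] at h1
    rw [h1]
    have h4 : ∀ d : D, ∑ r, regFun p G r * ((χ : G → ℂ) (d * r) * conj ((χ : G → ℂ) (d * r))) =
        ∑ r, regFun p G r * ((χ : G → ℂ) r * conj ((χ : G → ℂ) r)) := by
      intro d
      refine Finset.sum_congr rfl fun r _ => ?_
      have hd := hDZ d d.2
      rw [irr_central_mul χ hd, map_mul]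
      have h5 := central_conj_mul_self χ hd
      linear_combination (regFun p G r * ((χ : G → ℂ) r * conj ((χ : G → ℂ) r))) * h5
    simp only [h4]
    rw [Finset.sum_const, Finset.card_univ, nsmul_eq_mul, Nat.card_eq_fintype_card]
  -- the function
  let a : G → ℂ := fun g => regFun p G g * (((χ : G → ℂ) 1 / (D.index : ℂ)) * conj ((χ : G → ℂ) g))
  have ha : IsClassFunction G a := by
    intro g k
    simp only [a]
    rw [regFun_isClassFunction g k, irr_isClassFunction χ g k]
  have haloc : ∀ g, MemLocalRing M (a g) := fun g =>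
    MemLocalRing.mul (regFun_memLocalRing g) (MemLocalRing.mul hc0
      (memLocalRing_of_isIntegral (IsCharacter.isIntegral (IsCharacter.conj hχc) g)))
  have hspec : spec a χ = 1 := by
    rw [spec]
    have h1 : ∑ x, a x * (χ : G → ℂ) x = ((χ : G → ℂ) 1 / (D.index : ℂ)) *
        ∑ r, regFun p G r * ((χ : G → ℂ) r * conj ((χ : G → ℂ) r)) := by
      rw [Finset.mul_sum]
      refine Finset.sum_congr rfl fun x _ => ?_
      simp only [a]
      ring
    rw [h1]
    have h2 : ∑ r, regFun p G r * ((χ : G → ℂ) r * conj ((χ : G → ℂ) r)) = (D.index : ℂ) := by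
      apply mul_left_cancel₀ hcardC
      rw [hsumreg, hcard]
    rw [h2]
    field_simp
  -- a good class
  obtain ⟨t, hat, htω⟩ : ∃ t, ¬ MemLocalIdeal M (a t) ∧ ¬ MemLocalIdeal M (centralChar (χ : G → ℂ) t) := by
    by_contra hcon
    push Not at hcon
    apply not_memLocalIdeal_one (M := M)
    rw [← hspec, spec_eq_sum_classes a ha χ]
    refine MemLocalIdeal.sum _ fun K _ => ?_
    by_cases h1 : MemLocalIdeal M (a (clsRep K))
    · exact MemLocalIdeal.mul_right h1 (memLocalRing_of_isIntegral (isIntegral_centralChar χ _))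
    · exact MemLocalIdeal.mul_left (haloc _) (hcon _ h1)
  have htreg : ¬ p ∣ orderOf t := by
    intro h
    apply hat
    have : a t = 0 := by
      have h1 : ¬ ¬ p ∣ orderOf t := fun h' => h' h
      simp only [a, regFun, if_neg h1, zero_mul]
    rw [this]
    exact memLocalIdeal_zero
  -- every `p`-element centralizing `t` lies in `D`
  have hDnorm : D.Normal := ⟨fun n hn w => by
    have h0 : w * n * w⁻¹ = n := by rw [(hDZ n hn w).eq, mul_inv_cancel_right]
    rwa [h0]⟩
  have hpelt : ∀ u : G, (∃ k, orderOf u = p ^ k) → Commute u t → u ∈ D := by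
    intro u hu hut
    by_contra huD
    haveI := hDnorm
    let A : Subgroup G := Subgroup.zpowers u ⊔ D
    letI : Fintype A := Fintype.ofFinite _
    have hAp : IsPGroup p A := IsPGroup.to_sup_of_normal_right (isPGroup_zpowers hu) hDp
    have hDA : D ≤ A := le_sup_right
    have huA : u ∈ A := (le_sup_left : Subgroup.zpowers u ≤ A) (Subgroup.mem_zpowers u)
    have hAform : ∀ a ∈ A, ∃ i : ℤ, ∃ d ∈ D, a = u ^ i * d := by
      intro a ha
      obtain ⟨v, hv, d, hd, rfl⟩ := Subgroup.mem_sup_of_normal_right.mp ha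
      obtain ⟨i, rfl⟩ := Subgroup.mem_zpowers_iff.mp hv
      exact ⟨i, d, hd, rfl⟩
    have hcomm : ∀ a b : A, a * b = b * a := by
      rintro ⟨a, ha⟩ ⟨b, hb⟩
      apply Subtype.ext
      obtain ⟨i, d, hd, rfl⟩ := hAform a ha
      obtain ⟨j, e, he, rfl⟩ := hAform b hb
      show u ^ i * d * (u ^ j * e) = u ^ j * e * (u ^ i * d)
      have h1 := (hDZ d hd (u ^ j)).eq
      have h2 := (hDZ e he (u ^ i)).eq
      have h3 := (hDZ e he d).eq
      have h4 : u ^ i * u ^ j = u ^ j * u ^ i := zpow_mul_comm u i j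
      calc u ^ i * d * (u ^ j * e) = u ^ i * (d * u ^ j) * e := by group
        _ = (u ^ i * u ^ j) * (d * e) := by rw [← h1]; group
        _ = (u ^ j * u ^ i) * (e * d) := by rw [h4, h3]
        _ = u ^ j * (u ^ i * e) * d := by group
        _ = u ^ j * (e * u ^ i) * d := by rw [h2]
        _ = u ^ j * e * (u ^ i * d) := by group
    have hAt : ∀ a ∈ A, Commute a t := by
      intro a ha
      obtain ⟨i, d, hd, rfl⟩ := hAform a ha
      exact (hut.zpow_left i).mul_left (hDZ d hd t).symm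
    have hAC : A ≤ Subgroup.centralizer ({t} : Set G) := fun a ha =>
      mem_centralizer_singleton_of_commute (hAt a ha)
    -- a linear constituent
    have hres : IsCharacter A (fun a : A => (χ : G → ℂ) a) := isCharacter_resFun A hχc
    obtain ⟨μ, hμ⟩ : ∃ μ : IrrCharacter A, classInner (μ : A → ℂ) (fun a : A => (χ : G → ℂ) a) ≠ 0 := by
      by_contra hcon
      push Not at hcon
      have h1 := congrFun (classFunction_eq_sum _ (IsCharacter.isClassFunction hres)) 1
      rw [Finset.sum_apply] at h1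
      apply hχ1
      have h2 : ((1 : A) : G) = 1 := rfl
      rw [← h2, h1]
      refine Finset.sum_eq_zero fun ψ _ => ?_
      rw [classInner_conj_symm, hcon ψ, map_zero]
      simp
    have hμc := IsIrrCharacter.isCharacter μ.2
    have hμ1 : (μ : A → ℂ) 1 = 1 := (comm_iff_irr_degree_one (G := A)).mp hcomm μ
    obtain ⟨lam, hlam⟩ := IsCharacter.exists_monoidHom hμc hμ1
    have hμmul : ∀ a b, (μ : A → ℂ) (a * b) = (μ : A → ℂ) a * (μ : A → ℂ) b := by
      intro a b
      rw [hlam]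
      simp
    have hμD : ∀ d : A, (d : G) ∈ D → (μ : A → ℂ) d = (χ : G → ℂ) d / (χ : G → ℂ) 1 := by
      intro d hd
      by_contra hne
      apply hμ
      simp only [classInner]
      rw [sum_mul_conj_eq_zero_of_central_ne A hμmul (hDZ _ hd) hne, mul_zero]
    have hint := irr_avg_conj_isIntegral χ t hAC hμc
    -- evaluating the sum
    have hterm : ∀ a : A, (χ : G → ℂ) (t * a) * conj ((μ : A → ℂ) a) =
        if a ∈ D.subgroupOf A then (χ : G → ℂ) t else 0 := by
      intro a
      by_cases ha : a ∈ D.subgroupOf A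
      · rw [if_pos ha]
        have hd : (a : G) ∈ D := Subgroup.mem_subgroupOf.mp ha
        have hc := hDZ _ hd
        rw [hμD a hd, (hc t).eq, irr_central_mul χ hc]
        have h5 := central_conj_mul_self χ hc
        linear_combination ((χ : G → ℂ) t) * h5
      · rw [if_neg ha]
        have hd : (a : G) ∉ D := fun h => ha (Subgroup.mem_subgroupOf.mpr h)
        have h1 : IsPPart p (t * (a : G)) (a : G) :=
          ⟨t, (hAt a a.2).eq, hAt a a.2, orderOf_eq_pow_of_isPGroup hAp a.2, htreg⟩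
        rw [hvan _ _ h1 hd, zero_mul]
    letI : Fintype (D.subgroupOf A) := Fintype.ofFinite _
    have hcardD : Nat.card (D.subgroupOf A) = Nat.card D :=
      Nat.card_congr (Subgroup.subgroupOfEquivOfLe hDA).toEquiv
    have hS : ∑ a : A, (χ : G → ℂ) (t * a) * conj ((μ : A → ℂ) a) = (Nat.card D : ℂ) * (χ : G → ℂ) t := by
      rw [Finset.sum_congr rfl (fun a _ => hterm a), Finset.sum_ite, Finset.sum_const_zero, add_zero,
        Finset.sum_const, nsmul_eq_mul, ← hcardD, Nat.card_eq_fintype_card (α := D.subgroupOf A),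
        Fintype.card_subtype]
    rw [hS] at hint
    set r := (D.subgroupOf A).index with hr
    have hrcard : (Nat.card D : ℂ) * (r : ℂ) = Nat.card A := by
      rw [← hcardD]
      exact_mod_cast Subgroup.card_mul_index (D.subgroupOf A)
    have hrdvd : p ∣ r := by
      have h1 : r ∣ Nat.card A := Subgroup.index_dvd_card _
      obtain ⟨m, hm⟩ := IsPGroup.iff_card.mp hAp
      rw [hm] at h1
      obtain ⟨k, hk, hk'⟩ := (Nat.dvd_prime_pow hpp).mp h1
      rcases Nat.eq_zero_or_pos k with rfl | hk0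
      · exfalso
        rw [pow_zero] at hk'
        have h2 : D.subgroupOf A = ⊤ := Subgroup.index_eq_one.mp hk'
        have h3 : (⟨u, huA⟩ : A) ∈ D.subgroupOf A := by rw [h2]; trivial
        exact huD (Subgroup.mem_subgroupOf.mp h3)
      · rw [hk']
        exact dvd_pow_self p hk0.ne'
    have hr0 : (r : ℂ) ≠ 0 := by
      intro h
      rw [h, mul_zero] at hrcard
      exact (by exact_mod_cast Nat.card_pos.ne' : (Nat.card A : ℂ) ≠ 0) hrcard.symm
    have hβ : (Nat.card A : ℂ)⁻¹ * ((Nat.card D : ℂ) * (χ : G → ℂ) t) = (χ : G → ℂ) t / (r : ℂ) := by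
      rw [← hrcard]
      field_simp
    rw [hβ] at hint
    have hconj : conj ((χ : G → ℂ) t) = (r : ℂ) * conj ((χ : G → ℂ) t / (r : ℂ)) := by
      rw [map_div₀, Complex.conj_natCast]
      field_simp
    apply hat
    have hI : MemLocalIdeal M (conj ((χ : G → ℂ) t)) := by
      rw [hconj]
      refine MemLocalIdeal.mul_right ((natCast_memLocalIdeal_iff hM _).mpr hrdvd) ?_
      exact memLocalRing_of_isIntegral (IsIntegral.map (starRingEnd ℂ).toIntAlgHom hint)
    exact MemLocalIdeal.mul_left (regFun_memLocalRing t) (MemLocalIdeal.mul_left hc0 hI)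
  -- conclusion
  obtain ⟨D₁, hD₁⟩ := IsPBlock.exists_isDefectGroup hM (isPBlock_blockOf (M := M) χ)
  obtain ⟨y, hy⟩ := IsDefectGroup.conj_le_of_central hM (isPBlock_blockOf χ) hD₁ (self_mem_blockOf χ) htω
  have hle1 : D₁ ≤ D := by
    intro v hv
    have h1 : y * v * y⁻¹ ∈ conjS y D₁ := conj_mem_conjS hv
    obtain ⟨k, hk⟩ := orderOf_eq_pow_of_isPGroup (IsDefectGroup.isPGroup hD₁) hv
    have h2 := hpelt (y * v * y⁻¹) ⟨k, by rw [orderOf_conj_eq, hk]⟩
      (commute_of_mem_centralizer_singleton (hy h1))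
    have h3 := hDnorm.conj_mem _ h2 y⁻¹
    simpa [mul_assoc] using h3
  have hle2 : D ≤ D₁ :=
    (Cfsg.Agent.Lib.Basic.le_pCore hDnorm hDp).trans (IsDefectGroup.pCore_le hM (isPBlock_blockOf χ) hD₁)
  rwa [le_antisymm hle2 hle1]

end Main

end Cfsg.Agent.Lib.Blocks
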