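import Mathlib

/-!
# Simple modules attached to the linear characters of `N_G(P)`, `P` a Sylow subgroup of order `p`

Let `k` be an algebraically closed field of characteristic `p`, `P = ⟨y⟩` a subgroup of order `p` of
a finite group `G`, with `N = P H` where `H` is a `p'`-subgroup normalizing `P`, such that `P` acts
freely on the nontrivial cosets of `N`.  A *witness* for a character `ν` of `H` on a representation
`T` is a functional `α` which is `P`-invariant and `ν`-equivariant under `H`, and a vector `v`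
killed by the norm of `P` with `α v ≠ 0`.  We show that an irreducible representation has witnesses
for at most one character (`eq_of_wit`) and that witnesses descend to composition factors.
-/

set_option autoImplicit false
set_option linter.unusedSectionVars false
set_option linter.unusedVariables false

namespace Cfsg.Agent.Lib.Blocks.ModTI

open Finset

universe u v w

section Orbit

/-- A free action: if all orbit sums of `F` vanish, so does the sum of `F`. -/
theorem sum_eq_zero_of_free {X P k : Type*} [DecidableEq X] [Group P] [Fintype P]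
    [AddCommGroup k]
    (a : P → X → X) (ha1 : ∀ x, a 1 x = x) (hamul : ∀ z w x, a (z * w) x = a z (a w x))
    (F : X → k) :
    ∀ (n : ℕ) (s : Finset X), s.card = n → (∀ x ∈ s, ∀ z, a z x ∈ s) →
      (∀ x ∈ s, ∀ z, a z x = x → z = 1) → (∀ x ∈ s, ∑ z : P, F (a z x) = 0) →
      ∑ x ∈ s, F x = 0 := by
  classical
  intro n
  induction n using Nat.strong_induction_on with
  | _ n ih =>
    intro s hn hs hfree hsum
    rcases s.eq_empty_or_nonempty with rfl | ⟨x₀, hx₀⟩
    · simp
    · have hinj : Function.Injective (fun z : P => a z x₀) := by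
        intro z w hzw
        have h1 : a (w⁻¹ * z) x₀ = x₀ := by
          rw [hamul]
          have h2 : a z x₀ = a w x₀ := hzw
          rw [h2, ← hamul, inv_mul_cancel, ha1]
        have h2 := hfree x₀ hx₀ _ h1
        have h3 : z = w := by
          have := mul_left_cancel (a := w⁻¹) (b := z) (c := w) (by rw [h2, inv_mul_cancel])
          exact this
        exact h3
      let O : Finset X := univ.image (fun z : P => a z x₀)
      have hOs : O ⊆ s := by
        intro t ht
        obtain ⟨z, -, rfl⟩ := mem_image.mp ht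
        exact hs _ hx₀ _
      have hx₀O : x₀ ∈ O := mem_image.mpr ⟨1, mem_univ _, ha1 _⟩
      have hsplit : ∑ x ∈ s, F x = ∑ x ∈ O, F x + ∑ x ∈ s \ O, F x := by
        rw [add_comm, sum_sdiff hOs]
      have hO0 : ∑ x ∈ O, F x = 0 := by
        rw [sum_image (fun u _ v _ h => hinj h)]
        exact hsum x₀ hx₀
      rw [hsplit, hO0, zero_add]
      refine ih _ ?_ (s \ O) rfl ?_ ?_ ?_
      · rw [← hn]
        exact card_lt_card (sdiff_ssubset hOs ⟨x₀, hx₀O⟩)
      · intro x hx z
        obtain ⟨hx1, hx2⟩ := mem_sdiff.mp hx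
        refine mem_sdiff.mpr ⟨hs _ hx1 _, fun h => hx2 ?_⟩
        obtain ⟨w, -, hw⟩ := mem_image.mp h
        refine mem_image.mpr ⟨z⁻¹ * w, mem_univ _, ?_⟩
        rw [hamul, hw, ← hamul, inv_mul_cancel, ha1]
      · intro x hx z hz
        exact hfree x (mem_sdiff.mp hx).1 z hz
      · intro x hx
        exact hsum x (mem_sdiff.mp hx).1

end Orbit

section PolyId

variable {k : Type v} [Field k] {p : ℕ} [hp : Fact p.Prime] [CharP k p]

/-- In characteristic `p`: `(u - 1) ^ (p - 1) = ∑ i < p, u ^ i`. -/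
theorem sub_one_pow_eq_geom {R : Type w} [Ring R] [Algebra k R] (u : R) :
    (u - 1) ^ (p - 1) = ∑ i ∈ range p, u ^ i := by
  have hpp : p.Prime := hp.out
  have hX : ((Polynomial.X : Polynomial k) - 1) ^ (p - 1) = ∑ i ∈ range p, (Polynomial.X : Polynomial k) ^ i := by
    haveI : CharP (Polynomial k) p := inferInstance
    have h1 : ((Polynomial.X : Polynomial k) - 1) * ((Polynomial.X - 1) ^ (p - 1)) =
        ((Polynomial.X : Polynomial k) - 1) * ∑ i ∈ range p, (Polynomial.X : Polynomial k) ^ i := by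
      rw [← pow_succ', Nat.sub_add_cancel hpp.one_le, mul_geom_sum, sub_pow_char, one_pow]
    have hne : ((Polynomial.X : Polynomial k) - 1) ≠ 0 := by
      have := Polynomial.X_sub_C_ne_zero (1 : k)
      simpa using this
    exact mul_left_cancel₀ hne h1
  have h2 := congrArg (Polynomial.aeval u) hX
  simpa using h2

end PolyId

section Wit

variable {k : Type v} [Field k] {p : ℕ} [hp : Fact p.Prime] [CharP k p]
  {G : Type u} [Group G] {T : Type w} [AddCommGroup T] [Module k T]

/-- A witness for the character `ν` of `H`. -/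
structure Wit (ρ : Representation k G T) (P H : Subgroup G) [Fintype P] (ν : H →* k)
    (α : T →ₗ[k] k) (v : T) : Prop where
  inv : ∀ z ∈ P, ∀ w, α (ρ z w) = α w
  equiv : ∀ (h : H) w, α (ρ h w) = ν h * α w
  norm : ∑ z : P, ρ z v = 0
  ne : α v ≠ 0

theorem rho_inv_comp (ρ : Representation k G T) (g : G) (w : T) : ρ g⁻¹ (ρ g w) = w := by
  rw [← Module.End.mul_apply, ← map_mul, inv_mul_cancel, map_one, Module.End.one_apply]

theorem rho_comp_inv (ρ : Representation k G T) (g : G) (w : T) : ρ g (ρ g⁻¹ w) = w := by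
  rw [← Module.End.mul_apply, ← map_mul, mul_inv_cancel, map_one, Module.End.one_apply]

theorem sum_zpowers_eq_range {A : Type*} [AddCommMonoid A] {y : G} (hy : orderOf y = p)
    [Fintype (Subgroup.zpowers y)] (f : G → A) :
    ∑ z : Subgroup.zpowers y, f z = ∑ i ∈ range p, f (y ^ i) := by
  classical
  have hpp : p.Prime := hp.out
  have hfin : IsOfFinOrder y := by
    rw [← orderOf_pos_iff, hy]
    exact hpp.pos
  rw [← Fin.sum_univ_eq_sum_range (fun i => f (y ^ i)) p]
  subst hy
  refine (Fintype.sum_equiv (finEquivZPowers hfin) _ _ fun i => ?_).symm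
  simp [finEquivZPowers_apply]

/-- The operator `x = ρ y - 1`. -/
noncomputable def xOp (ρ : Representation k G T) (y : G) : Module.End k T := ρ y - 1

theorem rho_eq_xOp (ρ : Representation k G T) (y : G) : ρ y = xOp ρ y + 1 := by
  simp [xOp]

theorem xOp_pow_eq_norm (ρ : Representation k G T) {y : G} (hy : orderOf y = p)
    [Fintype (Subgroup.zpowers y)] (v : T) :
    ((xOp ρ y) ^ (p - 1)) v = ∑ z : Subgroup.zpowers y, ρ z v := by
  rw [xOp, sub_one_pow_eq_geom (k := k) (p := p), sum_zpowers_eq_range hy (fun z => ρ z v), LinearMap.sum_apply]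
  refine sum_congr rfl fun i _ => ?_
  rw [map_pow]

/-- Powers of `x` are preserved by passing to a power of `y`. -/
theorem pow_sub_one_pow_apply_eq_zero (ρ : Representation k G T) (y : G) (a l : ℕ) {w : T}
    (hw : ((xOp ρ y) ^ l) w = 0) : (((ρ y) ^ a - 1) ^ l) w = 0 := by
  set u : Module.End k T := ∑ i ∈ range a, (ρ y) ^ i with hu
  have h1 : (ρ y) ^ a - 1 = xOp ρ y * u := by
    rw [hu, xOp, mul_geom_sum]
  have hc : Commute (xOp ρ y) u := by
    apply Commute.sum_right
    intro i _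
    apply Commute.pow_right
    rw [xOp]
    exact Commute.sub_left (Commute.refl _) (Commute.one_left _)
  rw [h1, hc.mul_pow, hc.pow_pow _ _ |>.eq, Module.End.mul_apply, hw, map_zero]

/-- The endomorphism of a string. -/
noncomputable def phi0 (x : Module.End k T) (v : T) (m : ℕ) (ξ : T →ₗ[k] k) : Module.End k T :=
  ∑ t ∈ range (m + 1), (ξ ∘ₗ (x ^ (m - t))).smulRight ((x ^ t) v)

theorem phi0_apply (x : Module.End k T) (v : T) (m : ℕ) (ξ : T →ₗ[k] k) (w : T) :
    phi0 x v m ξ w = ∑ t ∈ range (m + 1), ξ ((x ^ (m - t)) w) • (x ^ t) v := by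
  simp [phi0, LinearMap.sum_apply]

theorem phi0_comm (x : Module.End k T) (v : T) (m : ℕ) (ξ : T →ₗ[k] k)
    (hξ : ∀ w, ξ ((x ^ (m + 1)) w) = 0) (hv : (x ^ (m + 1)) v = 0) (w : T) :
    phi0 x v m ξ (x w) = x (phi0 x v m ξ w) := by
  rw [phi0_apply, phi0_apply, sum_range_succ', map_sum, sum_range_succ]
  have h1 : ξ ((x ^ (m - 0)) (x w)) = 0 := by
    have : (x ^ (m - 0)) (x w) = (x ^ (m + 1)) w := by
      rw [Nat.sub_zero, pow_succ, Module.End.mul_apply]
    rw [this]
    exact hξ w
  have h2 : x (ξ ((x ^ (m - m)) w) • (x ^ m) v) = 0 := by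
    rw [map_smul, ← Module.End.mul_apply, ← pow_succ', hv, smul_zero]
  rw [h1, h2, zero_smul, add_zero, add_zero]
  refine sum_congr rfl fun t ht => ?_
  have htm : t < m := mem_range.mp ht
  have h3 : (x ^ (m - (t + 1))) (x w) = (x ^ (m - t)) w := by
    rw [← Module.End.mul_apply, ← pow_succ]
    congr 2
    omega
  rw [h3, map_smul, pow_succ', Module.End.mul_apply]

variable {ρ : Representation k G T}

/-- The string: a minimal element and its functional. -/
theorem exists_string [FiniteDimensional k T] {y : G} (hy : orderOf y = p) [Fintype (Subgroup.zpowers y)]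
    {H : Subgroup G} [Fintype H] (hc : (Nat.card H : k) ≠ 0)
    (hHy : ∀ h : H, ∃ a : ℕ, (h : G)⁻¹ * y * h = y ^ a) {ν : H →* k} {α : T →ₗ[k] k} {v₀ : T}
    (hw : Wit ρ (Subgroup.zpowers y) H ν α v₀) :
    ∃ (v : T) (m : ℕ) (ξ : T →ₗ[k] k), m + 1 ≤ p - 1 ∧ (∀ h : H, ρ h v = ν h • v) ∧ α v ≠ 0 ∧
      ((xOp ρ y) ^ (m + 1)) v = 0 ∧ (∀ w, ξ (((xOp ρ y) ^ (m + 1)) w) = 0) ∧
      ξ (((xOp ρ y) ^ m) v) = 1 := by
  classical
  have hpp : p.Prime := hp.out
  set x := xOp ρ y with hx
  have hαx : ∀ w, α (x w) = 0 := by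
    intro w
    have h1 := hw.inv y (Subgroup.mem_zpowers y) w
    simp only [hx, xOp, LinearMap.sub_apply, Module.End.one_apply, map_sub]
    rw [h1, sub_self]
  let S : ℕ → Prop := fun l => ∃ w, α w ≠ 0 ∧ (x ^ l) w = 0
  have hS : S (p - 1) := ⟨v₀, hw.ne, by
    rw [hx, xOp_pow_eq_norm ρ hy, hw.norm]⟩
  have hSex : ∃ l, S l := ⟨_, hS⟩
  set l := Nat.find hSex with hl
  obtain ⟨w₀, hw₀, hw₀l⟩ := Nat.find_spec hSex
  have hlle : l ≤ p - 1 := Nat.find_min' hSex hS
  have hl0 : l ≠ 0 := by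
    intro h0
    rw [← hl, h0, pow_zero, Module.End.one_apply] at hw₀l
    apply hw₀
    rw [hw₀l, map_zero]
  obtain ⟨m, hm⟩ : ∃ m, l = m + 1 := Nat.exists_eq_succ_of_ne_zero hl0
  rw [← hl, hm] at hw₀l
  -- the eigenvector
  have hνinv : ∀ h : H, ν h⁻¹ * ν h = 1 := by
    intro h
    rw [← map_mul, inv_mul_cancel, map_one]
  let c : k := (Nat.card H : k)
  let v : T := c⁻¹ • ∑ h : H, ν h⁻¹ • ρ h w₀
  have hvH : ∀ h : H, ρ h v = ν h • v := by
    intro h₀
    simp only [v]
    rw [map_smul, map_sum, smul_comm, smul_sum (r := ν h₀)]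
    congr 1
    refine Fintype.sum_equiv (Equiv.mulLeft h₀) _ _ fun h => ?_
    have h1 : ν (h₀ * h)⁻¹ * ν h₀ = ν h⁻¹ := by
      rw [← map_mul]
      congr 1
      group
    simp only [Equiv.coe_mulLeft, map_smul, smul_smul]
    rw [mul_comm (ν h₀), h1, ← Module.End.mul_apply, ← map_mul]
    rfl
  have hαv : α v = α w₀ := by
    simp only [v]
    rw [map_smul, map_sum]
    have h1 : ∀ h : H, α (ν h⁻¹ • ρ h w₀) = α w₀ := by
      intro h
      rw [map_smul, hw.equiv, smul_eq_mul, ← mul_assoc, hνinv, one_mul]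
    rw [sum_congr rfl (fun h _ => h1 h), sum_const, card_univ, nsmul_eq_mul, smul_eq_mul, ← mul_assoc]
    have : ((Fintype.card H : ℕ) : k) = c := by
      simp [c, Nat.card_eq_fintype_card]
    rw [this, inv_mul_cancel₀ hc, one_mul]
  have hvx : (x ^ (m + 1)) v = 0 := by
    simp only [v]
    rw [map_smul, map_sum]
    have h1 : ∀ h : H, (x ^ (m + 1)) (ν h⁻¹ • ρ h w₀) = 0 := by
      intro h
      rw [map_smul]
      obtain ⟨a, ha⟩ := hHy h
      have hs : SemiconjBy (ρ (h : G)) ((ρ y) ^ a - 1) x := by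
        have h2 : ρ y * ρ (h : G) = ρ (h : G) * (ρ y) ^ a := by
          rw [← map_mul, ← map_pow, ← ha, ← map_mul]
          congr 1
          group
        show ρ (h : G) * ((ρ y) ^ a - 1) = x * ρ (h : G)
        rw [hx, xOp, mul_sub, sub_mul, mul_one, one_mul, h2]
      have h3 := (hs.pow_right (m + 1)).eq
      have h4 : (x ^ (m + 1)) (ρ (h : G) w₀) = ρ (h : G) ((((ρ y) ^ a - 1) ^ (m + 1)) w₀) := by
        rw [← Module.End.mul_apply, ← h3, Module.End.mul_apply]
      rw [h4, pow_sub_one_pow_apply_eq_zero ρ y a (m + 1) hw₀l, map_zero, smul_zero]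
    rw [sum_congr rfl (fun h _ => h1 h), sum_const_zero, smul_zero]
  have hαv0 : α v ≠ 0 := by
    rw [hαv]
    exact hw₀
  -- the functional
  have hnot : (x ^ m) v ∉ LinearMap.range (x ^ (m + 1)) := by
    rintro ⟨w, hw'⟩
    have hlt : m < Nat.find hSex := by
      rw [← hl, hm]
      exact Nat.lt_succ_self m
    apply Nat.find_min hSex hlt
    refine ⟨v - x w, ?_, ?_⟩
    · rw [map_sub, hαx, sub_zero]
      exact hαv0
    · rw [map_sub, ← Module.End.mul_apply, ← pow_succ, ← hw', sub_self]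
  obtain ⟨ξ₀, hξ₀1, hξ₀2⟩ := Submodule.exists_le_ker_of_notMem hnot
  refine ⟨v, m, (ξ₀ ((x ^ m) v))⁻¹ • ξ₀, ?_, hvH, hαv0, hvx, ?_, ?_⟩
  · rw [← hm]
    exact hlle
  · intro w
    have h1 : (x ^ (m + 1)) w ∈ LinearMap.ker ξ₀ := hξ₀2 ⟨w, rfl⟩
    simp only [LinearMap.smul_apply, LinearMap.mem_ker.mp h1, smul_zero]
  · simp only [LinearMap.smul_apply, smul_eq_mul]
    exact inv_mul_cancel₀ hξ₀1

/-- The endomorphism attached to a witness. -/
theorem exists_endo [FiniteDimensional k T] {y : G} (hy : orderOf y = p) [Fintype (Subgroup.zpowers y)]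
    {H : Subgroup G} [Fintype H] (hc : (Nat.card H : k) ≠ 0)
    (hHy : ∀ h : H, ∃ a : ℕ, (h : G)⁻¹ * y * h = y ^ a) {ν : H →* k} {α : T →ₗ[k] k} {v₀ : T}
    (hw : Wit ρ (Subgroup.zpowers y) H ν α v₀) :
    ∃ (φ : Module.End k T) (v : T), (∀ h : H, φ * ρ h = ρ h * φ) ∧
      (∀ z ∈ Subgroup.zpowers y, φ * ρ z = ρ z * φ) ∧ α v ≠ 0 ∧ (∑ z : Subgroup.zpowers y, ρ z v = 0) ∧
      α (φ v) = α v ∧
      ∀ (μ : H →* k) (β : T →ₗ[k] k), (∀ z ∈ Subgroup.zpowers y, ∀ w, β (ρ z w) = β w) →
        (∀ (h : H) w, β (ρ h w) = μ h * β w) → μ ≠ ν → ∀ w, β (φ w) = 0 := by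
  classical
  have hpp : p.Prime := hp.out
  obtain ⟨v, m, ξ, hm, hvH, hαv, hvx, hξ, hξv⟩ := exists_string hy hc hHy hw
  set x := xOp ρ y with hx
  let φ₀ := phi0 x v m ξ
  have hφ₀x : ∀ w, φ₀ (x w) = x (φ₀ w) := phi0_comm x v m ξ hξ hvx
  have hφ₀y : φ₀ * ρ y = ρ y * φ₀ := by
    ext w
    simp only [Module.End.mul_apply]
    rw [rho_eq_xOp ρ y]
    simp only [LinearMap.add_apply, Module.End.one_apply, map_add]
    rw [← hx, hφ₀x]
  have hφ₀z : ∀ z ∈ Subgroup.zpowers y, φ₀ * ρ z = ρ z * φ₀ := by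
    intro z hz
    have hfin : IsOfFinOrder y := by
      rw [← orderOf_pos_iff, hy]
      exact hpp.pos
    have hz' : z ∈ Submonoid.powers y := by
      have h1 : z ∈ ((Subgroup.zpowers y : Subgroup G) : Set G) := hz
      rw [← hfin.powers_eq_zpowers] at h1
      exact h1
    obtain ⟨i, rfl⟩ := hz'
    rw [map_pow]
    exact ((Commute.pow_right hφ₀y i).eq)
  let c : k := (Nat.card H : k)
  have hcard : ((Fintype.card H : ℕ) : k) = c := by
    simp [c, Nat.card_eq_fintype_card]
  let C : H → Module.End k T := fun h => ρ h * φ₀ * ρ (h⁻¹ : H)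
  let φ : Module.End k T := c⁻¹ • ∑ h : H, C h
  have hφH : ∀ h : H, φ * ρ h = ρ h * φ := by
    intro h₀
    simp only [φ]
    rw [smul_mul_assoc, mul_smul_comm, sum_mul, mul_sum]
    congr 1
    refine (Fintype.sum_equiv (Equiv.mulLeft h₀) (fun h => ρ (h₀ : G) * C h) (fun h => C h * ρ (h₀ : G)) fun h => ?_).symm
    simp only [Equiv.coe_mulLeft, C]
    have h1 : ρ ((h₀ * h : H) : G) = ρ (h₀ : G) * ρ (h : G) := by
      rw [Subgroup.coe_mul, map_mul]
    have h2 : ρ (((h₀ * h)⁻¹ : H) : G) * ρ (h₀ : G) = ρ ((h⁻¹ : H) : G) := by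
      rw [← map_mul]
      congr 1
      simp
    rw [h1, mul_assoc _ _ (ρ (h₀ : G)), h2]
    simp only [mul_assoc]
  have hφz : ∀ z ∈ Subgroup.zpowers y, φ * ρ z = ρ z * φ := by
    have hφy : φ * ρ y = ρ y * φ := by
      simp only [φ]
      rw [smul_mul_assoc, mul_smul_comm, sum_mul, mul_sum]
      congr 1
      refine sum_congr rfl fun h _ => ?_
      simp only [C]
      obtain ⟨a, ha⟩ := hHy h
      have hz : (h : G)⁻¹ * y * h ∈ Subgroup.zpowers y := by
        rw [ha]
        exact Subgroup.pow_mem _ (Subgroup.mem_zpowers y) _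
      have h1 := hφ₀z _ hz
      have h2 : ρ y * ρ (h : G) = ρ (h : G) * ρ ((h : G)⁻¹ * y * h) := by
        rw [← map_mul, ← map_mul]
        congr 1
        group
      have h3 : ρ ((h : G)⁻¹ * y * h) * ρ ((h⁻¹ : H) : G) = ρ ((h⁻¹ : H) : G) * ρ y := by
        rw [← map_mul, ← map_mul]
        congr 1
        simp only [Subgroup.coe_inv]
        group
      calc ρ (h : G) * φ₀ * ρ ((h⁻¹ : H) : G) * ρ y = ρ (h : G) * φ₀ * (ρ ((h⁻¹ : H) : G) * ρ y) := by
            rw [mul_assoc]
        _ = ρ (h : G) * φ₀ * (ρ ((h : G)⁻¹ * y * h) * ρ ((h⁻¹ : H) : G)) := by rw [h3]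
        _ = ρ (h : G) * (φ₀ * ρ ((h : G)⁻¹ * y * h)) * ρ ((h⁻¹ : H) : G) := by
            simp only [mul_assoc]
        _ = ρ (h : G) * (ρ ((h : G)⁻¹ * y * h) * φ₀) * ρ ((h⁻¹ : H) : G) := by rw [h1]
        _ = (ρ (h : G) * ρ ((h : G)⁻¹ * y * h)) * φ₀ * ρ ((h⁻¹ : H) : G) := by
            simp only [mul_assoc]
        _ = ρ y * (ρ (h : G) * φ₀ * ρ ((h⁻¹ : H) : G)) := by
            rw [← h2]
            simp only [mul_assoc]
    intro z hz
    have hfin : IsOfFinOrder y := by
      rw [← orderOf_pos_iff, hy]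
      exact hpp.pos
    have hz' : z ∈ Submonoid.powers y := by
      have h1 : z ∈ ((Subgroup.zpowers y : Subgroup G) : Set G) := hz
      rw [← hfin.powers_eq_zpowers] at h1
      exact h1
    obtain ⟨i, rfl⟩ := hz'
    rw [map_pow]
    exact ((Commute.pow_right hφy i).eq)
  -- the formula for functionals
  have hform : ∀ (μ : H →* k) (β : T →ₗ[k] k), (∀ z ∈ Subgroup.zpowers y, ∀ w, β (ρ z w) = β w) →
      (∀ (h : H) w, β (ρ h w) = μ h * β w) → ∀ w,
      β (φ w) = β v * (c⁻¹ * ∑ h : H, μ h * ξ ((x ^ m) (ρ ((h⁻¹ : H) : G) w))) := by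
    intro μ β hβ1 hβ2 w
    have hβx : ∀ u, β (x u) = 0 := by
      intro u
      have h1 := hβ1 y (Subgroup.mem_zpowers y) u
      simp only [hx, xOp, LinearMap.sub_apply, Module.End.one_apply, map_sub]
      rw [h1, sub_self]
    have hβφ₀ : ∀ u, β (φ₀ u) = ξ ((x ^ m) u) * β v := by
      intro u
      simp only [φ₀]
      rw [phi0_apply, map_sum, sum_range_succ']
      have h1 : ∑ t ∈ range m, β (ξ ((x ^ (m - (t + 1))) u) • (x ^ (t + 1)) v) = 0 := by
        refine sum_eq_zero fun t _ => ?_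
        rw [map_smul, pow_succ', Module.End.mul_apply, hβx, smul_zero]
      rw [h1, zero_add, Nat.sub_zero, map_smul, pow_zero, Module.End.one_apply, smul_eq_mul]
    simp only [φ]
    rw [LinearMap.smul_apply, LinearMap.sum_apply, map_smul, map_sum, smul_eq_mul]
    have h1 : ∀ h : H, β ((C h) w) = β v * (μ h * ξ ((x ^ m) (ρ ((h⁻¹ : H) : G) w))) := by
      intro h
      simp only [C, Module.End.mul_apply]
      rw [hβ2, hβφ₀]
      ring
    rw [sum_congr rfl (fun h _ => h1 h), ← mul_sum]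
    ring
  refine ⟨φ, v, hφH, hφz, hαv, ?_, ?_, ?_⟩
  · rw [← xOp_pow_eq_norm ρ hy, ← hx]
    have h1 : p - 1 = (p - 1 - (m + 1)) + (m + 1) := by omega
    rw [h1, pow_add, Module.End.mul_apply, hvx, map_zero]
  · rw [hform ν α hw.inv hw.equiv v]
    have h1 : ∀ h : H, ν h * ξ ((x ^ m) (ρ ((h⁻¹ : H) : G) v)) = 1 := by
      intro h
      rw [hvH, map_smul, map_smul, hξv, smul_eq_mul, mul_one, ← map_mul, mul_inv_cancel, map_one]
    rw [sum_congr rfl (fun h _ => h1 h), sum_const, card_univ, nsmul_eq_mul, mul_one, hcard,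
      inv_mul_cancel₀ hc, mul_one]
  · intro μ β hβ1 hβ2 hne w
    rw [hform μ β hβ1 hβ2 w]
    have hβv : β v = 0 := by
      obtain ⟨h₀, hh₀⟩ : ∃ h₀ : H, μ h₀ ≠ ν h₀ := by
        by_contra hcon
        push Not at hcon
        exact hne (MonoidHom.ext hcon)
      have h1 := hβ2 h₀ v
      rw [hvH, map_smul, smul_eq_mul] at h1
      have h2 : (ν h₀ - μ h₀) * β v = 0 := by
        rw [sub_mul, h1, sub_self]
      exact (mul_eq_zero.mp h2).resolve_left (sub_ne_zero.mpr hh₀.symm)
    rw [hβv, zero_mul]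

/-- The transfer from `N` to `G` of an endomorphism commuting with `N`. -/
theorem exists_transfer [Fintype G] (N : Subgroup G) (φ : Module.End k T) (hφ : ∀ n ∈ N, φ * ρ n = ρ n * φ)
    (P : Subgroup G) [Fintype P] (hPN : P ≤ N)
    (hfree : ∀ g : G, ∀ z ∈ P, z ≠ 1 → g⁻¹ * z * g ∈ N → g ∈ N) :
    ∃ ψ : Module.End k T, (∀ g, ψ * ρ g = ρ g * ψ) ∧
      ∀ (α : T →ₗ[k] k) (v : T), (∀ z ∈ P, ∀ w, α (ρ z w) = α w) → (∑ z : P, ρ z v = 0) →
        α (ψ v) = α (φ v) := by
  classical
  letI : Fintype (G ⧸ N) := Fintype.ofFinite _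
  let C : G → Module.End k T := fun g => ρ g * φ * ρ g⁻¹
  have hCn : ∀ g, ∀ n ∈ N, C (g * n) = C g := by
    intro g n hn
    simp only [C]
    have h1 : ρ (g * n) * φ * ρ (g * n)⁻¹ = ρ g * (ρ n * φ) * ρ (n⁻¹ * g⁻¹) := by
      rw [map_mul, mul_inv_rev]
      simp only [mul_assoc]
    rw [h1, ← hφ n hn, map_mul]
    have h2 : ρ g * (φ * ρ n) * (ρ n⁻¹ * ρ g⁻¹) = ρ g * φ * (ρ n * ρ n⁻¹) * ρ g⁻¹ := by
      simp only [mul_assoc]
    rw [h2, ← map_mul, mul_inv_cancel, map_one, mul_one]
  have hCconj : ∀ g h, ρ g * C h * ρ g⁻¹ = C (g * h) := by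
    intro g h
    simp only [C]
    rw [map_mul, mul_inv_rev, map_mul]
    simp only [mul_assoc]
  have hCout : ∀ g : G, C (Quotient.out (QuotientGroup.mk g : G ⧸ N)) = C g := by
    intro g
    obtain ⟨n, hn⟩ := QuotientGroup.mk_out_eq_mul N g
    rw [hn]
    exact hCn g n n.2
  let ψ : Module.End k T := ∑ q : G ⧸ N, C (Quotient.out q)
  have hout : ∀ (g : G) (q : G ⧸ N), C (Quotient.out (g • q)) = C (g * Quotient.out q) := by
    intro g q
    conv_lhs => rw [← QuotientGroup.out_eq' q]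
    rw [MulAction.Quotient.smul_mk]
    simp only [smul_eq_mul]
    exact hCout _
  refine ⟨ψ, ?_, ?_⟩
  · intro g
    have h1 : ρ g * ψ * ρ g⁻¹ = ψ := by
      simp only [ψ]
      rw [mul_sum, sum_mul]
      refine Fintype.sum_equiv (MulAction.toPerm g) _ _ fun q => ?_
      rw [hCconj, MulAction.toPerm_apply, hout]
    calc ψ * ρ g = (ρ g * ψ * ρ g⁻¹) * ρ g := by rw [h1]
      _ = ρ g * ψ * (ρ g⁻¹ * ρ g) := by simp only [mul_assoc]
      _ = ρ g * ψ := by rw [← map_mul, inv_mul_cancel, map_one, mul_one]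
  · intro α v hα hv
    have h0 : C (Quotient.out (QuotientGroup.mk 1 : G ⧸ N)) = φ := by
      rw [hCout]
      simp [C]
    simp only [ψ]
    rw [LinearMap.sum_apply, map_sum, ← add_sum_erase univ _ (mem_univ (QuotientGroup.mk 1 : G ⧸ N)), h0]
    have hzero : ∑ q ∈ univ.erase (QuotientGroup.mk 1 : G ⧸ N), α ((C (Quotient.out q)) v) = 0 := by
      refine sum_eq_zero_of_free (X := G ⧸ N) (P := P) (fun (z : P) (q : G ⧸ N) => (z : G) • q) (fun q => by simp)
        (fun z w q => by simp [mul_smul]) (fun q : G ⧸ N => α ((C (Quotient.out q)) v)) _ _ rfl ?_ ?_ ?_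
      · intro q hq z
        refine mem_erase.mpr ⟨?_, mem_univ _⟩
        intro h
        apply (mem_erase.mp hq).1
        have h1 : q = ((z : G)⁻¹) • (QuotientGroup.mk 1 : G ⧸ N) := by
          rw [← h, inv_smul_smul]
        rw [h1, MulAction.Quotient.smul_mk, QuotientGroup.eq]
        simp only [smul_eq_mul, mul_one, inv_inv]
        exact hPN z.2
      · intro q hq z hz
        by_contra hz1
        apply (mem_erase.mp hq).1
        have hz1' : ((z : G))⁻¹ ≠ 1 := fun e => hz1 (Subtype.ext (inv_eq_one.mp e))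
        have h1 : (QuotientGroup.mk (Quotient.out q) : G ⧸ N) = q := QuotientGroup.out_eq' q
        have hz2 : (z : G) • (QuotientGroup.mk (Quotient.out q) : G ⧸ N) = QuotientGroup.mk (Quotient.out q) := by
          rw [h1]
          exact hz
        rw [MulAction.Quotient.smul_mk, QuotientGroup.eq] at hz2
        have h3 : (Quotient.out q)⁻¹ * (z : G)⁻¹ * (Quotient.out q) ∈ N := by
          simpa [mul_assoc] using hz2
        have h4 := hfree _ _ (P.inv_mem z.2) hz1' h3
        rw [← h1, QuotientGroup.eq]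
        simpa using N.inv_mem h4
      · intro (q : G ⧸ N) _
        have h1 : ∀ z : P, α ((C (Quotient.out ((z : G) • q))) v) =
            α ((C (Quotient.out q)) (ρ ((z⁻¹ : P) : G) v)) := by
          intro z
          rw [hout, ← hCconj]
          simp only [Module.End.mul_apply]
          rw [hα _ z.2]
          rfl
        rw [sum_congr rfl (fun z _ => h1 z), ← map_sum, ← map_sum]
        have h2 : ∑ z : P, ρ ((z⁻¹ : P) : G) v = 0 := by
          rw [← hv]
          exact Fintype.sum_equiv (Equiv.inv _) _ _ fun z => rfl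
        rw [h2, map_zero, map_zero]
    rw [hzero, add_zero]

/-- An irreducible representation has a witness for at most one character. -/
theorem eq_of_wit [FiniteDimensional k T] [Fintype G] {y : G} (hy : orderOf y = p) [Fintype (Subgroup.zpowers y)]
    {H : Subgroup G} [Fintype H] (hc : (Nat.card H : k) ≠ 0)
    (hHy : ∀ h : H, ∃ a : ℕ, (h : G)⁻¹ * y * h = y ^ a) {N : Subgroup G}
    (hPN : Subgroup.zpowers y ≤ N) (hN : ∀ n ∈ N, ∃ z ∈ Subgroup.zpowers y, ∃ h : H, n = z * h)
    (hfree : ∀ g : G, ∀ z ∈ Subgroup.zpowers y, z ≠ 1 → g⁻¹ * z * g ∈ N → g ∈ N)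
    (hS : ∀ ψ : Module.End k T, (∀ g, ψ * ρ g = ρ g * ψ) → ∃ c : k, ψ = c • 1)
    {ν μ : H →* k} {α β : T →ₗ[k] k} {v w : T}
    (h1 : Wit ρ (Subgroup.zpowers y) H ν α v) (h2 : Wit ρ (Subgroup.zpowers y) H μ β w) : μ = ν := by
  classical
  by_contra hne
  obtain ⟨φ, v', hφH, hφz, hαv, hnorm, hαφ, hβ0⟩ := exists_endo hy hc hHy h1
  have hφN : ∀ n ∈ N, φ * ρ n = ρ n * φ := by
    intro n hn
    obtain ⟨z, hz, h, rfl⟩ := hN n hn
    rw [map_mul, ← mul_assoc, hφz z hz, mul_assoc, hφH h, mul_assoc]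
  obtain ⟨ψ, hψ, hψ2⟩ := exists_transfer N φ hφN (Subgroup.zpowers y) hPN hfree
  obtain ⟨c, rfl⟩ := hS ψ hψ
  have h3 := hψ2 α v' h1.inv hnorm
  rw [hαφ] at h3
  simp only [LinearMap.smul_apply, Module.End.one_apply, map_smul, smul_eq_mul] at h3
  have hc1 : c = 1 := by
    exact mul_right_cancel₀ hαv (h3.trans (one_mul _).symm)
  have h4 := hψ2 β w h2.inv h2.norm
  rw [hβ0 μ β h2.inv h2.equiv hne w, hc1] at h4
  simp only [one_smul, Module.End.one_apply] at h4
  exact h2.ne h4

end Wit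

section Descent

variable {k : Type v} [Field k] {G : Type u} [Group G] [Fintype G]

/-- The central element with coefficients `ε` acts as the identity. -/
def ActsOne {T : Type w} [AddCommGroup T] [Module k T] (ε : G → k) (ρ : Representation k G T) : Prop :=
  ∀ w, ∑ u, ε u • ρ u w = w

variable {P H : Subgroup G} [Fintype P] [Fintype H]

/-- A witness passes to a subrepresentation or to the quotient. -/
theorem wit_sub_or_quot {T : Type w} [AddCommGroup T] [Module k T] [FiniteDimensional k T]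
    {ρ : Representation k G T} (hc : (Nat.card H : k) ≠ 0)
    (hHP : ∀ h : H, ∀ z ∈ P, (h : G) * z * (h : G)⁻¹ ∈ P) (U : Submodule k T)
    (hU : ∀ g, ∀ u ∈ U, ρ g u ∈ U) {ν : H →* k} {α : T →ₗ[k] k} {v : T} (hw : Wit ρ P H ν α v) :
    (∃ u ∈ U, (∑ z : P, ρ z u = 0) ∧ α u ≠ 0) ∨
    ∃ α' : T →ₗ[k] k, U ≤ LinearMap.ker α' ∧ Wit ρ P H ν α' v := by
  classical
  by_cases hA : ∃ u ∈ U, (∑ z : P, ρ z u = 0) ∧ α u ≠ 0
  · exact Or.inl hA
  right
  push Not at hA
  let σ : Module.End k T := ∑ z : P, ρ z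
  have hσ : ∀ w, σ w = ∑ z : P, ρ z w := fun w => by simp [σ, LinearMap.sum_apply]
  let σU : U →ₗ[k] T := σ ∘ₗ U.subtype
  let αU : U →ₗ[k] k := α ∘ₗ U.subtype
  have hmem : αU ∈ (LinearMap.ker σU).dualAnnihilator := by
    rw [Submodule.mem_dualAnnihilator]
    intro u hu
    have h1 : ∑ z : P, ρ z (u : T) = 0 := by
      have : σ (u : T) = 0 := hu
      rwa [hσ] at this
    exact hA u u.2 h1
  rw [← LinearMap.range_dualMap_eq_dualAnnihilator_ker] at hmem
  obtain ⟨f, hf⟩ := hmem
  have hf' : ∀ u ∈ U, f (σ u) = α u := by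
    intro u hu
    exact congrArg (fun t : U →ₗ[k] k => t ⟨u, hu⟩) hf
  have hνinv : ∀ h : H, ν h⁻¹ * ν h = 1 := by
    intro h
    rw [← map_mul, inv_mul_cancel, map_one]
  let c : k := (Nat.card H : k)
  have hcard : ((Fintype.card H : ℕ) : k) = c := by
    simp [c, Nat.card_eq_fintype_card]
  let β : T →ₗ[k] k := c⁻¹ • ∑ h : H, ν h⁻¹ • (f ∘ₗ σ ∘ₗ ρ (h : G))
  have hβ : ∀ w, β w = c⁻¹ * ∑ h : H, ν h⁻¹ * f (σ (ρ (h : G) w)) := by
    intro w
    simp [β, LinearMap.sum_apply]
  have hσρ : ∀ (z : G), z ∈ P → σ * ρ z = σ := by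
    intro z hz
    simp only [σ]
    rw [sum_mul]
    refine Fintype.sum_equiv (Equiv.mulRight (⟨z, hz⟩ : P)) _ _ fun t => ?_
    simp [map_mul]
  have hσh : ∀ (h : H), σ * ρ (h : G) = ρ (h : G) * σ := by
    intro h
    simp only [σ]
    rw [sum_mul, mul_sum]
    let e : P ≃ P :=
      { toFun := fun t => ⟨(h : G)⁻¹ * t * (h : G), by
          have := hHP h⁻¹ t t.2
          simpa using this⟩
        invFun := fun t => ⟨(h : G) * t * (h : G)⁻¹, hHP h t t.2⟩
        left_inv := fun t => Subtype.ext (by simp [mul_assoc])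
        right_inv := fun t => Subtype.ext (by simp [mul_assoc]) }
    refine Fintype.sum_equiv e _ _ fun t => ?_
    simp only [e, Equiv.coe_fn_mk]
    rw [← map_mul, ← map_mul]
    congr 1
    group
  have hβequiv : ∀ (h : H) w, β (ρ h w) = ν h * β w := by
    intro h₀ w
    rw [hβ, hβ, mul_left_comm]
    congr 1
    rw [mul_sum]
    refine Fintype.sum_equiv (Equiv.mulRight h₀) _ _ fun h => ?_
    simp only [Equiv.coe_mulRight]
    have h1 : ρ (h : G) (ρ (h₀ : G) w) = ρ ((h * h₀ : H) : G) w := by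
      rw [Subgroup.coe_mul, map_mul, Module.End.mul_apply]
    have h2 : ν (h⁻¹) = ν h₀ * ν ((h * h₀)⁻¹) := by
      rw [← map_mul]
      congr 1
      group
    rw [h1, h2, mul_assoc]
  have hβinv : ∀ z ∈ P, ∀ w, β (ρ z w) = β w := by
    intro z hz w
    rw [hβ, hβ]
    congr 1
    refine sum_congr rfl fun h _ => ?_
    congr 2
    have h1 : ρ (h : G) (ρ z w) = ρ ((h : G) * z * (h : G)⁻¹) (ρ (h : G) w) := by
      rw [← Module.End.mul_apply, ← Module.End.mul_apply, ← map_mul, ← map_mul]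
      congr 2
      group
    rw [h1, ← Module.End.mul_apply, hσρ _ (hHP h z hz)]
  have hβU : ∀ u ∈ U, β u = α u := by
    intro u hu
    rw [hβ]
    have h1 : ∀ h : H, ν h⁻¹ * f (σ (ρ (h : G) u)) = α u := by
      intro h
      rw [hf' _ (hU _ _ hu), hw.equiv, ← mul_assoc, hνinv, one_mul]
    rw [sum_congr rfl (fun h _ => h1 h), sum_const, card_univ, nsmul_eq_mul, hcard, ← mul_assoc,
      inv_mul_cancel₀ hc, one_mul]
  have hβv : β v = 0 := by
    rw [hβ]
    have h1 : ∀ h : H, ν h⁻¹ * f (σ (ρ (h : G) v)) = 0 := by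
      intro h
      rw [← Module.End.mul_apply σ, hσh, Module.End.mul_apply, hσ, hw.norm, map_zero, map_zero, mul_zero]
    rw [sum_congr rfl (fun h _ => h1 h), sum_const_zero, mul_zero]
  refine ⟨α - β, ?_, ?_⟩
  · intro u hu
    rw [LinearMap.mem_ker, LinearMap.sub_apply, hβU u hu, sub_self]
  · refine ⟨?_, ?_, hw.norm, ?_⟩
    · intro z hz w
      rw [LinearMap.sub_apply, LinearMap.sub_apply, hw.inv z hz, hβinv z hz]
    · intro h w
      rw [LinearMap.sub_apply, LinearMap.sub_apply, hw.equiv, hβequiv, mul_sub]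
    · rw [LinearMap.sub_apply, hβv, sub_zero]
      exact hw.ne

/-- Descent of witnesses to irreducible representations. -/
theorem exists_irr_of_wit (hc : (Nat.card H : k) ≠ 0)
    (hHP : ∀ h : H, ∀ z ∈ P, (h : G) * z * (h : G)⁻¹ ∈ P) (ε : G → k) (ν : H →* k) :
    ∀ (n : ℕ) (T : Type w) [AddCommGroup T] [Module k T] [FiniteDimensional k T]
      (ρ : Representation k G T), Module.finrank k T = n → ActsOne ε ρ →
      (∃ α v, Wit ρ P H ν α v) →
      ∃ (T' : Type w) (_ : AddCommGroup T') (_ : Module k T') (_ : FiniteDimensional k T')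
        (ρ' : Representation k G T'), ρ'.IsIrreducible ∧ ActsOne ε ρ' ∧ ∃ α v, Wit ρ' P H ν α v := by
  classical
  intro n
  induction n using Nat.strong_induction_on with
  | _ n ih =>
    intro T _ _ _ ρ hn hE hex
    by_cases hirr : ρ.IsIrreducible
    · exact ⟨T, inferInstance, inferInstance, inferInstance, ρ, hirr, hE, hex⟩
    obtain ⟨α, v, hw⟩ := hex
    have hnt : Nontrivial T := ⟨⟨v, 0, fun h => hw.ne (by rw [h, map_zero])⟩⟩
    have hntS : Nontrivial (Subrepresentation ρ) := by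
      refine ⟨⟨⊥, ⊤, fun h => ?_⟩⟩
      have h1 : (⊥ : Subrepresentation ρ).toSubmodule = (⊤ : Subrepresentation ρ).toSubmodule := congrArg _ h
      exact bot_ne_top h1
    obtain ⟨U, hU1, hU2⟩ : ∃ U : Subrepresentation ρ, U ≠ ⊥ ∧ U ≠ ⊤ := by
      by_contra hcon
      push Not at hcon
      apply hirr
      exact { eq_bot_or_eq_top := fun U => by
                by_cases h : U = ⊥
                · exact Or.inl h
                · exact Or.inr (hcon U h) }
    have hUb : U.toSubmodule ≠ ⊥ := fun h => hU1 (Subrepresentation.toSubmodule_injective h)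
    have hUt : U.toSubmodule ≠ ⊤ := fun h => hU2 (Subrepresentation.toSubmodule_injective h)
    have hlt1 : Module.finrank k U.toSubmodule < n := by
      rw [← hn]
      exact Submodule.finrank_lt hUt
    have hlt2 : Module.finrank k (T ⧸ U.toSubmodule) < n := by
      rw [← hn]
      have h1 := Submodule.finrank_quotient_add_finrank U.toSubmodule
      have h2 : 0 < Module.finrank k U.toSubmodule := Module.finrank_pos_iff.mpr (by
        exact Submodule.nontrivial_iff_ne_bot.mpr hUb)
      omega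
    rcases wit_sub_or_quot hc hHP U.toSubmodule (fun g u hu => U.apply_mem_toSubmodule g hu) hw with
      ⟨u, hu, hnorm, hne⟩ | ⟨α', hα', hw'⟩
    · refine ih _ hlt1 U.toSubmodule U.toRepresentation rfl ?_ ?_
      · intro w
        apply Subtype.ext
        have := hE w.1
        simpa [Subrepresentation.toRepresentation] using this
      · refine ⟨α ∘ₗ U.toSubmodule.subtype, ⟨u, hu⟩, ?_, ?_, ?_, ?_⟩
        · intro z hz w
          exact hw.inv z hz _
        · intro h w
          exact hw.equiv h _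
        · apply Subtype.ext
          simpa [Subrepresentation.toRepresentation] using hnorm
        · exact hne
    · let ρq := ρ.quotient U.toSubmodule (fun g u hu => U.apply_mem_toSubmodule g hu)
      have hρq : ∀ g (w : T), ρq g (Submodule.Quotient.mk w) = Submodule.Quotient.mk (ρ g w) := fun g w => rfl
      refine ih _ hlt2 (T ⧸ U.toSubmodule) ρq rfl ?_ ?_
      · intro w
        obtain ⟨w, rfl⟩ := Submodule.Quotient.mk_surjective _ w
        simp only [hρq]
        have h1 := congrArg U.toSubmodule.mkQ (hE w)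
        rw [map_sum] at h1
        simpa using h1
      · refine ⟨U.toSubmodule.liftQ α' hα', Submodule.Quotient.mk v, ?_, ?_, ?_, ?_⟩
        · intro z hz w
          obtain ⟨w, rfl⟩ := Submodule.Quotient.mk_surjective _ w
          simp only [hρq, Submodule.liftQ_apply]
          exact hw'.inv z hz w
        · intro h w
          obtain ⟨w, rfl⟩ := Submodule.Quotient.mk_surjective _ w
          simp only [hρq, Submodule.liftQ_apply]
          exact hw'.equiv h w
        · simp only [hρq]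
          have h1 := congrArg U.toSubmodule.mkQ hw'.norm
          rw [map_sum] at h1
          simpa using h1
        · simp only [Submodule.liftQ_apply]
          exact hw'.ne

end Descent

section Density

variable (k : Type v) [Field k] [IsAlgClosed k] {A : Type w} [Ring A] [Algebra k A]

/-- Density for pairwise non-isomorphic simple modules. -/
theorem exists_elt_of_simple {ι : Type*} [Fintype ι] [DecidableEq ι] (M : ι → Type*)
    [∀ i, AddCommGroup (M i)] [∀ i, Module k (M i)] [∀ i, Module A (M i)] [∀ i, IsScalarTower k A (M i)]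
    [∀ i, FiniteDimensional k (M i)] [∀ i, IsSimpleModule A (M i)]
    (hne : ∀ i j, i ≠ j → ∀ f : M i →ₗ[A] M j, f = 0) (i₀ : ι) (b : M i₀ →ₗ[k] M i₀) :
    ∃ a : A, (∀ m, a • m = b m) ∧ ∀ j, j ≠ i₀ → ∀ m : M j, a • m = 0 := by
  classical
  let S := Π i, M i
  have hcomp : ∀ ψ : Module.End A S, ∃ c : k, ∀ m : S, (ψ m) i₀ = c • m i₀ ∧
      ∀ x : M i₀, ψ (Pi.single i₀ x) = Pi.single i₀ (c • x) := by
    intro ψ
    let comp : ∀ i j, M j →ₗ[A] M i := fun i j => (LinearMap.proj i) ∘ₗ ψ ∘ₗ (LinearMap.single A M j)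
    have hcomp0 : ∀ i j, j ≠ i → comp i j = 0 := fun i j hji => hne j i hji _
    obtain ⟨c, hc⟩ := (IsSimpleModule.algebraMap_end_bijective_of_isAlgClosed (A := A) (V := M i₀) k).2 (comp i₀ i₀)
    have hc' : ∀ x, comp i₀ i₀ x = c • x := fun x => by
      rw [← hc]
      rfl
    refine ⟨c, fun m => ⟨?_, fun x => ?_⟩⟩
    · have h1 : m = ∑ j, Pi.single j (m j) := (Finset.univ_sum_single m).symm
      conv_lhs => rw [h1]
      rw [map_sum, Finset.sum_apply, Finset.sum_eq_single i₀]
      · exact hc' _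
      · intro j _ hj
        have := congrArg (fun t => t (m j)) (hcomp0 i₀ j hj)
        exact this
      · intro h
        exact absurd (Finset.mem_univ _) h
    · funext j
      by_cases hj : j = i₀
      · subst hj
        rw [Pi.single_eq_same]
        exact hc' x
      · rw [Pi.single_eq_of_ne hj]
        have := congrArg (fun t => t x) (hcomp0 j i₀ (Ne.symm hj))
        exact this
  let f : Module.End (Module.End A S) S :=
    { toFun := fun m => Pi.single i₀ (b (m i₀))
      map_add' := fun m m' => by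
        show Pi.single i₀ (b ((m + m') i₀)) = Pi.single i₀ (b (m i₀)) + Pi.single i₀ (b (m' i₀))
        rw [Pi.add_apply, map_add, Pi.single_add]
      map_smul' := fun ψ m => by
        obtain ⟨c, hc⟩ := hcomp ψ
        show Pi.single i₀ (b ((ψ m) i₀)) = ψ (Pi.single i₀ (b (m i₀)))
        rw [(hc m).1, (hc m).2, map_smul] }
  have hfk : ∀ (c : k) (m : S), f (c • m) = c • f m := by
    intro c m
    show Pi.single i₀ (b ((c • m) i₀)) = c • Pi.single i₀ (b (m i₀))
    rw [Pi.smul_apply, map_smul, Pi.single_smul]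
  obtain ⟨s, hs⟩ : (⊤ : Submodule k S).FG := Module.Finite.fg_top
  obtain ⟨a, ha⟩ := jacobson_density f s
  have hall : ∀ m : S, f m = a • m := by
    intro m
    have hm : m ∈ Submodule.span k (s : Set S) := by
      rw [hs]
      exact Submodule.mem_top
    induction hm using Submodule.span_induction with
    | mem m hm => exact ha m hm
    | zero => rw [smul_zero]; exact map_zero f
    | add x y _ _ hx hy => rw [map_add, hx, hy, smul_add]
    | smul c x _ hx => rw [hfk, hx, smul_comm]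
  refine ⟨a, fun m => ?_, fun j hj m => ?_⟩
  · have h1 := congrFun (hall (Pi.single i₀ m)) i₀
    have h2 : f (Pi.single i₀ m) = Pi.single i₀ (b m) := by
      show Pi.single i₀ (b ((Pi.single i₀ m : S) i₀)) = _
      rw [Pi.single_eq_same]
    rw [h2, Pi.single_eq_same, Pi.smul_apply, Pi.single_eq_same] at h1
    exact h1.symm
  · have h1 := congrFun (hall (Pi.single j m)) j
    have h2 : f (Pi.single j m) = 0 := by
      show Pi.single i₀ (b ((Pi.single j m : S) i₀)) = _
      rw [Pi.single_eq_of_ne hj.symm, map_zero, Pi.single_zero]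
    rw [h2, Pi.smul_apply, Pi.single_eq_same] at h1
    exact h1.symm

end Density

section Start

variable {k : Type v} [Field k] {p : ℕ} [hp : Fact p.Prime] [CharP k p]
  {G : Type u} [Group G] [Fintype G]

/-- Left translation on functions. -/
def leftFun (k : Type v) [Field k] (G : Type u) [Group G] : Representation k G (G → k) where
  toFun g :=
    { toFun := fun f x => f (g⁻¹ * x)
      map_add' := fun f f' => rfl
      map_smul' := fun c f => rfl }
  map_one' := by
    ext f x
    simp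
  map_mul' g h := by
    ext f x
    simp [mul_assoc]

@[simp] theorem leftFun_apply (g : G) (f : G → k) (x : G) : leftFun k G g f x = f (g⁻¹ * x) := rfl

variable {N : Subgroup G} (νN : N →* k) (ε : G → k)

/-- The space of the induced representation cut by `ε`. -/
def indSub : Submodule k (G → k) where
  carrier := {f | (∀ (g : G) (n : N), f (g * n) = νN n⁻¹ * f g) ∧ ∀ g, ∑ u, ε u * f (u⁻¹ * g) = f g}
  add_mem' := by
    rintro f f' ⟨h1, h2⟩ ⟨h1', h2'⟩
    refine ⟨fun g n => ?_, fun g => ?_⟩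
    · simp only [Pi.add_apply, h1, h1', mul_add]
    · simp only [Pi.add_apply, mul_add, sum_add_distrib, h2, h2']
  zero_mem' := by
    refine ⟨fun g n => ?_, fun g => ?_⟩ <;> simp
  smul_mem' := by
    rintro c f ⟨h1, h2⟩
    refine ⟨fun g n => ?_, fun g => ?_⟩
    · simp only [Pi.smul_apply, smul_eq_mul, h1]
      ring
    · simp only [Pi.smul_apply, smul_eq_mul]
      rw [← h2 g, mul_sum]
      refine sum_congr rfl fun u _ => ?_
      ring

variable {νN ε}

theorem indSub_invariant (hclass : ∀ g x, ε (x * g * x⁻¹) = ε g) (g₀ : G) {f : G → k} (hf : f ∈ indSub νN ε) :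
    leftFun k G g₀ f ∈ indSub νN ε := by
  obtain ⟨h1, h2⟩ := hf
  refine ⟨fun g n => ?_, fun g => ?_⟩
  · simp only [leftFun_apply]
    rw [← mul_assoc, h1]
  · simp only [leftFun_apply]
    rw [← h2 (g₀⁻¹ * g)]
    refine Fintype.sum_equiv (MulAut.conj g₀⁻¹).toEquiv _ _ fun u => ?_
    have h3 : (MulAut.conj g₀⁻¹).toEquiv u = g₀⁻¹ * u * g₀ := by simp
    rw [h3]
    have h4 : ε (g₀⁻¹ * u * g₀) = ε u := by
      have := hclass u g₀⁻¹
      rwa [inv_inv] at this
    rw [h4]
    congr 2
    group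

open scoped Classical in
/-- Extension by zero of a character of `N`. -/
noncomputable def nuExt (νN : N →* k) (u : G) : k := if h : u ∈ N then νN ⟨u, h⟩ else 0

theorem nuExt_of_mem {u : G} (h : u ∈ N) : nuExt νN u = νN ⟨u, h⟩ := dif_pos h

theorem nuExt_of_notMem {u : G} (h : u ∉ N) : nuExt νN u = 0 := dif_neg h

/-- The weighted sum of a central element over the normalizer. -/
theorem sum_normalizer_eq_one {y : G} (hy : orderOf y = p) (hyN : y ∈ N)
    (hCN : ∀ g : G, g * y = y * g → g ∈ N)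
    (hcent : ∀ g : G, ∀ z ∈ Subgroup.zpowers y, z ≠ 1 → g * z = z * g → g * y = y * g)
    (hν : ∀ n : N, (n : G) * y = y * n → νN n = 1)
    (hclass : ∀ g x, ε (x * g * x⁻¹) = ε g) (hsum : ∑ u, ε u = 1) :
    ∑ u, ε u * nuExt νN u = 1 := by
  classical
  have hpp : p.Prime := hp.out
  letI : Fintype (Subgroup.zpowers y) := Fintype.ofFinite _
  let nu : G → k := nuExt νN
  let D : G → k := fun u => ε u * (1 - nu u)
  have hPN : ∀ z ∈ Subgroup.zpowers y, z ∈ N := by
    intro z hz
    exact (Subgroup.zpowers_le.mpr hyN) hz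
  have hνz : ∀ z (hz : z ∈ Subgroup.zpowers y), νN ⟨z, hPN z hz⟩ = 1 := by
    intro z hz
    apply hν
    obtain ⟨i, rfl⟩ := Subgroup.mem_zpowers_iff.mp hz
    exact (Commute.zpow_self y i).eq
  have hnu : ∀ z ∈ Subgroup.zpowers y, ∀ u, nu (z * u * z⁻¹) = nu u := by
    intro z hz u
    simp only [nu]
    by_cases hu : u ∈ N
    · have h1 : z * u * z⁻¹ ∈ N := N.mul_mem (N.mul_mem (hPN z hz) hu) (N.inv_mem (hPN z hz))
      rw [nuExt_of_mem hu, nuExt_of_mem h1]
      have h2 : (⟨z * u * z⁻¹, h1⟩ : N) = ⟨z, hPN z hz⟩ * ⟨u, hu⟩ * ⟨z, hPN z hz⟩⁻¹ := rfl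
      have h3 : νN (⟨z, hPN z hz⟩⁻¹) = 1 := by
        have h4 := hνz z⁻¹ (Subgroup.inv_mem _ hz)
        exact h4
      rw [h2, map_mul, map_mul, hνz z hz, h3, one_mul, mul_one]
    · have h1 : z * u * z⁻¹ ∉ N := fun h => hu (by
        have := N.mul_mem (N.mul_mem (N.inv_mem (hPN z hz)) h) (hPN z hz)
        have h2 : z⁻¹ * (z * u * z⁻¹) * z = u := by group
        rwa [h2] at this)
      rw [nuExt_of_notMem hu, nuExt_of_notMem h1]
  have hD : ∀ z ∈ Subgroup.zpowers y, ∀ u, D (z * u * z⁻¹) = D u := by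
    intro z hz u
    simp only [D]
    rw [hclass, hnu z hz]
  have hD0 : ∀ u, u * y = y * u → D u = 0 := by
    intro u hu
    have h1 : nu u = 1 := by
      simp only [nu]
      rw [nuExt_of_mem (hCN u hu)]
      exact hν ⟨u, hCN u hu⟩ hu
    simp only [D]
    rw [h1, sub_self, mul_zero]
  let s : Finset G := univ.filter (fun u => u * y ≠ y * u)
  have hDsum : ∑ u, D u = 0 := by
    have h1 : ∑ u, D u = ∑ u ∈ s, D u := by
      symm
      refine sum_subset (subset_univ _) fun u _ hu => ?_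
      apply hD0
      by_contra hcon
      exact hu (mem_filter.mpr ⟨mem_univ _, hcon⟩)
    rw [h1]
    refine sum_eq_zero_of_free (P := Subgroup.zpowers y) (fun z u => (z : G) * u * (z : G)⁻¹) (fun x => by simp)
      (fun z w x => by simp [mul_assoc]) D _ s rfl ?_ ?_ ?_
    · intro u hu z
      refine mem_filter.mpr ⟨mem_univ _, fun h => (mem_filter.mp hu).2 ?_⟩
      obtain ⟨i, hi⟩ := Subgroup.mem_zpowers_iff.mp z.2
      have hzy : (z : G) * y = y * z := by
        rw [← hi]
        exact ((Commute.zpow_self y i).eq)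
      have hzy' : (z : G)⁻¹ * y = y * (z : G)⁻¹ := by
        have := (Commute.inv_left (show Commute (z : G) y from hzy)).eq
        exact this
      calc u * y = (z : G)⁻¹ * (((z : G) * u * (z : G)⁻¹) * y) * (z : G) := by
            calc u * y = (z : G)⁻¹ * ((z : G) * u * ((z : G)⁻¹ * y)) * (z : G) := by
                  rw [hzy']
                  group
              _ = _ := by group
        _ = (z : G)⁻¹ * (y * ((z : G) * u * (z : G)⁻¹)) * (z : G) := by rw [h]
        _ = ((z : G)⁻¹ * y) * ((z : G) * u * (z : G)⁻¹) * (z : G) := by group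
        _ = (y * (z : G)⁻¹) * ((z : G) * u * (z : G)⁻¹) * (z : G) := by rw [hzy']
        _ = y * u := by group
    · intro u hu z hz
      by_contra hz1
      have hz1' : (z : G) ≠ 1 := fun e => hz1 (Subtype.ext e)
      have h1 : u * (z : G) = (z : G) * u := by
        calc u * (z : G) = ((z : G) * u * (z : G)⁻¹) * (z : G) := by rw [hz]
          _ = (z : G) * u := by group
      exact (mem_filter.mp hu).2 (hcent u z z.2 hz1' h1)
    · intro u _
      have h1 : ∀ z : Subgroup.zpowers y, D ((z : G) * u * (z : G)⁻¹) = D u := fun z => hD z z.2 u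
      rw [sum_congr rfl (fun z _ => h1 z), sum_const, card_univ, nsmul_eq_mul]
      have h2 : ((Fintype.card (Subgroup.zpowers y) : ℕ) : k) = 0 := by
        rw [← Nat.card_eq_fintype_card, Nat.card_zpowers, hy]
        exact CharP.cast_eq_zero k p
      rw [h2, zero_mul]
  have h3 : ∑ u, D u = ∑ u, ε u - ∑ u, ε u * nu u := by
    simp only [D, mul_sub, mul_one, sum_sub_distrib]
  rw [h3, hsum, sub_eq_zero] at hDsum
  exact hDsum.symm

/-- The starting representation carrying a witness. -/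
theorem exists_start [Fintype N] {y : G} (hy : orderOf y = p) (hyN : y ∈ N)
    (hCN : ∀ g : G, g * y = y * g → g ∈ N)
    (hcent : ∀ g : G, ∀ z ∈ Subgroup.zpowers y, z ≠ 1 → g * z = z * g → g * y = y * g)
    (hν : ∀ n : N, (n : G) * y = y * n → νN n = 1)
    (hclass : ∀ g x, ε (x * g * x⁻¹) = ε g) (hsum : ∑ u, ε u = 1)
    (hid : ∀ t, ∑ w, ε w * ε (w⁻¹ * t) = ε t) [Fintype (Subgroup.zpowers y)]
    {H : Subgroup G} [Fintype H] (hHN : H ≤ N) :
    ∃ (ρ : Representation k G (indSub νN ε)), ActsOne ε ρ ∧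
      ∃ α v, Wit ρ (Subgroup.zpowers y) H (νN.comp (Subgroup.inclusion hHN)) α v := by
  classical
  have hpp : p.Prime := hp.out
  have hPN : ∀ z ∈ Subgroup.zpowers y, z ∈ N := by
    intro z hz
    exact (Subgroup.zpowers_le.mpr hyN) hz
  have hνz : ∀ z (hz : z ∈ Subgroup.zpowers y), νN ⟨z, hPN z hz⟩ = 1 := by
    intro z hz
    apply hν
    obtain ⟨i, rfl⟩ := Subgroup.mem_zpowers_iff.mp hz
    exact (Commute.zpow_self y i).eq
  let U : Subrepresentation (leftFun k G) := ⟨indSub νN ε, fun g f hf => indSub_invariant hclass g hf⟩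
  let ρ : Representation k G (indSub νN ε) := U.toRepresentation
  have hρ : ∀ g (f : indSub νN ε) x, (ρ g f : G → k) x = (f : G → k) (g⁻¹ * x) := fun g f x => rfl
  let f₀ : G → k := fun g => nuExt νN g⁻¹
  have hf₀1 : ∀ (g : G) (n : N), f₀ (g * n) = νN n⁻¹ * f₀ g := by
    intro g n
    simp only [f₀]
    by_cases hg : g⁻¹ ∈ N
    · have h1 : (g * n)⁻¹ ∈ N := by
        rw [mul_inv_rev]
        exact N.mul_mem (N.inv_mem n.2) hg
      rw [nuExt_of_mem hg, nuExt_of_mem h1, ← map_mul]
      congr 1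
      apply Subtype.ext
      simp
    · have h1 : (g * n)⁻¹ ∉ N := by
        intro h
        apply hg
        have := N.mul_mem (n.2) h
        simpa using this
      rw [nuExt_of_notMem hg, nuExt_of_notMem h1, mul_zero]
  have hf₀z : ∀ z ∈ Subgroup.zpowers y, ∀ t, f₀ (z * t) = f₀ t := by
    intro z hz t
    simp only [f₀]
    have hz' := hPN z hz
    by_cases ht : t⁻¹ ∈ N
    · have h1 : (z * t)⁻¹ ∈ N := by
        rw [mul_inv_rev]
        exact N.mul_mem ht (N.inv_mem hz')
      rw [nuExt_of_mem ht, nuExt_of_mem h1]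
      have h2 : (⟨(z * t)⁻¹, h1⟩ : N) = ⟨t⁻¹, ht⟩ * ⟨z, hz'⟩⁻¹ := by
        apply Subtype.ext
        simp
      have h3 : νN (⟨z, hz'⟩⁻¹) = 1 := hνz z⁻¹ (Subgroup.inv_mem _ hz)
      rw [h2, map_mul, h3, mul_one]
    · have h1 : (z * t)⁻¹ ∉ N := by
        intro h
        apply ht
        have := N.mul_mem h hz'
        simpa using this
      rw [nuExt_of_notMem ht, nuExt_of_notMem h1]
  let v₀ : G → k := fun g => ∑ u, ε u * f₀ (u⁻¹ * g)
  have hv₀ : v₀ ∈ indSub νN ε := by
    refine ⟨fun g n => ?_, fun g => ?_⟩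
    · simp only [v₀]
      rw [mul_sum]
      refine sum_congr rfl fun u _ => ?_
      rw [← mul_assoc, hf₀1]
      ring
    · simp only [v₀]
      calc ∑ x, ε x * ∑ u, ε u * f₀ (u⁻¹ * (x⁻¹ * g))
          = ∑ x, ∑ t, ε x * ε (x⁻¹ * t) * f₀ (t⁻¹ * g) := by
            refine sum_congr rfl fun x _ => ?_
            rw [mul_sum]
            refine Fintype.sum_equiv (Equiv.mulLeft x) _ _ fun u => ?_
            simp only [Equiv.coe_mulLeft, inv_mul_cancel_left]
            rw [mul_assoc]
            congr 3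
            group
        _ = ∑ t, ε t * f₀ (t⁻¹ * g) := by
            rw [sum_comm]
            refine sum_congr rfl fun t _ => ?_
            rw [← sum_mul, hid]
  have hcardP : ∀ w : indSub νN ε, ∑ z : Subgroup.zpowers y, w = 0 := by
    intro w
    rw [sum_const, card_univ, ← Nat.card_eq_fintype_card, Nat.card_zpowers, hy,
      ← Nat.cast_smul_eq_nsmul k p w, CharP.cast_eq_zero k p, zero_smul]
  let v : indSub νN ε := ⟨v₀, hv₀⟩
  have hvz : ∀ z : Subgroup.zpowers y, ρ (z : G) v = v := by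
    intro z
    apply Subtype.ext
    funext g
    show v₀ ((z : G)⁻¹ * g) = v₀ g
    simp only [v₀]
    refine Fintype.sum_equiv (MulAut.conj (z : G)).toEquiv _ _ fun u => ?_
    have h3 : (MulAut.conj (z : G)).toEquiv u = (z : G) * u * (z : G)⁻¹ := by simp
    rw [h3, hclass]
    congr 1
    rw [← hf₀z _ (Subgroup.inv_mem _ z.2) (((z : G) * u * (z : G)⁻¹)⁻¹ * g)]
    congr 1
    group
  refine ⟨ρ, ?_, (LinearMap.proj 1) ∘ₗ (indSub νN ε).subtype, v, ?_, ?_, ?_, ?_⟩
  · intro w
    apply Subtype.ext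
    funext g
    have h1 := w.2.2 g
    rw [← h1]
    simp only [Submodule.coe_sum, Submodule.coe_smul, Finset.sum_apply, Pi.smul_apply, smul_eq_mul]
    rfl
  · intro z hz w
    show (w : G → k) (z⁻¹ * 1) = (w : G → k) 1
    have h1 := w.2.1 1 ⟨z⁻¹, N.inv_mem (hPN z hz)⟩
    rw [one_mul] at h1
    rw [mul_one, show (z⁻¹ : G) = ((⟨z⁻¹, N.inv_mem (hPN z hz)⟩ : N) : G) from rfl, h1]
    have h2 : νN (⟨z⁻¹, N.inv_mem (hPN z hz)⟩ : N)⁻¹ = 1 := by
      have h3 := hνz z hz
      convert h3 using 2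
      apply Subtype.ext
      simp
    rw [h2, one_mul]
  · intro h w
    show (w : G → k) ((h : G)⁻¹ * 1) = νN (Subgroup.inclusion hHN h) * (w : G → k) 1
    have h1 := w.2.1 1 (Subgroup.inclusion hHN h)⁻¹
    simp only [inv_inv, one_mul] at h1
    rw [mul_one, show ((h : G)⁻¹ : G) = (((Subgroup.inclusion hHN h)⁻¹ : N) : G) from rfl, h1]
  · rw [sum_congr rfl (fun z _ => hvz z)]
    exact hcardP v
  · show v₀ 1 ≠ 0
    have h1 : v₀ 1 = ∑ u, ε u * nuExt νN u := by
      simp only [v₀, f₀]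
      refine sum_congr rfl fun u _ => ?_
      simp
    rw [h1, sum_normalizer_eq_one hy hyN hCN hcent hν hclass hsum]
    exact one_ne_zero

end Start

section Main

variable {k : Type v} [Field k] {p : ℕ} [hp : Fact p.Prime] [CharP k p]
  {G : Type u} [Group G] [Fintype G]

/-- Schur's lemma for an irreducible representation. -/
theorem schur_of_irr [IsAlgClosed k] {T : Type w} [AddCommGroup T] [Module k T] [FiniteDimensional k T]
    [Nontrivial T] {ρ : Representation k G T} (hirr : ρ.IsIrreducible)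
    (ψ : Module.End k T) (hψ : ∀ g, ψ * ρ g = ρ g * ψ) : ∃ c : k, ψ = c • 1 := by
  obtain ⟨c, hc⟩ := Module.End.exists_eigenvalue ψ
  let U : Subrepresentation ρ := ⟨Module.End.eigenspace ψ c, by
    intro g v hv
    rw [Module.End.mem_eigenspace_iff] at hv ⊢
    have h1 : ψ (ρ g v) = ρ g (ψ v) := by
      rw [← Module.End.mul_apply, hψ, Module.End.mul_apply]
    rw [h1, hv, map_smul]⟩
  have hU : U = ⊤ := by
    refine (hirr.eq_bot_or_eq_top U).resolve_left fun h => ?_
    have h1 : U.toSubmodule = ⊥ := congrArg Subrepresentation.toSubmodule h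
    exact hc h1
  refine ⟨c, ?_⟩
  ext v
  have hv : v ∈ U.toSubmodule := by
    rw [hU]
    exact Submodule.mem_top
  have := Module.End.mem_eigenspace_iff.mp hv
  simp [this]

theorem sub_one_pow_char_pow' {R : Type w} [Ring R] [Algebra k R] (u : R) (j : ℕ) :
    (u - 1) ^ (p ^ j) = u ^ (p ^ j) - 1 := by
  have hX : ((Polynomial.X : Polynomial k) - 1) ^ (p ^ j) = (Polynomial.X : Polynomial k) ^ (p ^ j) - 1 := by
    rw [sub_pow_char_pow, one_pow]
  have h2 := congrArg (Polynomial.aeval u) hX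
  simpa using h2

/-- A trace does not see the `p`-part. -/
theorem character_mul_of_pPart {T : Type w} [AddCommGroup T] [Module k T] [FiniteDimensional k T]
    (ρ : Representation k G T) {a b : G} (hab : Commute a b) {j : ℕ} (ha : orderOf a = p ^ j) :
    ρ.character (a * b) = ρ.character b := by
  have h1 : (ρ a - 1) ^ (p ^ j) = 0 := by
    rw [sub_one_pow_char_pow' (k := k) (p := p), ← map_pow, ← ha, pow_orderOf_eq_one, map_one, sub_self]
  have hnil : IsNilpotent (ρ a - 1) := ⟨_, h1⟩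
  have hc : Commute (ρ a - 1) (ρ b) := by
    refine Commute.sub_left ?_ (Commute.one_left _)
    show ρ a * ρ b = ρ b * ρ a
    rw [← map_mul, ← map_mul, hab.eq]
  have h2 : IsNilpotent ((ρ a - 1) * ρ b) := hc.isNilpotent_mul_right hnil
  have h3 : LinearMap.trace k T ((ρ a - 1) * ρ b) = 0 :=
    (LinearMap.isNilpotent_trace_of_isNilpotent h2).eq_zero
  have h4 : ρ (a * b) = (ρ a - 1) * ρ b + ρ b := by
    rw [map_mul, sub_mul, one_mul, sub_add_cancel]
  simp only [Representation.character]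
  rw [h4, map_add, h3, zero_add]

theorem asAlgebraHom_eq_sum {T : Type w} [AddCommGroup T] [Module k T] (ρ : Representation k G T)
    (a : MonoidAlgebra k G) : ρ.asAlgebraHom a = ∑ g, a.coeff g • ρ g := by
  rw [Representation.asAlgebraHom_def, MonoidAlgebra.lift_apply, Finsupp.sum_fintype _ _ (by simp)]

/-- The main theorem of this file: the traces of irreducible representations carrying witnesses for
distinct characters of `H` are linearly independent. -/
theorem exists_independent_traces [IsAlgClosed k] {y : G} (hy : orderOf y = p)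
    {N H : Subgroup G} [Fintype N] [Fintype H] [Fintype (Subgroup.zpowers y)]
    (hHN : H ≤ N) (hyN : y ∈ N)
    (hN : ∀ n ∈ N, ∃ z ∈ Subgroup.zpowers y, ∃ h : H, n = z * h)
    (hc : (Nat.card H : k) ≠ 0)
    (hHy : ∀ h : H, ∃ a : ℕ, (h : G)⁻¹ * y * h = y ^ a)
    (hfree : ∀ g : G, ∀ z ∈ Subgroup.zpowers y, z ≠ 1 → g⁻¹ * z * g ∈ N → g ∈ N)
    (hCN : ∀ g : G, g * y = y * g → g ∈ N)
    (hcent : ∀ g : G, ∀ z ∈ Subgroup.zpowers y, z ≠ 1 → g * z = z * g → g * y = y * g)
    {ε : G → k} (hclass : ∀ g x, ε (x * g * x⁻¹) = ε g) (hsum : ∑ u, ε u = 1)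
    (hid : ∀ t, ∑ w, ε w * ε (w⁻¹ * t) = ε t)
    {ι : Type*} [Fintype ι] [DecidableEq ι] (ν : ι → (N →* k))
    (hν : ∀ i, ∀ n : N, (n : G) * y = y * n → ν i n = 1)
    (hinj : ∀ i j, i ≠ j → ∃ h : H, ν i (Subgroup.inclusion hHN h) ≠ ν j (Subgroup.inclusion hHN h)) :
    ∃ τ : ι → G → k, LinearIndependent k τ ∧ (∀ i g x, τ i (x * g * x⁻¹) = τ i g) ∧
      (∀ i a b j, Commute a b → orderOf a = p ^ j → τ i (a * b) = τ i b) ∧
      (∀ i g, ∑ u, ε u * τ i (u * g) = τ i g) := by
  classical
  have hHP : ∀ h : H, ∀ z ∈ Subgroup.zpowers y, (h : G) * z * (h : G)⁻¹ ∈ Subgroup.zpowers y := by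
    intro h z hz
    obtain ⟨i, rfl⟩ := Subgroup.mem_zpowers_iff.mp hz
    have h1 : (h : G) * y ^ i * (h : G)⁻¹ = ((h : G) * y * (h : G)⁻¹) ^ i := by
      rw [conj_zpow]
    rw [h1]
    apply Subgroup.zpow_mem
    obtain ⟨a, ha⟩ := hHy h⁻¹
    simp only [Subgroup.coe_inv, inv_inv] at ha
    rw [ha]
    exact Subgroup.pow_mem _ (Subgroup.mem_zpowers y) _
  have hPN : Subgroup.zpowers y ≤ N := Subgroup.zpowers_le.mpr hyN
  have hstart : ∀ i, ∃ (T' : Type (max u v)) (_ : AddCommGroup T') (_ : Module k T') (_ : FiniteDimensional k T')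
      (ρ' : Representation k G T'), ρ'.IsIrreducible ∧ ActsOne ε ρ' ∧
        ∃ α v, Wit ρ' (Subgroup.zpowers y) H ((ν i).comp (Subgroup.inclusion hHN)) α v := by
    intro i
    obtain ⟨ρ, h1, h2⟩ := exists_start (νN := ν i) hy hyN hCN hcent (hν i) hclass hsum hid hHN
    exact exists_irr_of_wit hc hHP ε _ _ (indSub (ν i) ε) ρ rfl h1 h2
  choose T i1 i2 i3 ρ hirr hE hwit using hstart
  letI : ∀ i, AddCommGroup (T i) := i1
  letI : ∀ i, Module k (T i) := i2
  haveI : ∀ i, FiniteDimensional k (T i) := i3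
  have hnt : ∀ i, Nontrivial (T i) := by
    intro i
    obtain ⟨α, v, hw⟩ := hwit i
    exact ⟨⟨v, 0, fun h => hw.ne (by rw [h, map_zero])⟩⟩
  have hS : ∀ i, ∀ ψ : Module.End k (T i), (∀ g, ψ * ρ i g = ρ i g * ψ) → ∃ c : k, ψ = c • 1 := by
    intro i ψ hψ
    haveI := hnt i
    exact schur_of_irr (hirr i) ψ hψ
  -- no homomorphisms
  haveI : ∀ i, (ρ i).IsIrreducible := hirr
  have hne : ∀ i j, i ≠ j → ∀ f : (ρ i).asModule →ₗ[MonoidAlgebra k G] (ρ j).asModule, f = 0 := by
    intro i j hij f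
    rcases LinearMap.bijective_or_eq_zero f with hb | h0
    · exfalso
      obtain ⟨β, w, hw⟩ := hwit j
      obtain ⟨α, v, hw'⟩ := hwit i
      let fk : T i →ₗ[k] T j := (ρ j).asModuleEquiv.toLinearMap ∘ₗ (f.restrictScalars k) ∘ₗ
        (ρ i).asModuleEquiv.symm.toLinearMap
      have hfk : ∀ t, fk t = (ρ j).asModuleEquiv (f ((ρ i).asModuleEquiv.symm t)) := fun t => rfl
      have hf1 : ∀ (g : G) (t : T i), fk (ρ i g t) = ρ j g (fk t) := by
        intro g t
        rw [hfk, hfk, Representation.asModuleEquiv_symm_map_rho, map_smul,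
          Representation.asModuleEquiv_map_smul, Representation.asAlgebraHom_of]
      have hinj' : Function.Injective fk := by
        intro a b hab
        have h1 := hb.1 ((ρ j).asModuleEquiv.injective hab)
        exact (ρ i).asModuleEquiv.symm.injective h1
      obtain ⟨w₁, hw₁⟩ := hb.2 ((ρ j).asModuleEquiv.symm w)
      let w' : T i := (ρ i).asModuleEquiv w₁
      have hw'w : fk w' = w := by
        rw [hfk]
        simp only [w', LinearEquiv.symm_apply_apply, hw₁, LinearEquiv.apply_symm_apply]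
      have hw2 : Wit (ρ i) (Subgroup.zpowers y) H ((ν j).comp (Subgroup.inclusion hHN)) (β ∘ₗ fk) w' := by
        refine ⟨?_, ?_, ?_, ?_⟩
        · intro z hz t
          show β (fk (ρ i z t)) = β (fk t)
          rw [hf1, hw.inv z hz]
        · intro h t
          show β (fk (ρ i (h : G) t)) = _ * β (fk t)
          rw [hf1, hw.equiv]
        · apply hinj'
          rw [map_sum, map_zero]
          rw [← hw.norm]
          refine sum_congr rfl fun z _ => ?_
          rw [hf1, hw'w]
        · show β (fk w') ≠ 0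
          rw [hw'w]
          exact hw.ne
      have h3 := eq_of_wit hy hc hHy hPN hN hfree (hS i) hw' hw2
      obtain ⟨h, hh⟩ := hinj i j hij
      apply hh
      have h4 := DFunLike.congr_fun h3 h
      exact h4.symm
    · exact h0
  refine ⟨fun i => (ρ i).character, ?_, ?_, ?_, ?_⟩
  · rw [Fintype.linearIndependent_iff]
    intro c hc0 i₀
    haveI := hnt i₀
    obtain ⟨t, ht⟩ := exists_ne (0 : T i₀)
    obtain ⟨ξ, hξ⟩ : ∃ ξ : T i₀ →ₗ[k] k, ξ t = 1 := by
      obtain ⟨ξ₀, h1, -⟩ := Submodule.exists_le_ker_of_notMem (p := (⊥ : Submodule k (T i₀))) (v := t) (by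
        simpa using ht)
      exact ⟨(ξ₀ t)⁻¹ • ξ₀, by simp [h1]⟩
    obtain ⟨a, ha1, ha2⟩ := exists_elt_of_simple k (A := MonoidAlgebra k G) (fun i => (ρ i).asModule) hne i₀
      (ξ.smulRight t)
    have htr1 : LinearMap.trace k (T i₀) ((ρ i₀).asAlgebraHom a) = 1 := by
      have h1 : (ρ i₀).asAlgebraHom a = ξ.smulRight t := by
        ext m
        exact ha1 m
      rw [h1, LinearMap.trace_smulRight, hξ]
    have htr2 : ∀ j, j ≠ i₀ → LinearMap.trace k (T j) ((ρ j).asAlgebraHom a) = 0 := by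
      intro j hj
      have h1 : (ρ j).asAlgebraHom a = 0 := by
        ext m
        exact ha2 j hj m
      rw [h1, map_zero]
    have htr : ∀ j, LinearMap.trace k (T j) ((ρ j).asAlgebraHom a) = ∑ g, a.coeff g * (ρ j).character g := by
      intro j
      rw [asAlgebraHom_eq_sum, map_sum]
      refine sum_congr rfl fun g _ => ?_
      rw [map_smul, smul_eq_mul]
      rfl
    have h2 : ∑ g, a.coeff g * ∑ i, c i * (ρ i).character g = 0 := by
      refine sum_eq_zero fun g _ => ?_
      have h3 := congrFun hc0 g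
      simp only [Finset.sum_apply, Pi.smul_apply, smul_eq_mul, Pi.zero_apply] at h3
      rw [h3, mul_zero]
    have h4 : ∑ g, a.coeff g * ∑ i, c i * (ρ i).character g =
        ∑ i, c i * LinearMap.trace k (T i) ((ρ i).asAlgebraHom a) := by
      simp_rw [htr, mul_sum]
      rw [sum_comm]
      refine sum_congr rfl fun i _ => ?_
      refine sum_congr rfl fun g _ => ?_
      ring
    rw [h4, sum_eq_single i₀] at h2
    · rw [htr1, mul_one] at h2
      exact h2
    · intro j _ hj
      rw [htr2 j hj, mul_zero]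
    · intro h
      exact absurd (mem_univ _) h
  · intro i g x
    simp only [Representation.character]
    rw [map_mul (ρ i), map_mul (ρ i), LinearMap.trace_mul_comm, ← mul_assoc, ← map_mul (ρ i), inv_mul_cancel,
      map_one, one_mul]
  · intro i a b j hab ha
    exact character_mul_of_pPart (ρ i) hab ha
  · intro i g
    have h1 : ∑ u, ε u • ρ i u = 1 := by
      ext w
      have := hE i w
      simpa [LinearMap.sum_apply] using this
    have h2 : ∑ u, ε u • ρ i (u * g) = ρ i g := by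
      have h3 : ∀ u, ε u • ρ i (u * g) = (ε u • ρ i u) * ρ i g := by
        intro u
        rw [map_mul, smul_mul_assoc]
      rw [sum_congr rfl (fun u _ => h3 u), ← sum_mul, h1, one_mul]
    have h3 := congrArg (LinearMap.trace k (T i)) h2
    rw [map_sum] at h3
    simp only [map_smul, smul_eq_mul] at h3
    exact h3

end Main

end Cfsg.Agent.Lib.Blocks.ModTI
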