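import Cfsg.Agent.Lib.Char.BrauerCong
import Cfsg.Agent.Lib.Char.BrauerInd3

/-!
# The regular truncation of a character
-/

set_option autoImplicit false
set_option linter.unusedSectionVars false

namespace Cfsg.Agent.Lib.Blocks

open Cfsg Cfsg.Agent.Lib.Char
open scoped ComplexConjugate

universe u

/-- The truncation of a character to the kernel of a homomorphism, on a group. -/
theorem isCharacter_indicator_normal {E : Type u} [Group E] [Fintype E] (N : Subgroup E) [hN : N.Normal]
    [Fintype N] {ψ : E → ℂ} (hψ : IsCharacter E ψ) (n : ℕ) (hn : N.index ∣ n) :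
    open scoped Classical in
    IsCharacter E (fun e => if e ∈ N then (n : ℂ) * ψ e else 0) := by
  classical
  obtain ⟨c, rfl⟩ := hn
  have hone : IsCharacter N (fun _ => (1 : ℂ)) := IsIrrCharacter.isCharacter isIrrCharacter_one
  have hR := isCharacter_indFun N hone
  have hval : ∀ e : E, indFun N (fun _ => (1 : ℂ)) e = if e ∈ N then (N.index : ℂ) else 0 := by
    intro e
    rw [indFun_apply]
    by_cases he : e ∈ N
    · rw [if_pos he]
      have h1 : ∀ x : E, extendByZero N (fun _ => (1 : ℂ)) (x⁻¹ * e * x) = 1 := by
        intro x
        rw [extendByZero_of_mem N _ ?_]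
        have := hN.conj_mem e he x⁻¹
        simpa using this
      rw [Finset.sum_congr rfl (fun x _ => h1 x), Finset.sum_const, Finset.card_univ, nsmul_eq_mul, mul_one]
      have h2 : (Fintype.card E : ℂ) = (Nat.card N : ℂ) * (N.index : ℂ) := by
        rw [← Nat.cast_mul, Subgroup.card_mul_index, Nat.card_eq_fintype_card]
      rw [h2]
      have hN0 : (Nat.card N : ℂ) ≠ 0 := by exact_mod_cast Nat.card_pos.ne'
      field_simp
    · rw [if_neg he]
      have h1 : ∀ x : E, extendByZero N (fun _ => (1 : ℂ)) (x⁻¹ * e * x) = 0 := by
        intro x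
        rw [extendByZero_of_notMem N _ ?_]
        intro h
        apply he
        have := hN.conj_mem _ h x
        simpa [mul_assoc] using this
      rw [Finset.sum_congr rfl (fun x _ => h1 x)]
      simp
  have h := IsCharacter.nsmul (IsCharacter.mul hR hψ) c
  convert h using 1
  funext e
  simp only [Pi.smul_apply, Pi.mul_apply, hval, nsmul_eq_mul]
  by_cases he : e ∈ N
  · simp only [if_pos he]
    push_cast
    ring
  · simp [he]

variable {G : Type u} [Group G] [Fintype G]

/-- **Regular truncations are generalized characters.** -/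
theorem isGeneralizedCharacter_regular (p : ℕ) [hp : Fact p.Prime] {χ : G → ℂ} (hχ : IsCharacter G χ) :
    open scoped Classical in
    IsGeneralizedCharacter G (fun x : G => if p ∣ orderOf x then 0 else
      ((p ^ (Nat.card G).factorization p : ℕ) : ℂ) * χ x) := by
  classical
  have hpp : p.Prime := hp.out
  set A := (Nat.card G).factorization p with hA
  set n := p ^ A with hn
  set m := Nat.card G / n with hm
  have hcard : Nat.card G = m * n := by
    rw [mul_comm]
    exact (Nat.ordProj_mul_ordCompl_eq_self (Nat.card G) p).symm
  have hcop : m.Coprime n := by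
    have h1 := Nat.coprime_ordCompl hpp (Nat.card_pos (α := G)).ne'
    exact (Nat.Coprime.pow_left A h1).symm
  have hmpos : 0 < m := by
    rcases Nat.eq_zero_or_pos m with h | h
    · rw [h, zero_mul] at hcard
      exact absurd hcard Nat.card_pos.ne'
    · exact h
  have hnpos : 0 < n := pow_pos hpp.pos A
  obtain ⟨k, w, hk0, hk1⟩ := exists_exponent_of_coprime hmpos hnpos hcop
  apply isGeneralizedCharacter_of_elementary
  · intro g h
    simp only
    have hord : orderOf (h * g * h⁻¹) = orderOf g :=
      orderOf_injective (MulAut.conj h).toMonoidHom (MulAut.conj h).injective g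
    rw [hord, IsCharacter.isClassFunction hχ g h]
  · intro E ℓ hℓ hE
    letI : Fintype E := Fintype.ofFinite _
    have hEcard : Nat.card E ∣ m * n := by
      rw [← hcard]
      exact Subgroup.card_subgroup_dvd_card E
    let τ : E →* E := elemPowHom hℓ hE hcop hEcard hk0 hk1
    haveI : τ.ker.Normal := MonoidHom.normal_ker τ
    letI : Fintype τ.ker := Fintype.ofFinite _
    have hidx := index_ker_elemPowHom_dvd hℓ hE hcop hEcard hk0 hk1
    have hchar := isCharacter_indicator_normal τ.ker (IsCharacter.comp hχ E.subtype) n hidx
    have hmem : ∀ e : E, e ∈ τ.ker ↔ ¬ p ∣ orderOf (e : G) := by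
      intro e
      rw [MonoidHom.mem_ker]
      have he : τ e = e ^ k := rfl
      rw [he, Subgroup.orderOf_coe]
      constructor
      · intro h1 h2
        have h3 : orderOf e ∣ k := orderOf_dvd_of_pow_eq_one h1
        have h4 : p ∣ k := h2.trans h3
        have h5 : p ∣ n * w := by
          rw [hn]
          by_cases hA0 : A = 0
          · exfalso
            rw [hA0, pow_zero] at hn
            have h6 : orderOf e ∣ Nat.card G := (orderOf_dvd_natCard e).trans (Subgroup.card_subgroup_dvd_card E)
            have h7 := h2.trans h6
            have h8 : 1 ≤ A := (hpp.dvd_iff_one_le_factorization Nat.card_pos.ne').mp h7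
            omega
          · exact Dvd.dvd.mul_right (dvd_pow_self p hA0) w
        rw [hk1] at h4
        have h6 : p ∣ 1 := (Nat.dvd_add_right h5).mp h4
        exact hpp.one_lt.ne' (Nat.dvd_one.mp h6)
      · intro h1
        have h2 : orderOf e ∣ m * n := (orderOf_dvd_natCard e).trans hEcard
        have h3 : Nat.Coprime (orderOf e) n :=
          Nat.Coprime.pow_right _ ((Nat.Prime.coprime_iff_not_dvd hpp).mpr h1).symm
        have h4 : orderOf e ∣ m := h3.dvd_of_dvd_mul_right h2
        exact orderOf_dvd_iff_pow_eq_one.mp (h4.trans hk0)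
    refine ⟨_, 0, hchar, ?_, ?_⟩
    · have := IsCharacter.nsmul hchar 0
      simpa using this
    · funext e
      simp only [Pi.sub_apply, Pi.zero_apply, sub_zero]
      by_cases he : p ∣ orderOf (e : G)
      · rw [if_pos he, if_neg (fun h => (hmem e).mp h he)]
      · rw [if_neg he, if_pos ((hmem e).mpr he)]
        rfl

end Cfsg.Agent.Lib.Blocks
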