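import Cfsg.Agent.Lib.Blocks.Laradji
import Cfsg.Agent.Lib.Blocks.NormalDefect
import Cfsg.Agent.Lib.Blocks.RegChar

/-!
# Blocks with a normal defect group `P` when `G = P C(P)`
-/

set_option autoImplicit false
set_option linter.unusedSectionVars false

namespace Cfsg.Agent.Lib.Blocks

open Cfsg Cfsg.Agent.Lib.Char
open scoped ComplexConjugate

universe u

section Average

variable {E : Type u} [Group E] [Fintype E]

/-- The character of the fixed points of a normal subgroup. -/
theorem isCharacter_normal_average (N : Subgroup E) [N.Normal] [Fintype N] {θ : E → ℂ} (hθ : IsCharacter E θ) :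
    IsCharacter E (fun x => (Nat.card N : ℂ)⁻¹ * ∑ n : N, θ (n * x)) := by
  classical
  have hexp := classFunction_eq_sum θ (IsCharacter.isClassFunction hθ)
  choose m hm using fun ψ : IrrCharacter E => IsCharacter.classInner_irr_eq_nat hθ ψ.2
  have hexp' : ∀ y, θ y = ∑ ψ : IrrCharacter E, (m ψ : ℂ) * (ψ : E → ℂ) y := by
    intro y
    have h1 := congrFun hexp y
    rw [Finset.sum_apply] at h1
    rw [h1]
    refine Finset.sum_congr rfl fun ψ _ => ?_
    rw [Pi.smul_apply, hm, smul_eq_mul]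
  have hN0 : (Nat.card N : ℂ) ≠ 0 := by exact_mod_cast Nat.card_pos.ne'
  have h : (fun x => (Nat.card N : ℂ)⁻¹ * ∑ n : N, θ (n * x)) =
      ∑ ψ : IrrCharacter E, (m ψ) • (if N ≤ charKer (ψ : E → ℂ) then (ψ : E → ℂ) else 0) := by
    funext x
    rw [Finset.sum_apply]
    simp only [hexp']
    rw [Finset.sum_comm, Finset.mul_sum]
    refine Finset.sum_congr rfl fun ψ _ => ?_
    rw [← Finset.mul_sum, sum_coset_irr N ψ.2 x, Pi.smul_apply]
    by_cases hψ : N ≤ charKer (ψ : E → ℂ)
    · rw [if_pos hψ, if_pos hψ, nsmul_eq_mul]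
      field_simp
    · rw [if_neg hψ, if_neg hψ]
      simp
  rw [h]
  refine IsCharacter.sum _ fun ψ _ => IsCharacter.nsmul ?_ _
  split_ifs
  · exact IsIrrCharacter.isCharacter ψ.2
  · exact isCharacter_zero

/-- The gluing lemma: a character vanishing off `E₀` can be twisted by a character of `E₀`. -/
theorem isCharacter_glue (E₀ : Subgroup E) [hE₀ : E₀.Normal] [Fintype E₀] (σ : E →* E)
    (hsup : σ.ker ⊔ E₀ = ⊤) {θ : E → ℂ} (hθ : IsCharacter E θ)
    (h0 : ∀ e, e ∉ E₀ → θ e = 0) (h1 : ∀ e, e ∈ E₀ → θ e = θ (σ e))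
    {ℓ : E₀ → ℂ} (hℓ : IsCharacter E₀ ℓ)
    (hinv : ∀ (x : E) (y : E₀), ℓ ⟨x⁻¹ * y * x, by simpa using hE₀.conj_mem _ y.2 x⁻¹⟩ = ℓ y) :
    open scoped Classical in
    IsCharacter E (fun e => if h : e ∈ E₀ then ℓ ⟨e, h⟩ * θ e else 0) := by
  classical
  set R : Subgroup E := σ.ker with hR
  haveI : R.Normal := MonoidHom.normal_ker σ
  letI : Fintype R := Fintype.ofFinite _
  letI : Fintype (E₀.subgroupOf R) := Fintype.ofFinite _
  have hκ := isCharacter_indFun E₀ hℓ
  have hξ := isCharacter_normal_average R hθ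
  have hE₀card : (Nat.card E₀ : ℂ) ≠ 0 := by exact_mod_cast Nat.card_pos.ne'
  have hRcard : (Nat.card R : ℂ) ≠ 0 := by exact_mod_cast Nat.card_pos.ne'
  have hcount : (Nat.card E : ℂ) * (Nat.card (E₀.subgroupOf R) : ℂ) = (Nat.card E₀ : ℂ) * (Nat.card R : ℂ) := by
    have h2 : E₀.relIndex R = E₀.index := by
      rw [← Subgroup.relIndex_sup_right, hsup, Subgroup.relIndex_top_right]
    have h3 : Nat.card (E₀.subgroupOf R) * E₀.relIndex R = Nat.card R := Subgroup.card_mul_index (E₀.subgroupOf R)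
    have h4 : Nat.card E₀ * E₀.index = Nat.card E := Subgroup.card_mul_index E₀
    have h5 : Nat.card E * Nat.card (E₀.subgroupOf R) = Nat.card E₀ * Nat.card R := by
      rw [← h4, ← h3, h2]
      ring
    exact_mod_cast h5
  have hval : (fun e => if h : e ∈ E₀ then ℓ ⟨e, h⟩ * θ e else 0) =
      indFun E₀ ℓ * fun x => (Nat.card R : ℂ)⁻¹ * ∑ n : R, θ (n * x) := by
    funext e
    rw [Pi.mul_apply, indFun_apply]
    by_cases he : e ∈ E₀
    · rw [dif_pos he]
      have h2 : ∀ x : E, extendByZero E₀ ℓ (x⁻¹ * e * x) = ℓ ⟨e, he⟩ := by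
        intro x
        have hm : x⁻¹ * e * x ∈ E₀ := by simpa using hE₀.conj_mem _ he x⁻¹
        rw [extendByZero_of_mem E₀ _ hm]
        exact hinv x ⟨e, he⟩
      rw [Finset.sum_congr rfl (fun x _ => h2 x), Finset.sum_const, Finset.card_univ, nsmul_eq_mul,
        ← Nat.card_eq_fintype_card]
      have h3 : ∀ n : R, θ ((n : E) * e) = if n ∈ E₀.subgroupOf R then θ e else 0 := by
        intro n
        by_cases hn : n ∈ E₀.subgroupOf R
        · rw [if_pos hn]
          have hn' : (n : E) ∈ E₀ := Subgroup.mem_subgroupOf.mp hn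
          rw [h1 _ (E₀.mul_mem hn' he), h1 e he, map_mul]
          have hnk : σ (n : E) = 1 := n.2
          rw [hnk, one_mul]
        · rw [if_neg hn]
          apply h0
          intro h4
          apply hn
          apply Subgroup.mem_subgroupOf.mpr
          have := E₀.mul_mem h4 (E₀.inv_mem he)
          simpa using this
      rw [Finset.sum_congr rfl (fun n _ => h3 n), Finset.sum_ite, Finset.sum_const_zero, add_zero,
        Finset.sum_const, nsmul_eq_mul]
      have h4 : (((Finset.univ.filter (fun n : R => n ∈ E₀.subgroupOf R)).card : ℕ) : ℂ) =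
          (Nat.card (E₀.subgroupOf R) : ℂ) := by
        rw [Nat.card_eq_fintype_card (α := E₀.subgroupOf R), Fintype.card_subtype]
      rw [h4]
      calc ℓ ⟨e, he⟩ * θ e = ((Nat.card E₀ : ℂ)⁻¹ * (Nat.card R : ℂ)⁻¹) *
            ((Nat.card E₀ : ℂ) * (Nat.card R : ℂ)) * (ℓ ⟨e, he⟩ * θ e) := by
            field_simp
        _ = _ := by
            rw [← hcount]
            ring
    · rw [dif_neg he]
      have h2 : ∀ x : E, extendByZero E₀ ℓ (x⁻¹ * e * x) = 0 := by
        intro x
        apply extendByZero_of_notMem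
        intro h3
        apply he
        have := hE₀.conj_mem _ h3 x
        simpa [mul_assoc] using this
      rw [Finset.sum_congr rfl (fun x _ => h2 x)]
      simp
  rw [hval]
  exact IsCharacter.mul hκ hξ

end Average

section Parts

variable {G : Type u} [Group G] [Fintype G] {p : ℕ} [hp : Fact p.Prime]

/-- An elementary subgroup is the direct product of its `p`-part and its `p'`-part. -/
theorem exists_parts_elementary (E : Subgroup G) {ℓ : ℕ} (hℓ : ℓ.Prime) (hE : IsElementary ℓ E) :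
    ∃ τ σ : E →* E, (∀ e, τ e * σ e = e) ∧ (∀ e, τ (σ e) = 1) ∧ (∀ e, σ (τ e) = 1) ∧
      ∀ e : E, IsPPart p (e : G) (τ e : G) := by
  classical
  have hpp : p.Prime := hp.out
  set A := (Nat.card G).factorization p with hA
  set n := p ^ A with hn
  set m := Nat.card G / n with hm
  have hcard : Nat.card G = m * n := by
    rw [mul_comm]
    exact (Nat.ordProj_mul_ordCompl_eq_self (Nat.card G) p).symm
  have hcop : m.Coprime n := by
    have h1 := Nat.coprime_ordCompl hpp (Nat.card_pos (α := G)).ne'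
    exact (Nat.Coprime.pow_left A h1).symm
  have hmpos : 0 < m := by
    rcases Nat.eq_zero_or_pos m with h | h
    · rw [h, zero_mul] at hcard
      exact absurd hcard Nat.card_pos.ne'
    · exact h
  have hnpos : 0 < n := pow_pos hpp.pos A
  have hpm : ¬ p ∣ m := Nat.not_dvd_ordCompl hpp Nat.card_pos.ne'
  obtain ⟨k, w, hk0, hk1⟩ := exists_exponent_of_coprime hmpos hnpos hcop
  obtain ⟨k', w', hk0', hk1'⟩ := exists_exponent_of_coprime hnpos hmpos hcop.symm
  have hEcard : Nat.card E ∣ m * n := by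
    rw [← hcard]
    exact Subgroup.card_subgroup_dvd_card E
  have hEcard' : Nat.card E ∣ n * m := by
    rwa [mul_comm]
  let τ : E →* E := elemPowHom hℓ hE hcop hEcard hk0 hk1
  let σ : E →* E := elemPowHom hℓ hE hcop.symm hEcard' hk0' hk1'
  have hτ : ∀ e, τ e = e ^ k := fun _ => rfl
  have hσ : ∀ e, σ e = e ^ k' := fun _ => rfl
  have hord : ∀ e : E, orderOf e ∣ m * n := fun e => (orderOf_dvd_natCard e).trans hEcard
  have hmn : ∀ e : E, ∀ t : ℕ, m * n ∣ t → e ^ t = 1 := fun e t ht =>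
    orderOf_dvd_iff_pow_eq_one.mp ((hord e).trans ht)
  have h1 : ∀ e, τ e * σ e = e := by
    intro e
    rw [hτ, hσ, ← pow_add]
    have h2 : k + k' ≡ 1 [MOD m * n] := by
      rw [← Nat.modEq_and_modEq_iff_modEq_mul hcop]
      constructor
      · have h3 : k ≡ 0 [MOD m] := (Nat.modEq_zero_iff_dvd).mpr hk0
        have h4 : k' ≡ 1 [MOD m] := by
          rw [hk1']
          simp [Nat.ModEq]
        simpa using h3.add h4
      · have h3 : k' ≡ 0 [MOD n] := (Nat.modEq_zero_iff_dvd).mpr hk0'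
        have h4 : k ≡ 1 [MOD n] := by
          rw [hk1]
          simp [Nat.ModEq]
        simpa using h4.add h3
    have h3 : k + k' ≡ 1 [MOD orderOf e] := h2.of_dvd (hord e)
    have h4 := (pow_eq_pow_iff_modEq (x := e)).mpr h3
    simpa using h4
  have h2 : ∀ e, τ (σ e) = 1 := by
    intro e
    rw [hτ, hσ, ← pow_mul]
    apply hmn
    rw [mul_comm m n, mul_comm k' k]
    exact Nat.mul_dvd_mul hk0' hk0 |> fun h => by simpa [mul_comm] using h
  have h3 : ∀ e, σ (τ e) = 1 := by
    intro e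
    rw [hτ, hσ, ← pow_mul]
    apply hmn
    exact Nat.mul_dvd_mul hk0 hk0'
  refine ⟨τ, σ, h1, h2, h3, fun e => ⟨(σ e : E), ?_, ?_, ?_, ?_⟩⟩
  · exact congrArg Subtype.val (h1 e)
  · have : Commute (τ e) (σ e) := by
      rw [hτ, hσ]
      exact Commute.pow_pow_self e k k'
    exact congrArg Subtype.val this.eq
  · have h4 : (τ e) ^ n = 1 := by
      rw [hτ, ← pow_mul]
      apply hmn
      exact Nat.mul_dvd_mul_right hk0 n
    obtain ⟨j, -, hj⟩ := (Nat.dvd_prime_pow hpp).mp (orderOf_dvd_of_pow_eq_one h4)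
    refine ⟨j, ?_⟩
    rw [Subgroup.orderOf_coe, hj]
  · have h4 : (σ e) ^ m = 1 := by
      rw [hσ, ← pow_mul]
      apply hmn
      rw [mul_comm m n]
      exact Nat.mul_dvd_mul_right hk0' m
    rw [Subgroup.orderOf_coe]
    intro h5
    exact hpm (h5.trans (orderOf_dvd_of_pow_eq_one h4))

end Parts

section Central

variable {G : Type u} [Group G] [Fintype G] {M : Ideal AlgInt} {p : ℕ} [hp : Fact p.Prime]
variable (P : Subgroup G) [hPn : P.Normal] [Fintype P]

/-- The function `Ψ_f`. -/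
noncomputable def psi (α : ℕ) (θ : G → ℂ) (f : P → ℂ) (g : G) : ℂ :=
  extendByZero P f (g ^ α) * θ g

/-- The hypotheses on `θ`. -/
structure NCData (p : ℕ) (α : ℕ) (θ : IrrCharacter G) : Prop where
  hα : IsPExp p G α
  hP : IsPGroup p P
  hreg : ∀ d ∈ P, ∀ r : G, ¬ p ∣ orderOf r → Commute d r
  hker : P ≤ charKer (θ : G → ℂ)
  hvan : ∀ h z, IsPPart p h z → z ∉ P → (θ : G → ℂ) h = 0

variable {P} {α : ℕ} {θ : IrrCharacter G}

theorem NCData.isPPart_mul (D : NCData P p α θ) (d : P) {r : G} (hr : ¬ p ∣ orderOf r) :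
    IsPPart p ((d : G) * r) (d : G) :=
  ⟨r, rfl, D.hreg _ d.2 r hr, orderOf_eq_pow_of_isPGroup D.hP d.2, hr⟩

theorem NCData.psi_mul (D : NCData P p α θ) (f : P → ℂ) (d : P) {r : G} (hr : ¬ p ∣ orderOf r) :
    psi P α (θ : G → ℂ) f ((d : G) * r) = f d * (θ : G → ℂ) r := by
  have h1 : ((d : G) * r) ^ α = d := D.hα.eq_of_isPPart (D.isPPart_mul d hr)
  rw [psi, h1, extendByZero_of_mem P f d.2, apply_mem_charKer_mul (irr_isCharacter θ) (D.hker d.2)]

theorem NCData.psi_regular (D : NCData P p α θ) (f : P → ℂ) {r : G} (hr : ¬ p ∣ orderOf r) :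
    psi P α (θ : G → ℂ) f r = f 1 * (θ : G → ℂ) r := by
  have h1 := D.psi_mul f 1 hr
  simpa using h1

theorem NCData.psi_eq_zero (D : NCData P p α θ) (f : P → ℂ) {g : G} (hg : g ^ α ∉ P) :
    psi P α (θ : G → ℂ) f g = 0 := by
  rw [psi, extendByZero_of_notMem P f hg, zero_mul]

/-- The sum over regular elements. -/
theorem NCData.sum_regular (D : NCData P p α θ) :
    (Nat.card P : ℂ) * ∑ r, regFun p G r * ((θ : G → ℂ) r * conj ((θ : G → ℂ) r)) = Nat.card G := by
  classical
  have h1 := sum_eq_sum_mul_regular (F := fun g => (θ : G → ℂ) g * conj ((θ : G → ℂ) g)) D.hP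
      D.hreg (fun g x hx hxD => by simp only [D.hvan g x hx hxD, zero_mul])
  have h2 : ∑ g, (θ : G → ℂ) g * conj ((θ : G → ℂ) g) = Nat.card G := by
    have h3 := classInner_irr_self θ.2
    rw [classInner] at h3
    field_simp at h3
    exact h3
  rw [h2] at h1
  rw [h1]
  have h4 : ∀ d : P, ∑ r, regFun p G r * ((θ : G → ℂ) (d * r) * conj ((θ : G → ℂ) (d * r))) =
      ∑ r, regFun p G r * ((θ : G → ℂ) r * conj ((θ : G → ℂ) r)) := by
    intro d
    refine Finset.sum_congr rfl fun r _ => ?_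
    rw [apply_mem_charKer_mul (irr_isCharacter θ) (D.hker d.2)]
  simp only [h4]
  rw [Finset.sum_const, Finset.card_univ, nsmul_eq_mul, Nat.card_eq_fintype_card]

/-- The isometry. -/
theorem NCData.psi_inner (D : NCData P p α θ) (f f' : P → ℂ) :
    classInner (psi P α (θ : G → ℂ) f) (psi P α (θ : G → ℂ) f') = classInner f f' := by
  classical
  have h1 := sum_eq_sum_mul_regular (F := fun g => psi P α (θ : G → ℂ) f g * conj (psi P α (θ : G → ℂ) f' g)) D.hP
      D.hreg (fun g x hx hxD => by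
        have hgx : g ^ α = x := D.hα.eq_of_isPPart hx
        rw [D.psi_eq_zero f (by rwa [hgx]), zero_mul])
  have h2 : ∀ d : P, ∑ r, regFun p G r * (psi P α (θ : G → ℂ) f ((d : G) * r) * conj (psi P α (θ : G → ℂ) f' ((d : G) * r))) =
      (f d * conj (f' d)) * ∑ r, regFun p G r * ((θ : G → ℂ) r * conj ((θ : G → ℂ) r)) := by
    intro d
    rw [Finset.mul_sum]
    refine Finset.sum_congr rfl fun r _ => ?_
    by_cases hr : ¬ p ∣ orderOf r
    · rw [D.psi_mul f d hr, D.psi_mul f' d hr, map_mul]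
      ring
    · simp only [regFun, if_neg hr, zero_mul, mul_zero]
  rw [classInner, h1, Finset.sum_congr rfl (fun d _ => h2 d), ← Finset.sum_mul, classInner]
  have h3 := D.sum_regular
  have hP0 : (Nat.card P : ℂ) ≠ 0 := by exact_mod_cast Nat.card_pos.ne'
  have hG0 : (Nat.card G : ℂ) ≠ 0 := by exact_mod_cast Nat.card_pos.ne'
  have hS0 : ∑ r, regFun p G r * ((θ : G → ℂ) r * conj ((θ : G → ℂ) r)) ≠ 0 := by
    intro h
    rw [h, mul_zero] at h3
    exact hG0 h3.symm
  rw [← h3, mul_inv, mul_comm (∑ x, f x * conj (f' x)), ← mul_assoc, mul_assoc (Nat.card P : ℂ)⁻¹,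
    inv_mul_cancel₀ hS0, mul_one]

/-- Class functions. -/
theorem psi_isClassFunction {f : P → ℂ}
    (hf : ∀ (x : G) (y : P), f ⟨x * y * x⁻¹, hPn.conj_mem _ y.2 x⟩ = f y) :
    IsClassFunction G (psi P α (θ : G → ℂ) f) := by
  intro g k
  rw [psi, psi, irr_isClassFunction θ g k, conj_pow]
  congr 1
  by_cases hg : g ^ α ∈ P
  · rw [extendByZero_of_mem P f hg, extendByZero_of_mem P f (hPn.conj_mem _ hg k)]
    exact hf k ⟨g ^ α, hg⟩
  · rw [extendByZero_of_notMem P f hg, extendByZero_of_notMem P f]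
    intro h
    apply hg
    have := hPn.conj_mem _ h k⁻¹
    simpa [mul_assoc] using this

/-- On elementary subgroups, `Ψ_λ` is a character. -/
theorem NCData.isCharacter_psi_elementary (D : NCData P p α θ) {f : P → ℂ} (hfc : IsCharacter P f)
    (hf : ∀ (x : G) (y : P), f ⟨x * y * x⁻¹, hPn.conj_mem _ y.2 x⟩ = f y)
    (E : Subgroup G) {ℓ : ℕ} (hℓ : ℓ.Prime) (hE : IsElementary ℓ E) :
    IsCharacter E (fun e : E => psi P α (θ : G → ℂ) f e) := by
  classical
  letI : Fintype E := Fintype.ofFinite _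
  obtain ⟨τ, σ, h1, h2, h3, h4⟩ := exists_parts_elementary (p := p) E hℓ hE
  have hα' : ∀ e : E, (e : G) ^ α = (τ e : G) := fun e => D.hα.eq_of_isPPart (h4 e)
  let E₀ : Subgroup E := (P.subgroupOf E).comap τ
  haveI : (P.subgroupOf E).Normal := Subgroup.normal_subgroupOf
  haveI hE₀n : E₀.Normal := Subgroup.Normal.comap inferInstance τ
  letI : Fintype E₀ := Fintype.ofFinite _
  have hmemE₀ : ∀ e : E, e ∈ E₀ ↔ (τ e : G) ∈ P := fun e => by
    show τ e ∈ P.subgroupOf E ↔ _
    exact Subgroup.mem_subgroupOf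
  have hsup : σ.ker ⊔ E₀ = ⊤ := by
    rw [eq_top_iff]
    intro e _
    rw [← h1 e]
    refine Subgroup.mul_mem_sup (h3 e) ?_
    rw [hmemE₀, h2]
    exact P.one_mem
  have hθE : IsCharacter E (fun e : E => (θ : G → ℂ) e) := isCharacter_resFun E (irr_isCharacter θ)
  let φ : E₀ →* P :=
    { toFun := fun e => ⟨(τ e : G), (hmemE₀ e).mp e.2⟩
      map_one' := by
        apply Subtype.ext
        simp
      map_mul' := by
        intro a b
        apply Subtype.ext
        simp }
  have hℓ₀ : IsCharacter E₀ (f ∘ φ) := IsCharacter.comp hfc φ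
  have hglue := isCharacter_glue E₀ σ hsup hθE
    (fun e he => D.hvan _ _ (h4 e) (fun h => he ((hmemE₀ e).mpr h)))
    (fun e he => by
      show (θ : G → ℂ) e = (θ : G → ℂ) (σ e)
      have h5 : (θ : G → ℂ) ((τ e : G) * (σ e : G)) = (θ : G → ℂ) (σ e) :=
        apply_mem_charKer_mul (irr_isCharacter θ) (D.hker ((hmemE₀ e).mp he)) _
      rw [← h5]
      exact congrArg _ (congrArg Subtype.val (h1 e)).symm)
    hℓ₀ (fun x y => by
      show f (φ _) = f (φ y)
      have h5 := hf ((τ x⁻¹ : E) : G) (φ y)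
      rw [← h5]
      congr 1
      apply Subtype.ext
      show ((τ (x⁻¹ * y * x) : E) : G) = _
      simp [map_mul, map_inv]
      rfl)
  convert hglue using 1
  funext e
  simp only [psi, hα']
  by_cases he : e ∈ E₀
  · rw [dif_pos he, extendByZero_of_mem P f ((hmemE₀ e).mp he)]
    rfl
  · rw [dif_neg he, extendByZero_of_notMem P f (fun h => he ((hmemE₀ e).mpr h)), zero_mul]

/-- The degree of a character with `P` in its kernel. -/
theorem degree_val_of_kernel (hM : IsPModular p M) {B : Set (IrrCharacter G)} (hD : IsDefectGroup p M B P)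
    {θ : IrrCharacter G} (hθ : θ ∈ B) (hker : P ≤ charKer (θ : G → ℂ)) :
    (charDegree (θ : G → ℂ)).factorization p = P.index.factorization p := by
  classical
  have h1 := val_degree_ge hM hD hθ
  obtain ⟨β, hβ, hθeq⟩ := exists_deflate P θ.2 hker
  letI : Fintype (G ⧸ P) := Fintype.ofFinite _
  have hdegeq : charDegree (θ : G → ℂ) = charDegree β := by
    rw [hθeq]
    rfl
  have h2 : charDegree β ∣ Nat.card (G ⧸ P) := charDegree_dvd_card hβ
  have h3 : (charDegree β).factorization p ≤ P.index.factorization p :=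
    (Nat.factorization_le_iff_dvd (charDegree_pos hβ).ne' Subgroup.index_ne_zero_of_finite).mpr h2 p
  have h4 := factorization_index_add_card (p := p) P
  rw [hdegeq] at h1 ⊢
  omega

/-- **The structure of a block with defect group `P` when `G = P C(P)`**, in full. -/
theorem normal_central_block_struct (hM : IsPModular p M) (hP : IsPGroup p P)
    (hG : P ⊔ Subgroup.centralizer (P : Set G) = ⊤) {B : Set (IrrCharacter G)} (hB : IsPBlock M B)
    (hD : IsDefectGroup p M B P) :
    ∃ (θ : IrrCharacter G) (Ψ : IrrCharacter P → IrrCharacter G), θ ∈ B ∧ P ≤ charKer (θ : G → ℂ) ∧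
      (∀ lam : IrrCharacter P, (Ψ lam : G → ℂ) 1 = (lam : P → ℂ) 1 * (θ : G → ℂ) 1) ∧
      Function.Injective Ψ ∧ B = Set.range Ψ ∧
      ∀ θ' ∈ B, (∀ x ∈ P, (θ' : G → ℂ) x = (θ' : G → ℂ) 1) → θ' = θ := by
  classical
  have := isPrime_of_modular hM
  have hpp : p.Prime := hp.out
  -- regular elements centralize `P`
  set C := Subgroup.centralizer (P : Set G) with hC
  haveI hCn : C.Normal := Subgroup.normal_centralizer
  have hCidx : ∃ k, C.index = p ^ k := by
    have h1 : C.index = C.relIndex P := by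
      rw [← Subgroup.relIndex_sup_right, hG, Subgroup.relIndex_top_right]
    have h2 : C.relIndex P ∣ Nat.card P := Subgroup.index_dvd_card _
    obtain ⟨m, hm⟩ := IsPGroup.iff_card.mp hP
    rw [hm] at h2
    obtain ⟨k, -, hk⟩ := (Nat.dvd_prime_pow hpp).mp h2
    exact ⟨k, h1.trans hk⟩
  obtain ⟨kC, hkC⟩ := hCidx
  have hreg : ∀ d ∈ P, ∀ r : G, ¬ p ∣ orderOf r → Commute d r := by
    intro d hd r hr
    have h1 : r ∈ C := mem_of_regular_of_index hkC hr
    exact Subgroup.mem_centralizer_iff.mp h1 d hd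
  -- invariance
  have hinv : ∀ {f : P → ℂ}, IsClassFunction P f → ∀ (x : G) (y : P),
      f ⟨x * y * x⁻¹, hPn.conj_mem _ y.2 x⟩ = f y := by
    intro f hf x y
    have hx : x ∈ P ⊔ C := by rw [hG]; trivial
    obtain ⟨d, hd, c, hc, rfl⟩ := Subgroup.mem_sup_of_normal_right.mp hx
    have h1 := hf y ⟨d, hd⟩
    rw [← h1]
    congr 1
    apply Subtype.ext
    have hcy : (y : G) * c = c * y := Subgroup.mem_centralizer_iff.mp hc _ y.2
    show d * c * y * (d * c)⁻¹ = d * y * d⁻¹
    calc d * c * y * (d * c)⁻¹ = d * (c * y) * c⁻¹ * d⁻¹ := by group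
      _ = d * ((y : G) * c) * c⁻¹ * d⁻¹ := by rw [hcy]
      _ = d * y * d⁻¹ := by group
  -- the character `θ`
  obtain ⟨y, hy, hS⟩ := isDefectGroup_iff.mp hD
  obtain ⟨θ, hθ, hθker⟩ := exists_kernel_char_of_normal hM hB hP hy.2.1 hS.le
  obtain ⟨α, hα⟩ := exists_isPExp G p
  have hval := val_degree_ge hM hD hθ
  have Dat : NCData P p α θ := ⟨hα, hP, hreg, hθker, fun h z hz hzP =>
    irr_eq_zero_of_pPart_notMem hθker hval hz hzP⟩
  have hθc := irr_isCharacter θ
  have hθ1 : (θ : G → ℂ) 1 ≠ 0 := irr_apply_one_ne_zero θ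
  -- the characters
  have hΨ : ∀ lam : IrrCharacter P, ∃ a : IrrCharacter G, (a : G → ℂ) = psi P α (θ : G → ℂ) (lam : P → ℂ) := by
    intro lam
    have hlc := irr_isCharacter lam
    have hgen : IsGeneralizedCharacter G (psi P α (θ : G → ℂ) (lam : P → ℂ)) := by
      apply isGeneralizedCharacter_of_elementary
      · exact psi_isClassFunction (hinv (irr_isClassFunction lam))
      · intro E ℓ hℓ hE
        refine ⟨_, 0, Dat.isCharacter_psi_elementary hlc (hinv (irr_isClassFunction lam)) E hℓ hE, isCharacter_zero, ?_⟩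
        funext e
        simp
    have hnorm : classInner (psi P α (θ : G → ℂ) (lam : P → ℂ)) (psi P α (θ : G → ℂ) (lam : P → ℂ)) = 1 := by
      rw [Dat.psi_inner]
      exact classInner_irr_self lam.2
    obtain ⟨a, ha | ha⟩ := eq_irr_of_norm_one hgen hnorm
    · exact ⟨a, ha.symm⟩
    · exfalso
      have h1 := congrFun ha 1
      have h2 : ¬ p ∣ orderOf (1 : G) := by
        rw [orderOf_one]
        exact hpp.one_lt.ne' ∘ Nat.dvd_one.mp
      rw [Dat.psi_regular _ h2, Pi.neg_apply, apply_one_eq_charDegree hlc, apply_one_eq_charDegree hθc,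
        apply_one_eq_charDegree (irr_isCharacter a)] at h1
      have h3 : ((charDegree (lam : P → ℂ) * charDegree (θ : G → ℂ) + charDegree (a : G → ℂ) : ℕ) : ℂ) = 0 := by
        push_cast
        linear_combination h1
      have h4 : charDegree (lam : P → ℂ) * charDegree (θ : G → ℂ) + charDegree (a : G → ℂ) = 0 := by
        exact_mod_cast h3
      have h5 := charDegree_pos a.2
      omega
  choose Ψ hΨeq using hΨ
  have hreg1 : ¬ p ∣ orderOf (1 : G) := by
    rw [orderOf_one]
    exact hpp.one_lt.ne' ∘ Nat.dvd_one.mp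
  have hΨmul : ∀ (lam : IrrCharacter P) (d : P) {r : G}, ¬ p ∣ orderOf r →
      (Ψ lam : G → ℂ) ((d : G) * r) = (lam : P → ℂ) d * (θ : G → ℂ) r := by
    intro lam d r hr
    rw [hΨeq, Dat.psi_mul _ d hr]
  have hΨP : ∀ (lam : IrrCharacter P) (d : P), (Ψ lam : G → ℂ) (d : G) = (lam : P → ℂ) d * (θ : G → ℂ) 1 := by
    intro lam d
    have h1 := hΨmul lam d hreg1
    simpa using h1
  have hΨ1 : ∀ lam : IrrCharacter P, (Ψ lam : G → ℂ) 1 = (lam : P → ℂ) 1 * (θ : G → ℂ) 1 := by
    intro lam
    have h1 := hΨP lam 1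
    simpa using h1
  have hinj : Function.Injective Ψ := by
    intro lam mu h
    apply Subtype.ext
    funext d
    have h1 := hΨP lam d
    rw [h, hΨP mu d] at h1
    exact (mul_right_cancel₀ hθ1 h1).symm
  -- the principal case
  have hΨone : ∀ lam : IrrCharacter P, (∀ d, (lam : P → ℂ) d = 1) → Ψ lam = θ := by
    intro lam hl
    apply Subtype.ext
    funext g
    rw [hΨeq, psi]
    by_cases hg : g ^ α ∈ P
    · rw [extendByZero_of_mem P _ hg, hl, one_mul]
    · rw [extendByZero_of_notMem P _ hg, zero_mul, Dat.hvan g _ (hα.isPPart g) hg]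
  -- the idempotent
  let c : ℂ := (θ : G → ℂ) 1 * (Nat.card P : ℂ) / (Nat.card G : ℂ)
  have hc : MemLocalRing M c := by
    have h1 : c = ((charDegree (θ : G → ℂ) * Nat.card P : ℕ) : ℂ) / (Nat.card G : ℂ) := by
      simp only [c]
      rw [apply_one_eq_charDegree hθc]
      push_cast
      rfl
    rw [h1]
    apply natCast_div_memLocalRing hM Nat.card_pos.ne'
    rw [Nat.factorization_mul (charDegree_pos θ.2).ne' Nat.card_pos.ne', Finsupp.add_apply]
    exact hval
  let a : G → ℂ := fun g => regFun p G g * (c * conj ((θ : G → ℂ) g))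
  have hacl : IsClassFunction G a := by
    intro g k
    simp only [a]
    rw [regFun_isClassFunction g k, irr_isClassFunction θ g k]
  have haS : ∀ g, MemLocalRing M (a g) := fun g =>
    MemLocalRing.mul (regFun_memLocalRing g) (MemLocalRing.mul hc
      (memLocalRing_of_isIntegral (IsCharacter.isIntegral (IsCharacter.conj hθc) g)))
  let A : Set (IrrCharacter G) := Set.range Ψ
  have hcoef : coef (indic A) = a := by
    funext g
    have h1 : coef (indic A) g = (Nat.card G : ℂ)⁻¹ * ∑ lam : IrrCharacter P,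
        ((Ψ lam : G → ℂ) 1 * conj ((Ψ lam : G → ℂ) g)) := by
      rw [coef]
      congr 1
      rw [← finsum_mem_eq_sum_indic, finsum_mem_range hinj, finsum_eq_sum_of_fintype]
    rw [h1]
    have hG0 : (Nat.card G : ℂ) ≠ 0 := by exact_mod_cast Nat.card_pos.ne'
    obtain ⟨r, hxr, hc', hk, hr⟩ := hα.isPPart g
    by_cases hg : g ^ α ∈ P
    · -- the `P`-part
      have hΨg : ∀ lam : IrrCharacter P, (Ψ lam : G → ℂ) g = (lam : P → ℂ) ⟨g ^ α, hg⟩ * (θ : G → ℂ) r := by
        intro lam
        have h2 := hΨmul lam ⟨g ^ α, hg⟩ hr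
        rw [← h2]
        exact congrArg _ hxr.symm
      have hθg : (θ : G → ℂ) g = (θ : G → ℂ) r := by
        rw [← hxr]
        exact apply_mem_charKer_mul hθc (hθker hg) _
      have h3 : ∑ lam : IrrCharacter P, ((Ψ lam : G → ℂ) 1 * conj ((Ψ lam : G → ℂ) g)) =
          ((θ : G → ℂ) 1 * conj ((θ : G → ℂ) r)) * ∑ lam : IrrCharacter P, (lam : P → ℂ) 1 * (lam : P → ℂ) ⟨g ^ α, hg⟩⁻¹ := by
        rw [Finset.mul_sum]
        refine Finset.sum_congr rfl fun lam _ => ?_
        rw [hΨ1, hΨg, map_mul, irr_apply_inv]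
        ring
      rw [h3, sum_irr_degree_mul_apply]
      by_cases hx1 : g ^ α = 1
      · have hgr : g = r := by
          rw [← hxr, hx1, one_mul]
        have h4 : (⟨g ^ α, hg⟩ : P)⁻¹ = 1 := by
          apply Subtype.ext
          simp [hx1]
        rw [if_pos h4]
        simp only [a, c]
        rw [← hgr]
        have h5 : regFun p G g = 1 := by
          rw [← hgr] at hr
          simp only [regFun, if_pos hr]
        rw [h5]
        field_simp
      · have h4 : ¬ (⟨g ^ α, hg⟩ : P)⁻¹ = 1 := by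
          intro h
          apply hx1
          have := congrArg Subtype.val h
          simpa using this
        rw [if_neg h4]
        have h5 : regFun p G g = 0 := by
          have h6 : ¬ ¬ p ∣ orderOf g := by
            intro h7
            exact hx1 (hα.pow_of_regular h7)
          simp only [regFun, if_neg h6]
        simp only [a, h5]
        simp
    · have h2 : ∀ lam : IrrCharacter P, (Ψ lam : G → ℂ) g = 0 := by
        intro lam
        rw [hΨeq]
        exact Dat.psi_eq_zero _ hg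
      have h5 : regFun p G g = 0 := by
        have h6 : ¬ ¬ p ∣ orderOf g := by
          intro h7
          apply hg
          rw [hα.pow_of_regular h7]
          exact P.one_mem
        simp only [regFun, if_neg h6]
      simp only [a, h5, h2]
      simp
  have hAz : indic A ∈ zS M G := by
    have h1 : indic A = spec a := by
      rw [← hcoef, spec_coef]
    rw [h1]
    exact spec_mem_zS hacl haS
  -- the principal character of `P`
  have hone : ∃ l₁ : IrrCharacter P, ∀ d, (l₁ : P → ℂ) d = 1 := ⟨⟨fun _ => 1, isIrrCharacter_one⟩, fun _ => rfl⟩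
  obtain ⟨l₁, hl₁⟩ := hone
  have hθA : θ ∈ A := ⟨l₁, hΨone l₁ hl₁⟩
  have hBA : B ⊆ A := by
    rw [blockOf_eq_of_mem hB hθ]
    exact blockOf_subset_of_indic_mem hAz hθA
  -- the sum of squares
  have hS0 : ∑ r, regFun p G r * ((θ : G → ℂ) r * conj ((θ : G → ℂ) r)) ≠ 0 := by
    have h3 := Dat.sum_regular
    intro h
    rw [h, mul_zero] at h3
    exact (by exact_mod_cast Nat.card_pos.ne' : (Nat.card G : ℂ) ≠ 0) h3.symm
  have hAB : A ⊆ B := by
    rintro _ ⟨lam, rfl⟩
    by_contra hn
    have hn' : ¬ SameBlock M ((Ψ lam : IrrCharacter G) : G → ℂ) (θ : G → ℂ) := by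
      intro h
      apply hn
      rw [blockOf_eq_of_mem hB hθ]
      exact SameBlock.symm' h
    have h1 := sum_regular_mul_eq_zero hM hn'
    rw [finsum_mem_def, finsum_eq_sum_of_fintype] at h1
    have h2 : ∑ r, Set.indicator {x : G | ¬ p ∣ orderOf x} (fun x => (Ψ lam : G → ℂ) x * conj ((θ : G → ℂ) x)) r =
        (lam : P → ℂ) 1 * ∑ r, regFun p G r * ((θ : G → ℂ) r * conj ((θ : G → ℂ) r)) := by
      rw [Finset.mul_sum]
      refine Finset.sum_congr rfl fun r _ => ?_
      by_cases hr : ¬ p ∣ orderOf r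
      · rw [Set.indicator_of_mem (by exact hr)]
        have h3 := hΨmul lam 1 hr
        simp only [OneMemClass.coe_one, one_mul] at h3
        rw [h3]
        simp only [regFun, if_pos hr]
        ring
      · rw [Set.indicator_of_notMem (by exact hr)]
        simp only [regFun, if_neg hr]
        simp
    rw [h2] at h1
    rcases mul_eq_zero.mp h1 with h3 | h3
    · exact irr_apply_one_ne_zero lam h3
    · exact hS0 h3
  have hBeq : B = A := Set.Subset.antisymm hBA hAB
  refine ⟨θ, Ψ, hθ, hθker, hΨ1, hinj, hBeq, ?_⟩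
  · rintro θ' hθ' hker'
    rw [hBeq] at hθ'
    obtain ⟨lam, rfl⟩ := hθ'
    apply hΨone
    -- `lam` has `P` in its kernel
    have h1 : ∀ d : P, (lam : P → ℂ) d = (lam : P → ℂ) 1 := by
      intro d
      have h2 := hker' d d.2
      rw [hΨP, hΨ1] at h2
      exact mul_right_cancel₀ hθ1 h2
    have h2 := classInner_irr_self lam.2
    rw [classInner] at h2
    have h3 : ∑ d : P, (lam : P → ℂ) d * conj ((lam : P → ℂ) d) =
        (Nat.card P : ℂ) * ((lam : P → ℂ) 1 * conj ((lam : P → ℂ) 1)) := by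
      rw [Finset.sum_congr rfl (fun d _ => by rw [h1 d]), Finset.sum_const, Finset.card_univ, nsmul_eq_mul,
        Nat.card_eq_fintype_card]
    rw [h3, ← mul_assoc, inv_mul_cancel₀ (by exact_mod_cast Nat.card_pos.ne'), one_mul,
      apply_one_eq_charDegree (irr_isCharacter lam), Complex.conj_natCast] at h2
    have h4 : charDegree (lam : P → ℂ) * charDegree (lam : P → ℂ) = 1 := by
      exact_mod_cast h2
    have h5 : charDegree (lam : P → ℂ) = 1 := Nat.eq_one_of_mul_eq_one_right h4
    intro d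
    rw [h1 d, apply_one_eq_charDegree (irr_isCharacter lam), h5, Nat.cast_one]

/-- **The structure of a block with defect group `P` when `G = P C(P)`.** -/
theorem normal_central_block (hM : IsPModular p M) (hP : IsPGroup p P)
    (hG : P ⊔ Subgroup.centralizer (P : Set G) = ⊤) {B : Set (IrrCharacter G)} (hB : IsPBlock M B)
    (hD : IsDefectGroup p M B P) :
    (∃! θ : IrrCharacter G, θ ∈ B ∧ ∀ x ∈ P, (θ : G → ℂ) x = (θ : G → ℂ) 1) ∧
      Nat.card B = Nat.card (ConjClasses P) := by
  classical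
  obtain ⟨θ, Ψ, hθ, hθker, -, hinj, hBeq, huniq⟩ := normal_central_block_struct hM hP hG hB hD
  have hθc := irr_isCharacter θ
  refine ⟨⟨θ, ⟨hθ, fun x hx => (mem_charKer hθc).mp (hθker hx)⟩, ?_⟩, ?_⟩
  · rintro θ' ⟨hθ', hker'⟩
    exact huniq θ' hθ' hker'
  · rw [hBeq]
    show Nat.card (Set.range Ψ) = _
    rw [Nat.card_range_of_injective hinj, card_irr_eq_card_conjClasses]

end Central

end Cfsg.Agent.Lib.Blocks
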