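import Cfsg.Agent.Lib.Blocks.AdExtend
import Cfsg.Agent.Lib.Blocks.BlockField
import Cfsg.Agent.Lib.H8Group.GlaubChar
import Cfsg.Agent.Lib.H8Group.LinearExt

set_option autoImplicit false
set_option linter.unusedSectionVars false
set_option linter.style.haveILetI false

namespace Cfsg.Agent.Lib.Blocks

open Cfsg Cfsg.Agent.Lib.Char Cfsg.Agent.Lib.H8Group Module

universe u

section Field

/-- A ring endomorphism of `ℂ` fixing `η` fixes `ℚ(η)`. -/
theorem pr_sigma_fix (σ : ℂ →+* ℂ) {η : ℂ} (h : σ η = η) {α : ℂ}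
    (hα : α ∈ IntermediateField.adjoin ℚ ({η} : Set ℂ)) : σ α = α := by
  induction hα using IntermediateField.adjoin_induction with
  | mem x hx =>
    rw [Set.mem_singleton_iff] at hx
    rw [hx, h]
  | algebraMap x => simp
  | add x y _ _ hx hy => rw [map_add, hx, hy]
  | inv x _ hx => rw [map_inv₀, hx]
  | mul x y _ _ hx hy => rw [map_mul, hx, hy]

theorem pr_pow_of_modEq {ε : ℂ} {m k l : ℕ} (h : ε ^ m = 1) (hk : k ≡ l [MOD m]) : ε ^ k = ε ^ l := by
  rw [pow_eq_pow_mod k h, pow_eq_pow_mod l h, hk]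

theorem pr_exp_pow (m : ℕ) (hm : m ≠ 0) :
    Complex.exp (2 * Real.pi * Complex.I / m) ^ m = 1 := (Complex.isPrimitiveRoot_exp m hm).pow_eq_one

end Field

section Det

variable {H : Type u} [Group H] [Finite H] {p : ℕ} [hp : Fact p.Prime]

/-- A `p`-rational character has determinant of order prime to `p` if `p` is odd. -/
theorem pr_det_of_rational (hp2 : p ≠ 2) {θ : H → ℂ} (hθ : IsCharacter H θ) {m' : ℕ} (hm' : ¬ p ∣ m')
    (hrat : ∀ n, θ n ∈ IntermediateField.adjoin ℚ ({Complex.exp (2 * Real.pi * Complex.I / m')} : Set ℂ)) :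
    ∃ u : ℕ, ¬ p ∣ u ∧ ∀ n, detChar θ n ^ u = 1 := by
  classical
  have hpp : p.Prime := hp.out
  have hm0 : m' ≠ 0 := by
    rintro rfl
    exact hm' (dvd_zero p)
  have hcard : Nat.card H ≠ 0 := Nat.card_pos.ne'
  obtain ⟨s, u₀, hu₀, hHu⟩ := Nat.exists_eq_pow_mul_and_not_dvd hcard p hpp.ne_one
  have hu0 : u₀ ≠ 0 := by
    rintro rfl
    exact hu₀ (dvd_zero p)
  refine ⟨u₀, hu₀, fun x => ?_⟩
  have hco : (u₀ * m').Coprime p := by
    apply Nat.Coprime.symm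
    rw [Nat.Prime.coprime_iff_not_dvd hpp]
    intro h
    rcases hpp.dvd_mul.mp h with h | h
    · exact hu₀ h
    · exact hm' h
  obtain ⟨k, hk1, hk2⟩ := Nat.chineseRemainder hco 1 2
  have hkA : k.Coprime (u₀ * m') := by
    have h1 := hk1.gcd_eq
    simpa [Nat.coprime_iff_gcd_eq_one] using h1
  have hp3 : 3 ≤ p := by
    have := hpp.two_le
    omega
  have hkp : k.Coprime p := by
    have h1 := hk2.gcd_eq
    have h2 : Nat.gcd 2 p = 1 := by
      rw [← Nat.coprime_iff_gcd_eq_one, Nat.coprime_comm]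
      rw [Nat.Prime.coprime_iff_not_dvd hpp]
      intro h
      have := Nat.le_of_dvd (by norm_num) h
      omega
    rw [h2] at h1
    exact h1
  have hk0 : 1 ≤ k := by
    by_contra h0
    have h00 : k = 0 := by omega
    rw [h00] at hkp
    have := Nat.coprime_zero_left p |>.mp hkp
    omega
  have hk1' : k - 1 ≡ 1 [MOD p] := by
    have h1 : k - 1 + 1 ≡ 1 + 1 [MOD p] := by
      rw [Nat.sub_add_cancel hk0]
      exact hk2
    exact Nat.ModEq.add_right_cancel' 1 h1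
  haveI : NeZero (Nat.card H * m') := ⟨mul_ne_zero hcard hm0⟩
  have hkn : k.Coprime (Nat.card H * m') := by
    rw [hHu]
    apply Nat.Coprime.mul_right
    · apply Nat.Coprime.mul_right
      · exact Nat.Coprime.pow_right s hkp
      · exact Nat.Coprime.coprime_dvd_right (Dvd.intro _ rfl) hkA
    · exact Nat.Coprime.coprime_dvd_right (Dvd.intro_left _ rfl) hkA
  obtain ⟨σ, hσ⟩ := exists_sigma (Nat.card H * m') k hkn
  set ζ := Complex.exp (2 * Real.pi * Complex.I / m') with hζ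
  have hζm : ζ ^ m' = 1 := pr_exp_pow m' hm0
  have hσζ : σ ζ = ζ := by
    rw [hσ ζ (by rw [mul_comm, pow_mul, hζm, one_pow])]
    have h1 : k ≡ 1 [MOD m'] := hk1.of_mul_left _
    rw [pr_pow_of_modEq hζm h1, pow_one]
  have hσθ : (fun y => σ (θ y)) = θ := by
    funext y
    exact pr_sigma_fix σ hσζ (hrat y)
  have h1 := detChar_sigma σ hθ x
  rw [hσθ] at h1
  obtain ⟨δ, hδ⟩ := exists_detHom hθ
  have hε : (detChar θ x) ^ Nat.card H = 1 := by
    rw [hδ, ← Units.val_pow_eq_pow_val, ← map_pow, pow_card_eq_one', map_one, Units.val_one]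
  rw [hσ _ (by rw [pow_mul, hε, one_pow])] at h1
  set ε := detChar θ x with hεdef
  have hε0 : ε ≠ 0 := by
    rw [hεdef, hδ]
    exact Units.ne_zero _
  have h2 : ε ^ (k - 1) = 1 := by
    have h3 : ε ^ (k - 1) * ε = 1 * ε := by
      rw [← pow_succ, Nat.sub_add_cancel hk0, one_mul]
      exact h1.symm
    exact mul_right_cancel₀ hε0 h3
  -- the order is prime to `p`
  have h3 : (ε ^ u₀) ^ p ^ s = 1 := by
    rw [← pow_mul, mul_comm, ← hHu, hε]
  have h4 : (ε ^ u₀) ^ (k - 1) = 1 := by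
    rw [← pow_mul, mul_comm, pow_mul, h2, one_pow]
  have hg : Nat.gcd (p ^ s) (k - 1) = 1 := by
    rw [← Nat.coprime_iff_gcd_eq_one]
    apply Nat.Coprime.pow_left
    have h5 := hk1'.gcd_eq
    have h6 : Nat.gcd 1 p = 1 := Nat.gcd_one_left p
    rw [h6] at h5
    rw [Nat.coprime_comm]
    exact h5
  have h5 := pow_gcd_eq_one.mpr ⟨h3, h4⟩
  rwa [hg, pow_one] at h5

end Det

section Ext

variable {G : Type u} [Group G] [Fintype G] (N : Subgroup G) [hN : N.Normal] [Fintype N]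
  {p : ℕ} [hp : Fact p.Prime] {M : Ideal AlgInt}

/-- The subgroup character attached to `θ` in an intermediate group. -/
noncomputable def prTrans (R : Subgroup G) (hNR : N ≤ R) [Fintype (N.subgroupOf R)] (θ : IrrCharacter N) : IrrCharacter (N.subgroupOf R) :=
  H8Group.irrComp (Subgroup.subgroupOfEquivOfLe hNR) θ

theorem prTrans_apply (R : Subgroup G) (hNR : N ≤ R) [Fintype (N.subgroupOf R)] (θ : IrrCharacter N) (n : N.subgroupOf R) :
    (prTrans N R hNR θ : N.subgroupOf R → ℂ) n = (θ : N → ℂ) (Subgroup.subgroupOfEquivOfLe hNR n) := rfl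

theorem prTrans_principal [M.IsPrime] (R : Subgroup G) (hNR : N ≤ R) [Fintype (N.subgroupOf R)] {θ : IrrCharacter N} (hθ : θ ∈ principalBlock M N) :
    prTrans N R hNR θ ∈ principalBlock M (N.subgroupOf R) := by
  have h1 := blockPull_principalBlock (M := M) (Subgroup.subgroupOfEquivOfLe hNR)
  rw [← h1]
  exact (H8Group.mem_blockPull _).mpr hθ

/-- Extension to an intermediate group of index prime to `p` over `N`, by the Alperin--Dade theorem. -/
theorem pr_ext_coprime (hM : IsPModular p M) (Q : Subgroup G) (hQN : Q ≤ N) {m : ℕ}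
    (hm : Nat.card N = Nat.card Q * m) (hpm : ¬ p ∣ m) (R : Subgroup G) (hNR : N ≤ R)
    (hRY : ∀ r ∈ R, ∃ y ∈ Subgroup.centralizer (Q : Set G), y⁻¹ * r ∈ N)
    (hidx : ¬ p ∣ (N.subgroupOf R).index) {θ : IrrCharacter N} (hθ : θ ∈ principalBlock M N) :
    ∃ η : R → ℂ, IsCharacter R η ∧ ∀ n : N, η ⟨n, hNR n.2⟩ = (θ : N → ℂ) n := by
  classical
  have hpr := isPrime_of_modular hM
  have hpp : p.Prime := hp.out
  letI : Fintype R := Fintype.ofFinite _
  let N' : Subgroup R := N.subgroupOf R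
  haveI hN' : N'.Normal := Subgroup.normal_subgroupOf
  letI : Fintype N' := Fintype.ofFinite _
  have hθ' : prTrans N R hNR θ ∈ principalBlock M N' := prTrans_principal N R hNR hθ
  have hQR : Q ≤ R := hQN.trans hNR
  have hcQ : Nat.card (Q.subgroupOf R) = Nat.card Q :=
    Nat.card_congr (Subgroup.subgroupOfEquivOfLe hQR).toEquiv
  have hcN : Nat.card N' = Nat.card N := Nat.card_congr (Subgroup.subgroupOfEquivOfLe hNR).toEquiv
  have hQidx : ¬ p ∣ (Q.subgroupOf R).index := by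
    have h1 : Nat.card R = Nat.card (Q.subgroupOf R) * (Q.subgroupOf R).index :=
      (Subgroup.card_mul_index _).symm
    have h2 : Nat.card R = Nat.card N' * N'.index := (Subgroup.card_mul_index _).symm
    rw [h2, hcQ, hcN, hm, mul_assoc] at h1
    have hQ0 : Nat.card Q ≠ 0 := Nat.card_pos.ne'
    have h3 := Nat.eq_of_mul_eq_mul_left (Nat.pos_of_ne_zero hQ0) h1
    rw [← h3]
    intro h
    rcases hpp.dvd_mul.mp h with h | h
    · exact hpm h
    · exact hidx h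
  have hcent : ∀ y ∈ Subgroup.centralizer (Q : Set G), ∀ hy : y ∈ R,
      Q.subgroupOf R ≤ Subgroup.centralizer ({(⟨y, hy⟩ : R)} : Set R) := by
    intro y hy hyR q hq
    rw [Subgroup.mem_centralizer_iff]
    intro z hz
    rw [Set.mem_singleton_iff] at hz
    subst hz
    apply Subtype.ext
    have h1 := (Subgroup.mem_centralizer_iff.mp hy) (q : G) (Subgroup.mem_subgroupOf.mp hq)
    show y * (q : G) = (q : G) * y
    exact h1.symm
  have hrep : ∀ g : R, ∃ x : R, (x : R ⧸ N') = (g : R ⧸ N') ∧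
      ¬ p ∣ (Subgroup.centralizer ({x} : Set R)).index ∧ ¬ p ∣ adD N' x := by
    intro g
    obtain ⟨y, hy, hyg⟩ := hRY (g : G) g.2
    have hyR : y ∈ R := by
      have h1 : y = (g : G) * (y⁻¹ * (g : G))⁻¹ := by group
      rw [h1]
      exact R.mul_mem g.2 (R.inv_mem (hNR hyg))
    refine ⟨⟨y, hyR⟩, ?_, ?_, ?_⟩
    · rw [QuotientGroup.eq]
      exact hyg
    · intro h
      exact hQidx (h.trans (Subgroup.index_dvd_of_le (hcent y hy hyR)))
    · refine adD_not_dvd' N' (Q.subgroupOf R) ?_ (m := m) (by rw [hcQ, hcN, hm]) hpm _ (hcent y hy hyR)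
      exact Subgroup.subgroupOf_mono _ hQN
  obtain ⟨χ, ⟨_, hχ⟩, _⟩ := (ad_main N' hM hidx hrep).2 _ hθ'
  refine ⟨χ, IsIrrCharacter.isCharacter χ.2, fun n => ?_⟩
  have h1 := hχ ⟨⟨n, hNR n.2⟩, n.2⟩
  rw [prTrans_apply] at h1
  exact h1

/-- Extension to an intermediate group of `p`-power index over `N`. -/
theorem pr_ext_pgroup (T : Subgroup G) (hNT : N ≤ T) {b : ℕ} (hT : (N.subgroupOf T).index = p ^ b)
    (θ : IrrCharacter N) (hinv : ∀ g : G, conjIrr N g θ = θ) (hdeg : ¬ p ∣ charDegree (θ : N → ℂ))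
    {u : ℕ} (hu : ¬ p ∣ u) (hdet : ∀ n : N, detChar (θ : N → ℂ) n ^ u = 1) :
    ∃ η : T → ℂ, IsCharacter T η ∧ ∀ n : N, η ⟨n, hNT n.2⟩ = (θ : N → ℂ) n := by
  classical
  have hpp : p.Prime := hp.out
  letI : Fintype T := Fintype.ofFinite _
  let N' : Subgroup T := N.subgroupOf T
  haveI hN' : N'.Normal := Subgroup.normal_subgroupOf
  letI : Fintype N' := Fintype.ofFinite _
  let e : N' ≃* N := Subgroup.subgroupOfEquivOfLe hNT
  let θ' : IrrCharacter N' := prTrans N T hNT θ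
  have hθ'app : ∀ n : N', (θ' : N' → ℂ) n = (θ : N → ℂ) (e n) := fun n => rfl
  have hθc : IsCharacter N' (θ' : N' → ℂ) := IsIrrCharacter.isCharacter θ'.2
  have hθc0 : IsCharacter N (θ : N → ℂ) := IsIrrCharacter.isCharacter θ.2
  have hdetθ' : ∀ n : N', detChar (θ' : N' → ℂ) n = detChar (θ : N → ℂ) (e n) := by
    intro n
    have h1 := congrFun (detChar_comp e.toMonoidHom hθc0) n
    exact h1
  obtain ⟨δ, hδ⟩ := exists_detHom hθc
  have hθinv : ∀ (t : T) (n : N'), (θ' : N' → ℂ) (MulAut.conjNormal t n) = (θ' : N' → ℂ) n := by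
    intro t n
    rw [hθ'app, hθ'app]
    have h1 := congrFun (congrArg Subtype.val (hinv (t⁻¹ : T))) (e n)
    simp only [conjIrr_coe, Cfsg.Agent.Lib.Char.conjFun_apply] at h1
    rw [← h1]
    refine congrArg _ (Subtype.ext ?_)
    show (((MulAut.conjNormal t n : N') : T) : G) = (((t⁻¹ : T) : G))⁻¹ * ((n : T) : G) * ((t⁻¹ : T) : G)
    rw [MulAut.conjNormal_apply]
    simp
  have hδinv : ∀ (t n : T) (hn : n ∈ N'), δ ⟨t * n * t⁻¹, hN'.conj_mem n hn t⟩ = δ ⟨n, hn⟩ := by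
    intro t n hn
    apply Units.ext
    rw [← hδ, ← hδ]
    have h1 := congrFun (detChar_comp (MulAut.conjNormal t : N' ≃* N').toMonoidHom hθc) ⟨n, hn⟩
    have h2 : (fun h : N' => (θ' : N' → ℂ) ((MulAut.conjNormal t : N' ≃* N').toMonoidHom h)) = (θ' : N' → ℂ) := by
      funext h
      exact hθinv t h
    rw [h2] at h1
    rw [h1]
    congr 1
  have hδu : ∀ x : N', δ x ^ u = 1 := by
    intro x
    apply Units.ext
    rw [Units.val_pow_eq_pow_val, ← hδ, hdetθ', hdet, Units.val_one]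
  have hpcop : ∀ {c : ℕ}, ¬ p ∣ c → Nat.Coprime N'.index c := by
    intro c hc
    show Nat.Coprime (N.subgroupOf T).index c
    rw [hT]
    apply Nat.Coprime.pow_left
    exact (Nat.Prime.coprime_iff_not_dvd hpp).mpr hc
  obtain ⟨μ, hμ1, _⟩ := exists_ext_linear N' δ hδinv hδu (hpcop hu)
  have hq : IsPGroup p (T ⧸ N') := by
    apply IsPGroup.of_card (n := b)
    rw [← Subgroup.index_eq_card]
    exact hT
  haveI : Group.IsSolvable (T ⧸ N') := by
    haveI := hq.isNilpotent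
    infer_instance
  have hd1 : (θ' : N' → ℂ) 1 = (charDegree (θ : N → ℂ) : ℂ) := by
    rw [hθ'app, map_one]
    exact apply_one_eq_charDegree hθc0
  have hcinv : ∀ g : T, Cfsg.Agent.Lib.Char.conjFun N' g (θ' : N' → ℂ) = (θ' : N' → ℂ) := by
    intro g
    funext n
    simp only [Cfsg.Agent.Lib.Char.conjFun_apply]
    have h1 := hθinv g⁻¹ n
    rw [← h1]
    refine congrArg _ (Subtype.ext ?_)
    simp [MulAut.conjNormal_apply]
  obtain ⟨χ, hχ1, hχ2, _⟩ := exists_ext_det_of_solvable (Nat.card T) T N' (θ' : N' → ℂ) θ'.2 hcinv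
    (charDegree (θ : N → ℂ)) hd1 (hpcop hdeg) μ (fun n => by rw [hμ1, hdetθ', ← hδ, hdetθ']) rfl
  refine ⟨χ, IsIrrCharacter.isCharacter hχ1, fun n => ?_⟩
  exact hχ2 ⟨⟨n, hNT n.2⟩, n.2⟩

theorem pr_mem_of_coprime {L : Subgroup G} [hL : L.Normal] {a : ℕ} (hidx : L.index = p ^ a) {x : G} {k : ℕ}
    (hk : x ^ k = 1) (hc : Nat.Coprime k p) : x ∈ L := by
  have h1 : (x : G ⧸ L) ^ k = 1 := by
    rw [← QuotientGroup.mk_pow, hk, QuotientGroup.mk_one]
  have h2 : (x : G ⧸ L) ^ p ^ a = 1 := by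
    rw [← hidx, ← QuotientGroup.mk_pow]
    exact (QuotientGroup.eq_one_iff _).mpr (Subgroup.pow_index_mem L x)
  have h3 := pow_gcd_eq_one.mpr ⟨h1, h2⟩
  have h4 : Nat.gcd k (p ^ a) = 1 := by
    rw [← Nat.coprime_iff_gcd_eq_one]
    exact Nat.Coprime.pow_right a hc
  rw [h4, pow_one] at h3
  exact (QuotientGroup.eq_one_iff x).mp h3

/-- **Existence of an extension.** -/
theorem pr_exists_ext (hM : IsPModular p M) (Q : Subgroup G) (hQN : Q ≤ N) {m : ℕ}
    (hm : Nat.card N = Nat.card Q * m) (hpm : ¬ p ∣ m) {a : ℕ}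
    [hL : (N ⊔ Subgroup.centralizer (Q : Set G)).Normal]
    (hidx : (N ⊔ Subgroup.centralizer (Q : Set G)).index = p ^ a)
    (θ : IrrCharacter N) (hinv : ∀ g : G, conjIrr N g θ = θ) (hdeg : ¬ p ∣ charDegree (θ : N → ℂ))
    {u : ℕ} (hu : ¬ p ∣ u) (hdet : ∀ n : N, detChar (θ : N → ℂ) n ^ u = 1)
    (hB : θ ∈ principalBlock M N) : ∃ ψ : IrrCharacter G, ∀ n : N, (ψ : G → ℂ) n = (θ : N → ℂ) n := by
  classical
  have hpp : p.Prime := hp.out
  obtain ⟨d, ρ, hirr, hc⟩ := θ.2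
  haveI := hirr
  have hinvρ : ∀ (g : G) (n : N), ρ.character (Triple.cn N g n) = ρ.character n := by
    intro g n
    rw [hc]
    have h1 := congrFun (congrArg Subtype.val (hinv g⁻¹)) n
    simp only [conjIrr_coe, Cfsg.Agent.Lib.Char.conjFun_apply] at h1
    rw [← h1]
    refine congrArg _ (Subtype.ext ?_)
    simp [Triple.cn_coe]
  have hloc : ∀ q : ℕ, q.Prime → ∃ (P : Subgroup G) (hNP : N ≤ P) (η : P → ℂ), IsCharacter P η ∧
      Nat.Coprime P.index q ∧ ∀ n : N, η ⟨n, hNP n.2⟩ = ρ.character n := by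
    intro q hq
    haveI : Fact q.Prime := ⟨hq⟩
    obtain ⟨S⟩ : Nonempty (Sylow q G) := inferInstance
    have hSidx : Nat.Coprime (N ⊔ (S : Subgroup G)).index q := by
      rw [Nat.coprime_comm, Nat.Prime.coprime_iff_not_dvd hq]
      intro h
      exact S.not_dvd_index (h.trans (Subgroup.index_dvd_of_le le_sup_right))
    have hScard : ∃ k, Nat.card S = q ^ k := ⟨_, S.card_eq_multiplicity⟩
    obtain ⟨k, hk⟩ := hScard
    have hrel : (N.subgroupOf (N ⊔ (S : Subgroup G))).index ∣ q ^ k := by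
      have h1 : (N.subgroupOf (N ⊔ (S : Subgroup G))).index = N.relIndex (S : Subgroup G) :=
        Subgroup.relIndex_sup_left (S : Subgroup G) N
      rw [h1, ← hk]
      exact Subgroup.relIndex_dvd_card N (S : Subgroup G)
    by_cases hqp : q = p
    · subst hqp
      obtain ⟨b, _, hb⟩ := (Nat.dvd_prime_pow hq).mp hrel
      obtain ⟨η, hη, hres⟩ := pr_ext_pgroup N (N ⊔ (S : Subgroup G)) le_sup_left hb θ hinv hdeg hu hdet
      refine ⟨_, le_sup_left, η, hη, hSidx, fun n => ?_⟩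
      rw [hres, hc]
    · have hSL : (S : Subgroup G) ≤ N ⊔ Subgroup.centralizer (Q : Set G) := by
        intro x hx
        have h1 : x ^ Nat.card S = 1 :=
          orderOf_dvd_iff_pow_eq_one.mp (Subgroup.orderOf_dvd_natCard (S : Subgroup G) hx)
        refine pr_mem_of_coprime (p := p) hidx h1 ?_
        rw [hk]
        apply Nat.Coprime.pow_left
        exact (Nat.coprime_primes hq hpp).mpr hqp
      have hRY : ∀ r ∈ N ⊔ (S : Subgroup G), ∃ y ∈ Subgroup.centralizer (Q : Set G), y⁻¹ * r ∈ N := by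
        intro r hr
        have hrL : r ∈ N ⊔ Subgroup.centralizer (Q : Set G) := (sup_le le_sup_left hSL) hr
        obtain ⟨n, hn, y, hy, rfl⟩ := Subgroup.mem_sup_of_normal_left.mp hrL
        refine ⟨y, hy, ?_⟩
        have h1 := hN.conj_mem n hn y⁻¹
        simpa [mul_assoc] using h1
      have hidx' : ¬ p ∣ (N.subgroupOf (N ⊔ (S : Subgroup G))).index := by
        intro h
        have h1 := h.trans hrel
        have h2 := hpp.dvd_of_dvd_pow h1
        exact hqp ((Nat.prime_dvd_prime_iff_eq hpp hq).mp h2).symm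
      obtain ⟨η, hη, hres⟩ := pr_ext_coprime N hM Q hQN hm hpm _ le_sup_left hRY hidx' hB
      refine ⟨_, le_sup_left, η, hη, hSidx, fun n => ?_⟩
      rw [hres, hc]
  obtain ⟨χ, hχ, hres⟩ := Triple.exists_irr_of_local N ρ hinvρ hloc
  refine ⟨⟨χ, hχ⟩, fun n => ?_⟩
  rw [← hc]
  exact hres n

/-- Normalising the determinant of an extension. -/
theorem pr_det_normalize (ψ : IrrCharacter G) {θ : IrrCharacter N}
    (hext : ∀ n : N, (ψ : G → ℂ) n = (θ : N → ℂ) n) (hdeg : ¬ p ∣ charDegree (θ : N → ℂ))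
    {u : ℕ} (hu : ¬ p ∣ u) (hdet : ∀ n : N, detChar (θ : N → ℂ) n ^ u = 1) :
    ∃ χ : IrrCharacter G, (∀ n : N, (χ : G → ℂ) n = (θ : N → ℂ) n) ∧
      ∃ w : ℕ, ¬ p ∣ w ∧ ∀ g, detChar (χ : G → ℂ) g ^ w = 1 := by
  classical
  have hpp : p.Prime := hp.out
  have hψc : IsCharacter G (ψ : G → ℂ) := IsIrrCharacter.isCharacter ψ.2
  obtain ⟨δ, hδ⟩ := exists_detHom hψc
  have hcard : Nat.card G ≠ 0 := Nat.card_pos.ne'
  obtain ⟨a, u₀, hu₀, hGu⟩ := Nat.exists_eq_pow_mul_and_not_dvd hcard p hpp.ne_one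
  set w := u * u₀ with hw
  have hpw : ¬ p ∣ w := by
    intro h
    rcases hpp.dvd_mul.mp h with h | h
    · exact hu h
    · exact hu₀ h
  set d := charDegree (θ : N → ℂ) with hd
  let β : G →* ℂˣ := δ ^ w
  have hβ : ∀ g, β g = δ g ^ w := fun g => rfl
  have hres : (fun n : N => (ψ : G → ℂ) (N.subtype n)) = (θ : N → ℂ) := funext fun n => hext n
  have hdetN : ∀ n : N, detChar (θ : N → ℂ) n = δ n := by
    intro n
    have h1 := congrFun (detChar_comp N.subtype hψc) n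
    rw [hres] at h1
    rw [h1, hδ]
    rfl
  have hβN : ∀ n ∈ N, β n = 1 := by
    intro n hn
    have h1 : δ n ^ u = 1 := by
      apply Units.ext
      rw [Units.val_pow_eq_pow_val, ← hdetN ⟨n, hn⟩, hdet, Units.val_one]
    rw [hβ, hw, pow_mul, h1, one_pow]
  have hβp : ∀ g, β g ^ p ^ a = 1 := by
    intro g
    rw [hβ, ← pow_mul, hw]
    have h1 : u * u₀ * p ^ a = Nat.card G * u := by
      rw [hGu]
      ring
    rw [h1, pow_mul, ← map_pow, pow_card_eq_one', map_one, one_pow]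
  -- Bezout
  have hcop : Nat.Coprime (d * w) (p ^ a) := by
    apply Nat.Coprime.pow_right
    rw [Nat.coprime_comm, Nat.Prime.coprime_iff_not_dvd hpp]
    intro h
    rcases hpp.dvd_mul.mp h with h | h
    · exact hdeg h
    · exact hpw h
  have hbez : (1 : ℤ) = ((d * w : ℕ) : ℤ) * Nat.gcdA (d * w) (p ^ a) + ((p ^ a : ℕ) : ℤ) * Nat.gcdB (d * w) (p ^ a) := by
    have h1 := Nat.gcd_eq_gcd_ab (d * w) (p ^ a)
    rw [hcop.gcd_eq_one] at h1
    exact_mod_cast h1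
  set e : ℤ := - Nat.gcdA (d * w) (p ^ a) with he
  let lam : G →* ℂˣ := (zpowGroupHom e).comp β
  have hlam : ∀ g, lam g = β g ^ e := fun g => rfl
  have hlamN : ∀ n ∈ N, lam n = 1 := by
    intro n hn
    rw [hlam, hβN n hn, one_zpow]
  have hkey : ∀ g, lam g ^ (d * w) * β g = 1 := by
    intro g
    rw [hlam, ← zpow_natCast, ← zpow_mul]
    have h1 : β g = β g ^ (1 : ℤ) := (zpow_one _).symm
    nth_rewrite 2 [h1]
    rw [← zpow_add]
    have h2 : e * ((d * w : ℕ) : ℤ) + 1 = ((p ^ a : ℕ) : ℤ) * Nat.gcdB (d * w) (p ^ a) := by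
      rw [he]
      linear_combination hbez
    rw [h2, zpow_mul, zpow_natCast, hβp, one_zpow]
  have hd1 : (ψ : G → ℂ) 1 = (d : ℂ) := by
    have h1 := hext 1
    simp only [Subgroup.coe_one] at h1
    rw [h1]
    exact apply_one_eq_charDegree (IsIrrCharacter.isCharacter θ.2)
  refine ⟨⟨fun g => ((lam g : ℂˣ) : ℂ) * (ψ : G → ℂ) g, isIrr_twist lam ψ.2⟩, ?_, w, hpw, ?_⟩
  · intro n
    show ((lam n : ℂˣ) : ℂ) * (ψ : G → ℂ) n = _
    rw [hlamN n n.2, Units.val_one, one_mul, hext]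
  · intro g
    show detChar (fun g => ((lam g : ℂˣ) : ℂ) * (ψ : G → ℂ) g) g ^ w = 1
    rw [detChar_twist lam hψc hd1, mul_pow, hδ, ← pow_mul]
    have h1 := congrArg (fun x : ℂˣ => (x : ℂ)) (hkey g)
    simp only [Units.val_mul, Units.val_pow_eq_pow_val, Units.val_one, hβ] at h1
    exact h1

/-- The linear character attached to the residues of the ratio. -/
theorem pr_residue (hM : IsPModular p M) (Q : Subgroup G) (hQN : Q ≤ N) {m : ℕ}
    (hm : Nat.card N = Nat.card Q * m) (hpm : ¬ p ∣ m) {a : ℕ}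
    [hL : (N ⊔ Subgroup.centralizer (Q : Set G)).Normal]
    (hidx : (N ⊔ Subgroup.centralizer (Q : Set G)).index = p ^ a)
    (hfr : ∀ g : G, ∃ g₀ ∈ Subgroup.normalizer (Q : Set G), g₀⁻¹ * g ∈ N)
    (ψ : IrrCharacter G) {θ : IrrCharacter N}
    (hext : ∀ n : N, (ψ : G → ℂ) n = (θ : N → ℂ) n) (hθ : θ ∈ principalBlock M N) :
    ∃ lam : G →* ℂˣ, (∀ n ∈ N, lam n = 1) ∧
      (∀ y ∈ Subgroup.centralizer (Q : Set G), MemLocalIdeal M ((ψ : G → ℂ) y / (ψ : G → ℂ) 1 - (lam y : ℂˣ))) ∧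
      ∃ m' : ℕ, ¬ p ∣ m' ∧ ∀ g, lam g ^ m' = 1 := by
  classical
  have := isPrime_of_modular hM
  have hpp : p.Prime := hp.out
  have h0 : (ψ : G → ℂ) 1 ≠ 0 := irr_apply_one_ne_zero ψ
  set Y := Subgroup.centralizer (Q : Set G) with hYdef
  have hY : ∀ y ∈ Y, ¬ p ∣ adD N y := by
    intro y hy
    refine adD_not_dvd' N Q hQN hm hpm y ?_
    intro q hq
    rw [Subgroup.mem_centralizer_iff]
    intro z hz
    rw [Set.mem_singleton_iff] at hz
    subst hz
    exact ((Subgroup.mem_centralizer_iff.mp hy) q hq).symm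
  set L := N ⊔ Y with hLdef
  have hNL : N ≤ L := le_sup_left
  have hYL : Y ≤ L := le_sup_right
  let N₁ : Subgroup L := N.subgroupOf L
  haveI hN₁ : N₁.Normal := Subgroup.normal_subgroupOf
  let Y₁ : Subgroup L := Y.subgroupOf L
  let c : L → ℂ := fun x => (ψ : G → ℂ) x / (ψ : G → ℂ) 1
  obtain ⟨lam₁, h1, h2, m', hm', hm'2⟩ := ad_exists_lift hM N₁ Y₁ (by
      intro g
      obtain ⟨n, hn, y, hy, hny⟩ := Subgroup.mem_sup_of_normal_left.mp g.2
      refine ⟨⟨y, hYL hy⟩, Subgroup.mem_subgroupOf.mpr hy, ?_⟩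
      rw [Subgroup.mem_subgroupOf]
      show y⁻¹ * (g : G) ∈ N
      rw [← hny]
      have h3 := hN.conj_mem n hn y⁻¹
      simpa [mul_assoc] using h3) c
    (fun y hy => adC_memLocalRing N hM ψ hext hθ (hY _ (Subgroup.mem_subgroupOf.mp hy)))
    (div_self h0)
    (fun y hy y' hy' => adC_mul N hM ψ hext hθ (hY _ (Subgroup.mem_subgroupOf.mp hy))
      (hY _ (Subgroup.mem_subgroupOf.mp hy')) (hY _ (Y.mul_mem (Subgroup.mem_subgroupOf.mp hy) (Subgroup.mem_subgroupOf.mp hy'))))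
    (fun y hy hyN => adC_of_mem N hM ψ hext hθ (hY _ (Subgroup.mem_subgroupOf.mp hy)) (Subgroup.mem_subgroupOf.mp hyN))
  -- the value on a coset
  have hcos : ∀ (x : L) (y : G) (hy : y ∈ L), y⁻¹ * (x : G) ∈ N → lam₁ x = lam₁ ⟨y, hy⟩ := by
    intro x y hy hyx
    have h3 : x = (⟨y, hy⟩ : L) * ⟨y⁻¹ * (x : G), hNL hyx⟩ := by
      apply Subtype.ext
      simp
    rw [h3, map_mul, h1 ⟨y⁻¹ * (x : G), hNL hyx⟩ (Subgroup.mem_subgroupOf.mpr hyx), mul_one]
  have hroot : ∀ y y' : L, (y : G) ∈ Y → (y' : G) ∈ Y → (ψ : G → ℂ) y = (ψ : G → ℂ) y' → lam₁ y = lam₁ y' := by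
    intro y y' hy hy' hψ
    apply Units.ext
    apply ad_root_unique hM hm' (by rw [← Units.val_pow_eq_pow_val, hm'2, Units.val_one])
      (by rw [← Units.val_pow_eq_pow_val, hm'2, Units.val_one])
    have h3 := h2 y (Subgroup.mem_subgroupOf.mpr hy)
    have h4 := h2 y' (Subgroup.mem_subgroupOf.mpr hy')
    have h5 := MemLocalIdeal.sub h4 h3
    convert h5 using 1
    simp only [c, hψ]
    ring
  have hinv : ∀ (g n : G) (hn : n ∈ L), lam₁ ⟨g * n * g⁻¹, hL.conj_mem n hn g⟩ = lam₁ ⟨n, hn⟩ := by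
    intro g n hn
    obtain ⟨g₀, hg₀, hgg⟩ := hfr g
    obtain ⟨n₁, hn₁, y, hy, rfl⟩ := Subgroup.mem_sup_of_normal_left.mp hn
    have hy' : g₀ * y * g₀⁻¹ ∈ Y := by
      rw [hYdef, Subgroup.mem_centralizer_iff]
      intro q hq
      have h3 : g₀⁻¹ * q * g₀ ∈ Q := by
        have h4 := (Subgroup.mem_normalizer_iff.mp hg₀ q)
        have h5 := (Subgroup.mem_normalizer_iff.mp (Subgroup.inv_mem _ hg₀) q).mp hq
        simpa using h5
      have h4 := (Subgroup.mem_centralizer_iff.mp hy) _ h3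
      have h5 : q = g₀ * (g₀⁻¹ * q * g₀) * g₀⁻¹ := by group
      calc q * (g₀ * y * g₀⁻¹) = g₀ * ((g₀⁻¹ * q * g₀) * y) * g₀⁻¹ := by group
        _ = g₀ * (y * (g₀⁻¹ * q * g₀)) * g₀⁻¹ := by rw [h4]
        _ = g₀ * y * g₀⁻¹ * q := by group
    have h3 : lam₁ ⟨g * (n₁ * y) * g⁻¹, hL.conj_mem _ hn g⟩ = lam₁ ⟨g₀ * y * g₀⁻¹, hYL hy'⟩ := by
      apply hcos
      show (g₀ * y * g₀⁻¹)⁻¹ * (g * (n₁ * y) * g⁻¹) ∈ N
      set t := g₀⁻¹ * g with ht
      have hg : g = g₀ * t := by rw [ht]; group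
      have h4 : y⁻¹ * (t * n₁) * y ∈ N := by
        have := hN.conj_mem (t * n₁) (N.mul_mem hgg hn₁) y⁻¹
        simpa using this
      have h5 := hN.conj_mem _ (N.mul_mem h4 (N.inv_mem hgg)) g₀
      convert h5 using 1
      rw [hg]
      group
    have h4 : lam₁ ⟨n₁ * y, hn⟩ = lam₁ ⟨y, hYL hy⟩ := by
      apply hcos
      show y⁻¹ * (n₁ * y) ∈ N
      have h5 := hN.conj_mem n₁ hn₁ y⁻¹
      simpa [mul_assoc] using h5
    rw [h3, h4]
    apply hroot _ _ hy' hy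
    have h5 := irr_isClassFunction ψ y g₀
    exact h5
  have hcop : Nat.Coprime L.index m' := by
    rw [hidx]
    apply Nat.Coprime.pow_left
    exact (Nat.Prime.coprime_iff_not_dvd hpp).mpr hm'
  obtain ⟨μ, hμ1, hμ2⟩ := exists_ext_linear L lam₁ hinv hm'2 hcop
  refine ⟨μ, ?_, ?_, m', hm', hμ2⟩
  · intro n hn
    have h3 := hμ1 ⟨n, hNL hn⟩
    have h4 := h1 ⟨n, hNL hn⟩ (Subgroup.mem_subgroupOf.mpr hn)
    rw [h4] at h3
    exact h3
  · intro y hy
    have h3 := h2 ⟨y, hYL hy⟩ (Subgroup.mem_subgroupOf.mpr hy)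
    have h4 := hμ1 ⟨y, hYL hy⟩
    rw [← h4] at h3
    exact h3

/-- A ring endomorphism of `ℂ` fixing the `p'`-roots of unity is trivial modulo the ideal on roots of
unity. -/
theorem pr_root_congr (hM : IsPModular p M) (σ : ℂ →+* ℂ) {A u₀ : ℕ}
    (hfix : ∀ ε : ℂ, ε ^ u₀ = 1 → σ ε = ε) {μ : ℂ} (hμ : μ ^ (p ^ A * u₀) = 1) (h0 : p ^ A * u₀ ≠ 0) :
    MemLocalIdeal M (σ μ - μ) := by
  have := isPrime_of_modular hM
  have hpp : p.Prime := hp.out
  have hμ0 : μ ≠ 0 := by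
    rintro rfl
    rw [zero_pow h0] at hμ
    exact zero_ne_one hμ
  have hμl : MemLocalRing M μ := ad_root_local h0 hμ
  have h1 : σ (μ ^ p ^ A) = μ ^ p ^ A := hfix _ (by rw [← pow_mul, hμ])
  rw [map_pow] at h1
  set b := σ μ * μ⁻¹ with hb
  have h2 : b ^ p ^ A = 1 := by
    rw [hb, mul_pow, h1, inv_pow]
    exact mul_inv_cancel₀ (pow_ne_zero _ hμ0)
  have hpA : p ^ A ≠ 0 := pow_ne_zero _ hpp.ne_zero
  have hbl : MemLocalRing M b := ad_root_local hpA h2
  have h3 := ad_eq_one_of_pow_prime_pow hM hbl A (by rw [h2, sub_self]; exact memLocalIdeal_zero)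
  have h4 := MemLocalIdeal.mul_left hμl h3
  convert h4 using 1
  rw [hb]
  field_simp

theorem pr_sigma_congr (hM : IsPModular p M) {χ : G → ℂ} (hχ : IsCharacter G χ) (σ : ℂ →+* ℂ) {A u₀ : ℕ}
    (hG : Nat.card G = p ^ A * u₀) (hfix : ∀ ε : ℂ, ε ^ u₀ = 1 → σ ε = ε) (g : G) :
    MemLocalIdeal M (σ (χ g) - χ g) := by
  have := isPrime_of_modular hM
  obtain ⟨n, ρ, rfl⟩ := hχ
  obtain ⟨μ, h1, h2⟩ := character_pow_eq_sum_eigen ρ g
  have h3 := h2 1
  simp only [pow_one] at h3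
  rw [h3, map_sum, ← Finset.sum_sub_distrib]
  refine MemLocalIdeal.sum _ fun i _ => ?_
  refine pr_root_congr hM σ hfix ?_ (hG ▸ Nat.card_pos.ne')
  rw [← hG]
  obtain ⟨c, hc⟩ := orderOf_dvd_natCard g
  rw [hc, pow_mul, h1, one_pow]

/-- **Rationality** of the canonical extension. -/
theorem pr_rational (hM : IsPModular p M) (χ₀ : IrrCharacter G) {θ : IrrCharacter N}
    (hres : ∀ n : N, (χ₀ : G → ℂ) n = (θ : N → ℂ) n) {d : ℕ} (hd : (χ₀ : G → ℂ) 1 = d) (hpd : ¬ p ∣ d)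
    {w : ℕ} (hw : ¬ p ∣ w) (hdetw : ∀ g, detChar (χ₀ : G → ℂ) g ^ w = 1)
    {m' : ℕ} (hm' : ¬ p ∣ m')
    (hrat : ∀ n : N, (θ : N → ℂ) n ∈ IntermediateField.adjoin ℚ ({Complex.exp (2 * Real.pi * Complex.I / m')} : Set ℂ))
    (Y : Subgroup G) (hratio : ∀ y ∈ Y, MemLocalIdeal M ((χ₀ : G → ℂ) y / (χ₀ : G → ℂ) 1 - 1))
    (hcovp : ∀ g : G, ∃ a : ℕ, ∃ y ∈ Y, y⁻¹ * g ^ (p ^ a) ∈ N) :
    ∃ n : ℕ, ¬ p ∣ n ∧ ∀ g : G, (χ₀ : G → ℂ) g ∈
      IntermediateField.adjoin ℚ ({Complex.exp (2 * Real.pi * Complex.I / n)} : Set ℂ) := by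
  classical
  have hpr := isPrime_of_modular hM
  have hpp : p.Prime := hp.out
  have hcard : Nat.card G ≠ 0 := Nat.card_pos.ne'
  obtain ⟨A, u₀, hu₀, hGu⟩ := Nat.exists_eq_pow_mul_and_not_dvd hcard p hpp.ne_one
  set n₂ := u₀ * w * m' with hn₂
  have hpn₂ : ¬ p ∣ n₂ := by
    intro h
    rcases hpp.dvd_mul.mp h with h | h
    · rcases hpp.dvd_mul.mp h with h | h
      · exact hu₀ h
      · exact hw h
    · exact hm' h
  have hn₂0 : n₂ ≠ 0 := by
    intro h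
    rw [h] at hpn₂
    exact hpn₂ (dvd_zero p)
  refine ⟨n₂, hpn₂, fun g => ?_⟩
  set η := Complex.exp (2 * Real.pi * Complex.I / n₂) with hη
  have hη₂ : η ^ n₂ = 1 := pr_exp_pow n₂ hn₂0
  have hprim : IsPrimitiveRoot η n₂ := Complex.isPrimitiveRoot_exp n₂ hn₂0
  haveI : NeZero n₂ := ⟨hn₂0⟩
  set n₁ := Nat.card G * n₂ with hn₁
  haveI : NeZero n₁ := ⟨mul_ne_zero hcard hn₂0⟩
  haveI : NeZero (Nat.card G) := ⟨hcard⟩
  have hη₁ : η ^ n₁ = 1 := by
    rw [hn₁, mul_comm, pow_mul, hη₂, one_pow]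
  have hc : IsCharacter G (χ₀ : G → ℂ) := IsIrrCharacter.isCharacter χ₀.2
  have hmem : (χ₀ : G → ℂ) g ∈ cycField n₁ := by
    have h1 := character_mem_cycField hc g
    have h2 : cycField (Nat.card G) ≤ cycField n₁ := by
      apply IntermediateField.adjoin_simple_le_iff.mpr
      apply mem_cycField_of_pow_eq_one
      have h3 := (isPrimitiveRoot_zetaC (Nat.card G)).pow_eq_one
      rw [hn₁, pow_mul, h3, one_pow]
    exact h2 h1
  refine mem_adjoin_of_forall_sigma n₁ hη₁ hmem ?_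
  intro σ k hk hσ hση
  have hfix : ∀ ε : ℂ, ε ^ n₂ = 1 → σ ε = ε := by
    intro ε hε
    obtain ⟨j, -, rfl⟩ := hprim.eq_pow_of_pow_eq_one hε
    rw [map_pow, hση]
  have hσG : ∀ ε : ℂ, ε ^ Nat.card G = 1 → σ ε = ε ^ k := by
    intro ε hε
    apply hσ
    rw [hn₁, pow_mul, hε, one_pow]
  have hkG : k.Coprime (Nat.card G) := hk.coprime_dvd_right (Dvd.intro _ rfl)
  have hpw : (fun x => σ ((χ₀ : G → ℂ) x)) = fun x => (χ₀ : G → ℂ) (x ^ k) :=
    funext fun x => sigma_character hc σ k hσG x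
  have hχ' : IsIrrCharacter G (fun x => σ ((χ₀ : G → ℂ) x)) := by
    rw [hpw]
    exact isIrrCharacter_pow χ₀.2 hkG
  have hσζ : σ (Complex.exp (2 * Real.pi * Complex.I / m')) = Complex.exp (2 * Real.pi * Complex.I / m') := by
    apply hfix
    have hm0 : m' ≠ 0 := by
      rintro rfl
      exact hm' (dvd_zero p)
    have h1 : n₂ = m' * (u₀ * w) := by rw [hn₂]; ring
    rw [h1, pow_mul, pr_exp_pow m' hm0, one_pow]
  have hres1 : Cfsg.Agent.Lib.Char.resFun N (fun x => σ ((χ₀ : G → ℂ) x)) = Cfsg.Agent.Lib.Char.resFun N (χ₀ : G → ℂ) := by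
    funext n
    show σ ((χ₀ : G → ℂ) n) = (χ₀ : G → ℂ) n
    rw [hres]
    exact pr_sigma_fix σ hσζ (hrat n)
  have hθirr : IsIrrCharacter N (Cfsg.Agent.Lib.Char.resFun N (χ₀ : G → ℂ)) := by
    have : Cfsg.Agent.Lib.Char.resFun N (χ₀ : G → ℂ) = (θ : N → ℂ) := funext hres
    rw [this]
    exact θ.2
  obtain ⟨ν, hν⟩ := exists_lam_of_res_eq N χ₀.2 hχ' hres1 hθirr
  let νG : G →* ℂˣ := ν.comp (QuotientGroup.mk' N)
  have hνG : ∀ x, ((νG x : ℂˣ) : ℂ) = ((ν (x : G ⧸ N) : ℂˣ) : ℂ) := fun x => rfl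
  have hν' : ∀ x, σ ((χ₀ : G → ℂ) x) = ((νG x : ℂˣ) : ℂ) * (χ₀ : G → ℂ) x := fun x => congrFun hν x
  obtain ⟨δ, hδ⟩ := exists_detHom hc
  have hνd : ∀ x, νG x ^ d = 1 := by
    intro x
    have h1 : detChar (fun x => σ ((χ₀ : G → ℂ) x)) x = detChar (χ₀ : G → ℂ) x := by
      rw [detChar_sigma σ hc x]
      apply hfix
      have h1 : n₂ = w * (u₀ * m') := by rw [hn₂]; ring
      rw [h1, pow_mul, hdetw, one_pow]
    have h2 : (fun x => σ ((χ₀ : G → ℂ) x)) = fun x => ((νG x : ℂˣ) : ℂ) * (χ₀ : G → ℂ) x := funext hν'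
    rw [h2, detChar_twist νG hc hd x, hδ] at h1
    apply Units.ext
    rw [Units.val_pow_eq_pow_val, Units.val_one]
    have hne : ((δ x : ℂˣ) : ℂ) ≠ 0 := Units.ne_zero _
    exact mul_right_cancel₀ hne (by rw [h1, one_mul])
  have hdne : d ≠ 0 := by
    rintro rfl
    exact hpd (dvd_zero p)
  have hνpow : ∀ x, ((νG x : ℂˣ) : ℂ) ^ d = 1 := by
    intro x
    rw [← Units.val_pow_eq_pow_val, hνd, Units.val_one]
  have hνY : ∀ y ∈ Y, νG y = 1 := by
    intro y hy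
    apply Units.ext
    rw [Units.val_one]
    apply ad_root_unique hM hpd (hνpow y) (one_pow d)
    have hI := pr_sigma_congr hM hc σ hGu (fun ε hε => hfix ε (by
      rw [hn₂, mul_assoc, pow_mul, hε, one_pow])) y
    rw [hν'] at hI
    have hI' : MemLocalIdeal M ((((νG y : ℂˣ) : ℂ) - 1) * (χ₀ : G → ℂ) y) := by
      convert hI using 1
      ring
    have hl1 : MemLocalRing M (((νG y : ℂˣ) : ℂ) - 1) :=
      MemLocalRing.sub (ad_root_local hdne (hνpow y)) memLocalRing_one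
    have hl2 : MemLocalRing M ((χ₀ : G → ℂ) y) := memLocalRing_of_isIntegral (irr_isIntegral χ₀ y)
    rcases MemLocalIdeal.of_mul hl1 hl2 hI' with h | h
    · exact h
    · exfalso
      have h1 := hratio y hy
      have h3 := MemLocalIdeal.mul_left (inv_natCast_memLocalRing hM hpd) h
      have h4 := MemLocalIdeal.sub h3 h1
      have h5 : ((d : ℂ))⁻¹ * (χ₀ : G → ℂ) y - ((χ₀ : G → ℂ) y / (χ₀ : G → ℂ) 1 - 1) = 1 := by
        rw [hd]
        field_simp
        ring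
      rw [h5] at h4
      exact not_memLocalIdeal_one h4
  have hνN : ∀ n ∈ N, νG n = 1 := by
    intro n hn
    show ν ((n : G) : G ⧸ N) = 1
    rw [(QuotientGroup.eq_one_iff n).mpr hn, map_one]
  have hνall : ∀ x, νG x = 1 := by
    intro x
    obtain ⟨a, y, hy, hyx⟩ := hcovp x
    have h1 : νG x ^ p ^ a = 1 := by
      rw [← map_pow]
      have h2 : x ^ p ^ a = y * (y⁻¹ * x ^ p ^ a) := by group
      rw [h2, map_mul, hνY y hy, hνN _ hyx, one_mul]
    have h2 := pow_gcd_eq_one.mpr ⟨h1, hνd x⟩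
    have h3 : Nat.gcd (p ^ a) d = 1 := by
      rw [← Nat.coprime_iff_gcd_eq_one]
      apply Nat.Coprime.pow_left
      exact (Nat.Prime.coprime_iff_not_dvd hpp).mpr hpd
    rwa [h3, pow_one] at h2
  rw [hν', hνall, Units.val_one, one_mul]

/-- **The theorem**: a `G`-invariant `p`-rational character of `p'`-degree in the principal block of `N`
has a `p`-rational extension in the principal block of `G` when `[G : N C_G(Q)]` is a power of `p`. -/
theorem pr_main (hp2 : p ≠ 2) (hM : IsPModular p M) (θ : IrrCharacter N) (hinv : ∀ g : G, conjIrr N g θ = θ)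
    (hdeg : ¬ p ∣ charDegree (θ : N → ℂ)) {m' : ℕ} (hm' : ¬ p ∣ m')
    (hrat : ∀ n : N, (θ : N → ℂ) n ∈ IntermediateField.adjoin ℚ ({Complex.exp (2 * Real.pi * Complex.I / m')} : Set ℂ))
    (hB : θ ∈ principalBlock M N) (Q : Subgroup G) (hQN : Q ≤ N) {m : ℕ}
    (hm : Nat.card N = Nat.card Q * m) (hpm : ¬ p ∣ m)
    (hfr : ∀ g : G, ∃ g₀ ∈ Subgroup.normalizer (Q : Set G), g₀⁻¹ * g ∈ N) {a : ℕ}
    (hidx : (N ⊔ Subgroup.centralizer (Q : Set G)).index = p ^ a) :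
    ∃ χ : IrrCharacter G, χ ∈ principalBlock M G ∧
      (∃ n : ℕ, ¬ p ∣ n ∧ ∀ g : G, (χ : G → ℂ) g ∈
        IntermediateField.adjoin ℚ ({Complex.exp (2 * Real.pi * Complex.I / n)} : Set ℂ)) ∧
      ∀ n : N, (χ : G → ℂ) n = (θ : N → ℂ) n := by
  classical
  have hpr := isPrime_of_modular hM
  have hpp : p.Prime := hp.out
  set Y := Subgroup.centralizer (Q : Set G) with hYdef
  have hnormY : ∀ g₀ ∈ Subgroup.normalizer (Q : Set G), ∀ y ∈ Y, g₀ * y * g₀⁻¹ ∈ Y := by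
    intro g₀ hg₀ y hy
    rw [hYdef, Subgroup.mem_centralizer_iff]
    intro q hq
    have h3 : g₀⁻¹ * q * g₀ ∈ Q := by
      have h5 := (Subgroup.mem_normalizer_iff.mp (Subgroup.inv_mem _ hg₀) q).mp hq
      simpa using h5
    have h4 := (Subgroup.mem_centralizer_iff.mp hy) _ h3
    calc q * (g₀ * y * g₀⁻¹) = g₀ * ((g₀⁻¹ * q * g₀) * y) * g₀⁻¹ := by group
      _ = g₀ * (y * (g₀⁻¹ * q * g₀)) * g₀⁻¹ := by rw [h4]
      _ = g₀ * y * g₀⁻¹ * q := by group
  haveI hL : (N ⊔ Y).Normal := by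
    constructor
    intro x hx g
    obtain ⟨n, hn, y, hy, rfl⟩ := Subgroup.mem_sup_of_normal_left.mp hx
    obtain ⟨g₀, hg₀, hgg⟩ := hfr g
    set t := g₀⁻¹ * g with ht
    have hg : g = g₀ * t := by rw [ht]; group
    have h1 : t * n * (y * t⁻¹ * y⁻¹) ∈ N :=
      N.mul_mem (N.mul_mem hgg hn) (by simpa using hN.conj_mem _ (N.inv_mem hgg) y)
    have h2 := hN.conj_mem _ h1 g₀
    have h3 := hnormY g₀ hg₀ y hy
    have h4 : g * (n * y) * g⁻¹ = (g₀ * (t * n * (y * t⁻¹ * y⁻¹)) * g₀⁻¹) * (g₀ * y * g₀⁻¹) := by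
      rw [hg]
      group
    rw [h4]
    exact Subgroup.mul_mem_sup h2 h3
  have hθc : IsCharacter N (θ : N → ℂ) := IsIrrCharacter.isCharacter θ.2
  obtain ⟨u, hu, hdet⟩ := pr_det_of_rational hp2 hθc hm' hrat
  obtain ⟨ψ, hψ⟩ := pr_exists_ext N hM Q hQN hm hpm hidx θ hinv hdeg hu hdet hB
  obtain ⟨χ₁, hχ₁, w, hw, hdetw⟩ := pr_det_normalize N ψ hψ hdeg hu hdet
  obtain ⟨lam, hlam1, hlam2, m₁, hm₁, hm₁2⟩ := pr_residue N hM Q hQN hm hpm hidx hfr χ₁ hχ₁ hB
  have hY : ∀ y ∈ Y, ¬ p ∣ adD N y := by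
    intro y hy
    refine adD_not_dvd' N Q hQN hm hpm y ?_
    intro q hq
    rw [Subgroup.mem_centralizer_iff]
    intro z hz
    rw [Set.mem_singleton_iff] at hz
    subst hz
    exact ((Subgroup.mem_centralizer_iff.mp hy) q hq).symm
  set χ₀ := adTwist lam χ₁ with hχ₀
  have hres : ∀ n : N, (χ₀ : G → ℂ) n = (θ : N → ℂ) n := by
    intro n
    rw [hχ₀, adTwist_apply, ← hχ₁, MonoidHom.inv_apply, hlam1 n n.2]
    simp
  have hratio : ∀ y ∈ Y, MemLocalIdeal M ((χ₀ : G → ℂ) y / (χ₀ : G → ℂ) 1 - 1) := by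
    intro y hy
    have h0 : (χ₁ : G → ℂ) 1 ≠ 0 := irr_apply_one_ne_zero χ₁
    rw [hχ₀, adTwist_apply, adTwist_apply, map_one]
    simp only [Units.val_one, one_mul]
    have h3 : MemLocalRing M ((lam⁻¹ y : ℂˣ) : ℂ) := by
      apply ad_root_local (m := Nat.card G) Nat.card_pos.ne'
      rw [← Units.val_pow_eq_pow_val, ← map_pow, pow_card_eq_one', map_one, Units.val_one]
    have h4 := MemLocalIdeal.mul_left h3 (hlam2 y hy)
    convert h4 using 1
    have h5 : ((lam⁻¹ y : ℂˣ) : ℂ) * ((lam y : ℂˣ) : ℂ) = 1 := by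
      rw [← Units.val_mul, MonoidHom.inv_apply, inv_mul_cancel, Units.val_one]
    rw [mul_sub, h5]
    ring
  have hd1 : (χ₁ : G → ℂ) 1 = (charDegree (θ : N → ℂ) : ℂ) := by
    have h1 := hχ₁ 1
    simp only [Subgroup.coe_one] at h1
    rw [h1]
    exact apply_one_eq_charDegree hθc
  have hd0 : (χ₀ : G → ℂ) 1 = (charDegree (θ : N → ℂ) : ℂ) := by
    have h1 := hres 1
    simp only [Subgroup.coe_one] at h1
    rw [h1]
    exact apply_one_eq_charDegree hθc
  have hdet₀ : ∀ g, detChar (χ₀ : G → ℂ) g ^ (w * m₁) = 1 := by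
    intro g
    have h1 : detChar (χ₀ : G → ℂ) g =
        ((lam⁻¹ g : ℂˣ) : ℂ) ^ charDegree (θ : N → ℂ) * detChar (χ₁ : G → ℂ) g :=
      detChar_twist lam⁻¹ (IsIrrCharacter.isCharacter χ₁.2) hd1 g
    rw [h1, mul_pow]
    have h2 : detChar (χ₁ : G → ℂ) g ^ (w * m₁) = 1 := by
      rw [pow_mul, hdetw, one_pow]
    have h3 : (((lam⁻¹ g : ℂˣ) : ℂ) ^ charDegree (θ : N → ℂ)) ^ (w * m₁) = 1 := by
      have h4 : (lam⁻¹ g) ^ m₁ = 1 := by
        rw [MonoidHom.inv_apply, inv_pow, hm₁2, inv_one]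
      rw [← pow_mul, ← Units.val_pow_eq_pow_val]
      have h5 : charDegree (θ : N → ℂ) * (w * m₁) = (charDegree (θ : N → ℂ) * w) * m₁ := by ring
      rw [h5, mul_comm _ m₁, pow_mul, h4, one_pow, Units.val_one]
    rw [h2, h3, one_mul]
  have hpwm : ¬ p ∣ w * m₁ := by
    intro h
    rcases hpp.dvd_mul.mp h with h | h
    · exact hw h
    · exact hm₁ h
  refine ⟨χ₀, ?_, pr_rational N hM χ₀ hres hd0 hdeg hpwm hdet₀ hm' hrat Y hratio ?_, hres⟩
  · apply ad_ext_principal N hM χ₀ hres hB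
    intro g hg
    have h1 : g ∈ N ⊔ Y := by
      refine pr_mem_of_coprime (p := p) hidx (pow_orderOf_eq_one g) ?_
      rw [Nat.coprime_comm, Nat.Prime.coprime_iff_not_dvd hpp]
      exact hg
    obtain ⟨n, hn, y, hy, rfl⟩ := Subgroup.mem_sup_of_normal_left.mp h1
    refine ⟨y, ?_, hY y hy, hratio y hy⟩
    rw [QuotientGroup.eq]
    have h3 := hN.conj_mem n hn y⁻¹
    simpa [mul_assoc] using h3
  · intro g
    refine ⟨a, ?_⟩
    have h1 : g ^ p ^ a ∈ N ⊔ Y := by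
      rw [← hidx]
      exact Subgroup.pow_index_mem _ g
    obtain ⟨n, hn, y, hy, hny⟩ := Subgroup.mem_sup_of_normal_left.mp h1
    refine ⟨y, hy, ?_⟩
    rw [← hny]
    have h3 := hN.conj_mem n hn y⁻¹
    simpa [mul_assoc] using h3

end Ext

end Cfsg.Agent.Lib.Blocks
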