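import Cfsg.Agent.Lib.H8Group.BlockBasics
import Cfsg.Agent.Lib.H8Group.SMat
import Cfsg.Agent.Lib.Char.DefectZero
import Cfsg.Agent.Lib.Char.Galois
import Cfsg.Agent.Lib.Blocks.DefectOneTwo
import Cfsg.Agent.Lib.Blocks.KleinFour

/-!
# Degrees in the principal block: elementary consequences of block orthogonality.
-/

set_option autoImplicit false
set_option linter.unusedSectionVars false
set_option linter.style.haveILetI false

namespace Cfsg.Agent.Lib.Blocks

open Cfsg Cfsg.Agent.Lib.Char Cfsg.Agent.Lib.H8Group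
open scoped ComplexConjugate

variable {G : Type*} [Group G] [Fintype G] {p : ℕ} [hp : Fact p.Prime] {M : Ideal AlgInt}

/-- A prime dividing every nontrivial degree of the principal block is impossible when the block
has a singular element. -/
theorem exists_principal_not_dvd (hM : IsPModular p M) {r : ℕ} (hr : r.Prime) {y : G}
    (hy : p ∣ orderOf y) :
    ∃ χ ∈ principalBlock M G, ((χ : G → ℂ) ≠ fun _ => 1) ∧ ¬ r ∣ charDegree (χ : G → ℂ) := by
  classical
  have := isPrime_of_modular hM
  by_contra hcon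
  push Not at hcon
  have h0 := weak_block_orthogonality hM (isPBlock_principalBlock M G) (x := (1 : G)) (y := y)
    (by simp [(Fact.out : p.Prime).one_lt.ne', orderOf_one]) hy
  rw [finsum_mem_eq_sum_indic] at h0
  have hone : oneIrr G ∈ principalBlock M G := one_mem_principalBlock
  rw [← Finset.add_sum_erase _ _ (Finset.mem_univ (oneIrr G))] at h0
  have hterm : ∀ χ ∈ Finset.univ.erase (oneIrr G), ∃ z : ℂ, IsIntegral ℤ z ∧
      indic (principalBlock M G) χ * ((χ : G → ℂ) 1 * conj ((χ : G → ℂ) y)) = (r : ℂ) * z := by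
    intro χ hχ
    by_cases hχB : χ ∈ principalBlock M G
    · have hne : (χ : G → ℂ) ≠ fun _ => 1 := by
        intro h
        apply (Finset.mem_erase.mp hχ).1
        exact Subtype.ext h
      obtain ⟨d, hd⟩ := hcon χ hχB hne
      refine ⟨(d : ℂ) * conj ((χ : G → ℂ) y), ?_, ?_⟩
      · apply IsIntegral.mul (isIntegral_natCast _)
        have : conj ((χ : G → ℂ) y) = (χ : G → ℂ) y⁻¹ := (irr_apply_inv χ y).symm
        rw [this]
        exact irr_isIntegral χ _
      · rw [indic_apply_of_mem hχB, apply_one_eq_charDegree (irr_isCharacter χ), hd]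
        push_cast
        ring
    · refine ⟨0, isIntegral_zero, ?_⟩
      rw [indic_apply_of_notMem hχB]
      simp
  choose! z hz1 hz2 using hterm
  rw [Finset.sum_congr rfl hz2, ← Finset.mul_sum] at h0
  have hint : IsIntegral ℤ (∑ χ ∈ Finset.univ.erase (oneIrr G), z χ) :=
    IsIntegral.sum _ hz1
  have hone' : indic (principalBlock M G) (oneIrr G) *
      (((oneIrr G : IrrCharacter G) : G → ℂ) 1 * conj (((oneIrr G : IrrCharacter G) : G → ℂ) y)) = 1 := by
    rw [indic_apply_of_mem hone]
    simp [oneIrr]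
  rw [hone'] at h0
  have hr0 : (r : ℂ) ≠ 0 := by exact_mod_cast hr.ne_zero
  have hval : (∑ χ ∈ Finset.univ.erase (oneIrr G), z χ) = -((r : ℂ)⁻¹) := by
    field_simp
    linear_combination h0
  obtain ⟨m, hm⟩ := int_of_isIntegral_of_rat hint ⟨-((r : ℚ)⁻¹), by rw [hval]; push_cast; ring⟩
  rw [hval] at hm
  have h1 : (r : ℂ) * (-(m : ℂ)) = 1 := by
    have : (r : ℂ)⁻¹ = -(m : ℂ) := by rw [← hm]; ring
    rw [← this]; field_simp
  have h2 : (r : ℤ) * (-m) = 1 := by exact_mod_cast h1
  have h3 : (r : ℤ) ∣ 1 := ⟨-m, h2.symm⟩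
  have h4 : r ∣ 1 := by exact_mod_cast h3
  exact hr.not_dvd_one h4

/-- With Sylow order at most `p²` the principal block has only `p'`-degrees. -/
theorem not_dvd_of_principal_of_val_le_two (hM : IsPModular p M)
    (ha : (Nat.card G).factorization p ≤ 2) {χ : IrrCharacter G} (hχ : χ ∈ principalBlock M G) :
    ¬ p ∣ charDegree (χ : G → ℂ) := by
  classical
  have := isPrime_of_modular hM
  intro hdvd
  have h0 : sInf ((fun χ : IrrCharacter G => (charDegree (χ : G → ℂ)).factorization p) ''
      principalBlock M G) = 0 := by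
    apply Nat.sInf_eq_zero.mpr
    left
    refine ⟨oneIrr G, one_mem_principalBlock, ?_⟩
    simp [charDegree, oneIrr]
  have hdef : blockDefect p (principalBlock M G) = (Nat.card G).factorization p := by
    rw [blockDefect, h0, Nat.sub_zero]
  have hht : blockHeight p (principalBlock M G) (χ : G → ℂ) = (charDegree (χ : G → ℂ)).factorization p := by
    rw [blockHeight, h0, Nat.sub_zero]
  have hpos : 1 ≤ (charDegree (χ : G → ℂ)).factorization p := by
    have hne : charDegree (χ : G → ℂ) ≠ 0 := (charDegree_pos χ.2).ne'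
    exact (Fact.out : p.Prime).factorization_pos_of_dvd hne hdvd
  have h := height_add_two_le hM (isPBlock_principalBlock M G) hχ (by rw [hht]; exact hpos)
  rw [hht, hdef] at h
  omega

open Classical in
/-- For `|G|` even, the sum of the squares of the degrees in the principal 2-block is even. -/
theorem even_sum_sq_principal {M : Ideal AlgInt} (hM : IsPModular 2 M) (hev : Even (Nat.card G)) :
    haveI : Fact (Nat.Prime 2) := ⟨Nat.prime_two⟩
    Even (∑ χ ∈ Finset.univ.filter (fun χ : IrrCharacter G => χ ∈ principalBlock M G), charDegree (χ : G → ℂ) ^ 2) := by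
  haveI : Fact (Nat.Prime 2) := ⟨Nat.prime_two⟩
  have := isPrime_of_modular hM
  obtain ⟨t, ht⟩ := exists_prime_orderOf_dvd_card (G := G) 2 (by
    rw [← Nat.card_eq_fintype_card]; exact hev.two_dvd)
  have h0 := weak_block_orthogonality hM (isPBlock_principalBlock M G) (x := (1 : G)) (y := t)
    (by simp) (by rw [ht])
  rw [finsum_mem_eq_sum_indic] at h0
  have hA : ∀ x ∈ Subgroup.zpowers t, x ≠ 1 → IsConj x t := by
    intro x hx hx1
    have ht2 : t * t = 1 := by rw [← pow_two, ← ht, pow_orderOf_eq_one]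
    rcases Cfsg.Agent.Lib.Blocks.mem_zpowers_of_sq ht2 hx with h | h
    · exact absurd h hx1
    · rw [h]
  have hcard : Nat.card (Subgroup.zpowers t) = 2 := by rw [Nat.card_zpowers, ht]
  have hn : ∀ χ : IrrCharacter G, ∃ n : ℕ, (χ : G → ℂ) t = 2 * n - (χ : G → ℂ) 1 := by
    intro χ
    obtain ⟨n, hn⟩ := exists_nat_of_subgroup_conj χ (Subgroup.zpowers t) hA
    rw [hcard] at hn
    refine ⟨n, ?_⟩
    push_cast at hn
    linear_combination hn
  choose n hn using hn
  have hconj : ∀ χ : IrrCharacter G, conj ((χ : G → ℂ) t) = 2 * n χ - charDegree (χ : G → ℂ) := by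
    intro χ
    have h2 : conj (2 : ℂ) = 2 := Complex.conj_ofNat 2
    rw [hn χ, apply_one_eq_charDegree (irr_isCharacter χ)]
    simp [h2]
  have h1 : (∑ χ : IrrCharacter G, indic (principalBlock M G) χ *
      (((charDegree (χ : G → ℂ) : ℕ) : ℂ) * (2 * n χ - charDegree (χ : G → ℂ)))) = 0 := by
    rw [← h0]
    refine Finset.sum_congr rfl fun χ _ => ?_
    rw [hconj χ, apply_one_eq_charDegree (irr_isCharacter χ)]
  have h2 : ((∑ χ ∈ Finset.univ.filter (fun χ : IrrCharacter G => χ ∈ principalBlock M G),
      charDegree (χ : G → ℂ) ^ 2 : ℕ) : ℂ) =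
      ((2 * ∑ χ ∈ Finset.univ.filter (fun χ : IrrCharacter G => χ ∈ principalBlock M G),
      (charDegree (χ : G → ℂ) * n χ) : ℕ) : ℂ) := by
    push_cast
    rw [Finset.sum_filter, Finset.mul_sum, Finset.sum_filter, ← sub_eq_zero, ← Finset.sum_sub_distrib,
      ← neg_eq_zero, ← h1, ← Finset.sum_neg_distrib]
    refine Finset.sum_congr rfl fun χ _ => ?_
    by_cases hχ : χ ∈ principalBlock M G
    · simp only [if_pos hχ, indic_apply_of_mem hχ]
      ring
    · simp only [if_neg hχ, indic_apply_of_notMem hχ]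
      ring
  have h3 := Nat.cast_injective (R := ℂ) h2
  rw [h3]
  exact even_two_mul _

/-- For `|G|` even, the number of odd-degree characters in the principal 2-block is even. -/
theorem even_card_odd_degree_principal {M : Ideal AlgInt} (hM : IsPModular 2 M) (hev : Even (Nat.card G)) :
    Even (Nat.card {χ : IrrCharacter G // χ ∈ principalBlock M G ∧ Odd (charDegree (χ : G → ℂ))}) := by
  classical
  have h1 := even_sum_sq_principal hM hev
  rw [Nat.card_eq_fintype_card, Fintype.card_subtype]
  have h2 : (Finset.univ.filter (fun χ : IrrCharacter G => χ ∈ principalBlock M G ∧ Odd (charDegree (χ : G → ℂ)))) =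
      (Finset.univ.filter (fun χ : IrrCharacter G => χ ∈ principalBlock M G)).filter
        (fun χ : IrrCharacter G => Odd (charDegree (χ : G → ℂ))) := by
    rw [Finset.filter_filter]
  rw [h2]
  have h3 := Finset.even_sum_iff_even_card_odd (s := Finset.univ.filter (fun χ : IrrCharacter G => χ ∈ principalBlock M G))
    (f := fun χ : IrrCharacter G => charDegree (χ : G → ℂ) ^ 2)
  have h4 := h3.mp h1
  convert h4 using 3
  rw [← Nat.not_even_iff_odd, ← Nat.not_even_iff_odd, Nat.even_pow' two_ne_zero]

end Cfsg.Agent.Lib.Blocks
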