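import Cfsg.Agent.Lib.Blocks.PrincipalRank

/-!
# The principal block when a Sylow subgroup has prime order
-/

set_option autoImplicit false
set_option linter.unusedSectionVars false
set_option linter.unusedVariables false

namespace Cfsg.Agent.Lib.Blocks

open Cfsg Cfsg.Agent.Lib.Char Finset
open scoped ComplexConjugate

universe u

theorem card_le_of_span {ι R T : Type*} [Fintype ι] (f : ι → R → ℂ) (hf : LinearIndependent ℂ f)
    (X : Finset T) (v : T → R → ℂ) (h : ∀ i, ∃ c : T → ℂ, ∀ r, f i r = ∑ χ ∈ X, c χ * v χ r) :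
    Fintype.card ι ≤ X.card := by
  classical
  choose c hc using h
  let L : (X → ℂ) →ₗ[ℂ] (R → ℂ) :=
    { toFun := fun w r => ∑ x : X, w x * v x r
      map_add' := by
        intro a b
        funext r
        simp [add_mul, Finset.sum_add_distrib]
      map_smul' := by
        intro a b
        funext r
        simp [Finset.mul_sum, mul_assoc] }
  let c' : ι → (X → ℂ) := fun i x => c i x
  have hfc : f = L ∘ c' := by
    funext i r
    show f i r = ∑ x : X, c i x * v x r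
    rw [hc, ← Finset.sum_coe_sort X]
  have h2 : LinearIndependent ℂ c' := LinearIndependent.of_comp L (by rw [← hfc]; exact hf)
  have h3 := h2.fintype_card_le_finrank
  simpa using h3

section Common

variable {G : Type u} [Group G] [Fintype G] {p : ℕ} [hp : Fact p.Prime] {M : Ideal AlgInt}

theorem frobSetup_of_card (hM : IsPModular p M) (P : Sylow p G) (hP : Nat.card P = p) :
    FrobSetup p M (P : Subgroup G) := by
  classical
  letI : Fintype (P : Subgroup G) := Fintype.ofFinite _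
  have hcard : Fintype.card (P : Subgroup G) = p := by
    rw [← Nat.card_eq_fintype_card]
    exact hP
  have hgen : ∀ y ∈ (P : Subgroup G), y ≠ 1 → ∀ t ∈ (P : Subgroup G), ∃ i : ℤ, y ^ i = t := by
    intro y hy hy1 t ht
    have h1 : (⟨t, ht⟩ : (P : Subgroup G)) ∈ Subgroup.zpowers (⟨y, hy⟩ : (P : Subgroup G)) :=
      mem_zpowers_of_prime_card hP (fun e => hy1 (congrArg Subtype.val e))
    obtain ⟨i, hi⟩ := Subgroup.mem_zpowers_iff.mp h1
    exact ⟨i, by simpa using congrArg Subtype.val hi⟩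
  refine ⟨hM, ⟨P, rfl⟩, ?_, ?_⟩
  · intro a ha b hb
    by_cases h1 : a = 1
    · simp [h1]
    obtain ⟨i, rfl⟩ := hgen a ha h1 b hb
    exact ((Commute.refl a).zpow_right i).eq
  · intro y hy hy1
    ext x
    constructor
    · rintro ⟨hx, -⟩
      rw [Subgroup.mem_centralizer_iff]
      intro t ht
      obtain ⟨i, rfl⟩ := hgen y hy hy1 t ht
      have h2 : y * x = x * y := Subgroup.mem_centralizer_iff.mp hx y (by simp)
      have h3 : Commute y x := h2
      exact (h3.zpow_left i).eq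
    · intro hx
      refine ⟨?_, centralizer_le_normalizer_coe _ hx⟩
      show x ∈ Subgroup.centralizer ({y} : Set G)
      rw [Subgroup.mem_centralizer_iff]
      intro t ht
      rw [Set.mem_singleton_iff] at ht
      subst ht
      exact Subgroup.mem_centralizer_iff.mp hx t hy

section Const

variable {Q : Subgroup G} [Fintype Q] [Fintype (Subgroup.normalizer (Q : Set G))] [Fintype (Q →* ℂˣ)]

theorem apply_of_const (hcomm : ∀ a ∈ Q, ∀ b ∈ Q, a * b = b * a) (χ : IrrCharacter G) (β : ℤ)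
    (hβ : ∀ ψ : Q →* ℂˣ, ψ ≠ 1 → (coefN χ ψ : ℤ) = β) (y : Q) (hy : y ≠ 1) :
    (χ : G → ℂ) y = (((coefN χ (1 : Q →* ℂˣ) : ℤ) - β : ℤ) : ℂ) := by
  classical
  have hcomm' : ∀ a b : Q, a * b = b * a := fun a b => Subtype.ext (hcomm a a.2 b b.2)
  rw [apply_eq_sum_coefL hcomm χ y, ← Finset.sum_filter_add_sum_filter_not Finset.univ (fun ψ : Q →* ℂˣ => ψ ≠ 1)]
  have h2 : Finset.univ.filter (fun ψ : Q →* ℂˣ => ¬ ψ ≠ 1) = {1} := by
    ext ψ
    simp
  rw [h2, Finset.sum_singleton]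
  have h3 : linVal (1 : Q →* ℂˣ) y = 1 := by simp [linVal]
  rw [h3, mul_one, ← coefN_spec]
  have h4 : ∀ ψ ∈ Finset.univ.filter (fun ψ : Q →* ℂˣ => ψ ≠ 1), coefL χ ψ * linVal ψ y = (β : ℂ) * linVal ψ y := by
    intro ψ hψ
    have hψ1 := (Finset.mem_filter.mp hψ).2
    have h5 := congrArg (fun n : ℤ => (n : ℂ)) (hβ ψ hψ1)
    simp only [Int.cast_natCast] at h5
    rw [← coefN_spec, h5]
  rw [Finset.sum_congr rfl h4, ← Finset.mul_sum, sum_dual_ne_one hcomm' hy]
  push_cast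
  ring

theorem degree_of_const (hcomm : ∀ a ∈ Q, ∀ b ∈ Q, a * b = b * a) (χ : IrrCharacter G) (β : ℤ)
    (hβ : ∀ ψ : Q →* ℂˣ, ψ ≠ 1 → (coefN χ ψ : ℤ) = β) :
    (charDegree (χ : G → ℂ) : ℤ) = ((coefN χ (1 : Q →* ℂˣ) : ℤ) - β) + (Nat.card Q : ℤ) * β := by
  classical
  have hcomm' : ∀ a b : Q, a * b = b * a := fun a b => Subtype.ext (hcomm a a.2 b b.2)
  have h0 := apply_eq_sum_coefL hcomm χ (1 : Q)
  have h1 : (χ : G → ℂ) ((1 : Q) : G) = (charDegree (χ : G → ℂ) : ℂ) := by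
    rw [Subgroup.coe_one]
    exact apply_one_eq_charDegree (IsIrrCharacter.isCharacter χ.2)
  rw [h1, ← Finset.sum_filter_add_sum_filter_not Finset.univ (fun ψ : Q →* ℂˣ => ψ ≠ 1)] at h0
  have h2 : Finset.univ.filter (fun ψ : Q →* ℂˣ => ¬ ψ ≠ 1) = {1} := by
    ext ψ
    simp
  rw [h2, Finset.sum_singleton] at h0
  have h3 : ∀ ψ : Q →* ℂˣ, linVal ψ (1 : Q) = 1 := by
    intro ψ
    simp [linVal]
  have h4 : ∀ ψ ∈ Finset.univ.filter (fun ψ : Q →* ℂˣ => ψ ≠ 1), coefL χ ψ * linVal ψ (1 : Q) = (β : ℂ) := by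
    intro ψ hψ
    have hψ1 := (Finset.mem_filter.mp hψ).2
    have h5 := congrArg (fun n : ℤ => (n : ℂ)) (hβ ψ hψ1)
    simp only [Int.cast_natCast] at h5
    rw [← coefN_spec, h5, h3, mul_one]
  rw [Finset.sum_congr rfl h4, Finset.sum_const, h3, mul_one, ← coefN_spec] at h0
  have h6 : (Finset.univ.filter (fun ψ : Q →* ℂˣ => ψ ≠ 1)).card + 1 = Nat.card Q := by
    rw [← card_dual hcomm', Nat.card_eq_fintype_card, ← Finset.card_univ,
      ← Finset.card_filter_add_card_filter_not (s := (Finset.univ : Finset (Q →* ℂˣ))) (fun ψ => ψ ≠ 1), h2, Finset.card_singleton]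
  have h7 : ((charDegree (χ : G → ℂ) : ℤ) : ℂ) = ((((coefN χ (1 : Q →* ℂˣ) : ℤ) - β) + (Nat.card Q : ℤ) * β : ℤ) : ℂ) := by
    rw [Int.cast_natCast, h0, nsmul_eq_mul, ← h6]
    push_cast
    ring
  exact_mod_cast h7

end Const

/-- Rank bound from the block functions. -/
theorem rank_le (hM : IsPModular p M) (P : Sylow p G) (hP : Nat.card P = p) (X : Finset (IrrCharacter G))
    (hspan : ∀ c : IrrCharacter G → ℂ, ∃ c' : IrrCharacter G → ℂ, ∀ g, ¬ p ∣ orderOf g →
      ∑ χ : IrrCharacter G, indic (principalBlock M G) χ * (c χ * (χ : G → ℂ) g) = ∑ χ ∈ X, c' χ * (χ : G → ℂ) g) :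
    (Subgroup.centralizer ((P : Subgroup G) : Set G)).relIndex (Subgroup.normalizer ((P : Subgroup G) : Set G)) ≤ X.card := by
  classical
  obtain ⟨f, hf1, hf2⟩ := exists_block_functions (M := M) hM P hP
    (Fin ((Subgroup.centralizer ((P : Subgroup G) : Set G)).relIndex (Subgroup.normalizer ((P : Subgroup G) : Set G)))) (by simp)
  let R := {g : G // ¬ p ∣ orderOf g}
  have h1 := card_le_of_span (fun i (r : R) => f i (r : G)) (by
      rw [Fintype.linearIndependent_iff]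
      intro a ha i
      refine hf2 a (fun g hg => ?_) i
      have h2 := congrFun ha ⟨g, hg⟩
      simpa [Finset.sum_apply] using h2) X (fun χ (r : R) => (χ : G → ℂ) (r : G)) (by
      intro i
      obtain ⟨c, hc⟩ := hf1 i
      obtain ⟨c', hc'⟩ := hspan c
      refine ⟨c', fun r => ?_⟩
      rw [hc, hc' _ r.2])
  simpa using h1

/-- The conclusion on the principal block. -/
def PrincipalConclusion (p : ℕ) (M : Ideal AlgInt) (P : Sylow p G) (e : ℕ) : Prop :=
  ∃ X Y : Set (IrrCharacter G), principalBlock M G = X ∪ Y ∧ Disjoint X Y ∧ Nat.card X = e ∧ Nat.card Y = (p - 1) / e ∧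
    ∃ (εX : IrrCharacter G → ℤ) (ε : ℤ),
      (∀ χ ∈ X, (εX χ = 1 ∨ εX χ = -1) ∧ (charDegree (χ : G → ℂ) : ℤ) ≡ εX χ [ZMOD p] ∧
        ∀ x : G, x ∈ (P : Subgroup G) → x ≠ 1 → ∀ y : G, y ∈ Subgroup.centralizer ((P : Subgroup G) : Set G) →
          ¬ p ∣ orderOf y → (χ : G → ℂ) (x * y) = (εX χ : ℂ)) ∧
      (ε = 1 ∨ ε = -1) ∧
      (∀ θ ∈ Y, (charDegree (θ : G → ℂ) : ℤ) ≡ ε * (e : ℤ) [ZMOD p]) ∧
      (∀ θ ∈ Y, ∀ θ' ∈ Y, ∀ g : G, ¬ p ∣ orderOf g → (θ : G → ℂ) g = (θ' : G → ℂ) g) ∧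
      ∀ θ ∈ Y, ∀ g : G, ¬ p ∣ orderOf g → (ε : ℂ) * (θ : G → ℂ) g = ∑ᶠ χ ∈ X, (εX χ : ℂ) * (χ : G → ℂ) g

theorem isPPart_mul_of_mem {P : Sylow p G} {x y : G} (hx : x ∈ (P : Subgroup G))
    (hy : y ∈ Subgroup.centralizer ((P : Subgroup G) : Set G)) (hyr : ¬ p ∣ orderOf y) : IsPPart p (x * y) x := by
  obtain ⟨k, hk⟩ := (IsPGroup.iff_orderOf.mp P.isPGroup') ⟨x, hx⟩
  refine ⟨y, rfl, ?_, ⟨k, by rw [← hk, Subgroup.orderOf_mk]⟩, hyr⟩
  exact (Subgroup.mem_centralizer_iff.mp hy x hx)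

section RankTwo

variable {P : Sylow p G} [Fintype (P : Subgroup G)] [Fintype (Subgroup.normalizer ((P : Subgroup G) : Set G))]
  [Fintype ((P : Subgroup G) →* ℂˣ)] {r : ℕ} (D : BrauerData p M (P : Subgroup G) r)

namespace BrauerData

include D in
theorem rd_ne (hr : 2 ≤ r) : (r : ℤ) * D.dval - D.E ≠ 0 := by
  intro h
  have h1 : (r : ℤ) ∣ D.E := ⟨D.dval, by linarith⟩
  have h2 : (r : ℤ) ∣ 1 := by
    rcases D.E_sign with h3 | h3 <;> rw [h3] at h1
    · exact h1
    · simpa using h1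
  have h3 := Int.le_of_dvd one_pos h2
  omega

theorem card_Xf_ge (hr : 2 ≤ r) (hP : Nat.card P = p) :
    (Subgroup.centralizer ((P : Subgroup G) : Set G)).relIndex (Subgroup.normalizer ((P : Subgroup G) : Set G)) ≤ D.Xf.card := by
  classical
  refine rank_le D.setup.modular P hP D.Xf (fun c => ?_)
  have hκ : ((r : ℂ) * (D.dval : ℂ) - (D.E : ℂ)) ≠ 0 := by
    have h := D.rd_ne hr
    intro h0
    apply h
    exact_mod_cast h0
  let κ : ℂ := ((r : ℂ) * (D.dval : ℂ) - (D.E : ℂ))⁻¹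
  refine ⟨fun χ => c χ - (∑ j, c (D.μ j)) * κ * (D.valD χ : ℂ), fun g hg => ?_⟩
  rw [D.sum_indic_split (fun χ => c χ * (χ : G → ℂ) g)]
  have h1 : ∀ j, c (D.μ j) * (D.μ j : G → ℂ) g = c (D.μ j) * (D.μ D.i₀ : G → ℂ) g := fun j => by
    rw [D.μ_regular j D.i₀ hg]
  rw [Finset.sum_congr rfl (fun j _ => h1 j), ← Finset.sum_mul]
  have h2 := D.regular_identity D.i₀ hg
  have h3 : (D.μ D.i₀ : G → ℂ) g = - κ * ∑ χ ∈ D.Xf, (D.valD χ : ℂ) * (χ : G → ℂ) g := by
    have h4 : ((r : ℂ) * (D.dval : ℂ) - (D.E : ℂ)) * κ = 1 := mul_inv_cancel₀ hκ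
    linear_combination (κ) * h2 - (D.μ D.i₀ : G → ℂ) g * h4
  rw [h3]
  have h5 : ∀ χ ∈ D.Xf, (c χ - (∑ j, c (D.μ j)) * κ * (D.valD χ : ℂ)) * (χ : G → ℂ) g =
      c χ * (χ : G → ℂ) g - (∑ j, c (D.μ j)) * κ * ((D.valD χ : ℂ) * (χ : G → ℂ) g) := by
    intro χ _
    ring
  rw [Finset.sum_congr rfl h5, Finset.sum_sub_distrib, ← Finset.mul_sum]
  ring

theorem final_numbers (hr : 2 ≤ r) {m : ℕ}
    (hm : Nat.card (Subgroup.normalizer ((P : Subgroup G) : Set G)) = m * Nat.card (Subgroup.centralizer ((P : Subgroup G) : Set G)))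
    (hcard : m ≤ D.Xf.card) :
    D.Xf.card = m ∧ (∀ χ ∈ D.Xf, D.valD χ = 1 ∨ D.valD χ = -1) ∧ (D.E - (r : ℤ) * D.dval = 1 ∨ D.E - (r : ℤ) * D.dval = -1) := by
  classical
  have hnorm := D.norm_identity hm
  have hE := D.E_sq_int
  have hES := D.E_sign
  set d := D.dval with hd
  set E := D.E with hEdef
  set S := ∑ χ ∈ D.Xf, D.valD χ ^ 2 with hS
  have hXS : (D.Xf.card : ℤ) ≤ S := by
    rw [Finset.card_eq_sum_ones, hS]
    push_cast
    refine Finset.sum_le_sum fun χ hχ => ?_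
    have h1 := D.valD_ne_zero hχ
    have h2 : 0 < D.valD χ ^ 2 := by positivity
    omega
  have hr' : (2 : ℤ) ≤ (r : ℤ) := by exact_mod_cast hr
  have hmX : (m : ℤ) ≤ D.Xf.card := by exact_mod_cast hcard
  have hT : (r : ℤ) * d ^ 2 - 2 * d * E + S = m := by
    have : (d - E) ^ 2 = d ^ 2 - 2 * d * E + E * E := by ring
    rw [hE] at this
    rw [this] at hnorm
    linarith
  have hdE : 0 ≤ d * (d - E) := by
    rcases hES with h | h <;> rw [h]
    · rcases le_or_gt d 0 with h1 | h1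
      · exact mul_nonneg_of_nonpos_of_nonpos h1 (by omega)
      · exact mul_nonneg h1.le (by omega)
    · rcases le_or_gt d (-1) with h1 | h1
      · exact mul_nonneg_of_nonpos_of_nonpos (by omega) (by omega)
      · have h2 : 0 ≤ d := by omega
        exact mul_nonneg h2 (by omega)
  have hT0 : 0 ≤ (r : ℤ) * d ^ 2 - 2 * d * E := by
    nlinarith [sq_nonneg d]
  have hT1 : (r : ℤ) * d ^ 2 - 2 * d * E = 0 := by linarith
  have hS1 : S = m := by linarith
  have hcard' : (D.Xf.card : ℤ) = m := by linarith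
  refine ⟨by exact_mod_cast hcard', ?_, ?_⟩
  · intro χ hχ
    have h1 : ∑ χ ∈ D.Xf, (D.valD χ ^ 2 - 1) = 0 := by
      rw [Finset.sum_sub_distrib, ← hS, hS1]
      simp [hcard']
    have h2 := (Finset.sum_eq_zero_iff_of_nonneg (fun χ hχ => ?_)).mp h1 χ hχ
    · have h3 : (D.valD χ - 1) * (D.valD χ + 1) = 0 := by linarith
      rcases mul_eq_zero.mp h3 with h4 | h4
      · left
        omega
      · right
        omega
    · have h3 := D.valD_ne_zero hχ
      have h4 : 0 < D.valD χ ^ 2 := by positivity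
      omega
  · have h2 : d * ((r : ℤ) * d - 2 * E) = 0 := by linarith
    rcases mul_eq_zero.mp h2 with h3 | h3
    · rw [h3]
      simp only [mul_zero, sub_zero]
      exact hES
    · have h4 : (r : ℤ) * d = 2 * E := by linarith
      rw [h4]
      rcases hES with h | h
      · right
        omega
      · left
        omega

include D in
/-- The conclusion when there are at least two exceptional characters. -/
theorem principalConclusion (hr : 2 ≤ r) (hP : Nat.card P = p) {e : ℕ}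
    (he : (Subgroup.centralizer ((P : Subgroup G) : Set G)).relIndex (Subgroup.normalizer ((P : Subgroup G) : Set G)) = e)
    (hre : r * e = p - 1) : PrincipalConclusion p M P e := by
  classical
  have hpp : p.Prime := hp.out
  have hp2 := hpp.two_le
  have hepos : 0 < e := by
    rcases Nat.eq_zero_or_pos e with h | h
    · rw [h] at hre
      omega
    · exact h
  have hmm : Nat.card (Subgroup.normalizer ((P : Subgroup G) : Set G)) = e * Nat.card (Subgroup.centralizer ((P : Subgroup G) : Set G)) := by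
    have h1 := Subgroup.relIndex_mul_relIndex ⊥ (Subgroup.centralizer ((P : Subgroup G) : Set G)) (Subgroup.normalizer ((P : Subgroup G) : Set G)) bot_le (centralizer_le_normalizer_coe _)
    rw [Subgroup.relIndex_bot_left, Subgroup.relIndex_bot_left, he] at h1
    rw [← h1, mul_comm]
  have hcard := D.card_Xf_ge hr hP
  rw [he] at hcard
  obtain ⟨hX, ha, hε⟩ := D.final_numbers hr hmm hcard
  have hcomm := D.setup.comm
  have hdeg : ∀ χ ∈ D.Xf, (p : ℤ) ∣ (charDegree (χ : G → ℂ) : ℤ) - D.valD χ := by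
    intro χ hχ
    obtain ⟨hB, hY⟩ := D.mem_Xf.mp hχ
    have h1 := degree_of_const hcomm χ (D.beta χ) (by
      intro ψ hψ
      rw [D.coef_eq hB hψ, if_neg (fun e => hY ⟨_, e⟩)]
      ring)
    have h2 : (Nat.card (P : Subgroup G) : ℤ) = p := by exact_mod_cast hP
    rw [h2] at h1
    exact ⟨D.beta χ, by rw [h1, valD]; ring⟩
  refine ⟨(D.Xf : Set (IrrCharacter G)), Set.range D.μ, D.principal_eq, D.disjoint_X_Y, ?_, ?_,
    D.valD, D.E - (r : ℤ) * D.dval, ?_, hε, ?_, ?_, ?_⟩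
  · rw [Nat.card_coe_set_eq, Set.ncard_coe_finset, hX]
  · rw [Nat.card_range_of_injective D.μ_inj, ← hre, Nat.card_eq_fintype_card, Fintype.card_fin]
    exact (Nat.mul_div_cancel _ hepos).symm
  · intro χ hχ
    have hχ' := Finset.mem_coe.mp hχ
    refine ⟨ha χ hχ', ?_, ?_⟩
    · rw [Int.modEq_iff_dvd]
      have h1 := hdeg χ hχ'
      rw [← dvd_neg]
      simpa using h1
    · intro x hx hx1 y hy hyr
      obtain ⟨hB, hY⟩ := D.mem_Xf.mp hχ'
      rw [D.setup.apply_eq_of_isPPart (isPPart_mul_of_mem hx hy hyr) hx hx1 hB]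
      exact D.apply_eq_of_notMem_range hB hY ⟨x, hx⟩ (fun e => hx1 (congrArg Subtype.val e))
  · rintro _ ⟨j, rfl⟩
    have hone : ¬ p ∣ orderOf (1 : G) := by simpa using hpp.ne_one
    have h1 := D.regular_identity j hone
    have h2 : ∀ χ : IrrCharacter G, (χ : G → ℂ) 1 = (charDegree (χ : G → ℂ) : ℂ) := fun χ =>
      apply_one_eq_charDegree (IsIrrCharacter.isCharacter χ.2)
    simp only [h2] at h1
    have h3 : ((D.E - (r : ℤ) * D.dval) * (charDegree (D.μ j : G → ℂ) : ℤ) : ℤ) = ∑ χ ∈ D.Xf, D.valD χ * (charDegree (χ : G → ℂ) : ℤ) := by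
      have : (((D.E - (r : ℤ) * D.dval) * (charDegree (D.μ j : G → ℂ) : ℤ) : ℤ) : ℂ) = ((∑ χ ∈ D.Xf, D.valD χ * (charDegree (χ : G → ℂ) : ℤ) : ℤ) : ℂ) := by
        push_cast at h1 ⊢
        linear_combination -h1
      exact_mod_cast this
    have h4 : (p : ℤ) ∣ (∑ χ ∈ D.Xf, D.valD χ * (charDegree (χ : G → ℂ) : ℤ)) - (e : ℤ) := by
      have h5 : (∑ χ ∈ D.Xf, D.valD χ * (charDegree (χ : G → ℂ) : ℤ)) - (e : ℤ) =
          ∑ χ ∈ D.Xf, (D.valD χ * (charDegree (χ : G → ℂ) : ℤ) - 1) := by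
        rw [Finset.sum_sub_distrib]
        simp [hX]
      rw [h5]
      refine Finset.dvd_sum fun χ hχ => ?_
      have h6 : D.valD χ * (charDegree (χ : G → ℂ) : ℤ) - 1 = D.valD χ * ((charDegree (χ : G → ℂ) : ℤ) - D.valD χ) := by
        have h7 : D.valD χ * D.valD χ = 1 := by
          rcases ha χ hχ with h | h <;> rw [h] <;> norm_num
        linear_combination h7
      rw [h6]
      exact Dvd.dvd.mul_left (hdeg χ hχ) _
    rw [← h3] at h4
    rw [Int.modEq_iff_dvd]
    have h8 : (D.E - (r : ℤ) * D.dval) * (D.E - (r : ℤ) * D.dval) = 1 := by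
      rcases hε with h | h <;> rw [h] <;> norm_num
    have h9 : (D.E - (r : ℤ) * D.dval) * (e : ℤ) - (charDegree (D.μ j : G → ℂ) : ℤ) =
        -((D.E - (r : ℤ) * D.dval) * ((D.E - (r : ℤ) * D.dval) * (charDegree (D.μ j : G → ℂ) : ℤ) - (e : ℤ))) := by
      linear_combination ((charDegree (D.μ j : G → ℂ) : ℤ)) * h8
    rw [h9]
    exact (Dvd.dvd.mul_left h4 _).neg_right
  · rintro _ ⟨j, rfl⟩ _ ⟨j', rfl⟩ g hg
    exact D.μ_regular j j' hg
  · rintro _ ⟨j, rfl⟩ g hg
    rw [finsum_mem_coe_finset]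
    have h1 := D.regular_identity j hg
    push_cast
    linear_combination -h1

end BrauerData

end RankTwo

section RankOne

theorem sum_indic_eq_filter (B : Set (IrrCharacter G)) [DecidablePred (· ∈ B)] (F : IrrCharacter G → ℂ) :
    ∑ χ : IrrCharacter G, indic B χ * F χ = ∑ χ ∈ Finset.univ.filter (fun χ => χ ∈ B), F χ := by
  classical
  rw [Finset.sum_filter]
  refine Finset.sum_congr rfl fun χ _ => ?_
  by_cases hχ : χ ∈ B
  · simp [indic_apply_of_mem hχ, hχ]
  · simp [indic_apply_of_notMem hχ, hχ]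

/-- Every `p`-singular element is conjugate to an element with non-identity `p`-part in `Q`. -/
theorem FrobSetup.exists_conj_section' {Q : Subgroup G} (h : FrobSetup p M Q) {z : G} (hz : p ∣ orderOf z) :
    ∃ (g y : G), y ∈ Q ∧ y ≠ 1 ∧ IsPPart p (g * z * g⁻¹) y := by
  classical
  obtain ⟨P, hP⟩ := h.sylow
  obtain ⟨α, hα⟩ := exists_isPExp (G := G) (p := p)
  obtain ⟨v, hv, hc, ⟨k, hk⟩, hreg⟩ := hα.isPPart z
  set u := z ^ α with hu
  have hu1 : u ≠ 1 := fun e => (hα.pow_eq_one_iff.mp e) hz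
  obtain ⟨S, hS⟩ := IsPGroup.exists_le_sylow (isPGroup_zpowers (p := p) ⟨k, hk⟩)
  have huS : u ∈ (S : Subgroup G) := hS (Subgroup.mem_zpowers u)
  obtain ⟨g, hg⟩ := MulAction.exists_smul_eq G S P
  have huP : g * u * g⁻¹ ∈ Q := by
    rw [← hP, ← hg, Sylow.coe_subgroup_smul, Subgroup.mem_smul_pointwise_iff_exists]
    exact ⟨u, huS, rfl⟩
  refine ⟨g, g * u * g⁻¹, huP, ?_, ?_⟩
  · intro e
    apply hu1
    have h2 : u = g⁻¹ * (g * u * g⁻¹) * g := by group
    rw [h2, e]
    group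
  · refine ⟨g * v * g⁻¹, ?_, ?_, ⟨k, ?_⟩, ?_⟩
    · show g * u * g⁻¹ * (g * v * g⁻¹) = g * z * g⁻¹
      rw [← hv]
      group
    · show g * u * g⁻¹ * (g * v * g⁻¹) = g * v * g⁻¹ * (g * u * g⁻¹)
      have h3 : u * v = v * u := hc
      calc g * u * g⁻¹ * (g * v * g⁻¹) = g * (u * v) * g⁻¹ := by group
        _ = g * (v * u) * g⁻¹ := by rw [h3]
        _ = _ := by group
    · show orderOf (g * u * g⁻¹) = p ^ k
      rw [← hk]
      exact (MulEquiv.orderOf_eq (MulAut.conj g) u)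
    · have h4 : orderOf (g * v * g⁻¹) = orderOf v := MulEquiv.orderOf_eq (MulAut.conj g) v
      rw [h4]
      exact hreg

/-- A character of the principal block vanishing on `Q#` is the trivial character. -/
theorem FrobSetup.eq_one_of_vanish {Q : Subgroup G} (h : FrobSetup p M Q) {χ : IrrCharacter G} (hB : χ ∈ principalBlock M G)
    (h0 : ∀ y ∈ Q, y ≠ 1 → (χ : G → ℂ) y = 0) : χ = oneIrr G := by
  classical
  have hM := h.modular
  have := isPrime_of_modular hM
  have hvan : ∀ z : G, p ∣ orderOf z → (χ : G → ℂ) z = 0 := by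
    intro z hz
    obtain ⟨g, y, hyQ, hy1, hzy⟩ := h.exists_conj_section' hz
    have h1 : (χ : G → ℂ) (g * z * g⁻¹) = (χ : G → ℂ) z := irr_isClassFunction χ z g
    rw [← h1, h.apply_eq_of_isPPart hzy hyQ hy1 hB, h0 y hyQ hy1]
  have hd := pow_dvd_degree_of_vanish (p := p) χ hvan
  have hdvd := charDegree_dvd_card χ.2
  have hnd : ¬ p ∣ Nat.card G / charDegree (χ : G → ℂ) := by
    intro hp2
    have hpp : p.Prime := hp.out
    obtain ⟨k, hk⟩ := hp2
    have h1 : Nat.card G = charDegree (χ : G → ℂ) * (p * k) := by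
      rw [← hk]
      exact (Nat.mul_div_cancel' hdvd).symm
    have h2 : p ^ ((Nat.card G).factorization p + 1) ∣ Nat.card G := by
      have h2' : p ^ ((Nat.card G).factorization p + 1) ∣ charDegree (χ : G → ℂ) * (p * k) := by
        rw [pow_succ]
        exact mul_dvd_mul hd (dvd_mul_right p k)
      rwa [← h1] at h2'
    exact Nat.pow_succ_factorization_not_dvd Nat.card_pos.ne' hpp h2
  have hsing := (not_dvd_iff_blockOf_singleton hM χ).mp hnd
  have hBB : IsPBlock M (principalBlock M G) := ⟨oneIrr G, rfl⟩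
  have h3 := blockOf_eq_of_mem hBB hB
  have h4 : oneIrr G ∈ principalBlock M G := self_mem_blockOf (oneIrr G)
  rw [h3, hsing] at h4
  exact (Set.mem_singleton_iff.mp h4).symm

/-- The conclusion when `N_G(P)` acts transitively on the non-identity elements of `P`. -/
theorem principalConclusion_of_transitive (hM : IsPModular p M) (hodd : p ≠ 2) (P : Sylow p G) (hP : Nat.card P = p)
    [Fintype (P : Subgroup G)] [Fintype (Subgroup.normalizer ((P : Subgroup G) : Set G))] [Fintype ((P : Subgroup G) →* ℂˣ)]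
    {e : ℕ} (he : (Subgroup.centralizer ((P : Subgroup G) : Set G)).relIndex (Subgroup.normalizer ((P : Subgroup G) : Set G)) = e)
    (hep : e = p - 1) (htrans : ∀ ψ ψ' : (P : Subgroup G) →* ℂˣ, ψ ≠ 1 → ψ' ≠ 1 → ∃ n, twist (P : Subgroup G) n ψ = ψ') :
    PrincipalConclusion p M P e := by
  classical
  have hpp : p.Prime := hp.out
  have hp2 := hpp.two_le
  have hp3 : 3 ≤ p := by omega
  have h := frobSetup_of_card hM P hP
  have hcomm := h.comm
  have hcomm' : ∀ a b : (P : Subgroup G), a * b = b * a := fun a b => Subtype.ext (hcomm a a.2 b b.2)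
  have hPc : Nat.card (P : Subgroup G) = p := hP
  obtain ⟨y₀, hy₀⟩ : ∃ y : (P : Subgroup G), y ≠ 1 := by
    haveI : Nontrivial (P : Subgroup G) := by
      rw [← Finite.one_lt_card_iff_nontrivial, hPc]
      omega
    exact exists_ne 1
  have hy₀' : (y₀ : G) ≠ 1 := fun e => hy₀ (Subtype.ext e)
  obtain ⟨ψ₀, hψ₀'⟩ := exists_dual_ne_one hcomm' hy₀
  have hψ₀ : ψ₀ ≠ 1 := by
    rintro rfl
    exact hψ₀' rfl
  haveI hMp := isPrime_of_modular hM
  let β : IrrCharacter G → ℤ := fun χ => (coefN χ ψ₀ : ℤ)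
  let a : IrrCharacter G → ℤ := fun χ => (coefN χ (1 : (P : Subgroup G) →* ℂˣ) : ℤ) - β χ
  have hβ : ∀ (χ : IrrCharacter G) (ψ : (P : Subgroup G) →* ℂˣ), ψ ≠ 1 → (coefN χ ψ : ℤ) = β χ := by
    intro χ ψ hψ
    obtain ⟨n, hn⟩ := htrans ψ₀ ψ hψ₀ hψ
    rw [← hn, coefN_twist]
  have hval : ∀ (χ : IrrCharacter G) (y : (P : Subgroup G)), y ≠ 1 → (χ : G → ℂ) y = (a χ : ℂ) :=
    fun χ y hy => apply_of_const hcomm χ (β χ) (hβ χ) y hy
  have hdeg : ∀ χ : IrrCharacter G, (charDegree (χ : G → ℂ) : ℤ) = a χ + (p : ℤ) * β χ := by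
    intro χ
    have h1 := degree_of_const hcomm χ (β χ) (hβ χ)
    have h2 : (Nat.card (P : Subgroup G) : ℤ) = p := by exact_mod_cast hP
    rw [h2] at h1
    exact h1
  have ha1 : a (oneIrr G) = 1 := by
    have h1 := hval (oneIrr G) y₀ hy₀
    have h2 : ((oneIrr G : IrrCharacter G) : G → ℂ) (y₀ : G) = 1 := rfl
    rw [h2] at h1
    exact_mod_cast h1.symm
  let B : Finset (IrrCharacter G) := Finset.univ.filter (fun χ => χ ∈ principalBlock M G)
  have hmemB : ∀ χ, χ ∈ B ↔ χ ∈ principalBlock M G := by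
    intro χ
    simp [B]
  have hSum : ∑ χ ∈ B, a χ ^ 2 = (p : ℤ) := by
    have h1 := h.sum_norm y₀.2 hy₀'
    rw [sum_indic_eq_filter] at h1
    have h2 : ∀ χ ∈ B, (χ : G → ℂ) y₀ * conj ((χ : G → ℂ) y₀) = (a χ : ℂ) ^ 2 := by
      intro χ _
      rw [hval χ y₀ hy₀, map_intCast, sq]
    rw [Finset.sum_congr rfl h2, hPc] at h1
    exact_mod_cast h1
  have hreg : ∀ g : G, ¬ p ∣ orderOf g → ∑ χ ∈ B, (a χ : ℂ) * (χ : G → ℂ) g = 0 := by
    intro g hg
    have h1 := h.column_regular y₀.2 hy₀' hg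
    rw [sum_indic_eq_filter] at h1
    have h2 : ∀ χ ∈ B, (χ : G → ℂ) y₀ * (χ : G → ℂ) g = (a χ : ℂ) * (χ : G → ℂ) g := by
      intro χ _
      rw [hval χ y₀ hy₀]
    rw [Finset.sum_congr rfl h2] at h1
    exact h1
  have hane : ∀ χ ∈ B, a χ ≠ 0 := by
    intro χ hχ h0
    have hB := (hmemB χ).mp hχ
    have h1 := h.eq_one_of_vanish hB (fun y hy hy1 => by
      rw [hval χ ⟨y, hy⟩ (fun e => hy1 (congrArg Subtype.val e)), h0]
      simp)
    rw [h1, ha1] at h0
    exact one_ne_zero h0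
  have h1B : oneIrr G ∈ B := (hmemB _).mpr (self_mem_blockOf (oneIrr G))
  have hXcard : e ≤ (B.erase (oneIrr G)).card := by
    rw [← he]
    refine rank_le hM P hP _ (fun c => ⟨fun χ => c χ - c (oneIrr G) * (a χ : ℂ), fun g hg => ?_⟩)
    rw [sum_indic_eq_filter, ← Finset.add_sum_erase _ _ h1B]
    have h2 := hreg g hg
    rw [← Finset.add_sum_erase _ _ h1B, ha1] at h2
    have h5 : ∀ χ ∈ B.erase (oneIrr G), (c χ - c (oneIrr G) * (a χ : ℂ)) * (χ : G → ℂ) g =
        c χ * (χ : G → ℂ) g - c (oneIrr G) * ((a χ : ℂ) * (χ : G → ℂ) g) := by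
      intro χ _
      ring
    rw [Finset.sum_congr rfl h5, Finset.sum_sub_distrib, ← Finset.mul_sum]
    push_cast at h2
    linear_combination c (oneIrr G) * h2
  have hBpos : 1 ≤ B.card := Finset.card_pos.mpr ⟨_, h1B⟩
  rw [Finset.card_erase_of_mem h1B] at hXcard
  have hBge : p ≤ B.card := by omega
  have hBle : (B.card : ℤ) ≤ p := by
    rw [← hSum, Finset.card_eq_sum_ones]
    push_cast
    refine Finset.sum_le_sum fun χ hχ => ?_
    have h1 := hane χ hχ
    have h2 : 0 < a χ ^ 2 := by positivity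
    omega
  have hBcard : B.card = p := by
    have : B.card ≤ p := by exact_mod_cast hBle
    omega
  have hasq : ∀ χ ∈ B, a χ ^ 2 = 1 := by
    have h1 : ∑ χ ∈ B, (a χ ^ 2 - 1) = 0 := by
      rw [Finset.sum_sub_distrib, hSum]
      simp [hBcard]
    intro χ hχ
    have h2 := (Finset.sum_eq_zero_iff_of_nonneg (fun χ hχ => ?_)).mp h1 χ hχ
    · linarith
    · have h3 := hane χ hχ
      have h4 : 0 < a χ ^ 2 := by positivity
      omega
  have hasign : ∀ χ ∈ B, a χ = 1 ∨ a χ = -1 := by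
    intro χ hχ
    have h3 : (a χ - 1) * (a χ + 1) = 0 := by
      have := hasq χ hχ
      linarith
    rcases mul_eq_zero.mp h3 with h4 | h4
    · left
      omega
    · right
      omega
  -- the distinguished character
  obtain ⟨θ, hθ⟩ : (B.erase (oneIrr G)).Nonempty := by
    rw [← Finset.card_pos, Finset.card_erase_of_mem h1B]
    omega
  have hθB : θ ∈ B := Finset.mem_of_mem_erase hθ
  have hep0 : 0 < e := by omega
  have hecast : (e : ℤ) = (p : ℤ) - 1 := by
    rw [hep]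
    have : 1 ≤ p := by omega
    push_cast [this]
    rfl
  refine ⟨((B.erase θ : Finset _) : Set (IrrCharacter G)), {θ}, ?_, ?_, ?_, ?_, a, - a θ, ?_, ?_, ?_, ?_, ?_⟩
  · ext χ
    simp only [Set.mem_union, Finset.mem_coe, Finset.mem_erase, Set.mem_singleton_iff]
    rw [← hmemB]
    constructor
    · intro hχ
      by_cases h1 : χ = θ
      · exact Or.inr h1
      · exact Or.inl ⟨h1, hχ⟩
    · rintro (h1 | rfl)
      · exact h1.2
      · exact hθB
  · rw [Set.disjoint_left]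
    intro χ h1 h2
    have h3 : χ = θ := h2
    exact (Finset.mem_erase.mp (Finset.mem_coe.mp h1)).1 h3
  · rw [Nat.card_coe_set_eq, Set.ncard_coe_finset, Finset.card_erase_of_mem hθB, hBcard, hep]
  · rw [Nat.card_coe_set_eq, Set.ncard_singleton, ← hep, Nat.div_self hep0]
  · intro χ hχ
    have hχ' : χ ∈ B := Finset.mem_of_mem_erase (Finset.mem_coe.mp hχ)
    refine ⟨hasign χ hχ', ?_, ?_⟩
    · rw [hdeg χ, Int.modEq_iff_dvd]
      exact ⟨- β χ, by ring⟩
    · intro x hx hx1 y hy hyr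
      rw [h.apply_eq_of_isPPart (isPPart_mul_of_mem hx hy hyr) hx hx1 ((hmemB χ).mp hχ')]
      exact hval χ ⟨x, hx⟩ (fun e => hx1 (congrArg Subtype.val e))
  · rcases hasign θ hθB with h1 | h1 <;> rw [h1]
    · right
      rfl
    · left
      rfl
  · rintro θ' rfl
    rw [hdeg θ', Int.modEq_iff_dvd, hecast]
    exact ⟨- a θ' - β θ', by ring⟩
  · rintro θ₁ rfl θ₂ rfl g _
    rfl
  · rintro θ' rfl g hg
    rw [finsum_mem_coe_finset]
    have h2 := hreg g hg
    rw [← Finset.add_sum_erase _ _ hθB] at h2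
    push_cast
    linear_combination -h2

end RankOne

/-- **The principal block when a Sylow subgroup has order `p`.** -/
theorem principalConclusion (hM : IsPModular p M) (hodd : p ≠ 2) (P : Sylow p G) (hP : Nat.card P = p) {e : ℕ}
    (he : (Subgroup.centralizer ((P : Subgroup G) : Set G)).relIndex (Subgroup.normalizer ((P : Subgroup G) : Set G)) = e) :
    PrincipalConclusion p M P e := by
  classical
  letI : Fintype ↥(P : Subgroup G) := Fintype.ofFinite _
  letI : Fintype ↥(Subgroup.normalizer ((P : Subgroup G) : Set G)) := Fintype.ofFinite _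
  letI : Fintype (↥(P : Subgroup G) →* ℂˣ) := Fintype.ofFinite _
  have hpp : p.Prime := hp.out
  have hp2 := hpp.two_le
  have hP1 : Nat.card (P : Subgroup G) ≠ 1 := by
    show Nat.card P ≠ 1
    rw [hP]
    omega
  have hsetup := frobSetup_of_card hM P hP
  obtain ⟨r, rep, idx, hrep, hidx, hiff, hcard⟩ := hsetup.exists_orbit_data hP1
  have hm : Nat.card (Subgroup.normalizer ((P : Subgroup G) : Set G)) = e * Nat.card (Subgroup.centralizer ((P : Subgroup G) : Set G)) := by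
    have h1 := Subgroup.relIndex_mul_relIndex ⊥ (Subgroup.centralizer ((P : Subgroup G) : Set G)) (Subgroup.normalizer ((P : Subgroup G) : Set G)) bot_le (centralizer_le_normalizer_coe _)
    rw [Subgroup.relIndex_bot_left, Subgroup.relIndex_bot_left, he] at h1
    rw [← h1, mul_comm]
  have hCpos : 0 < Nat.card (Subgroup.centralizer ((P : Subgroup G) : Set G)) := Nat.card_pos
  have hrm : r * e = p - 1 := by
    rw [hm, ← mul_assoc] at hcard
    have h3 : Nat.card (P : Subgroup G) = p := hP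
    rw [h3] at hcard
    exact Nat.eq_of_mul_eq_mul_right hCpos hcard
  rcases Nat.lt_or_ge r 2 with hr | hr
  · have hr0 : r ≠ 0 := by
      rintro rfl
      omega
    have hr1 : r = 1 := by omega
    subst hr1
    refine principalConclusion_of_transitive hM hodd P hP he (by omega) ?_
    intro ψ ψ' hψ hψ'
    exact (hiff ψ ψ' hψ).mp ⟨hψ', Subsingleton.elim _ _⟩
  · obtain ⟨D⟩ := exists_brauerData hsetup (by omega) rep idx hrep hidx hiff
    exact D.principalConclusion hr hP he hrm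

end Common

end Cfsg.Agent.Lib.Blocks
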