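import Cfsg.Agent.Lib.Blocks.ModTI
import Cfsg.Agent.Lib.Blocks.AbelianSylow
import Cfsg.Agent.Lib.Blocks.Residue

/-!
# The residue field at a modular ideal is algebraically closed; the rank of the principal block
-/

set_option autoImplicit false
set_option linter.unusedSectionVars false
set_option linter.unusedVariables false

namespace Cfsg.Agent.Lib.Blocks

open Cfsg Cfsg.Agent.Lib.Char Finset
open scoped ComplexConjugate

universe u

section ResF

variable (M : Ideal AlgInt) [M.IsPrime]

/-- The residue field of the local ring at `M`. -/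
noncomputable abbrev ResF : Type := locRing M ⧸ locMax M

noncomputable instance : Field (ResF M) := Ideal.Quotient.field _

variable {M}

theorem memLocalRing_of_isRoot {F : Polynomial ℂ} (hF : F.Monic) (hc : ∀ i, MemLocalRing M (F.coeff i))
    {r : ℂ} (hr : F.IsRoot r) : MemLocalRing M r := by
  classical
  -- a common denominator
  have hden : ∃ b : AlgInt, b ∉ M ∧ ∀ i, ∃ a : AlgInt, (b : ℂ) * F.coeff i = a := by
    choose a b hb hab using hc
    refine ⟨∏ i ∈ range (F.natDegree + 1), b i, ?_, ?_⟩
    · intro h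
      obtain ⟨i, _, hi⟩ := (inferInstance : M.IsPrime).prod_mem_iff.mp h
      exact hb i hi
    · intro i
      by_cases hi : i ∈ range (F.natDegree + 1)
      · refine ⟨a i * ∏ j ∈ (range (F.natDegree + 1)).erase i, b j, ?_⟩
        have h1 : ∏ j ∈ range (F.natDegree + 1), b j = b i * ∏ j ∈ (range (F.natDegree + 1)).erase i, b j :=
          (mul_prod_erase _ _ hi).symm
        rw [h1, ← hab i]
        have hb0 : (b i : ℂ) ≠ 0 := coe_ne_zero_of_notMem (hb i)
        push_cast
        field_simp
      · have h0 : F.coeff i = 0 := by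
          apply Polynomial.coeff_eq_zero_of_natDegree_lt
          have := mem_range.not.mp hi
          omega
        exact ⟨0, by simp [h0]⟩
  obtain ⟨b, hb, hbc⟩ := hden
  have hb0 : (b : ℂ) ≠ 0 := coe_ne_zero_of_notMem hb
  -- `b * r` is integral
  have hint : IsIntegral ℤ ((b : ℂ) * r) := by
    let S := F.scaleRoots (b : ℂ)
    have hS : S.Monic := (Polynomial.monic_scaleRoots_iff _).mpr hF
    have hSroot : S.IsRoot ((b : ℂ) * r) := by
      have h1 := Polynomial.scaleRoots_eval₂_mul (RingHom.id ℂ) r (b : ℂ) (p := F)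
      simp only [RingHom.id_apply, Polynomial.eval₂_id] at h1
      rw [Polynomial.IsRoot.def]
      show Polynomial.eval ((b : ℂ) * r) (F.scaleRoots (b : ℂ)) = 0
      rw [h1, show Polynomial.eval r F = 0 from hr, mul_zero]
    have hcoeff : ∀ i, IsIntegral ℤ (S.coeff i) := by
      intro i
      rw [Polynomial.coeff_scaleRoots]
      by_cases hi : i < F.natDegree
      · obtain ⟨k, hk⟩ : ∃ k, F.natDegree - i = k + 1 := ⟨F.natDegree - i - 1, by omega⟩
        rw [hk, pow_succ, ← mul_assoc, mul_comm (F.coeff i), mul_assoc, mul_comm (F.coeff i)]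
        obtain ⟨a, ha⟩ := hbc i
        rw [mul_comm]
        refine IsIntegral.mul ?_ (b ^ k).2
        rw [ha]
        exact a.2
      · by_cases hi2 : i = F.natDegree
        · subst hi2
          have := hF.coeff_natDegree
          simp [this, isIntegral_one]
        · have h0 : F.coeff i = 0 := Polynomial.coeff_eq_zero_of_natDegree_lt (by omega)
          rw [h0, zero_mul]
          exact isIntegral_zero
    have hlift : S ∈ Polynomial.lifts (algebraMap AlgInt ℂ) := by
      rw [Polynomial.lifts_iff_coeff_lifts]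
      intro i
      exact ⟨⟨_, hcoeff i⟩, rfl⟩
    obtain ⟨q, hq, -, hqm⟩ := Polynomial.lifts_and_natDegree_eq_and_monic hlift hS
    have h2 : IsIntegral AlgInt ((b : ℂ) * r) := by
      refine ⟨q, hqm, ?_⟩
      rw [Polynomial.eval₂_eq_eval_map, hq]
      exact hSroot
    have h3 : ((b : ℂ) * r) ∈ integralClosure AlgInt ℂ := h2
    rw [integralClosure_idem] at h3
    obtain ⟨c, hc'⟩ := Algebra.mem_bot.mp h3
    rw [← hc']
    exact c.2
  refine ⟨⟨_, hint⟩, b, hb, ?_⟩
  show (b : ℂ) * r / (b : ℂ) = r
  field_simp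

instance resF_isAlgClosed : IsAlgClosed (ResF M) := by
  refine IsAlgClosed.of_exists_root _ fun f hm hirr => ?_
  have hq : Function.Surjective (Ideal.Quotient.mk (locMax M)) := Ideal.Quotient.mk_surjective
  have hlift : f ∈ Polynomial.lifts (Ideal.Quotient.mk (locMax M)) := by
    rw [Polynomial.lifts_iff_coeff_lifts]
    intro i
    exact hq _
  obtain ⟨F, hF1, hF2, hF3⟩ := Polynomial.lifts_and_natDegree_eq_and_monic hlift hm
  let F' : Polynomial ℂ := F.map (locRing M).subtype
  have hF'm : F'.Monic := hF3.map _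
  have hdeg : F'.degree ≠ 0 := by
    have h1 : F'.natDegree = f.natDegree := by
      rw [hF3.natDegree_map, hF2]
    have h2 : f.natDegree ≠ 0 := by
      intro h
      have := Polynomial.natDegree_pos_iff_degree_pos.mpr (Polynomial.degree_pos_of_irreducible hirr)
      omega
    intro h
    have h3 : F'.natDegree = 0 := Polynomial.natDegree_eq_of_degree_eq_some h
    omega
  obtain ⟨r, hr⟩ := IsAlgClosed.exists_root F' hdeg
  have hrS : MemLocalRing M r := by
    refine memLocalRing_of_isRoot hF'm (fun i => ?_) hr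
    rw [Polynomial.coeff_map]
    exact (F.coeff i).2
  let r' : locRing M := ⟨r, hrS⟩
  refine ⟨Ideal.Quotient.mk (locMax M) r', ?_⟩
  rw [← hF1, Polynomial.eval_map, Polynomial.eval₂_at_apply]
  have h0 : Polynomial.eval r' F = 0 := by
    apply Subtype.ext
    have h1 := Polynomial.eval₂_at_apply (p := F) (locRing M).subtype r'
    rw [← Polynomial.eval_map] at h1
    exact h1.symm.trans hr
  rw [h0, map_zero]

end ResF

section Setup

variable {G : Type u} [Group G] [Fintype G] {p : ℕ} [hp : Fact p.Prime]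

/-- The group theoretic data attached to a Sylow subgroup of order `p`. -/
theorem exists_sylow_setup (P : Sylow p G) (hP : Nat.card P = p) :
    ∃ (y : G) (H : Subgroup G), orderOf y = p ∧ (P : Subgroup G) = Subgroup.zpowers y ∧
      H ≤ Subgroup.normalizer ((P : Subgroup G) : Set G) ∧
      y ∈ Subgroup.normalizer ((P : Subgroup G) : Set G) ∧
      (∀ n ∈ Subgroup.normalizer ((P : Subgroup G) : Set G), ∃ z ∈ Subgroup.zpowers y, ∃ h : H, n = z * h) ∧
      ¬ p ∣ Nat.card H ∧
      (∀ h : H, ∃ a : ℕ, (h : G)⁻¹ * y * h = y ^ a) ∧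
      (∀ g : G, ∀ z ∈ Subgroup.zpowers y, z ≠ 1 → g⁻¹ * z * g ∈ Subgroup.normalizer ((P : Subgroup G) : Set G) →
        g ∈ Subgroup.normalizer ((P : Subgroup G) : Set G)) ∧
      (∀ g : G, g * y = y * g → g ∈ Subgroup.normalizer ((P : Subgroup G) : Set G)) ∧
      (∀ g : G, ∀ z ∈ Subgroup.zpowers y, z ≠ 1 → g * z = z * g → g * y = y * g) := by
  classical
  have hpp : p.Prime := hp.out
  set N := Subgroup.normalizer ((P : Subgroup G) : Set G) with hN
  have hPN : (P : Subgroup G) ≤ N := Subgroup.le_normalizer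
  -- the generator
  obtain ⟨y, hyP, hy1⟩ : ∃ y ∈ (P : Subgroup G), y ≠ 1 := by
    by_contra hcon
    push Not at hcon
    have h1 : (P : Subgroup G) = ⊥ := (Subgroup.eq_bot_iff_forall _).mpr hcon
    have h2 : Nat.card (P : Subgroup G) = 1 := by
      rw [h1]
      exact Subgroup.card_bot
    have h3 : Nat.card (P : Subgroup G) = p := hP
    have := hpp.one_lt
    omega
  have hgen : ∀ z ∈ (P : Subgroup G), z ≠ 1 → orderOf z = p ∧ (P : Subgroup G) = Subgroup.zpowers z := by
    intro z hz hz1
    have h1 : orderOf z ∣ p := by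
      have h2 := Subgroup.orderOf_dvd_natCard (P : Subgroup G) hz
      rwa [show Nat.card (P : Subgroup G) = p from hP] at h2
    have h2 : orderOf z = p := by
      rcases (Nat.dvd_prime hpp).mp h1 with h | h
      · exact absurd (orderOf_eq_one_iff.mp h) hz1
      · exact h
    refine ⟨h2, ?_⟩
    symm
    apply Subgroup.eq_of_le_of_card_ge
    · exact Subgroup.zpowers_le.mpr hz
    · rw [Nat.card_zpowers, h2]
      exact (show Nat.card (P : Subgroup G) = p from hP).le
  obtain ⟨hyo, hyg⟩ := hgen y hyP hy1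
  -- the complement
  haveI hQn : ((P : Subgroup G).subgroupOf N).Normal := Subgroup.normal_in_normalizer
  have hpi : ¬ p ∣ ((P : Subgroup G).subgroupOf N).index := by
    intro h
    apply P.not_dvd_index
    have h1 := Subgroup.relIndex_mul_index hPN
    rw [← h1]
    exact Dvd.dvd.mul_right h _
  have hcQ : Nat.card ((P : Subgroup G).subgroupOf N) = p := by
    exact (Nat.card_congr (Subgroup.subgroupOfEquivOfLe hPN).toEquiv).trans hP
  obtain ⟨H', hH'⟩ := Subgroup.exists_right_complement'_of_coprime (N := (P : Subgroup G).subgroupOf N) (by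
    rw [hcQ]
    exact (hpp.coprime_iff_not_dvd).mpr hpi)
  have hcardH : Nat.card H' = ((P : Subgroup G).subgroupOf N).index := hH'.symm.index_eq_card.symm
  refine ⟨y, H'.map N.subtype, hyo, hyg, ?_, hPN hyP, ?_, ?_, ?_, ?_, ?_, ?_⟩
  · exact Subgroup.map_subtype_le H'
  · intro n hn
    obtain ⟨⟨a, b⟩, hab, -⟩ := (Subgroup.isComplement'_def.mp hH').existsUnique ⟨n, hn⟩
    refine ⟨a, ?_, ⟨b, Subgroup.mem_map_of_mem _ b.2⟩, ?_⟩
    · rw [← hyg]
      exact Subgroup.mem_subgroupOf.mp a.2
    · have := congrArg Subtype.val hab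
      simpa using this.symm
  · have h1 : Nat.card (H'.map N.subtype) = Nat.card H' :=
      Subgroup.card_map_of_injective N.subtype_injective
    rw [h1, hcardH]
    exact hpi
  · rintro ⟨h, hh⟩
    have hhN : h⁻¹ ∈ N := N.inv_mem ((Subgroup.map_subtype_le H') hh)
    have h1 : h⁻¹ * y * h ∈ (P : Subgroup G) := by
      have h2 := (Subgroup.mem_normalizer_iff.mp hhN y).mp hyP
      simpa using h2
    rw [hyg] at h1
    have hfin : IsOfFinOrder y := by
      rw [← orderOf_pos_iff, hyo]
      exact hpp.pos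
    have h2 : h⁻¹ * y * h ∈ ((Subgroup.zpowers y : Subgroup G) : Set G) := h1
    rw [← hfin.powers_eq_zpowers] at h2
    obtain ⟨a, ha⟩ := h2
    exact ⟨a, ha.symm⟩
  · intro g z hz hz1 hgz
    rw [← hyg] at hz
    obtain ⟨hzo, hzg⟩ := hgen z hz hz1
    set t := g⁻¹ * z * g with ht
    have hto : orderOf t = p := by
      have h1 : t = (MulAut.conj g⁻¹).toMonoidHom z := by
        simp [ht]
      rw [h1, orderOf_injective _ (MulAut.conj g⁻¹).injective]
      exact hzo
    have ht1 : t ≠ 1 := by
      intro h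
      rw [h, orderOf_one] at hto
      exact hpp.one_lt.ne hto
    have htp : IsPGroup p (Subgroup.zpowers t) := by
      rw [IsPGroup.iff_card, Nat.card_zpowers, hto]
      exact ⟨1, (pow_one p).symm⟩
    have htP : t ∈ (P : Subgroup G) := by
      have h1 := htp.inf_normalizer_sylow P
      have h2 : t ∈ Subgroup.zpowers t ⊓ Subgroup.normalizer (P : Set G) :=
        Subgroup.mem_inf.mpr ⟨Subgroup.mem_zpowers t, hgz⟩
      rw [h1] at h2
      exact (Subgroup.mem_inf.mp h2).2
    -- `g` normalizes `P`
    let Q : Subgroup G := (P : Subgroup G).map (MulAut.conj g⁻¹).toMonoidHom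
    have hQ : Q ≤ (P : Subgroup G) := by
      rw [hzg]
      rw [show Q = ((P : Subgroup G).map (MulAut.conj g⁻¹).toMonoidHom) from rfl, hzg, MonoidHom.map_zpowers]
      apply Subgroup.zpowers_le.mpr
      have : (MulAut.conj g⁻¹).toMonoidHom z = t := by
        simp [ht]
      rw [this, ← hzg]
      exact htP
    have hQe : Q = (P : Subgroup G) := by
      apply Subgroup.eq_of_le_of_card_ge hQ
      have : Nat.card Q = Nat.card (P : Subgroup G) :=
        Subgroup.card_map_of_injective (MulAut.conj g⁻¹).injective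
      exact this.ge
    have hinv : g⁻¹ ∈ N := by
      rw [hN, Subgroup.mem_normalizer_iff]
      intro x
      constructor
      · intro hx
        rw [← hQe]
        exact ⟨x, hx, rfl⟩
      · intro hx
        rw [← hQe] at hx
        obtain ⟨w, hw, hwx⟩ := hx
        have : w = x := by
          have := (MulAut.conj g⁻¹).injective hwx
          exact this
        rwa [← this]
    simpa using N.inv_mem hinv
  · intro g hg
    rw [hN, Subgroup.mem_normalizer_iff, hyg]
    have hgzp : ∀ i : ℤ, g * y ^ i * g⁻¹ = y ^ i := by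
      intro i
      have hc : Commute g y := hg
      rw [(hc.zpow_right i).eq, mul_assoc, mul_inv_cancel, mul_one]
    intro x
    constructor
    · intro hx
      obtain ⟨i, rfl⟩ := Subgroup.mem_zpowers_iff.mp hx
      rw [hgzp]
      exact hx
    · intro hx
      obtain ⟨i, hi⟩ := Subgroup.mem_zpowers_iff.mp hx
      have h1 : x = y ^ i := by
        have h2 : g * x * g⁻¹ = g * y ^ i * g⁻¹ := by
          rw [hgzp, hi]
        have h3 := mul_right_cancel h2
        exact mul_left_cancel h3
      rw [h1]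
      exact Subgroup.zpow_mem _ (Subgroup.mem_zpowers y) _
  · intro g z hz hz1 hgz
    rw [← hyg] at hz
    obtain ⟨hzo, hzg⟩ := hgen z hz hz1
    have hyz : y ∈ Subgroup.zpowers z := by
      rw [← hzg]
      exact hyP
    obtain ⟨i, rfl⟩ := Subgroup.mem_zpowers_iff.mp hyz
    have hc : Commute g z := hgz
    exact (hc.zpow_right i).eq

end Setup

section Minor

/-- Linearly independent rows have a nonzero maximal minor. -/
theorem exists_det_ne_zero_of_linearIndependent {k R ι : Type*} [Field k] [Finite R] [Fintype ι] [DecidableEq ι] (v : ι → R → k)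
    (hv : LinearIndependent k v) : ∃ r : ι → R, (Matrix.of fun i j => v i (r j)).det ≠ 0 := by
  classical
  haveI := Fintype.ofFinite R
  let c : R → (ι → k) := fun t i => v i t
  have hspan : Submodule.span k (Set.range c) = ⊤ := by
    by_contra hne
    obtain ⟨f, hf1, hf2⟩ := Submodule.exists_le_ker_of_lt_top _ (lt_top_iff_ne_top.mpr hne)
    apply hf1
    -- a functional vanishing on all columns
    let a : ι → k := fun i => f (Pi.single i 1)
    have hfe : ∀ w : ι → k, f w = ∑ i, a i * w i := by
      intro w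
      conv_lhs => rw [← Finset.univ_sum_single w]
      rw [map_sum]
      refine sum_congr rfl fun i _ => ?_
      have : (Pi.single i (w i) : ι → k) = w i • Pi.single i 1 := by
        rw [← Pi.single_smul, smul_eq_mul, mul_one]
      rw [this, map_smul, smul_eq_mul, mul_comm]
    have ha : a = 0 := by
      have h1 := (Fintype.linearIndependent_iff.mp hv) a (by
        funext t
        have h2 : f (c t) = 0 := hf2 (Submodule.subset_span ⟨t, rfl⟩)
        rw [hfe] at h2
        simpa [c, Finset.sum_apply] using h2)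
      funext i
      exact h1 i
    ext w
    simp [a] at ha
    have h3 := congrFun ha w
    simpa using h3
  obtain ⟨b, hb1, hb2, hb3⟩ := exists_linearIndependent k (Set.range c)
  have hb2' : Submodule.span k b = ⊤ := by
    rw [hb2, hspan]
  let B := Module.Basis.mk hb3 (by
    rw [Subtype.range_coe, hb2'])
  haveI : Fintype b := FiniteDimensional.fintypeBasisIndex B
  have hcard : Fintype.card b = Fintype.card ι := by
    have h1 := Module.finrank_eq_card_basis B
    rw [Module.finrank_fintype_fun_eq_card] at h1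
    exact h1.symm
  let e : ι ≃ b := (Fintype.equivOfCardEq hcard).symm
  have hr : ∀ j : ι, ∃ t, c t = (e j : ι → k) := fun j => hb1 (e j).2
  choose r hr using hr
  refine ⟨r, ?_⟩
  have hind : LinearIndependent k (fun j : ι => (e j : ι → k)) := hb3.comp _ e.injective
  have hcol : (Matrix.of fun i j => v i (r j)).col = fun j => (e j : ι → k) := by
    funext j i
    rw [← hr j]
    rfl
  have hunit := Matrix.linearIndependent_cols_iff_isUnit.mp (by rw [hcol]; exact hind)
  exact ((Matrix.isUnit_iff_isUnit_det _).mp hunit).ne_zero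

end Minor

section Rank

variable {G : Type u} [Group G] [Fintype G] {p : ℕ} [hp : Fact p.Prime] {M : Ideal AlgInt}

/-- The block idempotent modulo `M`. -/
noncomputable def epsRes (M : Ideal AlgInt) [M.IsPrime] (B : Set (IrrCharacter G)) (hB : IsPBlock M B) (u : G) : ResF M :=
  Ideal.Quotient.mk (locMax M) (⟨coef (indic B) u, coef_memLocalRing (indic_mem_zS hB) u⟩ : locRing M)

theorem epsRes_class (M : Ideal AlgInt) [M.IsPrime] (B : Set (IrrCharacter G)) (hB : IsPBlock M B) (g x : G) :
    epsRes M B hB (x * g * x⁻¹) = epsRes M B hB g := by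
  simp only [epsRes]
  congr 1
  apply Subtype.ext
  exact coef_isClassFunction _ g x

theorem epsRes_sum (M : Ideal AlgInt) [M.IsPrime] (B : Set (IrrCharacter G)) (hB : IsPBlock M B)
    (h1B : oneIrr G ∈ B) : ∑ u, epsRes M B hB u = 1 := by
  have h1 : ∑ u, (⟨coef (indic B) u, coef_memLocalRing (indic_mem_zS hB) u⟩ : locRing M) = 1 := by
    apply Subtype.ext
    have h2 := congrFun (spec_coef (indic B)) (oneIrr G)
    rw [indic_apply_of_mem h1B] at h2
    simp only [spec] at h2
    simpa [oneIrr] using h2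
  simp only [epsRes]
  rw [← map_sum, h1, map_one]

theorem epsRes_id (M : Ideal AlgInt) [M.IsPrime] (B : Set (IrrCharacter G)) (hB : IsPBlock M B) (t : G) :
    ∑ w, epsRes M B hB w * epsRes M B hB (w⁻¹ * t) = epsRes M B hB t := by
  have h1 : ∑ w, (⟨coef (indic B) w, coef_memLocalRing (indic_mem_zS hB) w⟩ : locRing M) *
      (⟨coef (indic B) (w⁻¹ * t), coef_memLocalRing (indic_mem_zS hB) _⟩ : locRing M) =
      ⟨coef (indic B) t, coef_memLocalRing (indic_mem_zS hB) t⟩ := by
    apply Subtype.ext
    have h2 := congrFun (coef_mul (indic B) (indic B)) t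
    rw [indic_mul_self] at h2
    simp only [conv] at h2
    simpa using h2.symm
  simp only [epsRes]
  rw [← h1, map_sum]
  simp only [map_mul]

/-- The linear characters of `N` trivial on the centralizer. -/
theorem exists_chars (k : Type*) [Field k] [IsAlgClosed k] [CharP k p] {y : G} (hyo : orderOf y = p)
    {N H : Subgroup G} (hHN : H ≤ N) (hyN : y ∈ N)
    (hN : ∀ n ∈ N, ∃ z ∈ Subgroup.zpowers y, ∃ h : H, n = z * h) (hHp : ¬ p ∣ Nat.card H)
    (hnorm : ∀ n ∈ N, ∃ a : ℕ, n * y * n⁻¹ = y ^ a) (Cz : Subgroup G) (hmem : ∀ x : G, x ∈ Cz ↔ x * y = y * x) :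
    ∃ ν : Fin (Cz.relIndex N) → (N →* k),
      (∀ i, ∀ n : N, (n : G) * y = y * n → ν i n = 1) ∧
      (∀ i j, i ≠ j → ∃ h : H, ν i (Subgroup.inclusion hHN h) ≠ ν j (Subgroup.inclusion hHN h)) := by
  classical
  have hpp : p.Prime := hp.out
  let C' : Subgroup N := Cz.subgroupOf N
  have hmem' : ∀ n : N, n ∈ C' ↔ (n : G) * y = y * n := by
    intro n
    rw [Subgroup.mem_subgroupOf, hmem]
  haveI hC'n : C'.Normal := by
    refine ⟨fun c hc n => ?_⟩
    rw [hmem'] at hc ⊢
    obtain ⟨b, hb⟩ := hnorm (n⁻¹ : N) n⁻¹.2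
    simp only [Subgroup.coe_inv, inv_inv] at hb
    have hcb : Commute (c : G) (y ^ b) := (show Commute (c : G) y from hc).pow_right b
    have h1 : (c : G) * ((n : G)⁻¹ * y * n) = ((n : G)⁻¹ * y * n) * c := by
      rw [hb]
      exact hcb.eq
    simp only [Subgroup.coe_mul, Subgroup.coe_inv]
    calc (n : G) * c * (n : G)⁻¹ * y = n * (c * ((n : G)⁻¹ * y * n)) * (n : G)⁻¹ := by group
      _ = n * (((n : G)⁻¹ * y * n) * c) * (n : G)⁻¹ := by rw [h1]
      _ = y * ((n : G) * c * (n : G)⁻¹) := by group
  have hcomm : ∀ a b : N ⧸ C', a * b = b * a := by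
    intro a b
    obtain ⟨n, rfl⟩ := QuotientGroup.mk_surjective a
    obtain ⟨n', rfl⟩ := QuotientGroup.mk_surjective b
    rw [← QuotientGroup.mk_mul, ← QuotientGroup.mk_mul, QuotientGroup.eq, hmem']
    obtain ⟨a', ha'⟩ := hnorm n n.2
    obtain ⟨b', hb'⟩ := hnorm n' n'.2
    have hconj : ∀ (x : G) (m : ℕ), x * y ^ m * x⁻¹ = (x * y * x⁻¹) ^ m := by
      intro x m
      rw [conj_pow]
    have h1 : ((n : G) * n') * y * ((n : G) * n')⁻¹ = ((n' : G) * n) * y * ((n' : G) * n)⁻¹ := by
      calc ((n : G) * n') * y * ((n : G) * n')⁻¹ = (n : G) * ((n' : G) * y * (n' : G)⁻¹) * (n : G)⁻¹ := by group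
        _ = (y ^ a') ^ b' := by rw [hb', hconj, ha']
        _ = (y ^ b') ^ a' := by rw [← pow_mul, ← pow_mul, mul_comm]
        _ = (n' : G) * ((n : G) * y * (n : G)⁻¹) * (n' : G)⁻¹ := by rw [ha', hconj, hb']
        _ = _ := by group
    simp only [Subgroup.coe_mul, Subgroup.coe_inv]
    set u : G := ((n : G) * n')⁻¹ * ((n' : G) * n) with hu
    have h2 : ((n' : G) * n) = ((n : G) * n') * u := by
      rw [hu]
      group
    rw [h2] at h1
    have h3 : ((n : G) * n') * y * ((n : G) * n')⁻¹ = ((n : G) * n') * (u * y * u⁻¹) * ((n : G) * n')⁻¹ := by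
      rw [h1]
      group
    have h4 : y = u * y * u⁻¹ := by
      have := mul_right_cancel h3
      exact mul_left_cancel this
    calc u * y = (u * y * u⁻¹) * u := by group
      _ = y * u := by rw [← h4]
  letI : CommGroup (N ⧸ C') := { (inferInstance : Group (N ⧸ C')) with mul_comm := hcomm }
  -- the order of the quotient is prime to `p`
  have hpA : ¬ p ∣ Nat.card (N ⧸ C') := by
    intro h
    haveI : Fact p.Prime := hp
    obtain ⟨a, ha⟩ := exists_prime_orderOf_dvd_card' p h
    obtain ⟨n, rfl⟩ := QuotientGroup.mk_surjective a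
    obtain ⟨z, hz, t, htz⟩ := hN n n.2
    have h1 : (n : N ⧸ C') = ((Subgroup.inclusion hHN t : N) : N ⧸ C') := by
      rw [QuotientGroup.eq, hmem']
      have hzc : Commute z y := by
        obtain ⟨i, rfl⟩ := Subgroup.mem_zpowers_iff.mp hz
        exact Commute.zpow_self y i
      have hn : (n : G) = z * t := htz
      have h2 : ((n⁻¹ * Subgroup.inclusion hHN t : N) : G) = (t : G)⁻¹ * z⁻¹ * t := by
        simp [hn]
      rw [h2]
      have hc2 : Commute ((t : G)⁻¹ * z⁻¹ * t) y := by
        obtain ⟨b, hb⟩ := hnorm ((t : G)⁻¹) (N.inv_mem (hHN t.2))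
        rw [inv_inv] at hb
        obtain ⟨i, rfl⟩ := Subgroup.mem_zpowers_iff.mp hz
        have h5 : (t : G)⁻¹ * (y ^ i)⁻¹ * t = ((t : G)⁻¹ * y * t) ^ (-i) := by
          have := conj_zpow (a := (t : G)⁻¹) (b := y) (i := -i)
          rw [inv_inv] at this
          rw [← zpow_neg]
          exact this.symm
        rw [h5, hb]
        exact ((Commute.refl y).pow_left b).zpow_left _
      exact hc2.eq
    rw [h1] at ha
    have h3 : ((Subgroup.inclusion hHN t : N) : N ⧸ C') ^ Nat.card H = 1 := by
      rw [← QuotientGroup.mk_pow]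
      have h4 : (Subgroup.inclusion hHN t : N) ^ Nat.card H = 1 := by
        rw [← map_pow, pow_card_eq_one', map_one]
      rw [h4, QuotientGroup.mk_one]
    have h4 := orderOf_dvd_of_pow_eq_one h3
    rw [ha] at h4
    exact hHp h4
  haveI hne : NeZero ((Monoid.exponent (N ⧸ C') : ℕ) : k) := by
    refine ⟨fun h => hpA ?_⟩
    have h1 := (CharP.cast_eq_zero_iff k p _).mp h
    exact h1.trans Group.exponent_dvd_nat_card
  have hcard := CommGroup.card_monoidHom_of_hasEnoughRootsOfUnity (N ⧸ C') k
  have hidx : Cz.relIndex N = Nat.card (N ⧸ C') := rfl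
  rw [← hidx] at hcard
  haveI : Finite ((N ⧸ C') →* kˣ) := Nat.finite_of_card_ne_zero (by
    rw [hcard]
    intro h0
    have : Nat.card (N ⧸ C') ≠ 0 := Nat.card_pos.ne'
    exact this (by rw [← hidx]; exact h0))
  let eqv : Fin (Cz.relIndex N) ≃ ((N ⧸ C') →* kˣ) := (Finite.equivFinOfCardEq hcard).symm
  refine ⟨fun i => (Units.coeHom k).comp ((eqv i).comp (QuotientGroup.mk' C')), ?_, ?_⟩
  · intro i n hn
    have h1 : (QuotientGroup.mk' C') n = 1 := (QuotientGroup.eq_one_iff n).mpr ((hmem' n).mpr hn)
    show ((eqv i (QuotientGroup.mk' C' n) : kˣ) : k) = 1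
    rw [h1, map_one, Units.val_one]
  · intro i j hij
    have hne' : eqv i ≠ eqv j := fun h => hij (eqv.injective h)
    obtain ⟨a, ha⟩ : ∃ a, eqv i a ≠ eqv j a := by
      by_contra hcon
      push Not at hcon
      exact hne' (MonoidHom.ext hcon)
    obtain ⟨n, rfl⟩ := QuotientGroup.mk_surjective a
    obtain ⟨z, hz, t, htz⟩ := hN n n.2
    refine ⟨t, ?_⟩
    have h1 : (n : N ⧸ C') = ((Subgroup.inclusion hHN t : N) : N ⧸ C') := by
      rw [QuotientGroup.eq, hmem']
      have hn : (n : G) = z * t := htz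
      have h2 : ((n⁻¹ * Subgroup.inclusion hHN t : N) : G) = (t : G)⁻¹ * z⁻¹ * t := by
        simp [hn]
      rw [h2]
      have hc2 : Commute ((t : G)⁻¹ * z⁻¹ * t) y := by
        obtain ⟨b, hb⟩ := hnorm ((t : G)⁻¹) (N.inv_mem (hHN t.2))
        rw [inv_inv] at hb
        obtain ⟨i, rfl⟩ := Subgroup.mem_zpowers_iff.mp hz
        have h5 : (t : G)⁻¹ * (y ^ i)⁻¹ * t = ((t : G)⁻¹ * y * t) ^ (-i) := by
          have := conj_zpow (a := (t : G)⁻¹) (b := y) (i := -i)
          rw [inv_inv] at this
          rw [← zpow_neg]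
          exact this.symm
        rw [h5, hb]
        exact ((Commute.refl y).pow_left b).zpow_left _
      exact hc2.eq
    rw [h1] at ha
    intro h
    apply ha
    exact Units.ext h

/-- The traces of the simple modules in the principal block. -/
theorem exists_traces_principal (hM : IsPModular p M) [hMp : M.IsPrime] (P : Sylow p G) (hP : Nat.card P = p)
    (B : Set (IrrCharacter G)) (hB : IsPBlock M B) (h1B : oneIrr G ∈ B) :
    ∃ τ : Fin ((Subgroup.centralizer ((P : Subgroup G) : Set G)).relIndex
        (Subgroup.normalizer ((P : Subgroup G) : Set G))) → G → ResF M,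
      LinearIndependent (ResF M) τ ∧ (∀ i g x, τ i (x * g * x⁻¹) = τ i g) ∧
      (∀ i a b j, Commute a b → orderOf a = p ^ j → τ i (a * b) = τ i b) ∧
      (∀ i g, ∑ u, epsRes M B hB u * τ i (u * g) = τ i g) := by
  classical
  have hpp : p.Prime := hp.out
  obtain ⟨y, H, hyo, hyg, hHN, hyN, hN, hHp, hHy, hfree, hCN, hcent⟩ := exists_sylow_setup P hP
  haveI hk : CharP (ResF M) p := (CharP.charP_iff_prime_eq_zero hpp).mpr (by
    have h1 : ((p : locRing M)) ∈ locMax M := by
      rw [mem_locMax]
      simpa using p_memLocalIdeal hM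
    have h2 : (Ideal.Quotient.mk (locMax M)) (p : locRing M) = 0 := Ideal.Quotient.eq_zero_iff_mem.mpr h1
    simpa using h2)
  have hfin : IsOfFinOrder y := by
    rw [← orderOf_pos_iff, hyo]
    exact hpp.pos
  have hnorm : ∀ n ∈ Subgroup.normalizer ((P : Subgroup G) : Set G), ∃ a : ℕ, n * y * n⁻¹ = y ^ a := by
    intro n hn
    have hyP : y ∈ (P : Subgroup G) := by
      rw [hyg]
      exact Subgroup.mem_zpowers y
    have h1 : n * y * n⁻¹ ∈ (P : Subgroup G) := (Subgroup.mem_normalizer_iff.mp hn y).mp hyP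
    rw [hyg] at h1
    have h2 : n * y * n⁻¹ ∈ ((Subgroup.zpowers y : Subgroup G) : Set G) := h1
    rw [← hfin.powers_eq_zpowers] at h2
    obtain ⟨a, ha⟩ := h2
    exact ⟨a, ha.symm⟩
  have hmem : ∀ x : G, x ∈ Subgroup.centralizer ((P : Subgroup G) : Set G) ↔ x * y = y * x := by
    intro x
    constructor
    · intro hx
      have hyP : y ∈ (P : Subgroup G) := by
        rw [hyg]
        exact Subgroup.mem_zpowers y
      exact (Subgroup.mem_centralizer_iff.mp hx y hyP).symm
    · intro hx
      rw [Subgroup.mem_centralizer_iff]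
      intro t ht
      have ht' : t ∈ Subgroup.zpowers y := by
        rw [← hyg]
        exact ht
      obtain ⟨i, rfl⟩ := Subgroup.mem_zpowers_iff.mp ht'
      have hc : Commute x y := hx
      exact (hc.zpow_right i).eq.symm
  obtain ⟨ν, hν, hinj⟩ := exists_chars (ResF M) hyo hHN hyN hN hHp hnorm _ hmem
  letI : Fintype (Subgroup.normalizer ((P : Subgroup G) : Set G)) := Fintype.ofFinite _
  letI : Fintype H := Fintype.ofFinite _
  letI : Fintype (Subgroup.zpowers y) := Fintype.ofFinite _
  exact ModTI.exists_independent_traces hyo hHN hyN hN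
    (fun h => hHp ((CharP.cast_eq_zero_iff (ResF M) p _).mp h)) hHy hfree hCN hcent
    (epsRes_class M B hB) (epsRes_sum M B hB h1B) (epsRes_id M B hB) ν hν hinj

/-- Lifting independent traces to block functions. -/
theorem exists_block_functions_aux (hM : IsPModular p M) [hMp : M.IsPrime]
    {ι : Type} [Fintype ι] [DecidableEq ι] {B : Set (IrrCharacter G)} (hB : IsPBlock M B)
    (τ : ι → G → ResF M) (hind : LinearIndependent (ResF M) τ)
    (hcl : ∀ i g x, τ i (x * g * x⁻¹) = τ i g)
    (hsec : ∀ i a b j, Commute a b → orderOf a = p ^ j → τ i (a * b) = τ i b)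
    (hfix : ∀ i g, ∑ u, epsRes M B hB u * τ i (u * g) = τ i g) :
    ∃ f : ι → G → ℂ,
      (∀ i, ∃ c : IrrCharacter G → ℂ, ∀ g, f i g = ∑ χ : IrrCharacter G, indic B χ * (c χ * (χ : G → ℂ) g)) ∧
      ∀ a : ι → ℂ, (∀ g, ¬ p ∣ orderOf g → ∑ i, a i * f i g = 0) → ∀ i, a i = 0 := by
  classical
  have hpp : p.Prime := hp.out
  let mk : locRing M →+* ResF M := Ideal.Quotient.mk (locMax M)
  have hmks : Function.Surjective mk := Ideal.Quotient.mk_surjective
  let sec : ResF M → locRing M := Function.surjInv hmks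
  have hsecs : ∀ x, mk (sec x) = x := Function.surjInv_eq hmks
  let c₀ : G → locRing M := fun u => ⟨coef (indic B) u, coef_memLocalRing (indic_mem_zS hB) u⟩
  have hc₀ : ∀ u, mk (c₀ u) = epsRes M _ hB u := fun u => rfl
  let Fl : ι → G → locRing M := fun i g => ∑ x, c₀ x * sec (τ i (x * g))
  let hh : ι → G → ℂ := fun i g => ((sec (τ i g) : locRing M) : ℂ)
  have hhc : ∀ i, IsClassFunction G (hh i) := by
    intro i g x
    simp only [hh]
    rw [hcl]
  have hFl : ∀ i g, ((Fl i g : locRing M) : ℂ) = projOp (indic B) (hh i) g := by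
    intro i g
    simp only [Fl, projOp, hh, c₀]
    push_cast
    rfl
  have hmkF : ∀ i g, mk (Fl i g) = τ i g := by
    intro i g
    simp only [Fl]
    rw [map_sum, ← hfix i g]
    refine sum_congr rfl fun x _ => ?_
    rw [map_mul, hc₀, hsecs]
  refine ⟨fun i g => projOp (indic B) (hh i) g, ?_, ?_⟩
  · intro i
    refine ⟨fun χ => classInner (hh i) (χ : G → ℂ), fun g => ?_⟩
    exact projOp_eq_sum _ (hhc i) g
  · intro a ha
    -- independence on the regular elements
    let R := {g : G // ¬ p ∣ orderOf g}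
    have hindR : LinearIndependent (ResF M) (fun i (r : R) => τ i (r : G)) := by
      rw [Fintype.linearIndependent_iff]
      intro c hc i
      have h1 := (Fintype.linearIndependent_iff.mp hind) c (by
        funext g
        obtain ⟨α, hα⟩ := exists_isPExp (G := G) (p := p)
        obtain ⟨v, hv, hcomm, ⟨j, hj⟩, hreg⟩ := hα.isPPart g
        have h2 := congrFun hc ⟨v, hreg⟩
        simp only [Finset.sum_apply, Pi.smul_apply, smul_eq_mul, Pi.zero_apply] at h2 ⊢
        rw [← h2]
        refine sum_congr rfl fun i _ => ?_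
        congr 1
        rw [← hv]
        exact hsec i _ _ j hcomm hj)
      exact h1 i
    obtain ⟨r, hr⟩ := exists_det_ne_zero_of_linearIndependent _ hindR
    let Z : Matrix ι ι (locRing M) := Matrix.of fun i j => Fl i (r j : G)
    have hZ : mk Z.det ≠ 0 := by
      rw [RingHom.map_det]
      have hZeq : mk.mapMatrix Z = Matrix.of fun i j => τ i (r j : G) := by
        ext i j
        simp [Z, hmkF]
      rw [hZeq]
      exact hr
    have hZ0 : Z.det ≠ 0 := fun h => hZ (by rw [h, map_zero])
    let Zc : Matrix ι ι ℂ := Matrix.of fun i j => projOp (indic B) (hh i) (r j : G)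
    have hZc : Zc.det ≠ 0 := by
      have h1 : Zc = (locRing M).subtype.mapMatrix Z := by
        ext i j
        simp [Zc, Z, hFl]
      rw [h1, ← RingHom.map_det]
      intro h
      exact hZ0 (Subtype.ext h)
    have hv : Matrix.vecMul a Zc = 0 := by
      funext j
      have h1 := ha (r j : G) (r j).2
      simpa [Matrix.vecMul, dotProduct, Zc] using h1
    have h2 := Matrix.eq_zero_of_vecMul_eq_zero hZc hv
    intro i
    exact congrFun h2 i

/-- The principal block has at least `e` independent functions on the regular elements. -/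
theorem exists_block_functions (hM : IsPModular p M) (P : Sylow p G) (hP : Nat.card P = p)
    (ι : Type) [Fintype ι] (hι : Fintype.card ι = (Subgroup.centralizer ((P : Subgroup G) : Set G)).relIndex
        (Subgroup.normalizer ((P : Subgroup G) : Set G))) :
    ∃ f : ι → G → ℂ,
      (∀ i, ∃ c : IrrCharacter G → ℂ, ∀ g, f i g = ∑ χ : IrrCharacter G, indic (principalBlock M G) χ * (c χ * (χ : G → ℂ) g)) ∧
      ∀ a : ι → ℂ, (∀ g, ¬ p ∣ orderOf g → ∑ i, a i * f i g = 0) → ∀ i, a i = 0 := by
  classical
  haveI hMp : M.IsPrime := isPrime_of_modular hM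
  have hB : IsPBlock M (principalBlock M G) := ⟨oneIrr G, rfl⟩
  have h1B : oneIrr G ∈ principalBlock M G := self_mem_blockOf (oneIrr G)
  obtain ⟨τ, hind, hcl, hsec, hfix⟩ := exists_traces_principal hM P hP _ hB h1B
  let eqv : ι ≃ Fin ((Subgroup.centralizer ((P : Subgroup G) : Set G)).relIndex
        (Subgroup.normalizer ((P : Subgroup G) : Set G))) := (Fintype.equivFinOfCardEq hι)
  refine exists_block_functions_aux hM hB (fun i => τ (eqv i)) (hind.comp _ eqv.injective)
    (fun i => hcl _) (fun i => hsec _) (fun i => hfix _)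

end Rank

end Cfsg.Agent.Lib.Blocks
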