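import Cfsg.Agent.Lib.Blocks.Third

/-!
# Sums over the principal block at `p`-singular elements (Brauer's formula)
-/

set_option autoImplicit false
set_option linter.unusedSectionVars false

namespace Cfsg.Agent.Lib.Blocks

open Cfsg Cfsg.Agent.Lib.Char
open scoped ComplexConjugate

universe u

variable {G : Type u} [Group G] [Fintype G] {M : Ideal AlgInt} {p : ℕ} [hp : Fact p.Prime]

/-- The generalized decomposition function. -/
noncomputable def secFun (z : G) (ζ : IrrCharacter G) (c : Subgroup.centralizer ({z} : Set G)) : ℂ :=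
  (ζ : G → ℂ) (z * (c : G))

theorem secFun_isClassFunction (z : G) (ζ : IrrCharacter G) :
    IsClassFunction (Subgroup.centralizer ({z} : Set G)) (secFun z ζ) := by
  intro g h
  simp only [secFun, Subgroup.coe_mul, Subgroup.coe_inv]
  rw [← irr_isClassFunction ζ (z * g) h]
  have hcomm : (h : G) * z = z * h := commute_of_mem_centralizer_singleton h.2
  have h5 : z * ((h : G) * (g : G) * (h : G)⁻¹) = (h : G) * (z * g) * (h : G)⁻¹ := by
    calc z * ((h : G) * g * (h : G)⁻¹) = (z * h) * g * (h : G)⁻¹ := by group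
      _ = ((h : G) * z) * g * (h : G)⁻¹ := by rw [hcomm]
      _ = _ := by group
  rw [h5]

section Main

variable {z : G} [Fintype (Subgroup.centralizer ({z} : Set G))]

/-- On regular elements, the section function of a member of the principal block only sees the
principal block. -/
theorem secFun_eq_projOp (hM : IsPModular p M) (hz : ∃ k, orderOf z = p ^ k) {ζ : IrrCharacter G}
    (hζ : ζ ∈ principalBlock M G) {y : Subgroup.centralizer ({z} : Set G)} (hy : ¬ p ∣ orderOf y) :
    secFun z ζ y = projOp (indic (principalBlock M (Subgroup.centralizer ({z} : Set G)))) (secFun z ζ) y := by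
  classical
  have := isPrime_of_modular hM
  have hPG : IsPBlock M (principalBlock M G) := ⟨oneIrr G, rfl⟩
  have hPC : IsPBlock M (principalBlock M (Subgroup.centralizer ({z} : Set G))) := ⟨oneIrr _, rfl⟩
  rw [eq_sum_projOp_blocks M (secFun z ζ) y,
    Finset.sum_eq_single (principalBlock M (Subgroup.centralizer ({z} : Set G)))]
  · intro d hd hne
    have hd' := mem_blocksFinset.mp hd
    rw [← blockPart_eq_projOp d (secFun_isClassFunction z ζ)]
    refine second_main_blockPart hM hz hPG hζ hd' ?_ hy
    intro hind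
    exact hne ((isInducedBlock_principal_iff hM _ ⟨_, hind⟩).mp hind)
  · intro h
    exact absurd (mem_blocksFinset.mpr hPC) h

/-- Characters outside the principal block do not see the principal block on regular elements. -/
theorem projOp_secFun_eq_zero (hM : IsPModular p M) (hz : ∃ k, orderOf z = p ^ k) {ζ : IrrCharacter G}
    (hζ : ζ ∉ principalBlock M G) {y : Subgroup.centralizer ({z} : Set G)} (hy : ¬ p ∣ orderOf y) :
    projOp (indic (principalBlock M (Subgroup.centralizer ({z} : Set G)))) (secFun z ζ) y = 0 := by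
  classical
  have := isPrime_of_modular hM
  have hPG : IsPBlock M (principalBlock M G) := ⟨oneIrr G, rfl⟩
  have hPC : IsPBlock M (principalBlock M (Subgroup.centralizer ({z} : Set G))) := ⟨oneIrr _, rfl⟩
  rw [← blockPart_eq_projOp _ (secFun_isClassFunction z ζ)]
  refine second_main_blockPart hM hz (isPBlock_blockOf ζ) (self_mem_blockOf ζ) hPC ?_ hy
  intro hind
  obtain ⟨B', hB'⟩ := exists_isInducedBlock_centralizer hM hz hPC
  have h1 : IsInducedBlock M _ (principalBlock M (Subgroup.centralizer ({z} : Set G))) (principalBlock M G) :=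
    (isInducedBlock_principal_iff hM _ ⟨_, hB'⟩).mpr rfl
  have h2 := IsInducedBlock.unique _ hind h1
  rw [← h2] at hζ
  exact hζ (self_mem_blockOf ζ)

omit [Fintype (Subgroup.centralizer ({z} : Set G))] in
/-- The `p`-part of a product in the section of `z`. -/
theorem isPPart_mul_of_regular (hz : ∃ k, orderOf z = p ^ k) {w : Subgroup.centralizer ({z} : Set G)}
    (hw : ¬ p ∣ orderOf w) : IsPPart p (z * (w : G)) z := by
  refine ⟨(w : G), rfl, ?_, hz, ?_⟩
  · exact (commute_of_mem_centralizer_singleton w.2).symm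
  · rwa [Subgroup.orderOf_coe]

omit [Fintype (Subgroup.centralizer ({z} : Set G))] in
/-- Conjugacy in the section. -/
theorem isConj_of_isConj_mul (hz : ∃ k, orderOf z = p ^ k) {w y : Subgroup.centralizer ({z} : Set G)}
    (hw : ¬ p ∣ orderOf w) (hy : ¬ p ∣ orderOf y) (h : IsConj (z * (w : G)) (z * (y : G))) : IsConj w y := by
  obtain ⟨α, hα⟩ := exists_isPExp G p
  obtain ⟨c, hc⟩ := isConj_iff.mp h
  have h1 : (z * (w : G)) ^ α = z := hα.eq_of_isPPart (isPPart_mul_of_regular hz hw)
  have h2 : (z * (y : G)) ^ α = z := hα.eq_of_isPPart (isPPart_mul_of_regular hz hy)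
  have h3 : c * z * c⁻¹ = z := by
    have h4 := congrArg (fun t => t ^ α) hc
    simp only [conj_pow, h1, h2] at h4
    exact h4
  have h4 : c ∈ Subgroup.centralizer ({z} : Set G) := by
    refine mem_centralizer_singleton_of_commute ?_
    calc c * z = (c * z * c⁻¹) * c := by group
      _ = z * c := by rw [h3]
  refine isConj_iff.mpr ⟨⟨c, h4⟩, Subtype.ext ?_⟩
  simp only [Subgroup.coe_mul, Subgroup.coe_inv]
  have h5 : c * (z * (w : G)) * c⁻¹ = (c * z * c⁻¹) * (c * (w : G) * c⁻¹) := by group
  rw [h5, h3] at hc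
  exact mul_left_cancel hc

omit [Fintype (Subgroup.centralizer ({z} : Set G))] in
/-- The centralizer of an element in the section. -/
theorem card_centralizer_mul (hz : ∃ k, orderOf z = p ^ k) {y : Subgroup.centralizer ({z} : Set G)}
    (hy : ¬ p ∣ orderOf y) :
    Nat.card (Subgroup.centralizer ({z * (y : G)} : Set G)) =
      Nat.card (Subgroup.centralizer ({y} : Set (Subgroup.centralizer ({z} : Set G)))) := by
  classical
  obtain ⟨α, hα⟩ := exists_isPExp G p
  have h2 : (z * (y : G)) ^ α = z := hα.eq_of_isPPart (isPPart_mul_of_regular hz hy)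
  have hyz : (y : G) * z = z * y := commute_of_mem_centralizer_singleton y.2
  have hmem : ∀ c : G, c ∈ Subgroup.centralizer ({z * (y : G)} : Set G) → c * z = z * c := by
    intro c hc
    have h3 : c * (z * (y : G)) = (z * (y : G)) * c :=
      (commute_of_mem_centralizer_singleton hc)
    have h4 : Commute c (z * (y : G)) := h3
    have h5 := h4.pow_right α
    rw [h2] at h5
    exact h5
  refine Nat.card_congr ⟨fun c => ⟨⟨c.1, ?_⟩, ?_⟩, fun c => ⟨(c.1 : G), ?_⟩, ?_, ?_⟩
  · exact mem_centralizer_singleton_of_commute (hmem c.1 c.2)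
  · refine mem_centralizer_singleton_of_commute ?_
    apply Subtype.ext
    have h3 : c.1 * (z * (y : G)) = (z * (y : G)) * c.1 := commute_of_mem_centralizer_singleton c.2
    have h4 := hmem c.1 c.2
    show c.1 * (y : G) = (y : G) * c.1
    apply mul_left_cancel (a := z)
    calc z * (c.1 * (y : G)) = (z * c.1) * y := by group
      _ = (c.1 * z) * y := by rw [h4]
      _ = c.1 * (z * y) := by group
      _ = (z * y) * c.1 := h3
      _ = z * ((y : G) * c.1) := by group
  · refine mem_centralizer_singleton_of_commute ?_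
    have h3 : (c.1 : G) * y = (y : G) * c.1 :=
      congrArg Subtype.val (commute_of_mem_centralizer_singleton c.2)
    have h4 : (c.1 : G) * z = z * c.1 := commute_of_mem_centralizer_singleton c.1.2
    calc (c.1 : G) * (z * y) = ((c.1 : G) * z) * y := by group
      _ = z * ((c.1 : G) * y) := by rw [h4]; group
      _ = z * ((y : G) * c.1) := by rw [h3]
      _ = (z * y) * c.1 := by group
  · intro c; rfl
  · intro c; rfl

/-- **Brauer's formula.** -/
theorem sum_principal_section (hM : IsPModular p M) (hz : ∃ k, orderOf z = p ^ k)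
    {y h : Subgroup.centralizer ({z} : Set G)} (hy : ¬ p ∣ orderOf y) (hh : ¬ p ∣ orderOf h) :
    ∑ᶠ ζ ∈ principalBlock M G, (ζ : G → ℂ) (z * (h : G)) * conj ((ζ : G → ℂ) (z * (y : G))) =
      ∑ᶠ ξ ∈ principalBlock M (Subgroup.centralizer ({z} : Set G)),
        (ξ : Subgroup.centralizer ({z} : Set G) → ℂ) h *
          conj ((ξ : Subgroup.centralizer ({z} : Set G) → ℂ) y) := by
  classical
  have := isPrime_of_modular hM
  have hPC : IsPBlock M (principalBlock M (Subgroup.centralizer ({z} : Set G))) := ⟨oneIrr _, rfl⟩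
  let T : (Subgroup.centralizer ({z} : Set G)) → ℂ := fun w => ∑ᶠ ξ ∈ principalBlock M (Subgroup.centralizer ({z} : Set G)), (ξ : (Subgroup.centralizer ({z} : Set G)) → ℂ) h * conj ((ξ : (Subgroup.centralizer ({z} : Set G)) → ℂ) w)
  have hT : ∀ w : (Subgroup.centralizer ({z} : Set G)), T w = ∑ ξ : IrrCharacter (Subgroup.centralizer ({z} : Set G)), indic (principalBlock M (Subgroup.centralizer ({z} : Set G))) ξ *
      ((ξ : (Subgroup.centralizer ({z} : Set G)) → ℂ) h * conj ((ξ : (Subgroup.centralizer ({z} : Set G)) → ℂ) w)) := fun w => finsum_mem_eq_sum_indic _ _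
  have hT0 : ∀ w : (Subgroup.centralizer ({z} : Set G)), p ∣ orderOf w → T w = 0 := fun w hw => weak_block_orthogonality hM hPC hh hw
  have hTconj : ∀ w w' : (Subgroup.centralizer ({z} : Set G)), IsConj w w' → T w = T w' := by
    intro w w' hww
    obtain ⟨c, rfl⟩ := isConj_iff.mp hww
    simp only [T]
    refine finsum_congr fun ξ => finsum_congr fun _ => ?_
    rw [irr_isClassFunction ξ w c]
  have hCard0 : (Nat.card (Subgroup.centralizer ({z} : Set G)) : ℂ) ≠ 0 := by exact_mod_cast Nat.card_pos.ne'
  -- left-hand side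
  have h1 : ∀ ζ : IrrCharacter G, indic (principalBlock M G) ζ *
      ((ζ : G → ℂ) (z * (h : G)) * conj ((ζ : G → ℂ) (z * (y : G)))) =
      projOp (indic (principalBlock M (Subgroup.centralizer ({z} : Set G)))) (secFun z ζ) h * conj ((ζ : G → ℂ) (z * (y : G))) := by
    intro ζ
    by_cases hζ : ζ ∈ principalBlock M G
    · rw [indic_apply_of_mem hζ, one_mul, ← secFun_eq_projOp hM hz hζ hh]
      rfl
    · rw [indic_apply_of_notMem hζ, zero_mul, projOp_secFun_eq_zero hM hz hζ hh, zero_mul]
  have h2 : ∀ ζ : IrrCharacter G, projOp (indic (principalBlock M (Subgroup.centralizer ({z} : Set G)))) (secFun z ζ) h =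
      (Nat.card (Subgroup.centralizer ({z} : Set G)) : ℂ)⁻¹ * ∑ w : (Subgroup.centralizer ({z} : Set G)), (ζ : G → ℂ) (z * (w : G)) * T w := by
    intro ζ
    rw [projOp_eq_sum _ (secFun_isClassFunction z ζ)]
    simp only [hT, classInner, secFun]
    rw [Finset.mul_sum]
    simp only [Finset.mul_sum, Finset.sum_mul]
    rw [Finset.sum_comm]
    refine Finset.sum_congr rfl fun w _ => ?_
    refine Finset.sum_congr rfl fun ξ _ => ?_
    ring
  have h3 : ∀ w : (Subgroup.centralizer ({z} : Set G)), (∑ ζ : IrrCharacter G, (ζ : G → ℂ) (z * (w : G)) * conj ((ζ : G → ℂ) (z * (y : G)))) * T w =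
      if IsConj y w then (Nat.card (Subgroup.centralizer ({y} : Set (Subgroup.centralizer ({z} : Set G)))) : ℂ) * T y else 0 := by
    intro w
    by_cases hw : p ∣ orderOf w
    · have h4 : ¬ IsConj y w := by
        intro hc
        apply hy
        obtain ⟨c, rfl⟩ := isConj_iff.mp hc
        rwa [orderOf_conj_eq] at hw
      rw [hT0 w hw, mul_zero, if_neg h4]
    · by_cases hc : IsConj y w
      · rw [if_pos hc, ← hTconj y w hc]
        have h4 : IsConj (z * (w : G)) (z * (y : G)) := by
          obtain ⟨c, rfl⟩ := isConj_iff.mp hc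
          refine isConj_iff.mpr ⟨(c : G)⁻¹, ?_⟩
          have hcz : (c : G) * z = z * c := commute_of_mem_centralizer_singleton c.2
          simp only [Subgroup.coe_mul, Subgroup.coe_inv, inv_inv]
          calc (c : G)⁻¹ * (z * ((c : G) * y * (c : G)⁻¹)) * c
              = (c : G)⁻¹ * (z * c) * y * ((c : G)⁻¹ * c) := by group
            _ = (c : G)⁻¹ * (c * z) * y * ((c : G)⁻¹ * c) := by rw [hcz]
            _ = z * y := by group
        rw [sum_irr_mul_conj_of_isConj h4]
        congr 1
        have h5 : Nat.card (Subgroup.centralizer ({z * (w : G)} : Set G)) =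
            Nat.card (Subgroup.centralizer ({z * (y : G)} : Set G)) := by
          exact card_centralizer_congr h4.symm
        rw [h5, card_centralizer_mul hz hy]
      · rw [if_neg hc, sum_irr_mul_conj_of_not_isConj, zero_mul]
        intro h4
        exact hc (isConj_of_isConj_mul hz hw hy h4).symm
  show _ = T y
  rw [finsum_mem_eq_sum_indic (principalBlock M G) (fun ζ : IrrCharacter G =>
    (ζ : G → ℂ) (z * (h : G)) * conj ((ζ : G → ℂ) (z * (y : G)))), Finset.sum_congr rfl (fun ζ _ => h1 ζ)]
  simp only [h2]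
  have h4 : ∑ ζ : IrrCharacter G, (Nat.card (Subgroup.centralizer ({z} : Set G)) : ℂ)⁻¹ *
      (∑ w : (Subgroup.centralizer ({z} : Set G)), (ζ : G → ℂ) (z * (w : G)) * T w) *
        conj ((ζ : G → ℂ) (z * (y : G))) =
      (Nat.card (Subgroup.centralizer ({z} : Set G)) : ℂ)⁻¹ * ∑ w : (Subgroup.centralizer ({z} : Set G)),
        (∑ ζ : IrrCharacter G, (ζ : G → ℂ) (z * (w : G)) * conj ((ζ : G → ℂ) (z * (y : G)))) * T w := by
    rw [Finset.mul_sum]
    simp only [Finset.sum_mul, Finset.mul_sum]
    rw [Finset.sum_comm]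
    refine Finset.sum_congr rfl fun w _ => ?_
    refine Finset.sum_congr rfl fun ζ _ => ?_
    ring
  rw [h4, Finset.sum_congr rfl (fun w _ => h3 w)]
  have h5 : ∑ w : (Subgroup.centralizer ({z} : Set G)),
      (if IsConj y w then (Nat.card (Subgroup.centralizer ({y} : Set (Subgroup.centralizer ({z} : Set G)))) : ℂ) * T y else 0) =
      (Nat.card {w : (Subgroup.centralizer ({z} : Set G)) // IsConj y w} : ℂ) *
        ((Nat.card (Subgroup.centralizer ({y} : Set (Subgroup.centralizer ({z} : Set G)))) : ℂ) * T y) := by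
    rw [Finset.sum_ite, Finset.sum_const_zero, add_zero, Finset.sum_const, nsmul_eq_mul]
    congr 2
    rw [Nat.card_eq_fintype_card, Fintype.card_subtype]
  rw [h5]
  have h6 := card_isConj_mul_card_centralizer y
  calc _ = (Nat.card (Subgroup.centralizer ({z} : Set G)) : ℂ)⁻¹ *
        (((Nat.card {w : (Subgroup.centralizer ({z} : Set G)) // IsConj y w} : ℂ) *
        (Nat.card (Subgroup.centralizer ({y} : Set (Subgroup.centralizer ({z} : Set G)))) : ℂ)) * T y) := by ring
    _ = T y := by rw [h6, ← mul_assoc, inv_mul_cancel₀ hCard0, one_mul]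

/-- The squared norm version of **Brauer's formula**. -/
theorem sum_principal_section_norm (hM : IsPModular p M) (hz : ∃ k, orderOf z = p ^ k)
    {y : Subgroup.centralizer ({z} : Set G)} (hy : ¬ p ∣ orderOf y) :
    ∑ᶠ ζ ∈ principalBlock M G, ‖(ζ : G → ℂ) (z * (y : G))‖ ^ 2 =
      ∑ᶠ ξ ∈ principalBlock M (Subgroup.centralizer ({z} : Set G)),
        ‖(ξ : Subgroup.centralizer ({z} : Set G) → ℂ) y‖ ^ 2 := by
  classical
  have h1 := sum_principal_section hM hz hy hy
  have h2 : ∀ {H : Type u} [Group H] [Fintype H] (B : Set (IrrCharacter H)) (f : IrrCharacter H → ℂ),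
      ((∑ᶠ χ ∈ B, ‖f χ‖ ^ 2 : ℝ) : ℂ) = ∑ᶠ χ ∈ B, f χ * conj (f χ) := by
    intro H _ _ B f
    rw [finsum_mem_eq_sum_indic, finsum_mem_def, finsum_eq_sum_of_fintype, Complex.ofReal_sum]
    refine Finset.sum_congr rfl fun χ _ => ?_
    by_cases hχ : χ ∈ B
    · rw [indic_apply_of_mem hχ, Set.indicator_of_mem hχ, one_mul, Complex.mul_conj, Complex.normSq_eq_norm_sq]
    · rw [indic_apply_of_notMem hχ, Set.indicator_of_notMem hχ, zero_mul, Complex.ofReal_zero]
  apply Complex.ofReal_injective
  rw [h2, h2]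
  exact h1

end Main

/-- The sum over the principal block when there is a normal complement. -/
theorem sum_principal_norm_of_normal_complement (hM : IsPModular p M) {N : Subgroup G} [hNn : N.Normal]
    (hN : ¬ p ∣ Nat.card N) {k : ℕ} (hidx : N.index = p ^ k) {y : G} (hy : ¬ p ∣ orderOf y) :
    ∑ᶠ χ ∈ principalBlock M G, ‖(χ : G → ℂ) y‖ ^ 2 = ((p ^ k : ℕ) : ℝ) := by
  classical
  letI : Fintype N := Fintype.ofFinite N
  have hyN := mem_of_regular_of_index hidx hy
  have hB := principalBlock_eq_of_normal_complement (p := p) (M := M) hM hN hidx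
  have hS : (∑ χ : IrrCharacter G, (χ : G → ℂ) 1 * conj (∑ n : N, (χ : G → ℂ) n)) = (Nat.card G : ℂ) := by
    simp only [map_sum, Finset.mul_sum]
    rw [Finset.sum_comm]
    rw [Finset.sum_eq_single (1 : N)]
    · have h1 := sum_irr_mul_conj_of_isConj (IsConj.refl (1 : G))
      simp only [Subgroup.coe_one]
      rw [h1]
      have h2 : Subgroup.centralizer ({1} : Set G) = ⊤ := by
        ext x
        simp [Subgroup.mem_centralizer_iff]
      rw [h2, Subgroup.card_top]
    · intro n _ hn
      apply sum_irr_mul_conj_of_not_isConj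
      intro hc
      exact hn (Subtype.ext (isConj_one_right.mp hc))
    · simp
  have hker : ∀ χ : IrrCharacter G, N ≤ charKer (χ : G → ℂ) ↔ χ ∈ principalBlock M G := by
    intro χ
    rw [hB]
    constructor
    · intro h n hn
      exact (mem_charKer (IsIrrCharacter.isCharacter χ.2)).mp (h hn)
    · intro h n hn
      exact (mem_charKer (IsIrrCharacter.isCharacter χ.2)).mpr (h n hn)
  have hsum : ∀ χ : IrrCharacter G, ∑ n : N, (χ : G → ℂ) n =
      if χ ∈ principalBlock M G then (Nat.card N : ℂ) * (χ : G → ℂ) 1 else 0 := by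
    intro χ
    have h1 := sum_coset_irr N χ.2 1
    simp only [mul_one] at h1
    rw [h1]
    by_cases h : χ ∈ principalBlock M G
    · rw [if_pos h, if_pos ((hker χ).mpr h)]
    · rw [if_neg h, if_neg (fun h' => h ((hker χ).mp h'))]
  have hN0 : (Nat.card N : ℂ) ≠ 0 := by exact_mod_cast Nat.card_pos.ne'
  have hval : ∀ χ ∈ principalBlock M G, (χ : G → ℂ) y = (χ : G → ℂ) 1 := by
    intro χ hχ
    rw [hB] at hχ
    exact hχ y hyN
  have hcard : ((p ^ k : ℕ) : ℂ) * (Nat.card N : ℂ) = (Nat.card G : ℂ) := by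
    rw [← hidx]
    exact_mod_cast Subgroup.index_mul_card N
  apply Complex.ofReal_injective
  have h2 : ((∑ᶠ χ ∈ principalBlock M G, ‖(χ : G → ℂ) y‖ ^ 2 : ℝ) : ℂ) =
      ∑ χ : IrrCharacter G, indic (principalBlock M G) χ * ((χ : G → ℂ) 1 * conj ((χ : G → ℂ) 1)) := by
    rw [finsum_mem_def, finsum_eq_sum_of_fintype, Complex.ofReal_sum]
    refine Finset.sum_congr rfl fun χ _ => ?_
    by_cases hχ : χ ∈ principalBlock M G
    · rw [indic_apply_of_mem hχ, Set.indicator_of_mem hχ, one_mul, Complex.mul_conj, Complex.normSq_eq_norm_sq, hval χ hχ]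
    · rw [indic_apply_of_notMem hχ, Set.indicator_of_notMem hχ, zero_mul, Complex.ofReal_zero]
  rw [h2]
  apply mul_right_cancel₀ hN0
  simp only [Complex.ofReal_natCast]
  rw [hcard, ← hS, Finset.sum_mul]
  refine Finset.sum_congr rfl fun χ _ => ?_
  rw [hsum χ]
  by_cases hχ : χ ∈ principalBlock M G
  · rw [if_pos hχ, indic_apply_of_mem hχ, map_mul, Complex.conj_natCast]
    ring
  · rw [if_neg hχ, indic_apply_of_notMem hχ]
    simp

end Cfsg.Agent.Lib.Blocks
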