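import Cfsg.Agent.Lib.Blocks.Inducing
import Cfsg.Agent.Lib.Char.Kernel
import Cfsg.Agent.Lib.Basic.Core

/-!
# Blocks of a quotient group contained in a block
-/

set_option autoImplicit false
set_option linter.unusedSectionVars false

namespace Cfsg.Agent.Lib.Blocks

open Cfsg Cfsg.Agent.Lib.Char
open scoped ComplexConjugate

universe u

variable {G : Type u} [Group G] [Fintype G] {M : Ideal AlgInt} {p : ℕ} [hp : Fact p.Prime]
variable (N : Subgroup G) [hN : N.Normal]

/-- The image in the group algebra of the quotient of a function on `G`. -/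
noncomputable def cosetSum (a : G → ℂ) (u : G ⧸ N) : ℂ :=
  open scoped Classical in ∑ g : G, if (g : G ⧸ N) = u then a g else 0

variable [Fintype (G ⧸ N)]

theorem sum_cosetSum_mul (a : G → ℂ) (β : G ⧸ N → ℂ) :
    ∑ u, cosetSum N a u * β u = ∑ g, a g * β (g : G ⧸ N) := by
  classical
  simp only [cosetSum, Finset.sum_mul]
  rw [Finset.sum_comm]
  refine Finset.sum_congr rfl fun g _ => ?_
  rw [Finset.sum_eq_single (g : G ⧸ N)]
  · simp
  · intro u _ hu
    rw [if_neg (Ne.symm hu), zero_mul]
  · simp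

omit [Fintype (G ⧸ N)] in
theorem cosetSum_isClassFunction {a : G → ℂ} (ha : IsClassFunction G a) :
    IsClassFunction (G ⧸ N) (cosetSum N a) := by
  classical
  intro u v
  induction v using QuotientGroup.induction_on with
  | H h =>
    simp only [cosetSum]
    refine Fintype.sum_equiv (MulAut.conj h⁻¹).toEquiv _ _ fun g => ?_
    simp only [MulEquiv.toEquiv_eq_coe, EquivLike.coe_coe, MulAut.conj_apply, inv_inv]
    have h1 : ((h⁻¹ * g * h : G) : G ⧸ N) = u ↔ (g : G ⧸ N) = (h : G ⧸ N) * u * (h : G ⧸ N)⁻¹ := by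
      rw [QuotientGroup.mk_mul, QuotientGroup.mk_mul, QuotientGroup.mk_inv]
      constructor
      · intro h2
        rw [← h2]
        group
      · intro h2
        rw [h2]
        group
    by_cases h2 : (g : G ⧸ N) = (h : G ⧸ N) * u * (h : G ⧸ N)⁻¹
    · rw [if_pos h2, if_pos (h1.mpr h2)]
      have := ha g h⁻¹
      rw [inv_inv] at this
      exact this.symm
    · rw [if_neg h2, if_neg (fun h3 => h2 (h1.mp h3))]

omit [Fintype (G ⧸ N)] in
theorem cosetSum_memLocalRing [M.IsPrime] {a : G → ℂ} (ha : ∀ x, MemLocalRing M (a x)) (u : G ⧸ N) :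
    MemLocalRing M (cosetSum N a u) := by
  classical
  refine MemLocalRing.sum _ fun g _ => ?_
  split_ifs
  · exact ha g
  · exact memLocalRing_zero

/-- The inflation of an irreducible character. -/
noncomputable def inflIrr (χ : IrrCharacter (G ⧸ N)) : IrrCharacter G :=
  ⟨inflate N (χ : G ⧸ N → ℂ), by
    letI : Fintype N := Fintype.ofFinite _
    exact isIrrCharacter_inflate N χ.2⟩

@[simp] theorem inflIrr_apply (χ : IrrCharacter (G ⧸ N)) (g : G) :
    (inflIrr N χ : G → ℂ) g = (χ : G ⧸ N → ℂ) (g : G ⧸ N) := rfl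

theorem spec_cosetSum (a : G → ℂ) (χ : IrrCharacter (G ⧸ N)) :
    spec (cosetSum N a) χ = spec a (inflIrr N χ) := by
  simp only [spec]
  rw [sum_cosetSum_mul]
  have h1 : (inflIrr N χ : G → ℂ) 1 = (χ : G ⧸ N → ℂ) 1 := rfl
  rw [h1]
  rfl

/-- The characters of the quotient whose inflation lies in `B`. -/
def inflSet (B : Set (IrrCharacter G)) : Set (IrrCharacter (G ⧸ N)) := {χ | inflIrr N χ ∈ B}

theorem spec_cosetSum_indic (B : Set (IrrCharacter G)) :
    spec (cosetSum N (coef (indic B))) = indic (inflSet N B) := by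
  classical
  funext χ
  rw [spec_cosetSum, spec_coef]
  by_cases h : inflIrr N χ ∈ B
  · rw [indic_apply_of_mem h, indic_apply_of_mem (show χ ∈ inflSet N B from h)]
  · rw [indic_apply_of_notMem h, indic_apply_of_notMem (show χ ∉ inflSet N B from h)]

theorem coef_indic_inflSet (B : Set (IrrCharacter G)) :
    coef (indic (inflSet N B)) = cosetSum N (coef (indic B)) := by
  rw [← spec_cosetSum_indic, coef_spec _ (cosetSum_isClassFunction N (coef_isClassFunction _))]

theorem indic_inflSet_mem_zS [M.IsPrime] {B : Set (IrrCharacter G)} (hB : IsPBlock M B) :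
    indic (inflSet N B) ∈ zS M (G ⧸ N) := by
  intro u
  rw [coef_indic_inflSet]
  exact cosetSum_memLocalRing N (fun x => coef_memLocalRing (indic_mem_zS hB) x) u

/-- A `p`-subgroup of a quotient is the image of a `p`-subgroup. -/
theorem exists_pgroup_lift {Q : Subgroup (G ⧸ N)} (hQ : IsPGroup p Q) :
    ∃ R : Subgroup G, IsPGroup p R ∧ R.map (QuotientGroup.mk' N) = Q := by
  classical
  obtain ⟨S, hS⟩ := hQ.exists_le_sylow
  obtain ⟨T, hT⟩ := Sylow.mapSurjective_surjective (QuotientGroup.mk'_surjective N) p S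
  have hTS : (T : Subgroup G).map (QuotientGroup.mk' N) = (S : Subgroup (G ⧸ N)) := by
    rw [← hT]
    rfl
  refine ⟨(T : Subgroup G) ⊓ Q.comap (QuotientGroup.mk' N), ?_, ?_⟩
  · exact T.isPGroup'.to_le inf_le_left
  · apply le_antisymm
    · rw [Subgroup.map_le_iff_le_comap]
      exact inf_le_right
    · intro d hd
      have h1 : d ∈ (T : Subgroup G).map (QuotientGroup.mk' N) := by
        rw [hTS]
        exact hS hd
      obtain ⟨t, ht, rfl⟩ := h1
      exact ⟨t, ⟨ht, hd⟩, rfl⟩

/-- If a block of the quotient is contained in `B`, its defect groups lie in images of the defect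
groups of `B`. -/
theorem exists_defect_map_ge (hM : IsPModular p M) {Bbar : Set (IrrCharacter (G ⧸ N))} (hBbar : IsPBlock M Bbar)
    {B : Set (IrrCharacter G)} (hB : IsPBlock M B) (hsub : Bbar ⊆ inflSet N B) {Dbar : Subgroup (G ⧸ N)}
    (hDbar : IsDefectGroup p M Bbar Dbar) :
    ∃ P : Subgroup G, IsDefectGroup p M B P ∧ Dbar ≤ P.map (QuotientGroup.mk' N) := by
  classical
  have := isPrime_of_modular hM
  obtain ⟨χ, hχ⟩ := IsPBlock.nonempty hBbar
  -- a class of the quotient
  have h1 : indic (inflSet N B) χ = ∑ K : ConjClasses (G ⧸ N), coef (indic (inflSet N B)) (clsRep K) *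
      centralChar (χ : G ⧸ N → ℂ) (clsRep K) := by
    have h2 := spec_eq_sum_classes (coef (indic (inflSet N B))) (coef_isClassFunction _) χ
    rw [spec_coef] at h2
    exact h2
  rw [indic_apply_of_mem (hsub hχ)] at h1
  have h3 : ∃ K : ConjClasses (G ⧸ N), ¬ MemLocalIdeal M (coef (indic (inflSet N B)) (clsRep K) *
      centralChar (χ : G ⧸ N → ℂ) (clsRep K)) := by
    by_contra hcon
    push Not at hcon
    apply not_memLocalIdeal_one (M := M)
    rw [h1]
    exact MemLocalIdeal.sum _ fun K _ => hcon K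
  obtain ⟨K, hK⟩ := h3
  set u := clsRep K with hu
  have hcu : ¬ MemLocalIdeal M (coef (indic (inflSet N B)) u) := by
    intro h
    exact hK (MemLocalIdeal.mul_right h (centralChar_memLocalRing χ u))
  have hχu : ¬ MemLocalIdeal M (centralChar (χ : G ⧸ N → ℂ) u) := by
    intro h
    exact hK (MemLocalIdeal.mul_left (indic_inflSet_mem_zS N hB u) h)
  -- the defect group centralizes a conjugate
  obtain ⟨w, hw⟩ := IsDefectGroup.conj_le_of_central hM hBbar hDbar hχ hχu
  obtain ⟨R, hR, hRm⟩ := exists_pgroup_lift N (isPGroup_conjS (x := w) (IsDefectGroup.isPGroup hDbar))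
  -- the coset sum
  rw [coef_indic_inflSet] at hcu
  have hFS : ∀ x : G, MemLocalRing M (if (x : G ⧸ N) = u then coef (indic B) x else 0) := by
    intro x
    split_ifs
    · exact coef_memLocalRing (indic_mem_zS hB) x
    · exact memLocalRing_zero
  obtain ⟨r, hr, hsum⟩ := exists_sum_eq_sum_centralizer hM hR
    (fun x : G => if (x : G ⧸ N) = u then coef (indic B) x else 0) hFS (by
      intro s x
      have hs : ((s : G) : G ⧸ N) ∈ conjS w Dbar := by
        rw [← hRm]
        exact ⟨s, s.2, rfl⟩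
      have hsc : ((s : G) : G ⧸ N) * u = u * ((s : G) : G ⧸ N) := by
        have := Subgroup.mem_centralizer_singleton_iff.mp (hw hs)
        exact this
      have h4 : (((s : G) * x * (s : G)⁻¹ : G) : G ⧸ N) = u ↔ (x : G ⧸ N) = u := by
        rw [QuotientGroup.mk_mul, QuotientGroup.mk_mul, QuotientGroup.mk_inv]
        constructor
        · intro h5
          have h6 : (x : G ⧸ N) = ((s : G) : G ⧸ N)⁻¹ * u * ((s : G) : G ⧸ N) := by
            rw [← h5]
            group
          rw [h6, mul_assoc, inv_mul_eq_iff_eq_mul]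
          exact hsc.symm
        · intro h5
          rw [h5, hsc]
          group
      by_cases h5 : (x : G ⧸ N) = u
      · simp only [if_pos h5, if_pos (h4.mpr h5)]
        exact coef_isClassFunction _ x s
      · simp only [if_neg h5, if_neg (fun h6 => h5 (h4.mp h6))])
  have hcu' : ¬ MemLocalIdeal M (∑ x : G, if (x : G ⧸ N) = u then coef (indic B) x else 0) := hcu
  rw [hsum] at hcu'
  have h6 : ¬ MemLocalIdeal M (∑ x ∈ Finset.univ.filter (fun x : G => x ∈ Subgroup.centralizer (R : Set G)),
      if (x : G ⧸ N) = u then coef (indic B) x else 0) := by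
    intro h7
    exact hcu' (MemLocalIdeal.add h7 (MemLocalIdeal.mul_right (p_memLocalIdeal hM) hr))
  have h7 : ∃ x ∈ Subgroup.centralizer (R : Set G), ¬ MemLocalIdeal M (coef (indic B) x) := by
    by_contra hcon
    push Not at hcon
    apply h6
    refine MemLocalIdeal.sum _ fun x hx => ?_
    split_ifs
    · exact hcon x (Finset.mem_filter.mp hx).2
    · exact memLocalIdeal_zero
  obtain ⟨x, hxR, hx⟩ := h7
  rw [← blockCoeff_eq_coef] at hx
  obtain ⟨D, hD⟩ := IsPBlock.exists_isDefectGroup hM hB
  obtain ⟨y, hy⟩ := IsDefectGroup.le_conj_of_coeff hM hB hD hx hR (mem_centralizer_iff_le.mp hxR)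
  obtain ⟨w₀, rfl⟩ := QuotientGroup.mk'_surjective N w
  refine ⟨conjS (w₀⁻¹ * y) D, IsDefectGroup.conj hD _, ?_⟩
  intro d hd
  have h8 : QuotientGroup.mk' N w₀ * d * (QuotientGroup.mk' N w₀)⁻¹ ∈
      R.map (QuotientGroup.mk' N) := by
    rw [hRm]
    exact conj_mem_conjS hd
  obtain ⟨t, ht, hte⟩ := h8
  refine ⟨w₀⁻¹ * t * w₀, ?_, ?_⟩
  · rw [← conjS_conjS]
    have h9 := conj_mem_conjS (x := w₀⁻¹) (hy ht)
    simpa using h9
  · rw [map_mul, map_mul, hte, map_inv]
    group

/-- The idempotent of a union of blocks is a sum of block idempotents. -/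
theorem exists_block_coef_notMem_of_closed [M.IsPrime] {H : Type u} [Group H] [Fintype H]
    {A : Set (IrrCharacter H)} (hA : indic A ∈ zS M H) {u : H} (hu : ¬ MemLocalIdeal M (coef (indic A) u)) :
    ∃ d : Set (IrrCharacter H), IsPBlock M d ∧ d ⊆ A ∧ ¬ MemLocalIdeal M (coef (indic d) u) := by
  classical
  have hAc : ∀ χ ∈ A, blockOf M (χ : H → ℂ) ⊆ A := fun χ hχ => blockOf_subset_of_indic_mem hA hχ
  have h1 : indic A = ∑ d ∈ (blocksFinset M H).filter (fun d => d ⊆ A), indic d := by
    funext χ
    rw [Finset.sum_apply]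
    by_cases hχ : χ ∈ A
    · rw [indic_apply_of_mem hχ, Finset.sum_eq_single (blockOf M (χ : H → ℂ))]
      · exact (indic_apply_of_mem (self_mem_blockOf χ)).symm
      · intro d hd hne
        have hd' := (Finset.mem_filter.mp hd).1
        rw [indic_apply_of_notMem]
        intro hχd
        exact hne (blockOf_eq_of_mem (mem_blocksFinset.mp hd') hχd)
      · intro h
        exfalso
        apply h
        exact Finset.mem_filter.mpr ⟨mem_blocksFinset.mpr (isPBlock_blockOf χ), hAc χ hχ⟩
    · rw [indic_apply_of_notMem hχ]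
      symm
      refine Finset.sum_eq_zero fun d hd => ?_
      have hd' := (Finset.mem_filter.mp hd).2
      rw [indic_apply_of_notMem]
      exact fun hχd => hχ (hd' hχd)
  rw [h1, coef_sum, Finset.sum_apply] at hu
  by_contra hcon
  push Not at hcon
  apply hu
  refine MemLocalIdeal.sum _ fun d hd => ?_
  have hd' := Finset.mem_filter.mp hd
  exact hcon d (mem_blocksFinset.mp hd'.1) hd'.2

/-- A regular element centralizing a normal `p`-subgroup is the only regular element of its coset. -/
theorem eq_one_of_regular_mul {x n : G} (hn : n ∈ N) (hN' : IsPGroup p N) (hc : Commute x n)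
    (hx : ¬ p ∣ orderOf x) (hxn : ¬ p ∣ orderOf (x * n)) : n = 1 := by
  have hpp : p.Prime := hp.out
  set m := orderOf x * orderOf (x * n) with hm
  have h1 : x ^ m = 1 := by
    rw [hm, pow_mul, pow_orderOf_eq_one, one_pow]
  have h2 : (x * n) ^ m = 1 := by
    rw [hm, mul_comm, pow_mul, pow_orderOf_eq_one, one_pow]
  have h3 : n ^ m = 1 := by
    rw [hc.mul_pow, h1, one_mul] at h2
    exact h2
  obtain ⟨j, hj⟩ := (IsPGroup.iff_orderOf.mp hN') ⟨n, hn⟩
  have hj' : orderOf n = p ^ j := by
    rw [← hj, Subgroup.orderOf_mk]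
  have h4 : p ^ j ∣ m := hj' ▸ orderOf_dvd_of_pow_eq_one h3
  have h5 : ¬ p ∣ m := by
    intro hd
    rcases (Nat.Prime.dvd_mul hpp).mp hd with hd | hd
    · exact hx hd
    · exact hxn hd
  have hj0 : j = 0 := by
    by_contra hne
    exact h5 ((dvd_pow_self p hne).trans h4)
  rw [hj0, pow_zero, orderOf_eq_one_iff] at hj'
  exact hj'

/-- The defect groups of a block of the quotient by a normal `p`-subgroup. -/
theorem exists_quotient_block (hM : IsPModular p M) (hNp : IsPGroup p N) {B : Set (IrrCharacter G)}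
    (hB : IsPBlock M B) :
    ∃ Bbar : Set (IrrCharacter (G ⧸ N)), IsPBlock M Bbar ∧ Bbar ⊆ inflSet N B ∧
      ∀ Dbar : Subgroup (G ⧸ N), IsDefectGroup p M Bbar Dbar ↔
        ∃ P : Subgroup G, IsDefectGroup p M B P ∧ Dbar = P.map (QuotientGroup.mk' N) := by
  classical
  have := isPrime_of_modular hM
  obtain ⟨x, hx⟩ := exists_defectClass hB
  obtain ⟨D, hS⟩ := exists_isSylowIn (p := p) (Subgroup.centralizer ({x} : Set G))
  have hD : IsDefectGroup p M B D := isDefectGroup_iff.mpr ⟨x, hx, hS⟩
  have hND : N ≤ D := (Cfsg.Agent.Lib.Basic.le_pCore hN hNp).trans (IsDefectGroup.pCore_le hM hB hD)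
  have hreg : ¬ p ∣ orderOf x := by
    intro hs
    apply hx.2.1
    rw [blockCoeff_eq_zero_of_singular hM hB hs]
    exact memLocalIdeal_zero
  -- the coefficient at the image of `x`
  have hcoef : coef (indic (inflSet N B)) (x : G ⧸ N) = coef (indic B) x := by
    rw [coef_indic_inflSet, cosetSum, Finset.sum_eq_single x]
    · rw [if_pos rfl]
    · intro g _ hg
      by_cases h1 : (g : G ⧸ N) = (x : G ⧸ N)
      · rw [if_pos h1, ← blockCoeff_eq_coef]
        have hn : x⁻¹ * g ∈ N := QuotientGroup.eq.mp h1.symm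
        have hge : x * (x⁻¹ * g) = g := by group
        have hc : Commute x (x⁻¹ * g) := by
          have h2 := Subgroup.mem_centralizer_singleton_iff.mp (hS.le (hND hn))
          exact h2.symm
        apply blockCoeff_eq_zero_of_singular hM hB
        by_contra hs
        have h3 := eq_one_of_regular_mul N hn hNp hc hreg (by rwa [hge])
        apply hg
        have h4 : x * (x⁻¹ * g) = x := by rw [h3, mul_one]
        rw [← h4, hge]
      · rw [if_neg h1]
    · simp
  have hnot : ¬ MemLocalIdeal M (coef (indic (inflSet N B)) (x : G ⧸ N)) := by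
    rw [hcoef, ← blockCoeff_eq_coef]
    exact hx.2.1
  obtain ⟨d, hd, hdA, hdnot⟩ := exists_block_coef_notMem_of_closed (indic_inflSet_mem_zS N hB) hnot
  refine ⟨d, hd, hdA, ?_⟩
  -- the image of `D` is a defect group of `d`
  have hDmap : IsDefectGroup p M d (D.map (QuotientGroup.mk' N)) := by
    obtain ⟨E, hE⟩ := IsPBlock.exists_isDefectGroup hM hd
    obtain ⟨P, hP, hEP⟩ := exists_defect_map_ge N hM hd hB hdA hE
    obtain ⟨w, rfl⟩ := IsDefectGroup.exists_conj_eq hM hB hD hP
    have hQ : IsPGroup p (D.map (QuotientGroup.mk' N)) := (IsDefectGroup.isPGroup hD).map _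
    have hQc : D.map (QuotientGroup.mk' N) ≤ Subgroup.centralizer ({(x : G ⧸ N)} : Set (G ⧸ N)) := by
      rintro _ ⟨t, ht, rfl⟩
      apply Subgroup.mem_centralizer_singleton_iff.mpr
      have h1 := Subgroup.mem_centralizer_singleton_iff.mp (hS.le ht)
      show ((t : G) : G ⧸ N) * (x : G ⧸ N) = (x : G ⧸ N) * ((t : G) : G ⧸ N)
      rw [← QuotientGroup.mk_mul, ← QuotientGroup.mk_mul, h1]
    have hdnot' : ¬ MemLocalIdeal M (blockCoeff d (x : G ⧸ N)) := by
      rwa [blockCoeff_eq_coef]
    obtain ⟨y, hy⟩ := IsDefectGroup.le_conj_of_coeff hM hd hE hdnot' hQ hQc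
    have hcardle : Nat.card (conjS y E) ≤ Nat.card (D.map (QuotientGroup.mk' N)) := by
      rw [card_conjS]
      have h2 := Subgroup.card_le_of_le hEP
      have h3 : ((conjS w D).map (QuotientGroup.mk' N)) = conjS (QuotientGroup.mk' N w) (D.map (QuotientGroup.mk' N)) := by
        ext z
        simp only [Subgroup.mem_map, MulEquiv.coe_toMonoidHom, MulAut.conj_apply, exists_exists_and_eq_and,
          map_mul, map_inv]
      rw [h3, card_conjS] at h2
      exact h2
    have heq : D.map (QuotientGroup.mk' N) = conjS y E := Subgroup.eq_of_le_of_card_ge hy hcardle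
    rw [heq]
    exact IsDefectGroup.conj hE y
  intro Dbar
  constructor
  · intro hDbar
    obtain ⟨y₁, hy₂⟩ := IsDefectGroup.exists_conj_eq hM hd hDmap hDbar
    obtain ⟨y, rfl⟩ := QuotientGroup.mk'_surjective N y₁
    refine ⟨conjS y D, IsDefectGroup.conj hD y, ?_⟩
    rw [hy₂]
    ext z
    simp only [Subgroup.mem_map, MulEquiv.coe_toMonoidHom, MulAut.conj_apply, exists_exists_and_eq_and,
      map_mul, map_inv]
  · rintro ⟨P, hP, rfl⟩
    obtain ⟨w, rfl⟩ := IsDefectGroup.exists_conj_eq hM hB hD hP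
    have h3 : ((conjS w D).map (QuotientGroup.mk' N)) = conjS (QuotientGroup.mk' N w) (D.map (QuotientGroup.mk' N)) := by
      ext z
      simp only [Subgroup.mem_map, MulEquiv.coe_toMonoidHom, MulAut.conj_apply, exists_exists_and_eq_and,
        map_mul, map_inv]
    rw [h3]
    exact IsDefectGroup.conj hDmap _

end Cfsg.Agent.Lib.Blocks
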