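import Cfsg.Agent.Lib.Blocks.Third

/-!
# Real 2-blocks of full defect
-/

set_option autoImplicit false
set_option linter.unusedSectionVars false

namespace Cfsg.Agent.Lib.Blocks

open Cfsg Cfsg.Agent.Lib.Char
open scoped ComplexConjugate

universe u

section Invol

variable {M : Ideal AlgInt}

/-- A sum over a set with an involution whose fixed points contribute elements of the local ideal,
and which changes the terms only modulo the local ideal, when `2` is in the local ideal. -/
theorem sum_memLocalIdeal_of_involution [M.IsPrime] {ι : Type*} [DecidableEq ι] (s : Finset ι) (τ : ι → ι)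
    (hτ : ∀ x ∈ s, τ x ∈ s) (hττ : ∀ x ∈ s, τ (τ x) = x) (f : ι → ℂ) (h2 : MemLocalIdeal M 2)
    (hloc : ∀ x ∈ s, MemLocalRing M (f x)) (hfix : ∀ x ∈ s, τ x = x → MemLocalIdeal M (f x))
    (hne : ∀ x ∈ s, MemLocalIdeal M (f (τ x) - f x)) : MemLocalIdeal M (∑ x ∈ s, f x) := by
  induction' hn : s.card using Nat.strong_induction_on with n ih generalizing s
  rcases s.eq_empty_or_nonempty with rfl | ⟨x, hx⟩
  · simpa using memLocalIdeal_zero
  by_cases hxτ : τ x = x
  · have hs : ∀ y ∈ s.erase x, τ y ∈ s.erase x := by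
      intro y hy
      have hy' := Finset.mem_erase.mp hy
      refine Finset.mem_erase.mpr ⟨?_, hτ y hy'.2⟩
      intro h
      apply hy'.1
      have := hττ y hy'.2
      rw [h, hxτ] at this
      exact this.symm
    rw [← Finset.add_sum_erase s f hx]
    refine MemLocalIdeal.add (hfix x hx hxτ) ?_
    refine ih _ ?_ (s.erase x) hs (fun y hy => hττ y (Finset.mem_of_mem_erase hy))
      (fun y hy => hloc y (Finset.mem_of_mem_erase hy)) (fun y hy => hfix y (Finset.mem_of_mem_erase hy))
      (fun y hy => hne y (Finset.mem_of_mem_erase hy)) rfl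
    rw [Finset.card_erase_of_mem hx, ← hn]
    exact Nat.sub_lt (Finset.card_pos.mpr ⟨x, hx⟩) one_pos
  · have hτx := hτ x hx
    have hmem : τ x ∈ s.erase x := Finset.mem_erase.mpr ⟨hxτ, hτx⟩
    have hs : ∀ y ∈ (s.erase x).erase (τ x), τ y ∈ (s.erase x).erase (τ x) := by
      intro y hy
      have hy1 := Finset.mem_erase.mp hy
      have hy2 := Finset.mem_erase.mp hy1.2
      refine Finset.mem_erase.mpr ⟨?_, Finset.mem_erase.mpr ⟨?_, hτ y hy2.2⟩⟩
      · intro h
        apply hy2.1
        have h3 := hττ y hy2.2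
        rw [h, hττ x hx] at h3
        exact h3.symm
      · intro h
        apply hy1.1
        have h3 := hττ y hy2.2
        rw [h] at h3
        exact h3.symm
    rw [← Finset.add_sum_erase s f hx, ← Finset.add_sum_erase _ f hmem, ← add_assoc]
    refine MemLocalIdeal.add ?_ ?_
    · have h3 : f x + f (τ x) = 2 * f x + (f (τ x) - f x) := by ring
      rw [h3]
      exact MemLocalIdeal.add (MemLocalIdeal.mul_right h2 (hloc x hx)) (hne x hx)
    · refine ih _ ?_ _ hs (fun y hy => hττ y (Finset.mem_of_mem_erase (Finset.mem_of_mem_erase hy)))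
        (fun y hy => hloc y (Finset.mem_of_mem_erase (Finset.mem_of_mem_erase hy)))
        (fun y hy => hfix y (Finset.mem_of_mem_erase (Finset.mem_of_mem_erase hy)))
        (fun y hy => hne y (Finset.mem_of_mem_erase (Finset.mem_of_mem_erase hy))) rfl
      rw [Finset.card_erase_of_mem hmem, Finset.card_erase_of_mem hx, ← hn]
      have : 0 < s.card := Finset.card_pos.mpr ⟨x, hx⟩
      omega

/-- A finite set with a fixed point free involution has even cardinality. -/
theorem even_card_of_involution {ι : Type*} [DecidableEq ι] (s : Finset ι) (τ : ι → ι)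
    (hτ : ∀ x ∈ s, τ x ∈ s) (hττ : ∀ x ∈ s, τ (τ x) = x) (hne : ∀ x ∈ s, τ x ≠ x) : Even s.card := by
  have h := Finset.sum_involution (s := s) (f := fun _ => (1 : ZMod 2)) (g := fun x _ => τ x)
    (fun x _ => by decide) (fun x hx _ => hne x hx) (fun x hx => hτ x hx) (fun x hx => hττ x hx)
  rw [Finset.sum_const, nsmul_eq_mul, mul_one] at h
  exact (ZMod.natCast_eq_zero_iff_even).mp h

end Invol

section Main

variable {G : Type u} [Group G] [Fintype G] {M : Ideal AlgInt}

theorem isConj_inv_inv {a b : G} (h : IsConj a b) : IsConj a⁻¹ b⁻¹ := by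
  obtain ⟨c, hc⟩ := isConj_iff.mp h
  exact isConj_iff.mpr ⟨c, by rw [← hc]; group⟩

/-- The convolution of a class with its inverse, as a count. -/
noncomputable def pairCount (g : G) (t : G) : ℕ :=
  open scoped Classical in (Finset.univ.filter fun x : G => IsConj g x ∧ IsConj g (t⁻¹ * x)).card

theorem conv_cls_inv (g t : G) : conv (cls g) (cls g⁻¹) t = pairCount g t := by
  classical
  rw [conv, pairCount, Finset.card_filter]
  push_cast
  refine Finset.sum_congr rfl fun x _ => ?_
  have h1 : IsConj g⁻¹ (x⁻¹ * t) ↔ IsConj g (t⁻¹ * x) := by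
    have h2 : (x⁻¹ * t)⁻¹ = t⁻¹ * x := by group
    rw [← h2]
    constructor
    · intro h
      have h5 := isConj_inv_inv h
      rwa [inv_inv] at h5
    · intro h
      have h5 := isConj_inv_inv h
      rwa [inv_inv] at h5
  by_cases h3 : IsConj g x <;> by_cases h4 : IsConj g (t⁻¹ * x)
  · rw [if_pos ⟨h3, h4⟩]
    simp only [cls]
    rw [if_pos h3, if_pos (h1.mpr h4), one_mul]
  · rw [if_neg (fun h => h4 h.2)]
    simp only [cls]
    rw [if_neg (fun h => h4 (h1.mp h)), mul_zero]
  · rw [if_neg (fun h => h3 h.1)]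
    simp only [cls]
    rw [if_neg h3, zero_mul]
  · rw [if_neg (fun h => h3 h.1)]
    simp only [cls]
    rw [if_neg h3, zero_mul]

theorem pairCount_conj (g t h : G) : pairCount g (h * t * h⁻¹) = pairCount g t := by
  have h1 := conv_isClassFunction (cls_isClassFunction g) (cls_isClassFunction g⁻¹) t h
  rw [conv_cls_inv, conv_cls_inv] at h1
  exact_mod_cast h1

theorem pairCount_of_isConj (g : G) {t u : G} (h : IsConj t u) : pairCount g t = pairCount g u := by
  obtain ⟨c, hc⟩ := isConj_iff.mp h
  rw [← hc, pairCount_conj]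

theorem pairCount_inv (g t : G) : pairCount g t⁻¹ = pairCount g t := by
  classical
  rw [pairCount, pairCount]
  refine Finset.card_bij (fun x _ => t * x) ?_ ?_ ?_
  · intro x hx
    have hx' := (Finset.mem_filter.mp hx).2
    refine Finset.mem_filter.mpr ⟨Finset.mem_univ _, ?_, ?_⟩
    · simpa using hx'.2
    · simpa using hx'.1
  · intro x _ y _ h
    exact mul_left_cancel h
  · intro y hy
    have hy' := (Finset.mem_filter.mp hy).2
    refine ⟨t⁻¹ * y, Finset.mem_filter.mpr ⟨Finset.mem_univ _, hy'.2, ?_⟩, by simp⟩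
    simpa using hy'.1

theorem pairCount_one (g : G) : pairCount g 1 = Nat.card {x : G // IsConj g x} := by
  classical
  rw [pairCount, Nat.card_eq_fintype_card, Fintype.card_subtype]
  congr 1
  ext x
  simp

theorem even_pairCount (g : G) {t : G} (ht : t * t = 1) (ht1 : t ≠ 1) : Even (pairCount g t) := by
  classical
  have htinv : t⁻¹ = t := inv_eq_of_mul_eq_one_left ht
  refine even_card_of_involution _ (fun x => t⁻¹ * x) ?_ ?_ ?_
  · intro x hx
    have hx' := (Finset.mem_filter.mp hx).2
    refine Finset.mem_filter.mpr ⟨Finset.mem_univ _, hx'.2, ?_⟩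
    rw [htinv, ← mul_assoc, ht, one_mul]
    exact hx'.1
  · intro x _
    show t⁻¹ * (t⁻¹ * x) = x
    rw [htinv, ← mul_assoc, ht, one_mul]
  · intro x _ h
    apply ht1
    have h1 : t⁻¹ * x = x := h
    have h2 : t⁻¹ = 1 := by simpa using h1
    simpa using h2

/-- The key congruence. -/
theorem centralChar_mul_inv_congr (hM : IsPModular 2 M) [Fact (Nat.Prime 2)] (χ : IrrCharacter G)
    (hχ : ¬ 2 ∣ charDegree (χ : G → ℂ))
    (hreal : ∀ h : G, MemLocalIdeal M (centralChar (χ : G → ℂ) h⁻¹ - centralChar (χ : G → ℂ) h)) (g : G) :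
    MemLocalIdeal M (centralChar (χ : G → ℂ) g * centralChar (χ : G → ℂ) g⁻¹ -
      (Nat.card {x : G // IsConj g x} : ℂ)) := by
  classical
  have := isPrime_of_modular hM
  have h2I : MemLocalIdeal M (2 : ℂ) := by
    have := (natCast_memLocalIdeal_iff hM 2).mpr (dvd_refl 2)
    simpa using this
  have hdeg : (χ : G → ℂ) 1 = (charDegree (χ : G → ℂ) : ℂ) :=
    apply_one_eq_charDegree (IsIrrCharacter.isCharacter χ.2)
  have hinvdeg : MemLocalRing M (((χ : G → ℂ) 1)⁻¹) := by
    rw [hdeg]
    exact inv_natCast_memLocalRing hM hχ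
  let f : ConjClasses G → ℂ := fun L => (pairCount g (clsRep L) : ℂ) * centralChar (χ : G → ℂ) (clsRep L)
  have hprod : centralChar (χ : G → ℂ) g * centralChar (χ : G → ℂ) g⁻¹ = ∑ L, f L := by
    have h1 := congrFun (spec_conv (cls g) (cls g⁻¹) (cls_isClassFunction g)) χ
    rw [Pi.mul_apply, spec_cls, spec_cls, spec_eq_sum_classes _
      (conv_isClassFunction (cls_isClassFunction g) (cls_isClassFunction g⁻¹))] at h1
    rw [← h1]
    refine Finset.sum_congr rfl fun L _ => ?_
    rw [conv_cls_inv]
  let L₁ : ConjClasses G := ConjClasses.mk 1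
  have hr₁ : clsRep L₁ = 1 := by
    have h1 : ConjClasses.mk (clsRep L₁) = ConjClasses.mk 1 := mk_clsRep L₁
    have h2 := ConjClasses.mk_eq_mk_iff_isConj.mp h1
    exact isConj_one_right.mp h2.symm
  have hfL₁ : f L₁ = (Nat.card {x : G // IsConj g x} : ℂ) := by
    simp only [f]
    rw [hr₁, pairCount_one, centralChar_one, mul_one]
  let τ : ConjClasses G → ConjClasses G := fun L => ConjClasses.mk (clsRep L)⁻¹
  have hτconj : ∀ L, IsConj (clsRep (τ L)) (clsRep L)⁻¹ := fun L =>
    ConjClasses.mk_eq_mk_iff_isConj.mp (mk_clsRep (τ L))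
  have hττ : ∀ L, τ (τ L) = L := by
    intro L
    have h1 : IsConj (clsRep (τ L))⁻¹ (clsRep L) := by
      have := isConj_inv_inv (hτconj L)
      simpa using this
    show ConjClasses.mk (clsRep (τ L))⁻¹ = L
    rw [ConjClasses.mk_eq_mk_iff_isConj.mpr h1, mk_clsRep]
  have hmain : MemLocalIdeal M (∑ L ∈ Finset.univ.erase L₁, f L) := by
    refine sum_memLocalIdeal_of_involution _ τ ?_ (fun L _ => hττ L) f h2I ?_ ?_ ?_
    · intro L hL
      refine Finset.mem_erase.mpr ⟨?_, Finset.mem_univ _⟩
      intro h
      apply (Finset.mem_erase.mp hL).1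
      have h1 := hττ L
      rw [h] at h1
      have h2 : τ L₁ = L₁ := by
        show ConjClasses.mk (clsRep L₁)⁻¹ = L₁
        rw [hr₁, inv_one]
      rw [h2] at h1
      exact h1.symm
    · intro L _
      exact MemLocalRing.mul (MemLocalRing.natCast _) (centralChar_memLocalRing χ _)
    · intro L hL hfix
      have hL1 := (Finset.mem_erase.mp hL).1
      have hrr : IsConj (clsRep L) (clsRep L)⁻¹ := by
        have := hτconj L
        rwa [hfix] at this
      by_cases hev : 2 ∣ (Subgroup.centralizer ({clsRep L} : Set G)).index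
      · refine MemLocalIdeal.mul_left (MemLocalRing.natCast _) ?_
        have h3 : centralChar (χ : G → ℂ) (clsRep L) =
            ((Subgroup.centralizer ({clsRep L} : Set G)).index : ℂ) *
              (((χ : G → ℂ) (clsRep L)) * ((χ : G → ℂ) 1)⁻¹) := by
          rw [centralChar]; ring
        rw [h3]
        refine MemLocalIdeal.mul_right ((natCast_memLocalIdeal_iff hM _).mpr hev) ?_
        exact MemLocalRing.mul (memLocalRing_of_isIntegral (irr_isIntegral χ _)) hinvdeg
      · -- An odd class which is real contains an involution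
        refine MemLocalIdeal.mul_right ?_ (centralChar_memLocalRing χ _)
        rw [natCast_memLocalIdeal_iff hM]
        have hodd : ¬ Even (Finset.univ.filter fun x : G => IsConj (clsRep L) x).card := by
          intro h
          apply hev
          rw [index_centralizer_eq_card, Nat.card_eq_fintype_card, Fintype.card_subtype]
          exact h.two_dvd
        have hex : ∃ x ∈ Finset.univ.filter (fun x : G => IsConj (clsRep L) x), x⁻¹ = x := by
          by_contra hcon
          push Not at hcon
          apply hodd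
          refine even_card_of_involution _ (fun x => x⁻¹) ?_ ?_ hcon
          · intro x hx
            have hx' := (Finset.mem_filter.mp hx).2
            refine Finset.mem_filter.mpr ⟨Finset.mem_univ _, ?_⟩
            exact hrr.trans (isConj_inv_inv hx')
          · intro x _
            simp
        obtain ⟨t, ht, htinv⟩ := hex
        have ht' := (Finset.mem_filter.mp ht).2
        have htt : t * t = 1 := by
          nth_rewrite 1 [← htinv]
          simp
        have ht1 : t ≠ 1 := by
          rintro rfl
          apply hL1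
          have h4 : clsRep L = 1 := isConj_one_left.mp ht'
          rw [← mk_clsRep L, h4]
        rw [pairCount_of_isConj g ht']
        exact (even_pairCount g htt ht1).two_dvd
    · intro L _
      simp only [f]
      have h4 : pairCount g (clsRep (τ L)) = pairCount g (clsRep L) := by
        rw [pairCount_of_isConj g (hτconj L), pairCount_inv]
      rw [h4, centralChar_eq_of_isConj χ (hτconj L), ← mul_sub]
      exact MemLocalIdeal.mul_left (MemLocalRing.natCast _) (hreal _)
  rw [hprod, ← Finset.add_sum_erase Finset.univ f (Finset.mem_univ L₁), hfL₁, add_sub_right_comm,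
    sub_self, zero_add]
  exact hmain

/-- A character of odd degree whose block is self-conjugate lies in the principal block. -/
theorem sameBlock_one_of_real (hM : IsPModular 2 M) [Fact (Nat.Prime 2)] (χ : IrrCharacter G)
    (hχ : ¬ 2 ∣ charDegree (χ : G → ℂ))
    (hreal : ∀ h : G, MemLocalIdeal M (centralChar (χ : G → ℂ) h⁻¹ - centralChar (χ : G → ℂ) h)) :
    SameBlock M (χ : G → ℂ) (fun _ => (1 : ℂ)) := by
  classical
  have := isPrime_of_modular hM
  have h2I : MemLocalIdeal M (2 : ℂ) := by
    have := (natCast_memLocalIdeal_iff hM 2).mpr (dvd_refl 2)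
    simpa using this
  have hdeg : (χ : G → ℂ) 1 = (charDegree (χ : G → ℂ) : ℂ) :=
    apply_one_eq_charDegree (IsIrrCharacter.isCharacter χ.2)
  have hinvdeg : MemLocalRing M (((χ : G → ℂ) 1)⁻¹) := by
    rw [hdeg]
    exact inv_natCast_memLocalRing hM hχ
  intro g
  have hone : centralChar (fun _ : G => (1 : ℂ)) g = ((Subgroup.centralizer ({g} : Set G)).index : ℂ) := by
    simp [centralChar]
  rw [hone]
  have hloc := centralChar_memLocalRing (M := M) χ g
  by_cases hev : 2 ∣ (Subgroup.centralizer ({g} : Set G)).index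
  · refine MemLocalIdeal.sub ?_ ((natCast_memLocalIdeal_iff hM _).mpr hev)
    have h3 : centralChar (χ : G → ℂ) g =
        ((Subgroup.centralizer ({g} : Set G)).index : ℂ) * (((χ : G → ℂ) g) * ((χ : G → ℂ) 1)⁻¹) := by
      rw [centralChar]; ring
    rw [h3]
    refine MemLocalIdeal.mul_right ((natCast_memLocalIdeal_iff hM _).mpr hev) ?_
    exact MemLocalRing.mul (memLocalRing_of_isIntegral (irr_isIntegral χ _)) hinvdeg
  · -- odd class
    have hcard : (Nat.card {x : G // IsConj g x} : ℂ) = ((Subgroup.centralizer ({g} : Set G)).index : ℂ) := by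
      rw [index_centralizer_eq_card]
    have hodd1 : MemLocalIdeal M (((Subgroup.centralizer ({g} : Set G)).index : ℂ) - 1) := by
      have h4 : 2 ∣ (Subgroup.centralizer ({g} : Set G)).index - 1 := by omega
      have h5 := (natCast_memLocalIdeal_iff hM _).mpr h4
      have hpos : 1 ≤ (Subgroup.centralizer ({g} : Set G)).index := by omega
      rw [Nat.cast_sub hpos] at h5
      simpa using h5
    have h1 := centralChar_mul_inv_congr hM χ hχ hreal g
    rw [hcard] at h1
    have h6 := hreal g
    set w := centralChar (χ : G → ℂ) g with hw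
    set w' := centralChar (χ : G → ℂ) g⁻¹ with hw'
    have hsq : MemLocalIdeal M ((w - 1) ^ 2) := by
      have h7 : (w - 1) ^ 2 = (w * w' - ((Subgroup.centralizer ({g} : Set G)).index : ℂ)) - w * (w' - w) +
          (((Subgroup.centralizer ({g} : Set G)).index : ℂ) - 1) + (1 + 1) * (1 - w) := by ring
      rw [h7]
      refine MemLocalIdeal.add (MemLocalIdeal.add (MemLocalIdeal.sub h1 (MemLocalIdeal.mul_left hloc h6)) hodd1) ?_
      refine MemLocalIdeal.mul_right ?_ (MemLocalRing.sub (memLocalRing_one) hloc)
      have : (1 + 1 : ℂ) = 2 := by norm_num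
      rw [this]
      exact h2I
    have h8 := MemLocalIdeal.of_pow (MemLocalRing.sub hloc memLocalRing_one) hsq
    have h9 : w - ((Subgroup.centralizer ({g} : Set G)).index : ℂ) =
        (w - 1) - (((Subgroup.centralizer ({g} : Set G)).index : ℂ) - 1) := by ring
    rw [h9]
    exact MemLocalIdeal.sub h8 hodd1

/-- **Brauer**: a self-conjugate 2-block of full defect is the principal block. -/
theorem eq_principal_of_real (hM : IsPModular 2 M) [Fact (Nat.Prime 2)] {B : Set (IrrCharacter G)}
    (hB : IsPBlock M B) (P : Sylow 2 G) (hfull : IsDefectGroup 2 M B (P : Subgroup G))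
    (hreal : {ψ : IrrCharacter G | ∃ χ ∈ B, (ψ : G → ℂ) = fun g => conj ((χ : G → ℂ) g)} = B) :
    B = principalBlock M G := by
  classical
  have := isPrime_of_modular hM
  -- A character of height zero has odd degree
  obtain ⟨χ, hχB, hχh⟩ := exists_height_zero (p := 2) (IsPBlock.nonempty hB)
  have hcardP : Nat.card (P : Subgroup G) = 2 ^ (Nat.card G).factorization 2 := P.card_eq_multiplicity
  have hdef := card_defectGroup hM hB hfull
  rw [hcardP] at hdef
  have hdef' : (Nat.card G).factorization 2 = blockDefect 2 B :=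
    Nat.pow_right_injective (le_refl 2) hdef
  have hdvd := charDegree_dvd_card χ.2
  have hG : Nat.card G ≠ 0 := Nat.card_pos.ne'
  have hdeg0 : charDegree (χ : G → ℂ) ≠ 0 := fun h => by
    rw [h, zero_dvd_iff] at hdvd
    exact hG hdvd
  have hle : (charDegree (χ : G → ℂ)).factorization 2 ≤ (Nat.card G).factorization 2 :=
    (Nat.factorization_le_iff_dvd hdeg0 hG).mpr hdvd 2
  have hodd : ¬ 2 ∣ charDegree (χ : G → ℂ) := by
    intro h2
    have h3 : 1 ≤ (charDegree (χ : G → ℂ)).factorization 2 :=
      (Nat.Prime.dvd_iff_one_le_factorization Nat.prime_two hdeg0).mp h2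
    rw [blockHeight] at hχh
    rw [blockDefect] at hdef'
    omega
  have hχ' : ∃ χ' ∈ B, (χ : G → ℂ) = fun g => conj ((χ' : G → ℂ) g) := by
    have h1 : χ ∈ {ψ : IrrCharacter G | ∃ χ ∈ B, (ψ : G → ℂ) = fun g => conj ((χ : G → ℂ) g)} := by
      rw [hreal]
      exact hχB
    exact h1
  obtain ⟨χ', hχ'B, hχ'eq⟩ := hχ'
  have hval : ∀ g, (χ' : G → ℂ) g = conj ((χ : G → ℂ) g) := by
    intro g
    rw [hχ'eq]
    simp
  have hrealχ : ∀ h : G, MemLocalIdeal M (centralChar (χ : G → ℂ) h⁻¹ - centralChar (χ : G → ℂ) h) := by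
    intro h
    have h1 := sameBlock_of_mem hB hχ'B hχB h
    have hC : Subgroup.centralizer ({h⁻¹} : Set G) = Subgroup.centralizer ({h} : Set G) := by
      ext y
      simp only [Subgroup.mem_centralizer_singleton_iff]
      exact (Commute.inv_right_iff (a := y) (b := h))
    have h2 : centralChar (χ' : G → ℂ) h = centralChar (χ : G → ℂ) h⁻¹ := by
      simp only [centralChar]
      rw [hC, hval, hval, irr_apply_inv]
      have h3 : (χ : G → ℂ) 1 = (charDegree (χ : G → ℂ) : ℂ) :=
        apply_one_eq_charDegree (IsIrrCharacter.isCharacter χ.2)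
      rw [h3]
      simp
    rw [h2] at h1
    exact h1
  have hone := sameBlock_one_of_real hM χ hodd hrealχ
  rw [blockOf_eq_of_mem hB hχB]
  ext ψ
  constructor
  · intro h
    exact SameBlock.trans' (SameBlock.symm' hone) h
  · intro h
    exact SameBlock.trans' hone h

end Main

end Cfsg.Agent.Lib.Blocks
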