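import Cfsg.Agent.Lib.Blocks.FongHeight
import Cfsg.Agent.Lib.H8Group.GlaubOver
import Cfsg.Agent.Lib.H8Group.GlaubP
import Cfsg.Agent.Lib.Coprime.Sylow
import Cfsg.Agent.Lib.Coprime.PSolvable
import Cfsg.Agent.Lib.Char.SylowNorm
import Cfsg.Agent.Lib.Char.ItoP
import Cfsg.Agent.Lib.Char.RelIto

/-! # Two primes in `{p,q}`-solvable groups: first reductions -/

set_option autoImplicit false
set_option linter.unusedSectionVars false
set_option linter.style.haveILetI false

namespace Cfsg.Agent.Lib.Blocks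

open Cfsg Cfsg.Agent.Lib.Char Cfsg.Agent.Lib.H8Group Module

universe u

section

variable {G : Type u} [Group G] [Fintype G] {p : ℕ} [hp : Fact p.Prime]

/-- A character `η` of `H` with `p ∤ |G:H| η(1)` lies under some `χ ∈ Irr G` of `p'`-degree. -/
theorem tp_exists_over_not_dvd (H : Subgroup G) [Fintype H] {η : H → ℂ} (hη : IsCharacter H η)
    {d : ℕ} (hd : η 1 = d) (hpd : ¬ p ∣ H.index * d) :
    ∃ χ : IrrCharacter G, classInner (fun h : H => (χ : G → ℂ) h) η ≠ 0 ∧
      ¬ p ∣ charDegree (χ : G → ℂ) := by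
  classical
  by_contra hcon
  push Not at hcon
  have hchar : IsCharacter G (indFun H η) := isCharacter_indFun H hη
  have hsum := congrFun (classFunction_eq_sum (indFun H η) (isClassFunction_indFun H η)) 1
  rw [indFun_one, hd] at hsum
  simp only [Finset.sum_apply, Pi.smul_apply, smul_eq_mul] at hsum
  have hn : ∀ χ : IrrCharacter G, ∃ n : ℕ, classInner (indFun H η) (χ : G → ℂ) = n :=
    fun χ => IsCharacter.classInner_nat hchar (IsIrrCharacter.isCharacter χ.2)
  choose n hn using hn
  have hpos : ∀ χ : IrrCharacter G, n χ ≠ 0 → p ∣ charDegree (χ : G → ℂ) := by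
    intro χ h0
    apply hcon
    have h1 := classInner_indFun_right H η (χ : G → ℂ)
      (IsCharacter.isClassFunction (IsIrrCharacter.isCharacter χ.2))
    rw [← h1, classInner_conj_symm, hn χ]
    simpa using h0
  have hnat : H.index * d = ∑ χ : IrrCharacter G, n χ * charDegree (χ : G → ℂ) := by
    have h2 : ((H.index * d : ℕ) : ℂ) = ((∑ χ : IrrCharacter G, n χ * charDegree (χ : G → ℂ) : ℕ) : ℂ) := by
      push_cast
      rw [hsum]
      refine Finset.sum_congr rfl fun χ _ => ?_
      rw [hn χ, apply_one_eq_charDegree (IsIrrCharacter.isCharacter χ.2)]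
    exact_mod_cast h2
  apply hpd
  rw [hnat]
  refine Finset.dvd_sum fun χ _ => ?_
  by_cases h0 : n χ = 0
  · simp [h0]
  · exact Dvd.dvd.mul_left (hpos χ h0) _

theorem tp_classInner_one_ne_zero_iff (N : Subgroup G) [hN : N.Normal] [Fintype N]
    (χ : IrrCharacter G) :
    classInner (fun n : N => (χ : G → ℂ) n) (fun _ : N => (1 : ℂ)) ≠ 0 ↔
      ∀ x ∈ N, (χ : G → ℂ) x = (χ : G → ℂ) 1 := by
  classical
  constructor
  · intro h x hx
    have hc1 := clifford_sum N χ.2 (isIrrCharacter_one (G := N)) h ⟨x, hx⟩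
    have hc0 := clifford_sum N χ.2 (isIrrCharacter_one (G := N)) h 1
    have hne : (Nat.card (inertia N (fun _ : N => (1 : ℂ))) : ℂ) ≠ 0 := by
      exact_mod_cast Nat.card_pos.ne'
    simp only [conjFun_apply] at hc1 hc0
    apply mul_left_cancel₀ hne
    simpa using hc1.trans hc0.symm
  · intro h
    have h1 : classInner (fun n : N => (χ : G → ℂ) n) (fun _ : N => (1 : ℂ)) = (χ : G → ℂ) 1 := by
      simp only [classInner]
      have h2 : ∀ n : N, (χ : G → ℂ) n * (starRingEnd ℂ) (1 : ℂ) = (χ : G → ℂ) 1 := by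
        intro n
        rw [map_one, mul_one]
        exact h n n.2
      simp only [h2, Finset.sum_const, Finset.card_univ, nsmul_eq_mul]
      rw [← Nat.card_eq_fintype_card]
      have : (Nat.card N : ℂ) ≠ 0 := by exact_mod_cast Nat.card_pos.ne'
      field_simp
    rw [h1, apply_one_eq_charDegree (IsIrrCharacter.isCharacter χ.2)]
    exact_mod_cast (charDegree_pos χ.2).ne'

/-- The principal `p`-block of a `p`-solvable group consists of the characters trivial on
`O_{p'}(G)`. -/
theorem tp_mem_principalBlock_iff {M : Ideal AlgInt} (hM : IsPModular p M) (hsolv : IsPSolvable p G)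
    (χ : IrrCharacter G) :
    χ ∈ principalBlock M G ↔ ∀ x ∈ pPrimeCore p G, (χ : G → ℂ) x = (χ : G → ℂ) 1 := by
  classical
  haveI := isPrime_of_modular hM
  haveI hN : (pPrimeCore p G).Normal := Cfsg.Agent.Lib.Basic.pPrimeCore_normal p
  letI : Fintype (pPrimeCore p G) := Fintype.ofFinite _
  obtain ⟨B, hB, hmem, -, -⟩ := fong_pSolvable hM hsolv (pPrimeCore p G) rfl
    (⟨fun _ => 1, isIrrCharacter_one⟩ : IrrCharacter (pPrimeCore p G)) (fun _ _ => rfl)
  let one : IrrCharacter G := ⟨fun _ => 1, isIrrCharacter_one⟩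
  have hone : one ∈ B := by
    rw [hmem]
    change classInner (fun _ : pPrimeCore p G => (1 : ℂ)) (fun _ : pPrimeCore p G => (1 : ℂ)) ≠ 0
    rw [classInner_irr_self isIrrCharacter_one]
    exact one_ne_zero
  have h1 := blockOf_eq_of_mem hB hone
  have hBeq : B = principalBlock M G := h1
  rw [← hBeq, hmem]
  exact tp_classInner_one_ne_zero_iff (pPrimeCore p G) χ

end

end Cfsg.Agent.Lib.Blocks
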